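import Mathlib

/-!
# Universe-polymorphic flat lifting over an Artinian local base (helper57)

Polymorphic versions of the lemmas of `H2/InjModMax` and `H57/RegLift`, with a general proper
ideal `I` of the Artinian local base in place of the maximal ideal.
-/

set_option autoImplicit false
universe u v w x y
open scoped TensorProduct Pointwise
open Function (Injective Surjective Exact)
open IsLocalRing

namespace Groth.Agent.H57.ArtinPoly

section general

variable {R : Type u} [CommRing R] {M : Type v} {N : Type w} [AddCommGroup M] [Module R M]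
  [AddCommGroup N] [Module R N]

/-- Four-lemma: if `V' → V → V'' → 0` is exact with `V' → V` injective, `M` flat, and
`V' ⊗ u`, `V'' ⊗ u` are injective, so is `V ⊗ u`. -/
theorem lTensor_injective_of_exact_four [Module.Flat R M] {V' : Type x} {V : Type x}
    {V'' : Type x}
    [AddCommGroup V'] [Module R V'] [AddCommGroup V] [Module R V] [AddCommGroup V''] [Module R V'']
    (f : V' →ₗ[R] V) (g : V →ₗ[R] V'') (hf : Injective f) (hfg : Exact f g) (hg : Surjective g)
    (u : N →ₗ[R] M) (h' : Injective (u.lTensor V')) (h'' : Injective (u.lTensor V'')) :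
    Injective (u.lTensor V) := by
  rw [injective_iff_map_eq_zero]
  intro x hx
  have h1 : g.rTensor N x = 0 := by
    apply h''
    rw [map_zero, ← LinearMap.comp_apply, LinearMap.lTensor_comp_rTensor,
      ← LinearMap.rTensor_comp_lTensor, LinearMap.comp_apply, hx, map_zero]
  obtain ⟨y, rfl⟩ := (rTensor_exact N hfg hg x).mp h1
  have h2 : u.lTensor V' y = 0 := by
    apply Module.Flat.rTensor_preserves_injective_linearMap (M := M) f hf
    rw [map_zero, ← LinearMap.comp_apply, LinearMap.rTensor_comp_lTensor,
      ← LinearMap.lTensor_comp_rTensor, LinearMap.comp_apply, hx]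
  rw [h' (by rw [h2, map_zero] : u.lTensor V' y = u.lTensor V' 0), map_zero]

/-- If `A ⊗ u` is injective and `W` is a flat `A`-module then `W ⊗_R u` is injective. -/
theorem lTensor_injective_of_algebra_flat_module (A : Type x) [CommRing A] [Algebra R A]
    (u : N →ₗ[R] M) (h : Injective (u.lTensor A))
    (W : Type y) [AddCommGroup W] [Module R W] [Module A W] [IsScalarTower R A W]
    [Module.Flat A W] : Injective (u.lTensor W) := by
  have hA : Injective (u.baseChange A) := by
    rw [LinearMap.baseChange_eq_ltensor]; exact h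
  have key : Injective ((u.baseChange A).lTensor W) :=
    Module.Flat.lTensor_preserves_injective_linearMap _ hA
  let eN := TensorProduct.AlgebraTensorModule.cancelBaseChange R A A W N
  let eM := TensorProduct.AlgebraTensorModule.cancelBaseChange R A A W M
  have hcomm : ∀ x, u.lTensor W (eN x) = eM ((u.baseChange A).lTensor W x) := by
    intro x
    induction x using TensorProduct.induction_on with
    | zero => simp
    | tmul n y =>
      induction y using TensorProduct.induction_on with
      | zero => simp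
      | tmul a k => simp [eN, eM]
      | add y z hy hz => simp only [TensorProduct.tmul_add, map_add, hy, hz]
    | add x y hx hy => simp only [map_add, hx, hy]
  intro x y hxy
  obtain ⟨x', rfl⟩ := eN.surjective x
  obtain ⟨y', rfl⟩ := eN.surjective y
  rw [hcomm, hcomm] at hxy
  rw [key (eM.injective hxy)]

theorem one_tmul_eq_zero_iff_mem_smul_top (I : Ideal R) (x : N) :
    (1 : R ⧸ I) ⊗ₜ[R] x = 0 ↔ x ∈ I • (⊤ : Submodule R N) := by
  rw [← (TensorProduct.quotTensorEquivQuotSMul N I).map_eq_zero_iff,
    TensorProduct.quotTensorEquivQuotSMul_mk_one_tmul, Submodule.Quotient.mk_eq_zero]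

theorem exists_one_tmul_eq (I : Ideal R) (z : (R ⧸ I) ⊗[R] N) :
    ∃ x : N, z = (1 : R ⧸ I) ⊗ₜ[R] x := by
  obtain ⟨x, hx⟩ := Submodule.Quotient.mk_surjective _ (TensorProduct.quotTensorEquivQuotSMul N I z)
  refine ⟨x, ?_⟩
  apply (TensorProduct.quotTensorEquivQuotSMul N I).injective
  rw [TensorProduct.quotTensorEquivQuotSMul_mk_one_tmul, hx]

theorem lTensor_quotient_injective_iff (I : Ideal R) (u : N →ₗ[R] M) :
    Injective (u.lTensor (R ⧸ I)) ↔
      ∀ x : N, u x ∈ I • (⊤ : Submodule R M) → x ∈ I • (⊤ : Submodule R N) := by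
  constructor
  · intro h x hx
    rw [← one_tmul_eq_zero_iff_mem_smul_top] at hx ⊢
    apply h
    rw [LinearMap.lTensor_tmul, hx, map_zero]
  · intro h
    rw [injective_iff_map_eq_zero]
    intro z hz
    obtain ⟨x, rfl⟩ := exists_one_tmul_eq I z
    rw [LinearMap.lTensor_tmul, one_tmul_eq_zero_iff_mem_smul_top] at hz
    rw [one_tmul_eq_zero_iff_mem_smul_top]
    exact h x hz

/-- Flatness and colon ideals: if `N` is flat and `s • x ∈ I N` then `x ∈ J N` for every ideal `J`
containing the colon ideal `(I : s)`. -/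
theorem mem_smul_top_of_smul_mem [Module.Flat R N] (I J : Ideal R) (s : R)
    (hJ : ∀ b : R, s * b ∈ I → b ∈ J) (x : N) (hx : s • x ∈ I • (⊤ : Submodule R N)) :
    x ∈ J • (⊤ : Submodule R N) := by
  classical
  -- write `s • x = ∑ a_i • y_i` with `a_i ∈ I`
  obtain ⟨ι, _, a, y, hsum⟩ : ∃ (ι : Type) (_ : Fintype ι) (a : ι → I) (y : ι → N),
      s • x = ∑ i, (a i : R) • y i := by
    refine Submodule.smul_induction_on hx ?_ ?_
    · intro r hr n _
      exact ⟨Unit, inferInstance, fun _ => ⟨r, hr⟩, fun _ => n, by simp⟩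
    · rintro _ _ ⟨ι₁, _, a₁, y₁, h₁⟩ ⟨ι₂, _, a₂, y₂, h₂⟩
      refine ⟨ι₁ ⊕ ι₂, inferInstance, Sum.elim a₁ a₂, Sum.elim y₁ y₂, ?_⟩
      rw [Fintype.sum_sum_type]
      simp only [Sum.elim_inl, Sum.elim_inr]
      rw [← h₁, ← h₂]
  -- the relation `s x - ∑ a_i y_i = 0`
  let f : Option ι → R := fun o => Option.elim o s (fun i => -(a i : R))
  let z : Option ι → N := fun o => Option.elim o x y
  have hrel : ∑ o, f o • z o = 0 := by
    rw [Fintype.sum_option]
    simp only [f, z, Option.elim_none, Option.elim_some, neg_smul, Finset.sum_neg_distrib]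
    rw [hsum, add_neg_cancel]
  obtain ⟨k, c, t, hz, hc⟩ := Module.Flat.isTrivialRelation_of_sum_smul_eq_zero hrel
  have hx' : x = ∑ j, c none j • t j := hz none
  rw [hx']
  refine Submodule.sum_mem _ fun j _ => Submodule.smul_mem_smul (hJ _ ?_) trivial
  have := hc j
  rw [Fintype.sum_option] at this
  simp only [f, Option.elim_none, Option.elim_some, neg_mul, Finset.sum_neg_distrib] at this
  rw [add_neg_eq_zero] at this
  rw [this]
  exact Ideal.sum_mem _ fun i _ => Ideal.mul_mem_right _ _ (a i).2

/-- If `u : N → M` is injective with flat cokernel then it stays injective modulo every ideal. -/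
theorem mem_smul_top_of_flat_coker {Q : Type x} [AddCommGroup Q] [Module R Q] [Module.Flat R Q]
    (u : N →ₗ[R] M) (g : M →ₗ[R] Q) (hu : Injective u) (hug : Exact u g) (hg : Surjective g)
    (I : Ideal R) (x : N) (hx : u x ∈ I • (⊤ : Submodule R M)) :
    x ∈ I • (⊤ : Submodule R N) := by
  have key : Injective (u.lTensor (R ⧸ I)) := by
    refine lTensor_injective_of_exact_of_exact_of_rTensor_injective
      (f₁ := I.subtype) (f₂ := Submodule.mkQ I) (g₁ := u) (g₂ := g)
      (LinearMap.exact_subtype_mkQ I) (Submodule.mkQ_surjective I) hug hg ?_ ?_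
    · exact Module.Flat.rTensor_preserves_injective_linearMap _ (Submodule.injective_subtype I)
    · exact Module.Flat.lTensor_preserves_injective_linearMap (M := R) u hu
  exact (lTensor_quotient_injective_iff I u).1 key x hx

end general

section nilpotent

variable {R : Type u} [CommRing R] {M : Type v} [AddCommGroup M] [Module R M]

/-- Nakayama for a nilpotent ideal, without finiteness. -/
theorem le_of_le_sup_smul (I : Ideal R) (hI : IsNilpotent I) (N N' : Submodule R M)
    (h : N ≤ N' ⊔ I • N) : N ≤ N' := by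
  obtain ⟨n, hn⟩ := hI
  have key : ∀ k : ℕ, N ≤ N' ⊔ (I ^ k) • N := by
    intro k
    induction k with
    | zero => rw [pow_zero, Ideal.one_eq_top, Submodule.top_smul]; exact le_sup_right
    | succ k ih =>
      refine ih.trans (sup_le le_sup_left ?_)
      calc I ^ k • N ≤ I ^ k • (N' ⊔ I • N) := Submodule.smul_mono le_rfl h
        _ = I ^ k • N' ⊔ I ^ k • (I • N) := Submodule.smul_sup _ _ _
        _ ≤ N' ⊔ I ^ (k + 1) • N := by
          refine sup_le_sup Submodule.smul_le_right ?_
          rw [← Submodule.mul_smul, ← pow_succ]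
  have := key n
  rwa [hn, Ideal.zero_eq_bot, Submodule.bot_smul, sup_bot_eq] at this

end nilpotent

section scalars

variable {R : Type u} {S : Type v} [CommRing R] [CommRing S] [Algebra R S] {N : Type w}
  [AddCommGroup N] [Module R N] [Module S N] [IsScalarTower R S N]

theorem mem_map_smul_top_iff (I : Ideal R) (x : N) :
    x ∈ I.map (algebraMap R S) • (⊤ : Submodule S N) ↔ x ∈ I • (⊤ : Submodule R N) := by
  constructor
  · intro hx
    refine Submodule.smul_induction_on hx ?_ ?_
    · intro s hs
      suffices hh : ∀ y : N, s • y ∈ I • (⊤ : Submodule R N) from fun y _ => hh y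
      refine Submodule.span_induction (p := fun s _ => ∀ y : N, s • y ∈ I • (⊤ : Submodule R N))
        ?_ ?_ ?_ ?_ hs
      · rintro _ ⟨a, ha, rfl⟩ y
        rw [algebraMap_smul]
        exact Submodule.smul_mem_smul ha trivial
      · intro y
        rw [zero_smul]
        exact Submodule.zero_mem _
      · intro s t _ _ hs ht y
        rw [add_smul]
        exact Submodule.add_mem _ (hs y) (ht y)
      · intro t s _ hs y
        rw [smul_eq_mul, mul_comm, mul_smul]
        exact hs (t • y)
    · intro y z hy hz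
      exact Submodule.add_mem _ hy hz
  · intro hx
    refine Submodule.smul_induction_on hx ?_ ?_
    · intro a ha y _
      rw [← algebraMap_smul S a y]
      exact Submodule.smul_mem_smul (Ideal.mem_map_of_mem _ ha) trivial
    · intro y z hy hz
      exact Submodule.add_mem _ hy hz

end scalars

section localring

variable {R : Type u} [CommRing R] [IsLocalRing R] {M : Type v} {N : Type w}
  [AddCommGroup M] [Module R M] [AddCommGroup N] [Module R N]

theorem lTensor_injective_of_pow_smul_eq_bot [Module.Flat R M] (u : N →ₗ[R] M)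
    (h : Injective (u.lTensor (R ⧸ maximalIdeal R))) :
    ∀ n : ℕ, ∀ (V : Type x) [AddCommGroup V] [Module R V],
      (maximalIdeal R ^ n) • (⊤ : Submodule R V) = ⊥ → Injective (u.lTensor V) := by
  intro n
  induction n with
  | zero =>
    intro V _ _ hV
    have : Subsingleton V := by
      rw [pow_zero, Ideal.one_eq_top, Submodule.top_smul] at hV
      exact (Submodule.subsingleton_iff R).mp (subsingleton_of_bot_eq_top hV.symm)
    exact Function.injective_of_subsingleton _
  | succ n ih =>
    intro V _ _ hV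
    let V' : Submodule R V := maximalIdeal R • ⊤
    have h1 : Injective (u.lTensor V') := by
      apply ih
      apply Submodule.map_injective_of_injective (Submodule.injective_subtype V')
      rw [Submodule.map_smul'', Submodule.map_top, Submodule.range_subtype, Submodule.map_bot,
        ← Submodule.mul_smul, ← pow_succ]
      exact hV
    have h2 : Injective (u.lTensor (V ⧸ V')) := by
      have : Module.Flat (R ⧸ maximalIdeal R) (V ⧸ V') := by
        let _ : Field (R ⧸ maximalIdeal R) := Ideal.Quotient.field _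
        infer_instance
      exact lTensor_injective_of_algebra_flat_module (R ⧸ maximalIdeal R) u h (V ⧸ V')
    exact lTensor_injective_of_exact_four V'.subtype V'.mkQ (Submodule.injective_subtype _)
      (LinearMap.exact_subtype_mkQ V') (Submodule.mkQ_surjective V') u h1 h2

variable [IsArtinianRing R]

lemma exists_pow_maximalIdeal_eq_bot : ∃ n : ℕ, maximalIdeal R ^ n = ⊥ := by
  have h := IsArtinianRing.isNilpotent_jacobson_bot (R := R)
  rw [IsLocalRing.jacobson_eq_maximalIdeal ⊥ bot_ne_top] at h
  obtain ⟨n, hn⟩ := h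
  exact ⟨n, hn⟩

/-- Artinian version of Stacks 00ME: if `M` is flat, `u : N → M` is injective modulo the maximal
ideal, then `u` is injective with flat cokernel. -/
theorem injective_and_flat_of_residue [Module.Flat R M] {Q : Type x} [AddCommGroup Q]
    [Module R Q] (u : N →ₗ[R] M) (g : M →ₗ[R] Q) (hug : Exact u g)
    (hg : Surjective g)
    (h : ∀ x : N, u x ∈ maximalIdeal R • (⊤ : Submodule R M) →
      x ∈ maximalIdeal R • (⊤ : Submodule R N)) :
    Injective u ∧ Module.Flat R Q := by
  have h' : Injective (u.lTensor (R ⧸ maximalIdeal R)) :=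
    (lTensor_quotient_injective_iff _ u).2 h
  obtain ⟨n, hn⟩ := exists_pow_maximalIdeal_eq_bot (R := R)
  have key : ∀ (V : Type u) [AddCommGroup V] [Module R V], Injective (u.lTensor V) :=
    fun V _ _ => lTensor_injective_of_pow_smul_eq_bot u h' n V
      (by rw [hn, Submodule.bot_smul])
  have hinj : Injective u := by
    have hR := key R
    intro x y hxy
    have h1 : (1 : R) ⊗ₜ[R] x = (1 : R) ⊗ₜ[R] y := hR (by simp [hxy])
    simpa using congrArg (TensorProduct.lid R N) h1
  refine ⟨hinj, ?_⟩
  rw [Module.Flat.iff_rTensor_injective']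
  intro I
  rw [← LinearMap.lTensor_inj_iff_rTensor_inj]
  refine lTensor_injective_of_exact_of_exact_of_rTensor_injective
    (f₁ := u) (f₂ := g) (g₁ := I.subtype) (g₂ := Submodule.mkQ I) hug hg
    (LinearMap.exact_subtype_mkQ I) (Submodule.mkQ_surjective I) ?_ ?_
  · rw [← LinearMap.lTensor_inj_iff_rTensor_inj]
    exact key _
  · exact Module.Flat.lTensor_preserves_injective_linearMap _ (Submodule.injective_subtype I)

/-- A socle element modulo a proper ideal. -/
theorem exists_socle (I : Ideal R) (hI : I ≠ ⊤) :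
    ∃ s : R, s ∉ I ∧ ∀ a ∈ maximalIdeal R, s * a ∈ I := by
  classical
  obtain ⟨n, hn⟩ := exists_pow_maximalIdeal_eq_bot (R := R)
  have hex : ∃ k : ℕ, maximalIdeal R ^ k ≤ I := ⟨n, by rw [hn]; exact bot_le⟩
  have hk := Nat.find_spec hex
  have hk0 : Nat.find hex ≠ 0 := by
    intro h0
    rw [h0, pow_zero, Ideal.one_eq_top, top_le_iff] at hk
    exact hI hk
  obtain ⟨k', hk'⟩ := Nat.exists_eq_succ_of_ne_zero hk0
  have hnot : ¬ maximalIdeal R ^ k' ≤ I := Nat.find_min hex (by omega)
  obtain ⟨s, hs, hsI⟩ := SetLike.not_le_iff_exists.1 hnot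
  refine ⟨s, hsI, fun a ha => hk ?_⟩
  rw [hk', pow_succ]
  exact Ideal.mul_mem_mul hs ha

/-- Injectivity modulo a proper ideal implies injectivity modulo the maximal ideal (socle
argument; the source must be flat). -/
theorem residue_of_mod [Module.Flat R N] (I : Ideal R) (hI : I ≠ ⊤) (u : N →ₗ[R] M)
    (h : ∀ x : N, u x ∈ I • (⊤ : Submodule R M) → x ∈ I • (⊤ : Submodule R N)) :
    ∀ x : N, u x ∈ maximalIdeal R • (⊤ : Submodule R M) →
      x ∈ maximalIdeal R • (⊤ : Submodule R N) := by
  obtain ⟨s, hsI, hs⟩ := exists_socle I hI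
  intro x hx
  have h1 : u (s • x) ∈ I • (⊤ : Submodule R M) := by
    rw [map_smul]
    refine Submodule.smul_induction_on hx ?_ ?_
    · intro a ha y _
      rw [smul_smul]
      exact Submodule.smul_mem_smul (hs a ha) trivial
    · intro y z hy hz
      rw [smul_add]
      exact Submodule.add_mem _ hy hz
  have h2 := h _ h1
  refine mem_smul_top_of_smul_mem I (maximalIdeal R) s ?_ x h2
  intro b hb
  by_contra hbm
  have hu : IsUnit b := by
    by_contra hnu
    exact hbm ((IsLocalRing.mem_maximalIdeal b).2 hnu)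
  obtain ⟨b', rfl⟩ := hu
  apply hsI
  have := I.mul_mem_right (↑b'⁻¹ : R) hb
  rwa [mul_assoc, Units.mul_inv, mul_one] at this

end localring

section sequences

open RingTheory.Sequence Submodule

variable {C : Type u} [CommRing C] [IsLocalRing C] [IsArtinianRing C] {A : Type v} [CommRing A]
  [Algebra C A]

/-- `(M/𝔪M)/r ≃ (M/rM)/𝔪(M/rM)`. -/
noncomputable def quotSwapEquiv (𝔪 : Ideal A) (r : A) (M : Type w) [AddCommGroup M] [Module A M] :
    QuotSMulTop r (M ⧸ (𝔪 • (⊤ : Submodule A M))) ≃ₗ[A]
      (QuotSMulTop r M) ⧸ (𝔪 • (⊤ : Submodule A (QuotSMulTop r M))) :=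
  quotEquivOfEq _ _ (by rw [map_pointwise_smul, Submodule.map_top, range_mkQ]) ≪≫ₗ
    quotientQuotientEquivQuotientSup (𝔪 • (⊤ : Submodule A M)) (r • (⊤ : Submodule A M)) ≪≫ₗ
    quotEquivOfEq _ _ (sup_comm _ _) ≪≫ₗ
    (quotientQuotientEquivQuotientSup (r • (⊤ : Submodule A M)) (𝔪 • (⊤ : Submodule A M))).symm ≪≫ₗ
    quotEquivOfEq _ _ (by rw [map_smul'', Submodule.map_top, range_mkQ])

variable (M : Type w) [AddCommGroup M] [Module A M] [Module C M] [IsScalarTower C A M]

/-- The multiplication map by `r`, as a `C`-linear map. -/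
noncomputable def mulC (r : A) : M →ₗ[C] M := (LinearMap.lsmul A M r).restrictScalars C

/-- The quotient map `M → M/rM`, as a `C`-linear map. -/
noncomputable def quotC (r : A) : M →ₗ[C] QuotSMulTop r M :=
  (Submodule.mkQ (r • (⊤ : Submodule A M))).restrictScalars C

lemma exact_mulC_quotC (r : A) : Exact (mulC (C := C) M r) (quotC (C := C) M r) := by
  intro y
  simp only [quotC, mulC, LinearMap.coe_restrictScalars, mkQ_apply, Quotient.mk_eq_zero,
    Set.mem_range, LinearMap.lsmul_apply]
  rw [Submodule.mem_smul_pointwise_iff_exists]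
  simp

lemma surjective_quotC (r : A) : Surjective (quotC (C := C) M r) := Submodule.mkQ_surjective _

lemma isSMulRegular_quot_iff (I : Ideal C) (r : A) :
    IsSMulRegular (M ⧸ (I.map (algebraMap C A) • (⊤ : Submodule A M))) r ↔
      ∀ x : M, mulC (C := C) M r x ∈ I • (⊤ : Submodule C M) → x ∈ I • (⊤ : Submodule C M) := by
  constructor
  · intro hr x hx
    rw [← mem_map_smul_top_iff (S := A)] at hx ⊢
    rw [← Submodule.Quotient.mk_eq_zero] at hx ⊢
    apply hr
    simp only [smul_zero]
    exact hx
  · intro h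
    rw [isSMulRegular_iff_right_eq_zero_of_smul]
    intro y hy
    obtain ⟨x, rfl⟩ := Submodule.Quotient.mk_surjective _ y
    rw [← Submodule.Quotient.mk_smul, Submodule.Quotient.mk_eq_zero,
      mem_map_smul_top_iff (S := A)] at hy
    rw [Submodule.Quotient.mk_eq_zero, mem_map_smul_top_iff (S := A)]
    exact h x hy

variable [Module.Flat C M]

/-- One-element lifting step. -/
theorem step_lift (I : Ideal C) (hI : I ≠ ⊤) (r : A)
    (hr : IsSMulRegular (M ⧸ (I.map (algebraMap C A) • (⊤ : Submodule A M))) r) :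
    IsSMulRegular M r ∧ Module.Flat C (QuotSMulTop r M) := by
  have h1 := (isSMulRegular_quot_iff M I r).1 hr
  have h2 := residue_of_mod I hI (mulC (C := C) M r) h1
  exact injective_and_flat_of_residue (mulC (C := C) M r) (quotC (C := C) M r)
    (exact_mulC_quotC M r) (surjective_quotC M r) h2

/-- One-element descending step. -/
theorem step_descend (I : Ideal C) (r : A) (hr : IsSMulRegular M r) :
    IsSMulRegular (M ⧸ (I.map (algebraMap C A) • (⊤ : Submodule A M))) r ∧
      Module.Flat C (QuotSMulTop r M) := by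
  have h0 : ∀ x : M, mulC (C := C) M r x ∈ (⊥ : Ideal C) • (⊤ : Submodule C M) →
      x ∈ (⊥ : Ideal C) • (⊤ : Submodule C M) := by
    intro x hx
    rw [Submodule.bot_smul, Submodule.mem_bot] at hx ⊢
    exact hr (by simpa [mulC] using hx)
  have h2 := residue_of_mod (⊥ : Ideal C) bot_ne_top (mulC (C := C) M r) h0
  obtain ⟨hinj, hflat⟩ := injective_and_flat_of_residue (mulC (C := C) M r) (quotC (C := C) M r)
    (exact_mulC_quotC M r) (surjective_quotC M r) h2
  refine ⟨?_, hflat⟩
  rw [isSMulRegular_quot_iff]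
  intro x hx
  have := hflat
  exact mem_smul_top_of_flat_coker (mulC (C := C) M r) (quotC (C := C) M r) hinj
    (exact_mulC_quotC M r) (surjective_quotC M r) I x hx

end sequences

section sequences2

open RingTheory.Sequence Submodule

variable {C : Type u} [CommRing C] [IsLocalRing C] [IsArtinianRing C] {A : Type v} [CommRing A]
  [Algebra C A]

theorem isWeaklyRegular_and_flat (I : Ideal C) (hI : I ≠ ⊤) (rs : List A) :
    ∀ (M : Type w) [AddCommGroup M] [Module A M] [Module C M] [IsScalarTower C A M]
      [Module.Flat C M],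
      IsWeaklyRegular (M ⧸ (I.map (algebraMap C A) • (⊤ : Submodule A M))) rs →
      IsWeaklyRegular M rs ∧ Module.Flat C (M ⧸ (Ideal.ofList rs • (⊤ : Submodule A M))) := by
  induction rs with
  | nil =>
    intro M _ _ _ _ _ _
    refine ⟨IsWeaklyRegular.nil A M, ?_⟩
    have h0 : (Ideal.ofList ([] : List A) • (⊤ : Submodule A M)) = ⊥ := by
      rw [Ideal.ofList_nil, Submodule.bot_smul]
    exact Module.Flat.of_linearEquiv ((quotEquivOfEqBot _ h0).restrictScalars C)
  | cons r rs ih =>
    intro M _ _ _ _ _ hreg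
    rw [isWeaklyRegular_cons_iff] at hreg ⊢
    obtain ⟨hr, hrs⟩ := hreg
    obtain ⟨hinj, hflat⟩ := step_lift M I hI r hr
    have := hflat
    have hrs' := ((quotSwapEquiv (I.map (algebraMap C A)) r M).isWeaklyRegular_congr rs).1 hrs
    obtain ⟨h1, h2⟩ := ih (QuotSMulTop r M) hrs'
    refine ⟨⟨hinj, h1⟩, ?_⟩
    exact Module.Flat.of_linearEquiv
      ((quotOfListConsSMulTopEquivQuotSMulTopInner M r rs).restrictScalars C)

theorem isWeaklyRegular_quot_and_flat (I : Ideal C) (rs : List A) :
    ∀ (M : Type w) [AddCommGroup M] [Module A M] [Module C M] [IsScalarTower C A M]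
      [Module.Flat C M],
      IsWeaklyRegular M rs →
      IsWeaklyRegular (M ⧸ (I.map (algebraMap C A) • (⊤ : Submodule A M))) rs ∧
        Module.Flat C (M ⧸ (Ideal.ofList rs • (⊤ : Submodule A M))) := by
  induction rs with
  | nil =>
    intro M _ _ _ _ _ _
    refine ⟨IsWeaklyRegular.nil A _, ?_⟩
    have h0 : (Ideal.ofList ([] : List A) • (⊤ : Submodule A M)) = ⊥ := by
      rw [Ideal.ofList_nil, Submodule.bot_smul]
    exact Module.Flat.of_linearEquiv ((quotEquivOfEqBot _ h0).restrictScalars C)
  | cons r rs ih =>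
    intro M _ _ _ _ _ hreg
    rw [isWeaklyRegular_cons_iff] at hreg ⊢
    obtain ⟨hr, hrs⟩ := hreg
    obtain ⟨hinj, hflat⟩ := step_descend M I r hr
    have := hflat
    obtain ⟨h1, h2⟩ := ih (QuotSMulTop r M) hrs
    have h1' := ((quotSwapEquiv (I.map (algebraMap C A)) r M).isWeaklyRegular_congr rs).2 h1
    refine ⟨⟨hinj, h1'⟩, ?_⟩
    exact Module.Flat.of_linearEquiv
      ((quotOfListConsSMulTopEquivQuotSMulTopInner M r rs).restrictScalars C)

end sequences2

end Groth.Agent.H57.ArtinPoly
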