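import Mathlib
import Groth.Agent.H57.ArtinPoly

/-!
# Lifting Hilbert–Burch resolutions over an Artinian local base (helper57)
-/

set_option autoImplicit false
universe u v
open scoped Pointwise
open Function (Injective Surjective Exact)
open IsLocalRing

namespace Groth.Agent.H57.HBLift

open Groth.Agent.H57.ArtinPoly

section minors

variable {R : Type u} [CommRing R] {S : Type v} [CommRing S]

/-- The signed maximal minors of an `(r+1) × r` matrix. -/
noncomputable def minors {r : ℕ} (φ : Matrix (Fin (r + 1)) (Fin r) R) : Fin (r + 1) → R :=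
  fun i => (-1 : R) ^ (i : ℕ) * (φ.submatrix i.succAbove id).det

lemma minors_map {r : ℕ} (g : R →+* S) (φ : Matrix (Fin (r + 1)) (Fin r) R) (i : Fin (r + 1)) :
    minors (φ.map g) i = g (minors φ i) := by
  unfold minors
  rw [map_mul, map_pow, map_neg, map_one, RingHom.map_det]
  rfl

/-- Laplace: the vector of signed maximal minors kills the columns. -/
lemma laplace {r : ℕ} (φ : Matrix (Fin (r + 1)) (Fin r) R) (j : Fin r) :
    ∑ i, minors φ i * φ i j = 0 := by
  classical
  let Mj : Matrix (Fin (r + 1)) (Fin (r + 1)) R :=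
    Matrix.of fun i c => Fin.cases (φ i j) (fun c' => φ i c') c
  have hdet : Mj.det = 0 := by
    refine Matrix.det_zero_of_column_eq (i := 0) (j := j.succ) (Fin.succ_ne_zero j).symm ?_
    intro k
    simp [Mj]
  rw [Matrix.det_succ_column_zero] at hdet
  rw [← hdet]
  refine Finset.sum_congr rfl fun i _ => ?_
  have hsub : Mj.submatrix i.succAbove Fin.succ = φ.submatrix i.succAbove id := by
    ext a b
    simp [Mj]
  rw [hsub]
  simp only [minors, Mj, Matrix.of_apply, Fin.cases_zero]
  ring

lemma linearCombination_mulVec {r : ℕ} (φ : Matrix (Fin (r + 1)) (Fin r) R) (x : Fin r → R) :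
    Fintype.linearCombination R (minors φ) (φ.mulVecLin x) = 0 := by
  rw [Fintype.linearCombination_apply]
  simp only [Matrix.mulVecLin_apply, Matrix.mulVec, dotProduct, smul_eq_mul, Finset.sum_mul]
  rw [Finset.sum_comm]
  refine Finset.sum_eq_zero fun j _ => ?_
  have := laplace φ j
  calc ∑ i, φ i j * x j * minors φ i = x j * ∑ i, minors φ i * φ i j := by
        rw [Finset.mul_sum]; refine Finset.sum_congr rfl fun i _ => by ring
    _ = 0 := by rw [this, mul_zero]

end minors

section pi

variable {C' : Type u} [CommRing C'] {A' : Type v} [CommRing A'] [Algebra C' A']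

lemma mem_smul_top_pi_iff (J : Ideal C') {n : ℕ} (y : Fin n → A') :
    y ∈ J • (⊤ : Submodule C' (Fin n → A')) ↔ ∀ i, y i ∈ J.map (algebraMap C' A') := by
  constructor
  · intro hy
    refine Submodule.smul_induction_on hy ?_ ?_
    · intro a ha z _ i
      rw [Pi.smul_apply, Algebra.smul_def]
      exact Ideal.mul_mem_right _ _ (Ideal.mem_map_of_mem _ ha)
    · intro y z hy hz i
      exact Ideal.add_mem _ (hy i) (hz i)
  · intro hy
    have : y = ∑ i, LinearMap.single C' (fun _ : Fin n => A') i (y i) := by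
      ext k
      simp [Finset.sum_apply, Pi.single_apply]
    rw [this]
    refine Submodule.sum_mem _ fun i _ => ?_
    have hi : y i ∈ J • (⊤ : Submodule C' A') := by
      rw [Ideal.smul_top_eq_map]; exact hy i
    have h2 := Submodule.mem_map_of_mem (f := LinearMap.single C' (fun _ : Fin n => A') i) hi
    rw [Submodule.map_smul''] at h2
    exact Submodule.smul_mono le_rfl le_top h2

instance flat_pi [Module.Flat C' A'] (n : ℕ) : Module.Flat C' (Fin n → A') :=
  Module.Flat.of_linearEquiv
    (DFinsupp.linearEquivFunOnFintype (R := C') (M := fun _ : Fin n => A')).symm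

end pi

section main

variable {C' : Type u} [CommRing C'] [IsLocalRing C'] [IsArtinianRing C'] (J : Ideal C')
  (hJne : J ≠ ⊤) {A' : Type v} [CommRing A'] [Algebra C' A'] [Module.Flat C' A']

include hJne in
theorem main (r : ℕ) (φ' : Matrix (Fin (r + 1)) (Fin r) A')
    (hinj : Injective (φ'.map (Ideal.Quotient.mk (J.map (algebraMap C' A')))).mulVecLin)
    (hex : LinearMap.range (φ'.map (Ideal.Quotient.mk (J.map (algebraMap C' A')))).mulVecLin =
      LinearMap.ker (Fintype.linearCombination (A' ⧸ J.map (algebraMap C' A'))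
        (minors (φ'.map (Ideal.Quotient.mk (J.map (algebraMap C' A'))))))) :
    Injective φ'.mulVecLin ∧
      LinearMap.range φ'.mulVecLin = LinearMap.ker (Fintype.linearCombination A' (minors φ')) ∧
      Module.Flat C' (A' ⧸ Ideal.span (Set.range (minors φ'))) := by
  classical
  -- reduction map
  set mk := Ideal.Quotient.mk (J.map (algebraMap C' A')) with hmk
  have hmulVec : ∀ x : Fin r → A', (fun i => mk (φ'.mulVecLin x i)) =
      (φ'.map mk).mulVecLin (fun j => mk (x j)) := by
    intro x
    funext i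
    exact RingHom.map_mulVec mk φ' x i
  have hlc : ∀ y : Fin (r + 1) → A', mk (Fintype.linearCombination A' (minors φ') y) =
      Fintype.linearCombination (A' ⧸ J.map (algebraMap C' A')) (minors (φ'.map mk))
        (fun i => mk (y i)) := by
    intro y
    rw [Fintype.linearCombination_apply, Fintype.linearCombination_apply, map_sum]
    refine Finset.sum_congr rfl fun i _ => ?_
    rw [smul_eq_mul, smul_eq_mul, map_mul, minors_map]
  -- step 1
  let u₁ : (Fin r → A') →ₗ[C'] (Fin (r + 1) → A') := φ'.mulVecLin.restrictScalars C'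
  let g₁ : (Fin (r + 1) → A') →ₗ[C'] ((Fin (r + 1) → A') ⧸ LinearMap.range φ'.mulVecLin) :=
    (LinearMap.range φ'.mulVecLin).mkQ.restrictScalars C'
  have hex₁ : Exact u₁ g₁ := LinearMap.exact_map_mkQ_range φ'.mulVecLin
  have hg₁ : Surjective g₁ := Submodule.mkQ_surjective _
  have h₁ : ∀ x : Fin r → A', u₁ x ∈ J • (⊤ : Submodule C' (Fin (r + 1) → A')) →
      x ∈ J • (⊤ : Submodule C' (Fin r → A')) := by
    intro x hx
    rw [mem_smul_top_pi_iff] at hx ⊢
    have h0 : (φ'.map mk).mulVecLin (fun j => mk (x j)) = 0 := by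
      rw [← hmulVec]
      funext i
      exact Ideal.Quotient.eq_zero_iff_mem.2 (hx i)
    have h1 : (fun j => mk (x j)) = 0 := hinj (by rw [h0, map_zero])
    intro j
    exact Ideal.Quotient.eq_zero_iff_mem.1 (congrFun h1 j)
  obtain ⟨hinj₁, hflat₁⟩ := injective_and_flat_of_residue u₁ g₁ hex₁ hg₁
    (residue_of_mod J hJne u₁ h₁)
  -- step 2
  have hle : LinearMap.range φ'.mulVecLin ≤
      LinearMap.ker (Fintype.linearCombination A' (minors φ')) := by
    rintro _ ⟨x, rfl⟩
    exact linearCombination_mulVec φ' x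
  let ft : ((Fin (r + 1) → A') ⧸ LinearMap.range φ'.mulVecLin) →ₗ[A'] A' :=
    (LinearMap.range φ'.mulVecLin).liftQ (Fintype.linearCombination A' (minors φ')) hle
  let u₂ : ((Fin (r + 1) → A') ⧸ LinearMap.range φ'.mulVecLin) →ₗ[C'] A' :=
    ft.restrictScalars C'
  let g₂ : A' →ₗ[C'] (A' ⧸ Ideal.span (Set.range (minors φ'))) :=
    (Ideal.Quotient.mkₐ C' (Ideal.span (Set.range (minors φ')))).toLinearMap
  have hg₂ : Surjective g₂ := Ideal.Quotient.mk_surjective
  have hex₂ : Exact u₂ g₂ := by
    intro y
    change Ideal.Quotient.mk _ y = 0 ↔ y ∈ Set.range ft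
    rw [Ideal.Quotient.eq_zero_iff_mem]
    have : Set.range ft = (LinearMap.range ft : Set A') := rfl
    rw [this, Submodule.range_liftQ, Fintype.range_linearCombination]
    rfl
  have h₂ : ∀ q : (Fin (r + 1) → A') ⧸ LinearMap.range φ'.mulVecLin,
      u₂ q ∈ J • (⊤ : Submodule C' A') →
      q ∈ J • (⊤ : Submodule C' ((Fin (r + 1) → A') ⧸ LinearMap.range φ'.mulVecLin)) := by
    intro q hq
    obtain ⟨y, rfl⟩ := Submodule.mkQ_surjective _ q
    have hq' : Fintype.linearCombination A' (minors φ') y ∈ J.map (algebraMap C' A') := by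
      rw [Ideal.smul_top_eq_map] at hq
      exact hq
    have h0 : (fun i => mk (y i)) ∈ LinearMap.ker (Fintype.linearCombination
        (A' ⧸ J.map (algebraMap C' A')) (minors (φ'.map mk))) := by
      rw [LinearMap.mem_ker, ← hlc]
      exact Ideal.Quotient.eq_zero_iff_mem.2 hq'
    rw [← hex] at h0
    obtain ⟨xb, hxb⟩ := h0
    choose x hx using fun j => Ideal.Quotient.mk_surjective (xb j)
    have hxb' : (fun j => mk (x j)) = xb := funext hx
    have hdiff : y - φ'.mulVecLin x ∈ J • (⊤ : Submodule C' (Fin (r + 1) → A')) := by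
      rw [mem_smul_top_pi_iff]
      intro i
      rw [← Ideal.Quotient.eq_zero_iff_mem, Pi.sub_apply, map_sub]
      have e1 := congrFun (hmulVec x) i
      have e2 := congrFun hxb i
      rw [hxb'] at e1
      change mk (y i) - mk (φ'.mulVecLin x i) = 0
      rw [e1, e2, sub_self]
    have hq2 : (LinearMap.range φ'.mulVecLin).mkQ y =
        g₁ (y - φ'.mulVecLin x) := by
      change _ = (LinearMap.range φ'.mulVecLin).mkQ (y - φ'.mulVecLin x)
      rw [map_sub]
      have hz : (LinearMap.range φ'.mulVecLin).mkQ (φ'.mulVecLin x) = 0 :=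
        (Submodule.Quotient.mk_eq_zero _).2 ⟨x, rfl⟩
      rw [hz, sub_zero]
    rw [hq2]
    have h3 := Submodule.mem_map_of_mem (f := g₁) hdiff
    rw [Submodule.map_smul''] at h3
    exact Submodule.smul_mono le_rfl le_top h3
  have := hflat₁
  obtain ⟨hinj₂, hflat₂⟩ := injective_and_flat_of_residue u₂ g₂ hex₂ hg₂
    (residue_of_mod J hJne u₂ h₂)
  refine ⟨hinj₁, le_antisymm hle ?_, hflat₂⟩
  intro y hy
  have h0 : ft ((LinearMap.range φ'.mulVecLin).mkQ y) = 0 := hy
  have h1 : (LinearMap.range φ'.mulVecLin).mkQ y = 0 := hinj₂ (by rw [map_zero]; exact h0)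
  exact (Submodule.Quotient.mk_eq_zero _).1 h1

end main

end Groth.Agent.H57.HBLift
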