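import Mathlib
import Groth.Agent.H57.HBLift
import Groth.Agent.H14.RegularNormal

/-!
# Hilbert–Burch: the row kernel lemma and grade two in regular rings (helper57)
-/

set_option autoImplicit false
set_option linter.style.haveILetI false
set_option linter.unusedSectionVars false
universe u v
open IsLocalRing

namespace Groth.Agent.H57.HBCore

section rowKer

variable {R : Type u} [CommRing R] {ι : Type v} [Fintype ι]

/-- If `I = (f)` contains a regular sequence `x, y` of length two, every functional on the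
relations-quotient (every "row vector" `v` killed by all relations of `f`) is a multiple of `f`. -/
theorem rowKer (f v : ι → R)
    (hv : ∀ u : ι → R, ∑ i, u i * f i = 0 → ∑ i, u i * v i = 0)
    (c e : ι → R) (hx : ∑ i, c i * f i ∈ nonZeroDivisors R)
    (hy : ∀ z : R, (∑ i, e i * f i) * z ∈ Ideal.span {∑ i, c i * f i} →
      z ∈ Ideal.span {∑ i, c i * f i}) :
    ∃ a : R, ∀ i, v i = a * f i := by
  classical
  set x := ∑ i, c i * f i with hxdef
  set y := ∑ i, e i * f i with hydef
  set ψx := ∑ i, c i * v i with hψx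
  set ψy := ∑ i, e i * v i with hψy
  -- `y ψx = x ψy`
  have h1 : y * ψx = x * ψy := by
    have := hv (fun i => y * c i - x * e i) (by
      have : ∑ i, (y * c i - x * e i) * f i = y * x - x * y := by
        rw [hxdef, hydef, Finset.mul_sum, Finset.mul_sum, ← Finset.sum_sub_distrib]
        refine Finset.sum_congr rfl fun i _ => by ring
      rw [this]; ring)
    have h2 : ∑ i, (y * c i - x * e i) * v i = y * ψx - x * ψy := by
      rw [hψx, hψy, Finset.mul_sum, Finset.mul_sum, ← Finset.sum_sub_distrib]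
      refine Finset.sum_congr rfl fun i _ => by ring
    rw [h2, sub_eq_zero] at this
    exact this
  have h3 : ψx ∈ Ideal.span {x} := by
    apply hy
    rw [h1]
    exact Ideal.mul_mem_right _ _ (Ideal.mem_span_singleton_self x)
  obtain ⟨a, ha⟩ := Ideal.mem_span_singleton'.1 h3
  refine ⟨a, fun i => ?_⟩
  have := hv (fun j => (if j = i then x else 0) - f i * c j) (by
    have : ∑ j, ((if j = i then x else 0) - f i * c j) * f j = x * f i - f i * x := by
      rw [hxdef]
      simp only [sub_mul, Finset.sum_sub_distrib, ite_mul, zero_mul, Finset.sum_ite_eq',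
        Finset.mem_univ, if_true]
      congr 1
      rw [Finset.mul_sum]
      refine Finset.sum_congr rfl fun j _ => by ring
    rw [this]; ring)
  have h4 : ∑ j, ((if j = i then x else 0) - f i * c j) * v j = x * v i - f i * ψx := by
    rw [hψx]
    simp only [sub_mul, Finset.sum_sub_distrib, ite_mul, zero_mul, Finset.sum_ite_eq',
      Finset.mem_univ, if_true]
    congr 1
    rw [Finset.mul_sum]
    refine Finset.sum_congr rfl fun j _ => by ring
  rw [h4, ← ha] at this
  have h5 : (v i - a * f i) * x = 0 := by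
    have : x * v i - f i * (a * x) = (v i - a * f i) * x := by ring
    rw [← this]; assumption
  have h6 := hx.2 _ h5
  exact sub_eq_zero.1 h6

end rowKer

section height

variable {R : Type u} {R₀ : Type v} [CommRing R] [CommRing R₀]

/-- Heights do not drop along a surjection with nil kernel. -/
theorem height_comap_le_of_nil (π : R →+* R₀) (hπ : Function.Surjective π)
    (hker : RingHom.ker π ≤ nilradical R) :
    ∀ (n : ℕ) (p₀ : Ideal R₀) [p₀.IsPrime], p₀.height ≤ n → (p₀.comap π).height ≤ n := by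
  intro n
  induction n using Nat.strong_induction_on with
  | _ n ih =>
    intro p₀ hp₀ hle
    rw [Ideal.height_le_iff]
    intro q hq hlt
    have hkq : RingHom.ker π ≤ q := hker.trans (nilradical_le_prime q)
    haveI : (q.map π).IsPrime := Ideal.map_isPrime_of_surjective hπ hkq
    have hcm : (q.map π).comap π = q := by
      rw [Ideal.comap_map_of_surjective π hπ, ← RingHom.ker_eq_comap_bot]
      exact sup_eq_left.2 hkq
    have hlt₀ : q.map π < p₀ := by
      refine lt_of_le_of_ne ?_ ?_
      · rw [Ideal.map_le_iff_le_comap]; exact hlt.le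
      · intro h
        rw [← h, hcm] at hlt
        exact lt_irrefl _ hlt
    have h1 := (Ideal.height_le_iff.1 hle) (q.map π) inferInstance hlt₀
    -- `height (q.map π) < n`
    obtain ⟨m, hm⟩ : ∃ m : ℕ, (q.map π).height = m := by
      have : (q.map π).height ≠ ⊤ := ne_top_of_lt h1
      exact ⟨(q.map π).height.toNat, (ENat.natCast_toNat this).symm⟩
    have hmn : m < n := by
      rw [hm] at h1
      exact_mod_cast h1
    have h2 := ih m hmn (q.map π) (le_of_eq hm)
    rw [hcm] at h2
    exact lt_of_le_of_lt h2 (by exact_mod_cast hmn)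

theorem two_le_height_of_comap (π : R →+* R₀) (hπ : Function.Surjective π)
    (hker : RingHom.ker π ≤ nilradical R) (p₀ : Ideal R₀) [p₀.IsPrime]
    (h : (2 : ℕ∞) ≤ (p₀.comap π).height) : (2 : ℕ∞) ≤ p₀.height := by
  by_contra hlt
  rw [not_le] at hlt
  have h1 : p₀.height ≤ (1 : ℕ) := by
    have : p₀.height < (1 : ℕ∞) + 1 := by rwa [one_add_one_eq_two]
    exact_mod_cast Order.le_of_lt_add_one this
  have h2 := height_comap_le_of_nil π hπ hker 1 p₀ h1
  have : (2 : ℕ∞) ≤ (1 : ℕ) := h.trans h2
  norm_num at this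

end height

section normal

variable {S : Type u} [CommRing S] [IsLocalRing S] [IsNoetherianRing S] [IsDomain S]
  [IsIntegrallyClosed S]

/-- In a normal Noetherian local domain, if the maximal ideal is associated to `S/ξS` then it is
principal. -/
theorem principal_of_colon (ξ ζ : S) (hξ : ξ ≠ 0) (hζ : ζ ∉ Ideal.span {ξ})
    (hm : ∀ μ ∈ maximalIdeal S, μ * ζ ∈ Ideal.span {ξ}) (hξm : ξ ∈ maximalIdeal S) :
    ∃ μ : S, maximalIdeal S = Ideal.span {μ} := by
  classical
  have hζ0 : ζ ≠ 0 := by
    rintro rfl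
    exact hζ (Ideal.zero_mem _)
  by_cases h : ∃ μ ∈ maximalIdeal S, ∃ u : S, IsUnit u ∧ μ * ζ = ξ * u
  · obtain ⟨μ, hμ, u, hu, hμu⟩ := h
    refine ⟨μ, le_antisymm ?_ ((Ideal.span_singleton_le_iff_mem _).2 hμ)⟩
    intro ν hν
    obtain ⟨w, hw⟩ := Ideal.mem_span_singleton'.1 (hm ν hν)
    have h1 : ζ * (ν * u - μ * w) = 0 := by
      have : ζ * (ν * u - μ * w) = (ν * ζ) * u - (μ * ζ) * w := by ring
      rw [this, ← hw, hμu]; ring
    have h2 : ν * u = μ * w := by
      rcases mul_eq_zero.1 h1 with h | h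
      · exact absurd h hζ0
      · exact sub_eq_zero.1 h
    obtain ⟨u', rfl⟩ := hu
    rw [Ideal.mem_span_singleton']
    refine ⟨w * ↑u'⁻¹, ?_⟩
    have : ν = (ν * ↑u') * ↑u'⁻¹ := by rw [mul_assoc, Units.mul_inv, mul_one]
    rw [this, h2]; ring
  · exfalso
    have hB : ∀ μ ∈ maximalIdeal S, ∀ w : S, μ * ζ = ξ * w → w ∈ maximalIdeal S := by
      intro μ hμ w hw
      by_contra hwm
      exact h ⟨μ, hμ, w, IsLocalRing.notMem_maximalIdeal.1 hwm, hw⟩
    let K := FractionRing S
    let t : K := algebraMap S K ζ / algebraMap S K ξ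
    have hξK : algebraMap S K ξ ≠ 0 := by
      rw [Ne, map_eq_zero_iff _ (IsFractionRing.injective S K)]
      exact hξ
    let N : Submodule S K := Submodule.map (Algebra.linearMap S K) (maximalIdeal S)
    have hN : N ≠ ⊥ := by
      intro hbot
      have : algebraMap S K ξ ∈ N := ⟨ξ, hξm, rfl⟩
      rw [hbot, Submodule.mem_bot] at this
      exact hξK this
    have hNfg : N.FG :=
      Submodule.FG.map (Algebra.linearMap S K)
        ((isNoetherianRing_iff_ideal_fg S).1 inferInstance (maximalIdeal S))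
    have hstab : ∀ n ∈ N, t • n ∈ N := by
      rintro _ ⟨μ, hμ, rfl⟩
      obtain ⟨w, hw⟩ := Ideal.mem_span_singleton'.1 (hm μ hμ)
      have hw' : μ * ζ = ξ * w := by rw [← hw]; ring
      refine ⟨w, hB μ hμ w hw', ?_⟩
      change algebraMap S K w = t * algebraMap S K μ
      have : algebraMap S K μ * algebraMap S K ζ = algebraMap S K ξ * algebraMap S K w := by
        rw [← map_mul, ← map_mul, hw']
      change _ = algebraMap S K ζ / algebraMap S K ξ * algebraMap S K μ
      rw [div_mul_eq_mul_div, eq_div_iff hξK, mul_comm (algebraMap S K ζ), this]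
      ring
    have hint : IsIntegral S t := isIntegral_of_smul_mem_submodule N hN hNfg t hstab
    obtain ⟨y, hy⟩ := IsIntegrallyClosed.isIntegral_iff.1 hint
    apply hζ
    rw [Ideal.mem_span_singleton']
    refine ⟨y, ?_⟩
    apply IsFractionRing.injective S K
    rw [map_mul, hy]
    change algebraMap S K ζ / algebraMap S K ξ * algebraMap S K ξ = _
    rw [div_mul_cancel₀ _ hξK]

end normal

section grade

variable {R : Type u} [CommRing R]

theorem exists_assoc_ge [IsNoetherianRing R] (M : Type u) [AddCommGroup M] [Module R M]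
    [Module.Finite R M] (I : Ideal R)
    (h : ∀ x ∈ I, ∃ m : M, m ≠ 0 ∧ x • m = 0) :
    ∃ p ∈ associatedPrimes R M, I ≤ p := by
  refine (I.subset_union_prime_finite (associatedPrimes.finite R M) (f := id) 0 0
    fun _ h _ _ ↦ h.1).1 ?_
  have e := biUnion_associatedPrimes_eq_zero_divisors R M
  simp only [id]
  rw [e]
  intro x hx
  exact h x hx

/-- In a regular ring, an ideal all of whose primes have height `≥ 2` contains a regular
sequence of length two. -/
theorem exists_regular_pair [IsRegularRing R] (I : Ideal R)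
    (hI : ∀ p : Ideal R, p.IsPrime → I ≤ p → (2 : ℕ∞) ≤ p.height) :
    ∃ x ∈ I, ∃ y ∈ I, x ∈ nonZeroDivisors R ∧
      ∀ z : R, y * z ∈ Ideal.span {x} → z ∈ Ideal.span {x} := by
  classical
  -- Step 1: a nonzerodivisor in `I`
  have step1 : ∃ x ∈ I, x ∈ nonZeroDivisors R := by
    by_contra hcon
    have hcon' : ∀ x ∈ I, x ∉ nonZeroDivisors R := fun x hx hx' => hcon ⟨x, hx, hx'⟩
    have h1 : ∀ x ∈ I, ∃ m : R, m ≠ 0 ∧ x • m = 0 := by
      intro x hx
      by_contra hno
      apply hcon' x hx
      have hno' : ∀ m : R, x * m = 0 → m = 0 := by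
        intro m hm
        by_contra hm0
        exact hno ⟨m, hm0, hm⟩
      exact mem_nonZeroDivisors_iff.2
        ⟨fun y hy => hno' y hy, fun y hy => hno' y (by rw [mul_comm]; exact hy)⟩
    obtain ⟨p, hp, hIp⟩ := exists_assoc_ge R I h1
    rw [AssociatedPrimes.mem_iff, isAssociatedPrime_iff] at hp
    obtain ⟨hprime, z, hpz⟩ := hp
    haveI := hprime
    have hmem : ∀ a, a ∈ p ↔ a * z = 0 := by
      intro a
      rw [hpz, Submodule.mem_colon_singleton, Submodule.mem_bot, smul_eq_mul]
    let S := Localization.AtPrime p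
    haveI : IsRegularLocalRing S := IsRegularRing.isRegularLocalRing_localization p
    haveI : IsDomain S := Lead.RLR.isDomain S
    have hz : algebraMap R S z ≠ 0 := by
      rw [Ne, IsLocalization.map_eq_zero_iff p.primeCompl S z]
      rintro ⟨m, hm⟩
      exact m.2 ((hmem _).2 hm)
    have hp0 : ∀ a ∈ p, algebraMap R S a = 0 := by
      intro a ha
      have : algebraMap R S a * algebraMap R S z = 0 := by
        rw [← map_mul, (hmem a).1 ha, map_zero]
      rcases mul_eq_zero.1 this with h | h
      · exact h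
      · exact absurd h hz
    have hmax : maximalIdeal S = ⊥ := by
      rw [← Localization.AtPrime.map_eq_maximalIdeal, Ideal.map, Ideal.span_eq_bot]
      rintro _ ⟨a, ha, rfl⟩
      exact hp0 a ha
    have hfield : IsField S := IsLocalRing.isField_iff_maximalIdeal_eq.2 hmax
    have hdim : ringKrullDim S = 0 := ringKrullDim_eq_zero_of_isField hfield
    rw [IsLocalization.AtPrime.ringKrullDim_eq_height p S] at hdim
    have h2 := hI p hprime hIp
    have h3 : p.height = 0 := by exact_mod_cast hdim
    rw [h3] at h2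
    norm_num at h2
  obtain ⟨x, hxI, hx⟩ := step1
  refine ⟨x, hxI, ?_⟩
  by_contra hcon
  have hcon' : ∀ y ∈ I, ∃ z : R, z ∉ Ideal.span {x} ∧ y * z ∈ Ideal.span {x} := by
    intro y hy
    by_contra hno
    apply hcon
    refine ⟨y, hy, hx, fun z hz => ?_⟩
    by_contra hzx
    exact hno ⟨z, hzx, hz⟩
  have h1 : ∀ y ∈ I, ∃ m : R ⧸ Ideal.span {x}, m ≠ 0 ∧ y • m = 0 := by
    intro y hy
    obtain ⟨z, hz, hyz⟩ := hcon' y hy
    refine ⟨Ideal.Quotient.mk _ z, ?_, ?_⟩
    · rw [Ne, Ideal.Quotient.eq_zero_iff_mem]; exact hz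
    · rw [← Ideal.Quotient.mk_eq_mk, ← Submodule.Quotient.mk_smul, Ideal.Quotient.mk_eq_mk,
        Ideal.Quotient.eq_zero_iff_mem, smul_eq_mul]
      exact hyz
  obtain ⟨p, hp, hIp⟩ := exists_assoc_ge (R ⧸ Ideal.span {x}) I h1
  rw [AssociatedPrimes.mem_iff, isAssociatedPrime_iff] at hp
  obtain ⟨hprime, m₀, hpm⟩ := hp
  haveI := hprime
  obtain ⟨z₀, rfl⟩ := Ideal.Quotient.mk_surjective m₀
  have hmem : ∀ a, a ∈ p ↔ a * z₀ ∈ Ideal.span {x} := by
    intro a
    rw [hpm, Submodule.mem_colon_singleton, Submodule.mem_bot, ← Ideal.Quotient.mk_eq_mk,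
      ← Submodule.Quotient.mk_smul, Ideal.Quotient.mk_eq_mk, Ideal.Quotient.eq_zero_iff_mem,
      smul_eq_mul]
  let S := Localization.AtPrime p
  haveI : IsRegularLocalRing S := IsRegularRing.isRegularLocalRing_localization p
  haveI : IsDomain S := Lead.RLR.isDomain S
  haveI : IsIntegrallyClosed S := Groth.Agent.H14.isIntegrallyClosed_of_isRegularLocalRing S
  have hξ : algebraMap R S x ≠ 0 := by
    rw [Ne, IsLocalization.map_eq_zero_iff p.primeCompl S x]
    rintro ⟨m, hm⟩
    have : (m : R) = 0 := hx.2 _ hm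
    exact m.2 (this ▸ p.zero_mem)
  have hζ : algebraMap R S z₀ ∉ Ideal.span {algebraMap R S x} := by
    intro hmem'
    obtain ⟨c, hc⟩ := Ideal.mem_span_singleton'.1 hmem'
    obtain ⟨c₀, s, rfl⟩ := IsLocalization.exists_mk'_eq p.primeCompl c
    have h2 : algebraMap R S (c₀ * x) = algebraMap R S (s * z₀) := by
      rw [map_mul, map_mul, ← hc, ← mul_assoc, IsLocalization.mk'_spec' S c₀ s]
    obtain ⟨s', hs'⟩ := (IsLocalization.eq_iff_exists p.primeCompl S).1 h2
    have h3 : (s' : R) * s * z₀ ∈ Ideal.span {x} := by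
      rw [mul_assoc, ← hs', Ideal.mem_span_singleton']
      exact ⟨s' * c₀, by ring⟩
    have h4 := (hmem _).2 h3
    rcases hprime.mem_or_mem h4 with h | h
    · exact s'.2 h
    · exact s.2 h
  have hmS : ∀ μ ∈ maximalIdeal S, μ * algebraMap R S z₀ ∈ Ideal.span {algebraMap R S x} := by
    intro μ hμ
    rw [← Localization.AtPrime.map_eq_maximalIdeal, Ideal.map] at hμ
    refine Submodule.span_induction ?_ ?_ ?_ ?_ hμ
    · rintro _ ⟨a, ha, rfl⟩
      obtain ⟨w, hw⟩ := Ideal.mem_span_singleton'.1 ((hmem a).1 ha)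
      rw [← map_mul, ← hw, map_mul]
      exact Ideal.mul_mem_left _ _ (Ideal.mem_span_singleton_self _)
    · rw [zero_mul]; exact Ideal.zero_mem _
    · intro a b _ _ ha hb
      rw [add_mul]; exact Ideal.add_mem _ ha hb
    · intro a b _ hb
      rw [smul_eq_mul, mul_assoc]; exact Ideal.mul_mem_left _ _ hb
  have hξm : algebraMap R S x ∈ maximalIdeal S := by
    rw [← Localization.AtPrime.map_eq_maximalIdeal]
    exact Ideal.mem_map_of_mem _ (hIp hxI)
  obtain ⟨μ, hμ⟩ := principal_of_colon (algebraMap R S x) (algebraMap R S z₀) hξ hζ hmS hξm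
  have hsf : (maximalIdeal S).spanFinrank ≤ 1 := by
    rw [hμ]
    refine (Submodule.spanFinrank_span_le_ncard_of_finite (Set.finite_singleton μ)).trans ?_
    rw [Set.ncard_singleton]
  have hdim := Lead.RLR.ringKrullDim_eq_spanFinrank S
  rw [IsLocalization.AtPrime.ringKrullDim_eq_height p S] at hdim
  have h2 := hI p hprime hIp
  have h3 : p.height = ((maximalIdeal S).spanFinrank : ℕ∞) := by exact_mod_cast hdim
  rw [h3] at h2
  have : (2 : ℕ∞) ≤ (1 : ℕ) := h2.trans (by exact_mod_cast hsf)
  norm_num at this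

end grade

end Groth.Agent.H57.HBCore
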