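import Mathlib
import Groth.Prelude.Def_CAlg
import Groth.Agent.H72.CMLocal
import Groth.Agent.H29.AB3
import Groth.Agent.Lead.RegularGlDim
import Groth.Agent.H14.RegularCM
import Groth.Agent.Lead.RegularLocalization
import Groth.Agent.H57.HBCore
import Groth.Agent.H57.HBLift

/-!
# Hilbert–Burch over a regular local ring (helper57)
-/

set_option autoImplicit false
set_option linter.unusedSectionVars false
set_option linter.style.haveILetI false
universe u

open CategoryTheory IsLocalRing

namespace Groth.Agent.H57.HBReg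

section Numerics

variable (A : Type u) [CommRing A] [IsRegularLocalRing A]

/-- A regular local ring is a Cohen–Macaulay local ring. -/
theorem isCM : LocCoh.IsCohenMacaulayLocalRing A := by
  rw [Groth.Agent.H72.FlatCM.isCohenMacaulayLocalRing_iff]
  exact le_antisymm (Groth.Agent.H14.ringKrullDim_le_idealDepth_of_isRegularLocalRing A)
    (Groth.Agent.H72.FlatCM.depth_le_ringKrullDim A)

variable {A}

/-- Heights of primes containing `I` are at least two. -/
theorem two_le_height (I : Ideal A) (hcodim : ringKrullDim (A ⧸ I) + 2 = ringKrullDim A)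
    (p : Ideal A) [hp : p.IsPrime] (hIp : I ≤ p) : 2 ≤ p.height := by
  have h1 := Groth.Agent.H72.CMLocal.ringKrullDim_eq_quotient_add_height A (isCM A) p
  have h2 : ringKrullDim (A ⧸ p) ≤ ringKrullDim (A ⧸ I) :=
    ringKrullDim_le_of_surjective (Ideal.Quotient.factor hIp) (Ideal.Quotient.factor_surjective hIp)
  obtain ⟨d, hd⟩ := Groth.Agent.H72.FlatCM.exists_ringKrullDim_eq_natCast A
  have hpne : p ≠ ⊤ := hp.ne_top
  have hInt : I ≠ ⊤ := fun h => hpne (top_le_iff.mp (h ▸ hIp))
  haveI : Nontrivial (A ⧸ I) := Ideal.Quotient.nontrivial_iff.mpr hInt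
  haveI : Nontrivial (A ⧸ p) := Ideal.Quotient.nontrivial_iff.mpr hpne
  haveI : IsLocalRing (A ⧸ I) := IsLocalRing.of_surjective' (Ideal.Quotient.mk I) Ideal.Quotient.mk_surjective
  haveI : IsLocalRing (A ⧸ p) := IsLocalRing.of_surjective' (Ideal.Quotient.mk p) Ideal.Quotient.mk_surjective
  obtain ⟨a, ha⟩ := Groth.Agent.H72.FlatCM.exists_ringKrullDim_eq_natCast (A ⧸ I)
  obtain ⟨b, hb⟩ := Groth.Agent.H72.FlatCM.exists_ringKrullDim_eq_natCast (A ⧸ p)
  obtain ⟨h, hh⟩ := ENat.ne_top_iff_exists.mp (Ideal.height_ne_top_of_isPrime (I := p))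
  rw [hd, hb, ← hh] at h1
  rw [ha, hd] at hcodim
  rw [ha, hb] at h2
  rw [← hh]
  have e1 : d = b + h := by exact_mod_cast h1
  have e2 : a + 2 = d := by exact_mod_cast hcodim
  have e3 : b ≤ a := by exact_mod_cast h2
  have : 2 ≤ h := by omega
  exact_mod_cast this

/-- `A/I` has projective dimension `≤ 2`. -/
theorem hasPDLT_three (I : Ideal A) [LocCoh.IsCohenMacaulayLocalRing (A ⧸ I)]
    (hcodim : ringKrullDim (A ⧸ I) + 2 = ringKrullDim A) :
    HasProjectiveDimensionLT (ModuleCat.of A (A ⧸ I)) 3 := by
  obtain ⟨d, hd⟩ := Groth.Agent.H72.FlatCM.exists_ringKrullDim_eq_natCast A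
  obtain ⟨a, ha⟩ := Groth.Agent.H72.FlatCM.exists_ringKrullDim_eq_natCast (A ⧸ I)
  have hfin := Groth.Agent.Lead.RLR.hasProjectiveDimensionLT A d hd (ModuleCat.of A (A ⧸ I))
  have hlt : projectiveDimension (ModuleCat.of A (A ⧸ I)) < ((d + 1 : ℕ) : WithBot ℕ∞) :=
    projectiveDimension_lt_iff.mpr hfin
  have hnb : projectiveDimension (ModuleCat.of A (A ⧸ I)) ≠ ⊥ := by
    rw [Ne, projectiveDimension_eq_bot_iff]
    intro hz
    exact not_subsingleton (A ⧸ I) (ModuleCat.subsingleton_of_isZero hz)
  obtain ⟨e, he⟩ : ∃ e : ℕ, projectiveDimension (ModuleCat.of A (A ⧸ I)) = (e : WithBot ℕ∞) := by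
    generalize projectiveDimension (ModuleCat.of A (A ⧸ I)) = x at hlt hnb
    induction x with
    | bot => exact absurd rfl hnb
    | coe x =>
      induction x with
      | top => exact absurd hlt (by simp)
      | coe x => exact ⟨x, rfl⟩
  have hAB := Groth.Agent.H29.AB.auslander_buchsbaum (R := A) (A ⧸ I) e he
  have hInt : I ≠ ⊤ := fun h => by
    have : Subsingleton (A ⧸ I) := Ideal.Quotient.subsingleton_iff.mpr h
    exact not_subsingleton (A ⧸ I) this
  rw [Groth.Agent.H72.FlatCM.depth_quotient_eq I hInt] at hAB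
  have h1 := (Groth.Agent.H72.FlatCM.isCohenMacaulayLocalRing_iff A).mp (isCM A)
  have h2 := (Groth.Agent.H72.FlatCM.isCohenMacaulayLocalRing_iff (A ⧸ I)).mp inferInstance
  rw [hd] at h1
  rw [ha] at h2
  have h1' : LocCoh.depth A A = (d : ℕ∞) := by exact_mod_cast h1.symm
  have h2' : LocCoh.depth (A ⧸ I) (A ⧸ I) = (a : ℕ∞) := by exact_mod_cast h2.symm
  rw [h1', h2'] at hAB
  rw [ha, hd] at hcodim
  have e1 : d = e + a := by exact_mod_cast hAB
  have e2 : a + 2 = d := by exact_mod_cast hcodim
  have : e = 2 := by omega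
  subst this
  have : projectiveDimension (ModuleCat.of A (A ⧸ I)) < ((3 : ℕ) : WithBot ℕ∞) := by
    rw [he]
    exact_mod_cast (by norm_num : (2 : ℕ) < 3)
  exact projectiveDimension_lt_iff.mp this

end Numerics

section Syz

variable {S : Type u} [CommRing S]

/-- Dimension shifting along a surjection from a projective module. -/
lemma hasPDLT_shift {P N : Type u} [AddCommGroup P] [Module S P] [AddCommGroup N] [Module S N]
    [Module.Projective S P] (g : P →ₗ[S] N) (hg : Function.Surjective g)
    (K : Submodule S P) (hK : LinearMap.ker g = K) (j : ℕ) :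
    HasProjectiveDimensionLT (ModuleCat.of S N) (j + 2) ↔
      HasProjectiveDimensionLT (ModuleCat.of S K) (j + 1) := by
  subst hK
  have hP : Projective (ModuleCat.of S P) := (IsProjective.iff_projective P).mp inferInstance
  exact (LinearMap.shortExact_shortComplexKer hg).hasProjectiveDimensionLT_X₃_iff j hP

lemma hasPDLT_one_iff (N : Type u) [AddCommGroup N] [Module S N] :
    HasProjectiveDimensionLT (ModuleCat.of S N) 1 ↔ Module.Projective S N := by
  rw [← projective_iff_hasProjectiveDimensionLT_one, IsProjective.iff_projective]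

variable {A : Type u} [CommRing A] [IsLocalRing A] [IsNoetherianRing A] [IsDomain A]

/-- If `A/I` has projective dimension `≤ 2` and `f` generates `I ≠ 0`, the syzygy module of `f`
is free of rank `r`: there is an injective matrix whose image is the module of relations. -/
theorem exists_matrix (I : Ideal A)
    (hI3 : HasProjectiveDimensionLT (ModuleCat.of A (A ⧸ I)) 3) (hI0 : I ≠ ⊥) (r : ℕ)
    (f : Fin (r + 1) → A) (hf : Ideal.span (Set.range f) = I) :
    ∃ φ : Matrix (Fin (r + 1)) (Fin r) A, Function.Injective φ.mulVecLin ∧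
      LinearMap.range φ.mulVecLin = LinearMap.ker (Fintype.linearCombination A f) := by
  classical
  let L : (Fin (r + 1) → A) →ₗ[A] A := Fintype.linearCombination A f
  have hrange : LinearMap.range L = I := by
    rw [Fintype.range_linearCombination]; exact hf
  have hmem : ∀ v, L v ∈ I := fun v => by rw [← hrange]; exact LinearMap.mem_range_self L v
  let L' : (Fin (r + 1) → A) →ₗ[A] I := L.codRestrict I hmem
  have hL'surj : Function.Surjective L' := by
    rintro ⟨x, hx⟩
    rw [← hrange] at hx
    obtain ⟨v, hv⟩ := hx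
    exact ⟨v, Subtype.ext hv⟩
  have hkerL' : LinearMap.ker L' = LinearMap.ker L := LinearMap.ker_codRestrict _ _ _
  have h2 : HasProjectiveDimensionLT (ModuleCat.of A I) 2 :=
    (hasPDLT_shift (Submodule.mkQ I) (Submodule.mkQ_surjective I) I (Submodule.ker_mkQ I) 1).mp hI3
  have h1 : HasProjectiveDimensionLT (ModuleCat.of A (LinearMap.ker L)) 1 :=
    (hasPDLT_shift L' hL'surj (LinearMap.ker L) hkerL' 0).mp h2
  haveI : Module.Projective A (LinearMap.ker L) := (hasPDLT_one_iff _).mp h1
  haveI : Module.Free A (LinearMap.ker L) := Module.free_of_flat_of_isLocalRing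
  -- rank computation
  have hrk := LinearMap.rank_range_add_rank_ker L
  have hrkI : Module.rank A (LinearMap.range L) = 1 := by
    rw [hrange]
    apply le_antisymm
    · calc Module.rank A I ≤ Module.rank A A := Submodule.rank_le I
        _ = 1 := Module.rank_self A
    · rw [Cardinal.one_le_iff_pos, rank_pos_iff_exists_ne_zero]
      obtain ⟨x, hx, hx0⟩ := Submodule.exists_mem_ne_zero_of_ne_bot hI0
      exact ⟨⟨x, hx⟩, fun h => hx0 (congrArg Subtype.val h)⟩
  have hfin : Module.finrank A (LinearMap.ker L) = r := by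
    have h3 : (Module.finrank A (LinearMap.ker L) : Cardinal) = Module.rank A (LinearMap.ker L) :=
      Module.finrank_eq_rank A _
    rw [hrkI, ← h3, rank_fin_fun] at hrk
    have : 1 + Module.finrank A (LinearMap.ker L) = r + 1 := by exact_mod_cast hrk
    omega
  let b : Module.Basis (Fin r) A (LinearMap.ker L) := Module.finBasisOfFinrankEq A _ hfin
  let ψ : (Fin r → A) →ₗ[A] (Fin (r + 1) → A) :=
    (LinearMap.ker L).subtype ∘ₗ b.equivFun.symm.toLinearMap
  refine ⟨LinearMap.toMatrix' ψ, ?_, ?_⟩
  · have : (LinearMap.toMatrix' ψ).mulVecLin = ψ := by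
      rw [← Matrix.toLin'_apply', Matrix.toLin'_toMatrix']
    rw [this]
    exact (Submodule.injective_subtype _).comp b.equivFun.symm.injective
  · have : (LinearMap.toMatrix' ψ).mulVecLin = ψ := by
      rw [← Matrix.toLin'_apply', Matrix.toLin'_toMatrix']
    rw [this, LinearMap.range_comp, LinearEquiv.range, Submodule.map_top, Submodule.range_subtype]

end Syz

section Det

open Groth.Agent.H57.HBLift

variable {R : Type u} [CommRing R]

/-- The determinantal trick: if `φ` generates all relations of `f` and the signed minors of `φ`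
are `a * f`, then `g ^ (r+1) ∈ (a)` for all `g ∈ (f)`. -/
theorem pow_mem_span {r : ℕ} (φ : Matrix (Fin (r + 1)) (Fin r) R) (f : Fin (r + 1) → R) (a : R)
    (hmin : ∀ i, minors φ i = a * f i)
    (hker : LinearMap.ker (Fintype.linearCombination R f) ≤ LinearMap.range φ.mulVecLin)
    (g : R) (hg : g ∈ Ideal.span (Set.range f)) : g ^ (r + 1) ∈ Ideal.span {a} := by
  classical
  obtain ⟨c, hc⟩ := Ideal.mem_span_range_iff_exists_fun.mp hg
  -- the relations `g e_k - f_k c`
  have hrel : ∀ k : Fin (r + 1), ∃ w : Fin r → R,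
      φ.mulVecLin w = fun i => g * (if i = k then 1 else 0) - f k * c i := by
    intro k
    have hmem : (fun i => g * (if i = k then 1 else 0) - f k * c i) ∈
        LinearMap.ker (Fintype.linearCombination R f) := by
      rw [LinearMap.mem_ker, Fintype.linearCombination_apply]
      simp only [smul_eq_mul, sub_mul, Finset.sum_sub_distrib]
      have h1 : ∑ i, g * (if i = k then 1 else 0) * f i = g * f k := by
        rw [Finset.sum_eq_single k]
        · simp
        · intro b _ hb; simp [hb]
        · intro h; exact absurd (Finset.mem_univ k) h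
      have h2 : ∑ i, f k * c i * f i = f k * g := by
        rw [← hc, Finset.mul_sum]
        exact Finset.sum_congr rfl fun i _ => by ring
      rw [h1, h2]; ring
    obtain ⟨w, hw⟩ := hker hmem
    exact ⟨w, hw⟩
  choose w hw using hrel
  let M : Matrix (Fin (r + 1)) (Fin (r + 1)) R :=
    Matrix.of fun i c' => Fin.cases (c i) (fun j => φ i j) c'
  let N : Matrix (Fin (r + 1)) (Fin (r + 1)) R :=
    Matrix.of fun c' k => Fin.cases (f k) (fun j => w k j) c'
  have hMN : M * N = g • (1 : Matrix (Fin (r + 1)) (Fin (r + 1)) R) := by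
    ext i k
    rw [Matrix.mul_apply, Fin.sum_univ_succ]
    simp only [M, N, Matrix.of_apply, Fin.cases_zero, Fin.cases_succ]
    have h1 := congr_fun (hw k) i
    simp only [Matrix.mulVecLin_apply, Matrix.mulVec, dotProduct] at h1
    rw [h1, Matrix.smul_apply, Matrix.one_apply, smul_eq_mul]
    ring
  have hdetM : M.det = a * g := by
    rw [Matrix.det_succ_column_zero, ← hc, Finset.mul_sum]
    refine Finset.sum_congr rfl fun i _ => ?_
    have hsub : M.submatrix i.succAbove Fin.succ = φ.submatrix i.succAbove id := by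
      ext x y
      simp [M]
    rw [hsub]
    have := hmin i
    simp only [minors] at this
    simp only [M, Matrix.of_apply, Fin.cases_zero]
    calc (-1 : R) ^ (i : ℕ) * c i * (φ.submatrix i.succAbove id).det
        = c i * ((-1 : R) ^ (i : ℕ) * (φ.submatrix i.succAbove id).det) := by ring
      _ = c i * (a * f i) := by rw [this]
      _ = a * (c i * f i) := by ring
  have hdet : M.det * N.det = g ^ (r + 1) := by
    rw [← Matrix.det_mul, hMN, Matrix.det_smul, Matrix.det_one, mul_one, Fintype.card_fin]
  rw [← hdet, hdetM, Ideal.mem_span_singleton]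
  exact ⟨g * N.det, by ring⟩

/-- With all primes over `(f)` of height `≥ 2`, the factor `a` is a unit. -/
theorem isUnit_of_minors [IsNoetherianRing R] {r : ℕ} (φ : Matrix (Fin (r + 1)) (Fin r) R)
    (f : Fin (r + 1) → R) (a : R)
    (hmin : ∀ i, minors φ i = a * f i)
    (hker : LinearMap.ker (Fintype.linearCombination R f) ≤ LinearMap.range φ.mulVecLin)
    (hht : ∀ p : Ideal R, p.IsPrime → Ideal.span (Set.range f) ≤ p → (2 : ℕ∞) ≤ p.height) :
    IsUnit a := by
  by_contra hna
  have hne : Ideal.span {a} ≠ ⊤ := by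
    rwa [Ne, Ideal.span_singleton_eq_top]
  obtain ⟨P, hP⟩ := Ideal.nonempty_minimalPrimes hne
  have hPprime : P.IsPrime := hP.1.1
  have h1 : P.height ≤ 1 := Ideal.height_le_one_of_isPrincipal_of_mem_minimalPrimes _ P hP
  have h2 : (2 : ℕ∞) ≤ P.height := by
    apply hht P hPprime
    intro g hg
    have := hP.1.2 (pow_mem_span φ f a hmin hker g hg)
    exact hPprime.mem_of_pow_mem _ this
  have : (2 : ℕ∞) ≤ 1 := h2.trans h1
  exact absurd this (by norm_num)

end Det

section Main

open Groth.Agent.H57.HBLift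

/-- **Hilbert–Burch** for codimension-two Cohen–Macaulay quotients of a regular local ring. -/
theorem main (A : Type u) [CommRing A] [IsRegularLocalRing A] (I : Ideal A)
    [LocCoh.IsCohenMacaulayLocalRing (A ⧸ I)]
    (hcodim : ringKrullDim (A ⧸ I) + 2 = ringKrullDim A) :
    ∃ (r : ℕ) (φ : Matrix (Fin (r + 1)) (Fin r) A),
      Ideal.span (Set.range (minors φ)) = I ∧ I.spanFinrank = r + 1 ∧
      Function.Injective φ.mulVecLin ∧
      LinearMap.range φ.mulVecLin = LinearMap.ker (Fintype.linearCombination A (minors φ)) := by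
  classical
  haveI : IsDomain A := Groth.Agent.Lead.RLR.isDomain A
  haveI : IsRegularRing A :=
    { isRegularLocalRing_localization := fun p _ =>
        Groth.Agent.Lead.RLR.isRegularLocalRing_localization A p }
  have hI3 := hasPDLT_three I hcodim
  have hI0 : I ≠ ⊥ := by
    rintro rfl
    have h1 : ringKrullDim (A ⧸ (⊥ : Ideal A)) = ringKrullDim A :=
      ringKrullDim_eq_of_ringEquiv (RingEquiv.quotientBot A)
    obtain ⟨d, hd⟩ := Groth.Agent.H72.FlatCM.exists_ringKrullDim_eq_natCast A
    rw [h1, hd] at hcodim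
    have : d + 2 = d := by exact_mod_cast hcodim
    omega
  -- minimal generators
  have hfg : I.FG := IsNoetherian.noetherian I
  obtain ⟨s, hscard, hsspan⟩ := Submodule.FG.exists_span_finset_card_eq_spanFinrank hfg
  have hpos : I.spanFinrank ≠ 0 := fun h =>
    hI0 ((Submodule.spanFinrank_eq_zero_iff_eq_bot hfg).mp h)
  obtain ⟨r, hr⟩ := Nat.exists_eq_succ_of_ne_zero hpos
  obtain ⟨f, hf⟩ := Groth.Agent.Lead.RLR.exists_fin_range_eq s (r + 1) (by rw [hscard, hr])
  have hfI : Ideal.span (Set.range f) = I := by rw [hf]; exact hsspan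
  obtain ⟨φ, hinj, hrange⟩ := exists_matrix I hI3 hI0 r f hfI
  -- heights and regular pair
  have hht : ∀ p : Ideal A, p.IsPrime → I ≤ p → (2 : ℕ∞) ≤ p.height := fun p hp hIp =>
    two_le_height I hcodim p hIp
  obtain ⟨x, hxI, y, hyI, hx, hy⟩ := Groth.Agent.H57.HBCore.exists_regular_pair I hht
  rw [← hfI] at hxI hyI
  obtain ⟨c, hc⟩ := Ideal.mem_span_range_iff_exists_fun.mp hxI
  obtain ⟨e, he⟩ := Ideal.mem_span_range_iff_exists_fun.mp hyI
  -- row kernel
  have hv : ∀ u : Fin (r + 1) → A, ∑ i, u i * f i = 0 → ∑ i, u i * minors φ i = 0 := by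
    intro u hu
    have hmem : u ∈ LinearMap.ker (Fintype.linearCombination A f) := by
      rw [LinearMap.mem_ker, Fintype.linearCombination_apply]
      simpa [smul_eq_mul] using hu
    rw [← hrange] at hmem
    obtain ⟨w, rfl⟩ := hmem
    have := linearCombination_mulVec φ w
    rw [Fintype.linearCombination_apply] at this
    simpa [smul_eq_mul] using this
  obtain ⟨a, ha⟩ := Groth.Agent.H57.HBCore.rowKer f (minors φ) hv c e (by rw [hc]; exact hx)
    (by rw [hc, he]; exact hy)
  have hunit : IsUnit a := isUnit_of_minors φ f a ha (le_of_eq hrange.symm)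
    (fun p hp hle => hht p hp (hfI ▸ hle))
  obtain ⟨a', rfl⟩ := hunit
  have hminors : minors φ = fun i => (a' : A) * f i := funext ha
  refine ⟨r, φ, ?_, hr, hinj, ?_⟩
  · rw [← hfI]
    apply le_antisymm
    · rw [Ideal.span_le]
      rintro _ ⟨i, rfl⟩
      rw [ha i]
      exact Ideal.mul_mem_left _ _ (Ideal.subset_span ⟨i, rfl⟩)
    · rw [Ideal.span_le]
      rintro _ ⟨i, rfl⟩
      have : f i = ((a'⁻¹ : Aˣ) : A) * minors φ i := by
        rw [ha i, ← mul_assoc, Units.inv_mul, one_mul]
      rw [this]
      exact Ideal.mul_mem_left _ _ (Ideal.subset_span ⟨i, rfl⟩)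
  · rw [hrange]
    ext u
    rw [LinearMap.mem_ker, LinearMap.mem_ker, Fintype.linearCombination_apply,
      Fintype.linearCombination_apply, hminors]
    have : ∑ i, u i • ((a' : A) * f i) = (a' : A) * ∑ i, u i • f i := by
      rw [Finset.mul_sum]
      exact Finset.sum_congr rfl fun i _ => by simp only [smul_eq_mul]; ring
    rw [this]
    constructor
    · intro h; rw [h, mul_zero]
    · intro h
      exact (Units.mul_right_eq_zero a').mp h

end Main

end Groth.Agent.H57.HBReg
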