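import Mathlib
import Groth.Agent.H20.ComplMap
import Groth.Agent.H20.AdicQuot
import Groth.Agent.H20.ComplNoeth2
import Groth.Agent.H2.FlatPow
import Groth.Agent.H44.RigClosed

/-!
# Maps between completed localizations (helper57)

Toolkit for the completed principal localizations `A_{f}` of adic Noetherian rings:
canonical maps, uniqueness of maps out of a completion, flatness.
-/

set_option autoImplicit false
set_option linter.style.haveILetI false
universe u
open scoped TensorProduct

namespace Groth.Agent.H57.CL

section basic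

variable {P : Type u} [CommRing P] (K : Ideal P)

theorem exists_sub_mem_map_pow (hK : K.FG) (k : ℕ) (t : AdicCompletion K P) :
    ∃ r : P, t - algebraMap P (AdicCompletion K P) r ∈
      (K ^ k).map (algebraMap P (AdicCompletion K P)) := by
  obtain ⟨r, hr⟩ := Ideal.Quotient.mk_surjective (AdicCompletion.evalₐ K k t)
  refine ⟨r, ?_⟩
  rw [← Groth.Agent.H20.ker_evalₐ_eq_map K hK k, RingHom.mem_ker, map_sub, sub_eq_zero]
  exact ((AdicCompletion.evalₐ_of _ k r).trans hr).symm

/-- Two ring homomorphisms out of an adic completion into a Hausdorff ring which agree on the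
uncompleted ring are equal. -/
theorem ringHom_ext {X : Type*} [CommRing X] (hK : K.FG) (ψ₁ ψ₂ : AdicCompletion K P →+* X)
    (JX : Ideal X) [IsHausdorff JX X]
    (hJX : K.map (ψ₁.comp (algebraMap P (AdicCompletion K P))) ≤ JX)
    (h : ψ₁.comp (algebraMap P (AdicCompletion K P)) =
      ψ₂.comp (algebraMap P (AdicCompletion K P))) : ψ₁ = ψ₂ := by
  ext x
  rw [← sub_eq_zero]
  refine IsHausdorff.haus (I := JX) inferInstance _ (fun n => ?_)
  rw [SModEq.zero, smul_eq_mul, Ideal.mul_top]
  obtain ⟨r, hr⟩ := exists_sub_mem_map_pow K hK n x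
  have h1 : ψ₁ x - ψ₂ x = ψ₁ (x - algebraMap P _ r) - ψ₂ (x - algebraMap P _ r) := by
    have := RingHom.congr_fun h r
    simp only [RingHom.comp_apply] at this
    rw [map_sub, map_sub, this]
    ring
  have hle : ∀ ψ : AdicCompletion K P →+* X,
      ψ.comp (algebraMap P (AdicCompletion K P)) = ψ₁.comp (algebraMap P (AdicCompletion K P)) →
      ∀ y ∈ (K ^ n).map (algebraMap P (AdicCompletion K P)), ψ y ∈ JX ^ n := by
    intro ψ hψ y hy
    have h2 := Ideal.mem_map_of_mem ψ hy
    rw [Ideal.map_map, hψ, Ideal.map_pow] at h2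
    exact Ideal.pow_right_mono hJX n h2
  rw [h1]
  exact Ideal.sub_mem _ (hle ψ₁ rfl _ hr) (hle ψ₂ h.symm _ hr)

end basic

section awayMap

variable {R S : Type u} [CommRing R] [CommRing S] (φ : R →+* S)

/-- The map of localizations `R_g → S_{g'}` induced by `φ : R → S` with `φ g = g'`. -/
noncomputable def awayMap' (g : R) (gS : S) (h : φ g = gS) :
    Localization.Away g →+* Localization.Away gS :=
  IsLocalization.Away.lift g (g := (algebraMap S (Localization.Away gS)).comp φ) (by
    rw [RingHom.comp_apply, h]
    exact IsLocalization.Away.algebraMap_isUnit gS)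

@[simp]
theorem awayMap'_algebraMap (g : R) (gS : S) (h : φ g = gS) (r : R) :
    awayMap' φ g gS h (algebraMap R (Localization.Away g) r) =
      algebraMap S (Localization.Away gS) (φ r) :=
  IsLocalization.Away.lift_eq g _ r

theorem awayMap'_comp_algebraMap (g : R) (gS : S) (h : φ g = gS) :
    (awayMap' φ g gS h).comp (algebraMap R (Localization.Away g)) =
      (algebraMap S (Localization.Away gS)).comp φ :=
  RingHom.ext (awayMap'_algebraMap φ g gS h)

theorem awayMap'_eq_awayMap (g : R) :
    awayMap' φ g (φ g) rfl = Localization.awayMap φ g := by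
  apply IsLocalization.ringHom_ext (Submonoid.powers g)
  rw [awayMap'_comp_algebraMap]
  ext r
  simp [Localization.awayMap, IsLocalization.Away.map]

theorem map_awayMap'_le (J : Ideal R) (JS : Ideal S) (hJ : J.map φ ≤ JS) (g : R) (gS : S)
    (h : φ g = gS) :
    (J.map (algebraMap R (Localization.Away g))).map (awayMap' φ g gS h) ≤
      JS.map (algebraMap S (Localization.Away gS)) := by
  rw [Ideal.map_map, awayMap'_comp_algebraMap, ← Ideal.map_map]
  exact Ideal.map_mono hJ

/-- The completed localization `R_{g}` for the `J`-adic topology. -/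
abbrev Cl (J : Ideal R) (g : R) : Type u :=
  AdicCompletion (J.map (algebraMap R (Localization.Away g))) (Localization.Away g)

/-- The canonical map `R_{g} → S_{g'}` of completed localizations. -/
noncomputable def clMap (J : Ideal R) (JS : Ideal S) (hJ : J.map φ ≤ JS) (g : R) (gS : S)
    (h : φ g = gS) : Cl J g →+* Cl JS gS :=
  FSch.complMap _ _ (awayMap' φ g gS h) (map_awayMap'_le φ J JS hJ g gS h)

theorem clMap_algebraMap (J : Ideal R) (JS : Ideal S) (hJ : J.map φ ≤ JS) (g : R) (gS : S)
    (h : φ g = gS) (x : Localization.Away g) :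
    clMap φ J JS hJ g gS h (algebraMap (Localization.Away g) (Cl J g) x) =
      algebraMap (Localization.Away gS) (Cl JS gS) (awayMap' φ g gS h x) :=
  Groth.Agent.H20.complMap_of _ _ _ _ x

theorem clMap_comp_algebraMap (J : Ideal R) (JS : Ideal S) (hJ : J.map φ ≤ JS) (g : R) (gS : S)
    (h : φ g = gS) :
    (clMap φ J JS hJ g gS h).comp (algebraMap (Localization.Away g) (Cl J g)) =
      (algebraMap (Localization.Away gS) (Cl JS gS)).comp (awayMap' φ g gS h) :=
  RingHom.ext (clMap_algebraMap φ J JS hJ g gS h)

end awayMap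

section flat

variable {R : Type u} [CommRing R] [IsNoetherianRing R] (J : Ideal R)
  {S : Type u} [CommRing S] [IsNoetherianRing S] [Algebra (AdicCompletion J R) S] [Algebra R S]
  [IsScalarTower R (AdicCompletion J R) S]

omit [IsNoetherianRing S] in
/-- For a module `N` over the completion killed by `J^n`, tensoring over `R` already respects the
scalars of the completion. -/
theorem smul_tmul_of_pow_smul_eq_zero {N : Type*} [AddCommGroup N] [Module (AdicCompletion J R) N]
    [Module R N] [IsScalarTower R (AdicCompletion J R) N] (n : ℕ)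
    (hN : ∀ y ∈ (J ^ n).map (algebraMap R (AdicCompletion J R)), ∀ x : N, y • x = 0)
    (x : AdicCompletion J R) (s : S) (m : N) : (x • s) ⊗ₜ[R] m = s ⊗ₜ[R] (x • m) := by
  obtain ⟨r, hr⟩ := exists_sub_mem_map_pow J (IsNoetherian.noetherian J) n x
  have key : ∀ y ∈ (J ^ n).map (algebraMap R (AdicCompletion J R)), ∀ s : S,
      (y • s) ⊗ₜ[R] m = 0 := by
    intro y hy
    refine Submodule.span_induction
      (p := fun y _ => ∀ s : S, (y • s) ⊗ₜ[R] m = 0) ?_ ?_ ?_ ?_ hy
    · rintro y ⟨j, hj, rfl⟩ s
      rw [algebraMap_smul, TensorProduct.smul_tmul, ← algebraMap_smul (AdicCompletion J R) j m,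
        hN _ (Ideal.mem_map_of_mem _ hj), TensorProduct.tmul_zero]
    · intro s
      rw [zero_smul, TensorProduct.zero_tmul]
    · intro y z _ _ hy hz s
      rw [add_smul, TensorProduct.add_tmul, hy, hz, add_zero]
    · intro w y _ hy s
      rw [smul_eq_mul, mul_comm, mul_smul]
      exact hy (w • s)
  have hx : x = algebraMap R (AdicCompletion J R) r + (x - algebraMap R (AdicCompletion J R) r) := by
    ring
  rw [hx, add_smul, add_smul, TensorProduct.add_tmul, TensorProduct.tmul_add, key _ hr,
    hN _ hr, TensorProduct.tmul_zero, add_zero, add_zero, algebraMap_smul, algebraMap_smul,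
    TensorProduct.smul_tmul]

/-- **Flatness over a completion**: a Noetherian algebra `S` over the completion `R^` with `JS` in
its Jacobson radical which is flat over `R` is flat over `R^`. -/
theorem flat_of_flat_comp (hJS : J.map (algebraMap R S) ≤ Ideal.jacobson ⊥) [Module.Flat R S] :
    Module.Flat (AdicCompletion J R) S := by
  set Jhat := J.map (algebraMap R (AdicCompletion J R)) with hJhat
  have hI : Jhat.map (algebraMap (AdicCompletion J R) S) ≤ Ideal.jacobson ⊥ := by
    rw [hJhat, Ideal.map_map, ← IsScalarTower.algebraMap_eq]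
    exact hJS
  refine Groth.Agent.H2.flat_of_lTensor_injective_quotient_pow (R := AdicCompletion J R) (S := S)
    (M := S) Jhat hI ?_
  intro n _ Jbar
  -- the quotient `Q = R^ ⧸ Jhat ^ n` is killed by `J ^ n`
  have hQ : ∀ y ∈ (J ^ n).map (algebraMap R (AdicCompletion J R)),
      ∀ x : AdicCompletion J R ⧸ Jhat ^ n, y • x = 0 := by
    intro y hy x
    obtain ⟨x, rfl⟩ := Ideal.Quotient.mk_surjective x
    rw [Algebra.smul_def, Ideal.Quotient.algebraMap_eq, ← map_mul, Ideal.Quotient.eq_zero_iff_mem]
    rw [Ideal.map_pow] at hy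
    exact Ideal.mul_mem_right _ _ hy
  haveI : TensorProduct.CompatibleSMul R (AdicCompletion J R) S (AdicCompletion J R ⧸ Jhat ^ n) :=
    ⟨fun x s m => smul_tmul_of_pow_smul_eq_zero J n hQ x s m⟩
  let ρ : S ⊗[AdicCompletion J R] (AdicCompletion J R ⧸ Jhat ^ n) →ₗ[R]
      S ⊗[R] (AdicCompletion J R ⧸ Jhat ^ n) :=
    TensorProduct.mapOfCompatibleSMul R (AdicCompletion J R) R S (AdicCompletion J R ⧸ Jhat ^ n)
  let π : S ⊗[R] Jbar →ₗ[R] S ⊗[AdicCompletion J R] Jbar :=
    TensorProduct.mapOfCompatibleSMul (AdicCompletion J R) R R S Jbar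
  have hπ : Function.Surjective π := TensorProduct.mapOfCompatibleSMul_surjective _ _ _ _ _
  let ι : Jbar →ₗ[AdicCompletion J R] (AdicCompletion J R ⧸ Jhat ^ n) :=
    (Submodule.subtype Jbar).restrictScalars (AdicCompletion J R)
  have hcomm : ∀ z : S ⊗[R] Jbar, ρ (ι.lTensor S (π z)) = (ι.restrictScalars R).lTensor S z := by
    intro z
    induction z using TensorProduct.induction_on with
    | zero => simp
    | tmul s j => rfl
    | add z w hz hw => simp only [map_add, hz, hw]
  have hinjR : Function.Injective ((ι.restrictScalars R).lTensor S) :=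
    Module.Flat.lTensor_preserves_injective_linearMap _ (Submodule.injective_subtype Jbar)
  rw [injective_iff_map_eq_zero]
  intro z hz
  obtain ⟨z', rfl⟩ := hπ z
  have h0 : (ι.restrictScalars R).lTensor S z' = 0 := by
    rw [← hcomm, hz, map_zero]
  have h1 : z' = 0 := hinjR (h0.trans (map_zero _).symm)
  rw [h1, map_zero]

end flat

section flatClMap

variable {A B : Type u} [CommRing A] [CommRing B] [IsNoetherianRing A] [IsNoetherianRing B]
  [Algebra A B]

/-- The canonical map of completed localizations induced by a flat map of Noetherian rings is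
flat. -/
theorem flat_clMap [Module.Flat A B] (J : Ideal A) (JB : Ideal B)
    (hJ : J.map (algebraMap A B) ≤ JB) (g : A) (gB : B) (h : algebraMap A B g = gB) :
    (clMap (algebraMap A B) J JB hJ g gB h).Flat := by
  have hN1 : IsNoetherianRing (Localization.Away g) :=
    IsLocalization.isNoetherianRing (Submonoid.powers g) _ inferInstance
  have hN2 : IsNoetherianRing (Localization.Away gB) :=
    IsLocalization.isNoetherianRing (Submonoid.powers gB) _ inferInstance
  letI alg1 : Algebra (Localization.Away g) (Localization.Away gB) :=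
    (awayMap' (algebraMap A B) g gB h).toAlgebra
  letI alg2 : Algebra (Cl J g) (Cl JB gB) := (clMap (algebraMap A B) J JB hJ g gB h).toAlgebra
  letI alg3 : Algebra (Localization.Away g) (Cl JB gB) :=
    ((algebraMap (Localization.Away gB) (Cl JB gB)).comp
      (awayMap' (algebraMap A B) g gB h)).toAlgebra
  have tw1 : IsScalarTower (Localization.Away g) (Localization.Away gB) (Cl JB gB) :=
    IsScalarTower.of_algebraMap_eq (fun _ => rfl)
  have tw2 : IsScalarTower (Localization.Away g) (Cl J g) (Cl JB gB) :=
    IsScalarTower.of_algebraMap_eq (fun x => (clMap_algebraMap (algebraMap A B) J JB hJ g gB h x).symm)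
  have tw3 : IsScalarTower A (Localization.Away g) (Localization.Away gB) :=
    IsScalarTower.of_algebraMap_eq (fun a => by
      rw [IsScalarTower.algebraMap_apply A B (Localization.Away gB)]
      exact (awayMap'_algebraMap (algebraMap A B) g gB h a).symm)
  have hfl1 : Module.Flat A (Localization.Away gB) := Module.Flat.trans A B (Localization.Away gB)
  have hfl2 : Module.Flat (Localization.Away g) (Localization.Away gB) :=
    (Module.flat_iff_of_isLocalization (Localization.Away g) (Submonoid.powers g)
      (Localization.Away gB)).mpr hfl1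
  have hfl3 : Module.Flat (Localization.Away gB) (Cl JB gB) := AdicCompletion.flat_of_isNoetherian _
  have hfl4 : Module.Flat (Localization.Away g) (Cl JB gB) :=
    Module.Flat.trans (Localization.Away g) (Localization.Away gB) (Cl JB gB)
  have hfg : (JB.map (algebraMap B (Localization.Away gB))).FG := IsNoetherian.noetherian _
  have hcompl : IsAdicComplete ((JB.map (algebraMap B (Localization.Away gB))).map
      (algebraMap (Localization.Away gB) (Cl JB gB))) (Cl JB gB) :=
    AdicCompletion.isAdicComplete_self _ hfg
  have hjac : (J.map (algebraMap A (Localization.Away g))).map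
      (algebraMap (Localization.Away g) (Cl JB gB)) ≤ Ideal.jacobson ⊥ := by
    refine le_trans ?_ (IsAdicComplete.le_jacobson_bot
      ((JB.map (algebraMap B (Localization.Away gB))).map
        (algebraMap (Localization.Away gB) (Cl JB gB))))
    have : algebraMap (Localization.Away g) (Cl JB gB) =
        (algebraMap (Localization.Away gB) (Cl JB gB)).comp (awayMap' (algebraMap A B) g gB h) := rfl
    rw [this, ← Ideal.map_map]
    exact Ideal.map_mono (map_awayMap'_le (algebraMap A B) J JB hJ g gB h)
  have hmain : Module.Flat (Cl J g) (Cl JB gB) :=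
    @flat_of_flat_comp (Localization.Away g) _ hN1 (J.map (algebraMap A (Localization.Away g)))
      (Cl JB gB) _ inferInstance alg2 alg3 tw2 hjac hfl4
  exact RingHom.flat_algebraMap_iff.2 hmain

end flatClMap

section generization

open Groth.Agent.H44

/-- Flatness at a prime implies flatness at every smaller prime. -/
theorem flat_atPrime_of_le {A B : Type*} [CommRing A] [CommRing B] [Algebra A B] (Q q : Ideal B)
    [Q.IsPrime] [q.IsPrime] (hQq : Q ≤ q) [Module.Flat A (Localization.AtPrime q)] :
    Module.Flat A (Localization.AtPrime Q) := by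
  have hunits : ∀ y : q.primeCompl, IsUnit (algebraMap B (Localization.AtPrime Q) y) := fun y =>
    IsLocalization.map_units (Localization.AtPrime Q) (⟨y, fun h => y.2 (hQq h)⟩ : Q.primeCompl)
  letI : Algebra (Localization.AtPrime q) (Localization.AtPrime Q) :=
    (IsLocalization.lift hunits).toAlgebra
  have tw1 : IsScalarTower B (Localization.AtPrime q) (Localization.AtPrime Q) :=
    IsScalarTower.of_algebraMap_eq (fun x => (IsLocalization.lift_eq hunits x).symm)
  have tw2 : IsScalarTower A (Localization.AtPrime q) (Localization.AtPrime Q) :=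
    IsScalarTower.of_algebraMap_eq (fun a => by
      rw [IsScalarTower.algebraMap_apply A B (Localization.AtPrime Q),
        IsScalarTower.algebraMap_apply B (Localization.AtPrime q) (Localization.AtPrime Q),
        ← IsScalarTower.algebraMap_apply A B (Localization.AtPrime q)])
  have hle : q.primeCompl ≤ Q.primeCompl := fun x hx h => hx (hQq h)
  have hloc : IsLocalization (Q.primeCompl.map (algebraMap B (Localization.AtPrime q)))
      (Localization.AtPrime Q) :=
    IsLocalization.isLocalization_of_submonoid_le (Localization.AtPrime q) (Localization.AtPrime Q)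
      q.primeCompl Q.primeCompl hle
  have hfl : Module.Flat (Localization.AtPrime q) (Localization.AtPrime Q) :=
    IsLocalization.flat _ (Q.primeCompl.map (algebraMap B (Localization.AtPrime q)))
  exact Module.Flat.trans A (Localization.AtPrime q) (Localization.AtPrime Q)

/-- Every prime not containing `K` is contained in a rig-closed prime. -/
theorem exists_isRigClosed_ge {B : Type*} [CommRing B] [IsNoetherianRing B] (K : Ideal B)
    (Q : Ideal B) [hQ : Q.IsPrime] (hKQ : ¬ K ≤ Q) :
    ∃ q : PrimeSpectrum B, IsRigClosed K q ∧ Q ≤ q.asIdeal := by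
  let S : Set (Ideal B) := {q' | q'.IsPrime ∧ Q ≤ q' ∧ ¬ K ≤ q'}
  have hQS : Q ∈ S := ⟨hQ, le_rfl, hKQ⟩
  obtain ⟨(q : Ideal B), hqS, hqmax⟩ := set_has_maximal_iff_noetherian.mpr
    (inferInstance : IsNoetherian B B) S ⟨Q, hQS⟩
  have hqprime : q.IsPrime := hqS.1
  refine ⟨⟨q, hqprime⟩, ⟨hqS.2.2, fun q' hqq' hq' => ?_⟩, hqS.2.1⟩
  have hq'S : q'.asIdeal ∈ S := ⟨q'.2, hqS.2.1.trans hqq', hq'⟩
  have hle : q ≤ q'.asIdeal := hqq'
  rcases eq_or_lt_of_le hle with heq | hlt
  · exact PrimeSpectrum.ext heq.symm
  · exact absurd hlt (hqmax q'.asIdeal hq'S)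

/-- If `B_q` is `A`-flat for every rig-closed prime `q`, then `B_Q` is `A`-flat for every prime
`Q` not containing `K`. -/
theorem flat_atPrime_of_forall_isRigClosed {A B : Type*} [CommRing A] [CommRing B] [Algebra A B]
    [IsNoetherianRing B] (K : Ideal B)
    (H : ∀ q : PrimeSpectrum B, IsRigClosed K q → Module.Flat A (Localization.AtPrime q.asIdeal))
    (Q : Ideal B) [Q.IsPrime] (hKQ : ¬ K ≤ Q) : Module.Flat A (Localization.AtPrime Q) := by
  obtain ⟨q, hq, hQq⟩ := exists_isRigClosed_ge K Q hKQ
  have := H q hq
  have hqprime : q.asIdeal.IsPrime := q.2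
  exact flat_atPrime_of_le Q q.asIdeal hQq

end generization

end Groth.Agent.H57.CL
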