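import Mathlib
import Groth.Agent.H44.AdicLemmas

/-!
# General lemmas on adically complete modules (helper57)
-/

set_option autoImplicit false
universe u v w

namespace Groth.Agent.H57.AdicMod

variable {R : Type u} [CommRing R] (I : Ideal R)
variable {M : Type v} [AddCommGroup M] [Module R M] {N : Type w} [AddCommGroup N] [Module R N]

theorem map_mem_smul_top (J : Ideal R) (f : M →ₗ[R] N) {x : M}
    (hx : x ∈ (J • ⊤ : Submodule R M)) : f x ∈ (J • ⊤ : Submodule R N) := by
  have : f x ∈ Submodule.map f (J • ⊤ : Submodule R M) := Submodule.mem_map_of_mem hx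
  rw [Submodule.map_smul''] at this
  exact Submodule.smul_mono le_rfl le_top this

theorem isHausdorff_of_injective (f : M →ₗ[R] N) (hf : Function.Injective f) [IsHausdorff I N] :
    IsHausdorff I M := by
  refine ⟨fun x hx => ?_⟩
  apply hf
  rw [map_zero]
  apply IsHausdorff.haus' (I := I)
  intro n
  have := hx n
  rw [SModEq.zero] at this ⊢
  exact map_mem_smul_top (I ^ n) f this

theorem isPrecomplete_of_surjective (f : M →ₗ[R] N) (hf : Function.Surjective f)
    [IsPrecomplete I M] : IsPrecomplete I N := by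
  rw [← AdicCompletion.of_surjective_iff]
  intro y
  obtain ⟨x, rfl⟩ := AdicCompletion.map_surjective I hf y
  obtain ⟨b, rfl⟩ := AdicCompletion.of_surjective I M x
  exact ⟨f b, (AdicCompletion.map_of _ _ _).symm⟩

theorem isAdicComplete_of_linearEquiv (e : M ≃ₗ[R] N) [IsAdicComplete I M] :
    IsAdicComplete I N := by
  have h1 : IsHausdorff I N := isHausdorff_of_injective I e.symm.toLinearMap e.symm.injective
  have h2 : IsPrecomplete I N := isPrecomplete_of_surjective I e.toLinearMap e.surjective
  exact { h1, h2 with }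

section Pi

variable {ι : Type*} [Fintype ι] [DecidableEq ι] {X : ι → Type*}
  [∀ i, AddCommGroup (X i)] [∀ i, Module R (X i)]

theorem isHausdorff_pi [∀ i, IsHausdorff I (X i)] : IsHausdorff I (∀ i, X i) := by
  refine ⟨fun x hx => ?_⟩
  funext i
  apply IsHausdorff.haus' (I := I)
  intro n
  have := hx n
  rw [SModEq.zero] at this ⊢
  exact (Groth.Agent.H44.mem_smul_top_pi (I ^ n) x).mp this i

theorem isAdicComplete_pi [∀ i, IsAdicComplete I (X i)] : IsAdicComplete I (∀ i, X i) := by
  have h1 : IsHausdorff I (∀ i, X i) := isHausdorff_pi I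
  have h2 : IsPrecomplete I (∀ i, X i) := Groth.Agent.H44.isPrecomplete_pi I
  exact { h1, h2 with }

end Pi

section Prod

theorem isHausdorff_prod [IsHausdorff I M] [IsHausdorff I N] : IsHausdorff I (M × N) := by
  refine ⟨fun x hx => ?_⟩
  have h1 : x.1 = 0 := by
    apply IsHausdorff.haus' (I := I)
    intro n
    have := hx n
    rw [SModEq.zero] at this ⊢
    exact map_mem_smul_top (I ^ n) (LinearMap.fst R M N) this
  have h2 : x.2 = 0 := by
    apply IsHausdorff.haus' (I := I)
    intro n
    have := hx n
    rw [SModEq.zero] at this ⊢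
    exact map_mem_smul_top (I ^ n) (LinearMap.snd R M N) this
  exact Prod.ext h1 h2

theorem isPrecomplete_prod [IsPrecomplete I M] [IsPrecomplete I N] : IsPrecomplete I (M × N) := by
  refine ⟨fun f hf => ?_⟩
  obtain ⟨L1, hL1⟩ := IsPrecomplete.prec' (I := I) (fun n => (f n).1) (by
    intro m n hmn
    have := hf hmn
    rw [SModEq.sub_mem] at this ⊢
    exact map_mem_smul_top (I ^ m) (LinearMap.fst R M N) this)
  obtain ⟨L2, hL2⟩ := IsPrecomplete.prec' (I := I) (fun n => (f n).2) (by
    intro m n hmn
    have := hf hmn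
    rw [SModEq.sub_mem] at this ⊢
    exact map_mem_smul_top (I ^ m) (LinearMap.snd R M N) this)
  refine ⟨(L1, L2), fun n => ?_⟩
  have h1 := hL1 n
  have h2 := hL2 n
  rw [SModEq.sub_mem] at h1 h2 ⊢
  have : f n - (L1, L2) = LinearMap.inl R M N ((f n).1 - L1) + LinearMap.inr R M N ((f n).2 - L2) := by
    ext <;> simp
  rw [this]
  exact Submodule.add_mem _ (map_mem_smul_top (I ^ n) _ h1) (map_mem_smul_top (I ^ n) _ h2)

theorem isAdicComplete_prod [IsAdicComplete I M] [IsAdicComplete I N] :
    IsAdicComplete I (M × N) := by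
  have h1 : IsHausdorff I (M × N) := isHausdorff_prod I
  have h2 : IsPrecomplete I (M × N) := isPrecomplete_prod I
  exact { h1, h2 with }

end Prod

end Groth.Agent.H57.AdicMod
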