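import Mathlib
import Groth.Agent.H57.ComplLocMap
import Groth.Agent.H44.ComplLocRig

/-!
# Rig-flatness: definition in the form of the statements, composition (helper57)
-/

set_option autoImplicit false
set_option linter.style.haveILetI false
universe u
open scoped TensorProduct

namespace Groth.Agent.H57.CL

open Groth.Agent.H44

section defs

variable {R S : Type u} [CommRing R] [CommRing S] [Algebra R S]

/-- The ideal of definition of the completed localization `S_{g}`. -/
noncomputable abbrev clIdeal (JS : Ideal S) (g : S) : Ideal (Cl JS g) :=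
  (JS.map (algebraMap S (Localization.Away g))).map (algebraMap (Localization.Away g) (Cl JS g))

/-- Rig-flatness of `R → S` at `f ∈ R`, in the literal form used in the statements. -/
def RigFlatAt (J : Ideal R) (JS : Ideal S) (f : R) : Prop :=
  ∀ ψ : Cl J f →+* Cl JS (algebraMap R S f),
    ψ.comp (algebraMap (Localization.Away f) (Cl J f)) =
      (algebraMap (Localization.Away (algebraMap R S f)) (Cl JS (algebraMap R S f))).comp
        (Localization.awayMap (algebraMap R S) f) →
    ∀ q : PrimeSpectrum (Cl JS (algebraMap R S f)),
      (¬ clIdeal JS (algebraMap R S f) ≤ q.asIdeal ∧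
        ∀ y : PrimeSpectrum (Cl JS (algebraMap R S f)), q ≤ y →
          ¬ clIdeal JS (algebraMap R S f) ≤ y.asIdeal → y = q) →
      ((algebraMap (Cl JS (algebraMap R S f)) (Localization.AtPrime q.asIdeal)).comp ψ).Flat

/-- The canonical map `R_{f} → S_{f}`. -/
noncomputable def canMap (J : Ideal R) (JS : Ideal S) (hJ : J.map (algebraMap R S) ≤ JS) (f : R) :
    Cl J f →+* Cl JS (algebraMap R S f) :=
  clMap (algebraMap R S) J JS hJ f (algebraMap R S f) rfl

theorem canMap_comp_algebraMap (J : Ideal R) (JS : Ideal S) (hJ : J.map (algebraMap R S) ≤ JS)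
    (f : R) :
    (canMap J JS hJ f).comp (algebraMap (Localization.Away f) (Cl J f)) =
      (algebraMap (Localization.Away (algebraMap R S f)) (Cl JS (algebraMap R S f))).comp
        (Localization.awayMap (algebraMap R S) f) := by
  rw [canMap, clMap_comp_algebraMap, awayMap'_eq_awayMap]

end defs

section ringHomFlat

/-- RingHom form of generization of flatness to all primes off `V(K)`. -/
theorem ringHom_flat_atPrime_of_forall_isRigClosed {A B : Type*} [CommRing A] [CommRing B]
    [IsNoetherianRing B] (ψ : A →+* B) (K : Ideal B)
    (H : ∀ q : PrimeSpectrum B, IsRigClosed K q →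
      ((algebraMap B (Localization.AtPrime q.asIdeal)).comp ψ).Flat)
    (Q : Ideal B) [Q.IsPrime] (hKQ : ¬ K ≤ Q) :
    ((algebraMap B (Localization.AtPrime Q)).comp ψ).Flat := by
  letI := ψ.toAlgebra
  have key : ∀ (P : Ideal B) [P.IsPrime],
      ((algebraMap B (Localization.AtPrime P)).comp ψ).Flat ↔
        Module.Flat A (Localization.AtPrime P) := by
    intro P _
    rw [← RingHom.flat_algebraMap_iff, IsScalarTower.algebraMap_eq A B (Localization.AtPrime P)]
    rfl
  rw [key]
  refine flat_atPrime_of_forall_isRigClosed K (fun q hq => ?_) Q hKQ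
  have hqprime : q.asIdeal.IsPrime := q.2
  exact (key q.asIdeal).mp (H q hq)

/-- If `C_q` is flat over `B`, then it is flat over `B_Q` for `Q = q ∩ B`. -/
theorem flat_localRingHom_of_flat_comp {B C : Type*} [CommRing B] [CommRing C] (ψ : B →+* C)
    (q : Ideal C) [q.IsPrime] (Q : Ideal B) [Q.IsPrime] (hQ : Q = q.comap ψ)
    (h : ((algebraMap C (Localization.AtPrime q)).comp ψ).Flat) :
    (Localization.localRingHom Q q ψ hQ).Flat := by
  letI := ψ.toAlgebra
  letI : Algebra (Localization.AtPrime Q) (Localization.AtPrime q) :=
    (Localization.localRingHom Q q ψ hQ).toAlgebra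
  have tw : IsScalarTower B (Localization.AtPrime Q) (Localization.AtPrime q) :=
    IsScalarTower.of_algebraMap_eq (fun x => by
      rw [IsScalarTower.algebraMap_apply B C (Localization.AtPrime q)]
      exact (Localization.localRingHom_to_map Q q ψ hQ x).symm)
  have h1 : Module.Flat B (Localization.AtPrime q) := by
    rw [← RingHom.flat_algebraMap_iff, IsScalarTower.algebraMap_eq B C (Localization.AtPrime q)]
    exact h
  have h2 : Module.Flat (Localization.AtPrime Q) (Localization.AtPrime q) :=
    (Module.flat_iff_of_isLocalization (Localization.AtPrime Q) Q.primeCompl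
      (Localization.AtPrime q)).mpr h1
  exact RingHom.flat_algebraMap_iff.mpr h2

end ringHomFlat

section complete

variable {C : Type u} [CommRing C] [IsNoetherianRing C]

theorem isAdicComplete_cl (J : Ideal C) (x : C) : IsAdicComplete (clIdeal J x) (Cl J x) :=
  have : IsNoetherianRing (Localization.Away x) :=
    IsLocalization.isNoetherianRing (Submonoid.powers x) _ inferInstance
  AdicCompletion.isAdicComplete_self _ (IsNoetherian.noetherian _)

end complete

section comp

variable {A B C : Type u} [CommRing A] [CommRing B] [CommRing C] [Algebra A B] [Algebra A C]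
  [Algebra B C] [IsScalarTower A B C] [IsNoetherianRing A] [IsNoetherianRing B]
  [IsNoetherianRing C]

/-- The image of the ideal of definition under the canonical map generates the ideal of
definition. -/
theorem map_canMap_clIdeal {R S : Type u} [CommRing R] [CommRing S] [Algebra R S]
    (J : Ideal R) (JS : Ideal S) (hJ : J.map (algebraMap R S) = JS) (f : R) :
    (clIdeal J f).map (canMap J JS (le_of_eq hJ) f) = clIdeal JS (algebraMap R S f) := by
  have h1 : (Localization.awayMap (algebraMap R S) f).comp (algebraMap R (Localization.Away f)) =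
      (algebraMap S (Localization.Away (algebraMap R S f))).comp (algebraMap R S) := by
    ext a
    simp [Localization.awayMap, IsLocalization.Away.map]
  rw [clIdeal, Ideal.map_map, canMap_comp_algebraMap, ← Ideal.map_map, Ideal.map_map (I := J), h1,
    ← Ideal.map_map (I := J), hJ]

/-- Composition of rig-flat morphisms, with the element of `C` generalized. -/
theorem rigFlatAt_comp_aux (I : Ideal A) (KB : Ideal B) (J : Ideal C)
    (hIK : I.map (algebraMap A B) ≤ KB) (hKJ : KB.map (algebraMap B C) = J)
    (hAB : ∀ f : A, RigFlatAt I KB f) (hBC : ∀ g : B, RigFlatAt KB J g)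
    (e : A) (x : C) (hx : algebraMap B C (algebraMap A B e) = x) (hx' : algebraMap A C e = x)
    (ψ : Cl I e →+* Cl J x)
    (hψ : ψ.comp (algebraMap (Localization.Away e) (Cl I e)) =
      (algebraMap (Localization.Away x) (Cl J x)).comp (awayMap' (algebraMap A C) e x hx'))
    (q : PrimeSpectrum (Cl J x)) (hq : IsRigClosed (clIdeal J x) q) :
    ((algebraMap (Cl J x) (Localization.AtPrime q.asIdeal)).comp ψ).Flat := by
  subst hx
  have hNAe : IsNoetherianRing (Localization.Away e) :=
    IsLocalization.isNoetherianRing (Submonoid.powers e) _ inferInstance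
  have hNB : IsNoetherianRing (Localization.Away (algebraMap A B e)) :=
    IsLocalization.isNoetherianRing (Submonoid.powers (algebraMap A B e)) _ inferInstance
  have hNBhat : IsNoetherianRing (Cl KB (algebraMap A B e)) := inferInstance
  -- the canonical maps
  let ψAB : Cl I e →+* Cl KB (algebraMap A B e) := canMap I KB hIK e
  have hψAB := canMap_comp_algebraMap I KB hIK e
  let ψBC : Cl KB (algebraMap A B e) →+* Cl J (algebraMap B C (algebraMap A B e)) :=
    canMap KB J (le_of_eq hKJ) (algebraMap A B e)
  have hψBC := canMap_comp_algebraMap KB J (le_of_eq hKJ) (algebraMap A B e)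
  have hcompl := isAdicComplete_cl J (algebraMap B C (algebraMap A B e))
  have haway : ((Localization.awayMap (algebraMap B C) (algebraMap A B e)).comp
        (Localization.awayMap (algebraMap A B) e)) =
      awayMap' (algebraMap A C) e (algebraMap B C (algebraMap A B e)) hx' := by
    apply IsLocalization.ringHom_ext (Submonoid.powers e)
    refine RingHom.ext fun a => ?_
    simp only [RingHom.comp_apply, Localization.awayMap, IsLocalization.Away.map,
      IsLocalization.map_eq, awayMap'_algebraMap]
    exact congrArg _ (IsScalarTower.algebraMap_apply A B C a).symm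
  have hψ_eq : ψ = ψBC.comp ψAB := by
    have h1 : (ψBC.comp ψAB).comp (algebraMap (Localization.Away e) (Cl I e)) =
        ψ.comp (algebraMap (Localization.Away e) (Cl I e)) := by
      refine RingHom.ext fun y => ?_
      have e1 := RingHom.congr_fun hψAB y
      have e2 := RingHom.congr_fun hψBC (Localization.awayMap (algebraMap A B) e y)
      have e4 := RingHom.congr_fun hψ y
      have e5 := RingHom.congr_fun haway y
      simp only [RingHom.comp_apply] at e1 e2 e4 e5 ⊢
      rw [e4, ← e5]
      change ψBC (ψAB _) = _
      rw [e1, e2]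
    refine ringHom_ext (I.map (algebraMap A (Localization.Away e))) (IsNoetherian.noetherian _)
      _ _ (clIdeal J (algebraMap B C (algebraMap A B e))) ?_ h1.symm
    rw [hψ, ← Ideal.map_map]
    apply Ideal.map_mono
    rw [Ideal.map_map, awayMap'_comp_algebraMap, ← Ideal.map_map]
    apply Ideal.map_mono
    rw [← hKJ, IsScalarTower.algebraMap_eq A B C, ← Ideal.map_map]
    exact Ideal.map_mono hIK
  -- the prime `Q` of `B_{e}` below `q`
  have hqprime : q.asIdeal.IsPrime := q.2
  let Q : Ideal (Cl KB (algebraMap A B e)) := q.asIdeal.comap ψBC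
  have hQprime : Q.IsPrime := Ideal.comap_isPrime ψBC q.asIdeal
  have hKQ : ¬ clIdeal KB (algebraMap A B e) ≤ Q := by
    intro h
    apply hq.1
    rw [← map_canMap_clIdeal KB J hKJ (algebraMap A B e)]
    exact Ideal.map_le_iff_le_comap.mpr h
  have hflat1 : ((algebraMap (Cl KB (algebraMap A B e)) (Localization.AtPrime Q)).comp ψAB).Flat :=
    ringHom_flat_atPrime_of_forall_isRigClosed ψAB (clIdeal KB (algebraMap A B e))
      (fun q' hq' => hAB e ψAB hψAB q' hq') Q hKQ
  have hflat2 : (Localization.localRingHom Q q.asIdeal ψBC rfl).Flat :=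
    flat_localRingHom_of_flat_comp ψBC q.asIdeal Q rfl (hBC (algebraMap A B e) ψBC hψBC q hq)
  have hfinal : (algebraMap (Cl J (algebraMap B C (algebraMap A B e)))
      (Localization.AtPrime q.asIdeal)).comp ψ =
      (Localization.localRingHom Q q.asIdeal ψBC rfl).comp
        ((algebraMap (Cl KB (algebraMap A B e)) (Localization.AtPrime Q)).comp ψAB) := by
    refine RingHom.ext fun y => ?_
    rw [hψ_eq]
    simp only [RingHom.comp_apply]
    exact (Localization.localRingHom_to_map Q q.asIdeal ψBC rfl (ψAB y)).symm
  rw [hfinal]
  exact RingHom.Flat.comp hflat1 hflat2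

/-- **Composition of rig-flat morphisms.** -/
theorem rigFlatAt_comp (I : Ideal A) (KB : Ideal B) (J : Ideal C)
    (hIK : I.map (algebraMap A B) ≤ KB) (hKJ : KB.map (algebraMap B C) = J)
    (hAB : ∀ f : A, RigFlatAt I KB f) (hBC : ∀ g : B, RigFlatAt KB J g)
    (e : A) : RigFlatAt I J e := by
  intro ψe hψe qe hqe
  refine rigFlatAt_comp_aux I KB J hIK hKJ hAB hBC e (algebraMap A C e)
    (IsScalarTower.algebraMap_apply A B C e).symm rfl ψe ?_ qe hqe
  rw [awayMap'_eq_awayMap]
  exact hψe

end comp

end Groth.Agent.H57.CL
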