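import Mathlib
import Groth.Agent.H57.RigFlatComp

/-!
# Reductions of completed localizations (helper57)

`S_{g} ⧸ K S_{g}` inherits finiteness and unramifiedness over a base ring from `S ⧸ K`.
-/

set_option autoImplicit false
set_option linter.style.haveILetI false
universe u

namespace Groth.Agent.H57.CL

section

variable {R S : Type u} [CommRing R] [CommRing S] [Algebra R S] (K : Ideal S) (g : S)

theorem isScalarTower_quotient_away :
    IsScalarTower R (S ⧸ K)
      (Localization.Away g ⧸ K.map (algebraMap S (Localization.Away g))) :=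
  IsScalarTower.of_algebraMap_eq (fun r => by
    rw [IsScalarTower.algebraMap_apply R S (S ⧸ K),
      IsScalarTower.algebraMap_apply R S
        (Localization.Away g ⧸ K.map (algebraMap S (Localization.Away g))),
      ← IsScalarTower.algebraMap_apply S (S ⧸ K)])

/-- The canonical surjection `S_g ⧸ K S_g → S_{g} ⧸ K S_{g}`. -/
noncomputable def quotientToCl (K' : Ideal (Cl K g)) (hK' : K' = clIdeal K g) :
    (Localization.Away g ⧸ K.map (algebraMap S (Localization.Away g))) →ₐ[R] (Cl K g ⧸ K') :=
  Ideal.quotientMapₐ K' (IsScalarTower.toAlgHom R (Localization.Away g) (Cl K g))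
    (by
      rw [hK']
      exact Ideal.le_comap_map)

theorem quotientToCl_surjective (hK : K.FG) (K' : Ideal (Cl K g)) (hK' : K' = clIdeal K g) :
    Function.Surjective (quotientToCl (R := R) K g K' hK') := by
  intro y
  obtain ⟨y, rfl⟩ := Ideal.Quotient.mk_surjective y
  obtain ⟨r, hr⟩ := exists_sub_mem_map_pow (K.map (algebraMap S (Localization.Away g)))
    (hK.map _) 1 y
  refine ⟨Ideal.Quotient.mk _ r, ?_⟩
  rw [pow_one] at hr
  change Ideal.Quotient.mk K' (algebraMap (Localization.Away g) (Cl K g) r) = _
  rw [eq_comm, Ideal.Quotient.eq, hK']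
  exact hr

/-- `S_{g} ⧸ K S_{g}` is formally unramified over `R` if `S ⧸ K` is. -/
theorem formallyUnramified_cl_quotient [Algebra.FormallyUnramified R (S ⧸ K)] (hK : K.FG)
    (K' : Ideal (Cl K g)) (hK' : K' = clIdeal K g) :
    Algebra.FormallyUnramified R (Cl K g ⧸ K') := by
  have h1 : Algebra.FormallyUnramified S (Localization.Away g) :=
    Algebra.FormallyUnramified.of_isLocalization (Submonoid.powers g)
  have h2 : Algebra.FormallyUnramified (S ⧸ K)
      (Localization.Away g ⧸ K.map (algebraMap S (Localization.Away g))) := inferInstance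
  have tw := isScalarTower_quotient_away (R := R) K g
  have h3 : Algebra.FormallyUnramified R
      (Localization.Away g ⧸ K.map (algebraMap S (Localization.Away g))) :=
    Algebra.FormallyUnramified.comp R (S ⧸ K) _
  exact Algebra.FormallyUnramified.of_surjective (quotientToCl K g K' hK')
    (quotientToCl_surjective K g hK K' hK')

/-- `S_{g} ⧸ K S_{g}` is of finite type over `R` if `S ⧸ K` is. -/
theorem finiteType_cl_quotient (hft : Algebra.FiniteType R (S ⧸ K)) (hK : K.FG)
    (K' : Ideal (Cl K g)) (hK' : K' = clIdeal K g) :
    Algebra.FiniteType R (Cl K g ⧸ K') := by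
  have h1 : Algebra.FiniteType S (Localization.Away g) := inferInstance
  have h2 : Algebra.FiniteType S
      (Localization.Away g ⧸ K.map (algebraMap S (Localization.Away g))) :=
    Algebra.FiniteType.of_surjective (Ideal.Quotient.mkₐ S _) Ideal.Quotient.mk_surjective
  have h3 : Algebra.FiniteType (S ⧸ K)
      (Localization.Away g ⧸ K.map (algebraMap S (Localization.Away g))) :=
    Algebra.FiniteType.of_restrictScalars_finiteType S _ _
  have tw := isScalarTower_quotient_away (R := R) K g
  have h4 : Algebra.FiniteType R
      (Localization.Away g ⧸ K.map (algebraMap S (Localization.Away g))) :=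
    Algebra.FiniteType.trans hft h3
  exact Algebra.FiniteType.of_surjective (quotientToCl K g K' hK')
    (quotientToCl_surjective K g hK K' hK')

end

end Groth.Agent.H57.CL
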