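import Mathlib
import Groth.Agent.H2.LocalCrit

/-!
# Transfer of flatness along completed localizations (helper57)

General lemmas used for rig-flatness statements (Abbes, EGR 1.12).
-/

set_option autoImplicit false
set_option linter.style.haveILetI false
universe u
open scoped TensorProduct

namespace Groth.Agent.H57.RigFlat

section LemmaL

variable {A₀ R M : Type*} [CommRing A₀] [CommRing R] [Algebra A₀ R] [AddCommGroup M]
  [Module A₀ M] [Module R M] [IsScalarTower A₀ R M]

/-- If `𝔫 ⊗_{A₀} M → M` is injective, then `(𝔫R) ⊗_R M → M` is injective. -/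
theorem rTensor_map_injective (𝔫 : Ideal A₀)
    (h : Function.Injective ((𝔫.subtype : 𝔫 →ₗ[A₀] A₀).rTensor M)) (J : Ideal R)
    (hJ : J = 𝔫.map (algebraMap A₀ R)) :
    Function.Injective ((J.subtype : J →ₗ[R] R).rTensor M) := by
  subst hJ
  set J : Ideal R := 𝔫.map (algebraMap A₀ R) with hJdef
  -- the comparison map
  let f : 𝔫 →+ M →+ (J ⊗[R] M) :=
    { toFun := fun x =>
        { toFun := fun m => (⟨algebraMap A₀ R x, Ideal.mem_map_of_mem _ x.2⟩ : J) ⊗ₜ[R] m
          map_zero' := TensorProduct.tmul_zero _ _
          map_add' := fun m m' => TensorProduct.tmul_add _ _ _ }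
      map_zero' := by
        ext m
        have : (⟨algebraMap A₀ R ((0 : 𝔫) : A₀), Ideal.mem_map_of_mem _ (0 : 𝔫).2⟩ : J) = 0 := by
          apply Subtype.ext
          simp
        change (⟨algebraMap A₀ R ((0 : 𝔫) : A₀), _⟩ : J) ⊗ₜ[R] m = 0
        rw [this, TensorProduct.zero_tmul]
      map_add' := fun x y => by
        ext m
        have : (⟨algebraMap A₀ R ((x + y : 𝔫) : A₀), Ideal.mem_map_of_mem _ (x + y).2⟩ : J) =
            ⟨algebraMap A₀ R x, Ideal.mem_map_of_mem _ x.2⟩ +
              ⟨algebraMap A₀ R y, Ideal.mem_map_of_mem _ y.2⟩ := by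
          apply Subtype.ext
          simp
        change (⟨algebraMap A₀ R ((x + y : 𝔫) : A₀), _⟩ : J) ⊗ₜ[R] m = _ ⊗ₜ[R] m + _ ⊗ₜ[R] m
        rw [this, TensorProduct.add_tmul] }
  have hf : ∀ (a : A₀) (x : 𝔫) (m : M), f (a • x) m = f x (a • m) := by
    intro a x m
    change (⟨algebraMap A₀ R ((a • x : 𝔫) : A₀), _⟩ : J) ⊗ₜ[R] m =
      (⟨algebraMap A₀ R x, _⟩ : J) ⊗ₜ[R] (a • m)
    have : (⟨algebraMap A₀ R ((a • x : 𝔫) : A₀), Ideal.mem_map_of_mem _ (a • x).2⟩ : J) =
        (algebraMap A₀ R a) • (⟨algebraMap A₀ R x, Ideal.mem_map_of_mem _ x.2⟩ : J) := by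
      apply Subtype.ext
      simp [Algebra.smul_def]
    rw [this, TensorProduct.smul_tmul, algebraMap_smul]
  let s : 𝔫 ⊗[A₀] M →+ J ⊗[R] M := TensorProduct.liftAddHom f hf
  have hs : ∀ (x : 𝔫) (m : M), s (x ⊗ₜ m) =
      (⟨algebraMap A₀ R x, Ideal.mem_map_of_mem _ x.2⟩ : J) ⊗ₜ[R] m := fun x m => rfl
  -- surjectivity of `s`
  have hsurj : Function.Surjective s := by
    intro t
    induction t using TensorProduct.induction_on with
    | zero => exact ⟨0, map_zero s⟩
    | add t t' ht ht' =>
      obtain ⟨z, rfl⟩ := ht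
      obtain ⟨z', rfl⟩ := ht'
      exact ⟨z + z', map_add s z z'⟩
    | tmul y m =>
      obtain ⟨y, hy⟩ := y
      have key : ∀ (y : R) (hy : y ∈ Ideal.span (algebraMap A₀ R '' (𝔫 : Set A₀))) (m : M),
          ∃ z, s z = (⟨y, hy⟩ : J) ⊗ₜ[R] m := by
        intro y hy
        refine Submodule.span_induction
          (p := fun y hy => ∀ m : M, ∃ z, s z = (⟨y, hy⟩ : J) ⊗ₜ[R] m) ?_ ?_ ?_ ?_ hy
        · rintro y ⟨x, hx, rfl⟩ m
          exact ⟨(⟨x, hx⟩ : 𝔫) ⊗ₜ m, hs _ _⟩
        · intro m
          refine ⟨0, ?_⟩
          rw [map_zero]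
          have : (⟨0, J.zero_mem⟩ : J) = 0 := rfl
          exact (this ▸ (TensorProduct.zero_tmul _ m)).symm
        · intro y z hy hz ihy ihz m
          obtain ⟨z₁, h₁⟩ := ihy m
          obtain ⟨z₂, h₂⟩ := ihz m
          refine ⟨z₁ + z₂, ?_⟩
          rw [map_add, h₁, h₂, ← TensorProduct.add_tmul]
          rfl
        · intro r y hy ihy m
          obtain ⟨z₁, h₁⟩ := ihy (r • m)
          refine ⟨z₁, ?_⟩
          rw [h₁, ← TensorProduct.smul_tmul]
          rfl
      exact key y hy m
  -- compatibility of the composites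
  have hcomp : ∀ z : 𝔫 ⊗[A₀] M,
      TensorProduct.lid R M ((J.subtype : J →ₗ[R] R).rTensor M (s z)) =
        TensorProduct.lid A₀ M ((𝔫.subtype : 𝔫 →ₗ[A₀] A₀).rTensor M z) := by
    intro z
    induction z using TensorProduct.induction_on with
    | zero => simp
    | add z z' hz hz' => simp only [map_add, hz, hz']
    | tmul x m =>
      rw [hs]
      simp only [LinearMap.rTensor_tmul, Submodule.subtype_apply, TensorProduct.lid_tmul,
        algebraMap_smul]
  rw [injective_iff_map_eq_zero]
  intro y hy
  obtain ⟨z, rfl⟩ := hsurj y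
  have h0 : TensorProduct.lid A₀ M ((𝔫.subtype : 𝔫 →ₗ[A₀] A₀).rTensor M z) = 0 := by
    rw [← hcomp, hy, map_zero]
  have h1 : (𝔫.subtype : 𝔫 →ₗ[A₀] A₀).rTensor M z = 0 :=
    (TensorProduct.lid A₀ M).injective (h0.trans (map_zero _).symm)
  have h2 : z = 0 := h (h1.trans (map_zero _).symm)
  rw [h2, map_zero]

end LemmaL

section LocalCrit

/-- Flatness over `A'` of a Noetherian local `A'`-algebra `L` from flatness over `A`, when the
contraction `p'` of the maximal ideal of `L` to `A'` is generated by an ideal of `A`. -/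
theorem flat_of_flat_of_map_eq {A A' L : Type u} [CommRing A] [CommRing A'] [CommRing L]
    [IsNoetherianRing A'] [IsNoetherianRing L] [IsLocalRing L] [Algebra A A'] [Algebra A' L]
    [Algebra A L] [IsScalarTower A A' L] (p : Ideal A) (p' : Ideal A') [p'.IsPrime]
    (h1 : p' = p.map (algebraMap A A'))
    (h2 : p' = (IsLocalRing.maximalIdeal L).comap (algebraMap A' L)) [Module.Flat A L] :
    Module.Flat A' L := by
  have hunits : ∀ y : p'.primeCompl, IsUnit (algebraMap A' L y) := by
    intro y
    by_contra hy
    have hy' : algebraMap A' L y ∈ IsLocalRing.maximalIdeal L :=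
      (IsLocalRing.mem_maximalIdeal _).mpr hy
    have : (y : A') ∈ p' := (SetLike.ext_iff.mp h2 (y : A')).mpr hy'
    exact y.2 this
  let φ : Localization.AtPrime p' →+* L := IsLocalization.lift hunits
  let algRL : Algebra (Localization.AtPrime p') L := φ.toAlgebra
  have tw1 : IsScalarTower A' (Localization.AtPrime p') L :=
    IsScalarTower.of_algebraMap_eq (fun x => (IsLocalization.lift_eq hunits x).symm)
  have tw2 : IsScalarTower A (Localization.AtPrime p') L :=
    IsScalarTower.of_algebraMap_eq (fun a => by
      rw [IsScalarTower.algebraMap_apply A A' L, IsScalarTower.algebraMap_apply A' (Localization.AtPrime p') L,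
        ← IsScalarTower.algebraMap_apply A A' (Localization.AtPrime p')])
  have hm : IsLocalRing.maximalIdeal (Localization.AtPrime p') =
      p.map (algebraMap A (Localization.AtPrime p')) := by
    have e1 : IsLocalRing.maximalIdeal (Localization.AtPrime p') =
        p'.map (algebraMap A' (Localization.AtPrime p')) :=
      Localization.AtPrime.map_eq_maximalIdeal.symm
    have e2 : p'.map (algebraMap A' (Localization.AtPrime p')) =
        (p.map (algebraMap A A')).map (algebraMap A' (Localization.AtPrime p')) :=
      congrArg (Ideal.map (algebraMap A' (Localization.AtPrime p'))) h1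
    rw [e1, e2, Ideal.map_map, ← IsScalarTower.algebraMap_eq]
  have hNoeth : IsNoetherianRing (Localization.AtPrime p') :=
    IsLocalization.isNoetherianRing p'.primeCompl _ inferInstance
  have hI : (IsLocalRing.maximalIdeal (Localization.AtPrime p')).map
      (algebraMap (Localization.AtPrime p') L) ≤ Ideal.jacobson ⊥ := by
    rw [IsLocalRing.jacobson_eq_maximalIdeal ⊥ bot_ne_top,
      ← Localization.AtPrime.map_eq_maximalIdeal, Ideal.map_map, ← IsScalarTower.algebraMap_eq,
      Ideal.map_le_iff_le_comap]
    exact le_of_eq h2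
  have hT : Function.Injective
      ((IsLocalRing.maximalIdeal (Localization.AtPrime p')).subtype.rTensor L) :=
    rTensor_map_injective (A₀ := A) (R := Localization.AtPrime p') (M := L) p
      (Module.Flat.rTensor_preserves_injective_linearMap _ Subtype.val_injective) _ hm
  haveI : Module.Flat (Localization.AtPrime p' ⧸ IsLocalRing.maximalIdeal (Localization.AtPrime p'))
      ((Localization.AtPrime p' ⧸ IsLocalRing.maximalIdeal (Localization.AtPrime p'))
        ⊗[Localization.AtPrime p'] L) := by
    letI : Field (Localization.AtPrime p' ⧸ IsLocalRing.maximalIdeal (Localization.AtPrime p')) :=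
      Ideal.Quotient.field _
    infer_instance
  have hflatR : Module.Flat (Localization.AtPrime p') L :=
    Groth.Agent.H2.flat_of_rTensor_injective_of_flat_quotient (R := Localization.AtPrime p')
      (S := L) (M := L) (IsLocalRing.maximalIdeal (Localization.AtPrime p')) hI hT
  exact Module.Flat.trans A' (Localization.AtPrime p') L

/-- Transfer of flatness at a prime along a commutative square with `B → B'` flat. -/
theorem flat_atPrime_of_flat_atPrime_comap {A B A' B' : Type u} [CommRing A] [CommRing B]
    [CommRing A'] [CommRing B'] [IsNoetherianRing A'] [IsNoetherianRing B'] [Algebra A B]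
    [Algebra A A'] [Algebra B B'] [Algebra A' B'] [Algebra A B'] [IsScalarTower A B B']
    [IsScalarTower A A' B'] [Module.Flat B B'] (q' : Ideal B') [q'.IsPrime]
    (hflat : Module.Flat A (Localization.AtPrime (q'.comap (algebraMap B B'))))
    (h3 : q'.comap (algebraMap A' B') =
      ((q'.comap (algebraMap A' B')).comap (algebraMap A A')).map (algebraMap A A')) :
    Module.Flat A' (Localization.AtPrime q') := by
  have hNoeth : IsNoetherianRing (Localization.AtPrime q') :=
    IsLocalization.isNoetherianRing q'.primeCompl _ inferInstance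
  haveI hlies : q'.LiesOver (q'.comap (algebraMap B B')) := ⟨rfl⟩
  letI := Localization.AtPrime.algebraOfLiesOver (q'.comap (algebraMap B B')) q'
  have hfl1 : Module.Flat (Localization.AtPrime (q'.comap (algebraMap B B')))
      (Localization.AtPrime q') := inferInstance
  have htw : IsScalarTower A (Localization.AtPrime (q'.comap (algebraMap B B')))
      (Localization.AtPrime q') := inferInstance
  have hflA : Module.Flat A (Localization.AtPrime q') :=
    Module.Flat.trans A (Localization.AtPrime (q'.comap (algebraMap B B'))) (Localization.AtPrime q')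
  have tw3 : IsScalarTower A A' (Localization.AtPrime q') :=
    IsScalarTower.of_algebraMap_eq (fun a => by
      rw [IsScalarTower.algebraMap_apply A B' (Localization.AtPrime q'),
        IsScalarTower.algebraMap_apply A A' B',
        ← IsScalarTower.algebraMap_apply A' B' (Localization.AtPrime q')])
  refine flat_of_flat_of_map_eq (A := A) (A' := A') (L := Localization.AtPrime q')
    ((q'.comap (algebraMap A' B')).comap (algebraMap A A')) (q'.comap (algebraMap A' B')) h3 ?_
  rw [IsScalarTower.algebraMap_eq A' B' (Localization.AtPrime q'), ← Ideal.comap_comap]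
  exact congrArg (Ideal.comap (algebraMap A' B'))
    (Localization.AtPrime.under_maximalIdeal (I := q')).symm

end LocalCrit

end Groth.Agent.H57.RigFlat
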