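import Mathlib
import Groth.Agent.H57.RigFlat

/-!
# Fibre criterion, localized form (helper57)
-/

set_option autoImplicit false
set_option linter.style.haveILetI false
universe u
open scoped TensorProduct

namespace Groth.Agent.H57.RigFlat

/-- Flatness over `A'` of a Noetherian local `A'`-algebra `L` from flatness over `A`, when the
maximal ideal of `A'_{p'}` (`p'` the contraction of the maximal ideal of `L`) is generated by an
ideal of `A`. -/
theorem flat_of_flat_of_maximalIdeal_eq {A A' L : Type u} [CommRing A] [CommRing A'] [CommRing L]
    [IsNoetherianRing A'] [IsNoetherianRing L] [IsLocalRing L] [Algebra A A'] [Algebra A' L]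
    [Algebra A L] [IsScalarTower A A' L] (p : Ideal A) (p' : Ideal A') [p'.IsPrime]
    (hm : IsLocalRing.maximalIdeal (Localization.AtPrime p') =
      p.map (algebraMap A (Localization.AtPrime p')))
    (h2 : p' = (IsLocalRing.maximalIdeal L).comap (algebraMap A' L)) [Module.Flat A L] :
    Module.Flat A' L := by
  have hunits : ∀ y : p'.primeCompl, IsUnit (algebraMap A' L y) := by
    intro y
    by_contra hy
    have hy' : algebraMap A' L y ∈ IsLocalRing.maximalIdeal L :=
      (IsLocalRing.mem_maximalIdeal _).mpr hy
    have : (y : A') ∈ p' := (SetLike.ext_iff.mp h2 (y : A')).mpr hy'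
    exact y.2 this
  let φ : Localization.AtPrime p' →+* L := IsLocalization.lift hunits
  let algRL : Algebra (Localization.AtPrime p') L := φ.toAlgebra
  have tw1 : IsScalarTower A' (Localization.AtPrime p') L :=
    IsScalarTower.of_algebraMap_eq (fun x => (IsLocalization.lift_eq hunits x).symm)
  have tw2 : IsScalarTower A (Localization.AtPrime p') L :=
    IsScalarTower.of_algebraMap_eq (fun a => by
      rw [IsScalarTower.algebraMap_apply A A' L, IsScalarTower.algebraMap_apply A' (Localization.AtPrime p') L,
        ← IsScalarTower.algebraMap_apply A A' (Localization.AtPrime p')])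
  have hNoeth : IsNoetherianRing (Localization.AtPrime p') :=
    IsLocalization.isNoetherianRing p'.primeCompl _ inferInstance
  have hI : (IsLocalRing.maximalIdeal (Localization.AtPrime p')).map
      (algebraMap (Localization.AtPrime p') L) ≤ Ideal.jacobson ⊥ := by
    rw [IsLocalRing.jacobson_eq_maximalIdeal ⊥ bot_ne_top,
      ← Localization.AtPrime.map_eq_maximalIdeal, Ideal.map_map, ← IsScalarTower.algebraMap_eq,
      Ideal.map_le_iff_le_comap]
    exact le_of_eq h2
  have hT : Function.Injective
      ((IsLocalRing.maximalIdeal (Localization.AtPrime p')).subtype.rTensor L) :=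
    rTensor_map_injective (A₀ := A) (R := Localization.AtPrime p') (M := L) p
      (Module.Flat.rTensor_preserves_injective_linearMap _ Subtype.val_injective) _ hm
  haveI : Module.Flat (Localization.AtPrime p' ⧸ IsLocalRing.maximalIdeal (Localization.AtPrime p'))
      ((Localization.AtPrime p' ⧸ IsLocalRing.maximalIdeal (Localization.AtPrime p'))
        ⊗[Localization.AtPrime p'] L) := by
    letI : Field (Localization.AtPrime p' ⧸ IsLocalRing.maximalIdeal (Localization.AtPrime p')) :=
      Ideal.Quotient.field _
    infer_instance
  have hflatR : Module.Flat (Localization.AtPrime p') L :=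
    Groth.Agent.H2.flat_of_rTensor_injective_of_flat_quotient (R := Localization.AtPrime p')
      (S := L) (M := L) (IsLocalRing.maximalIdeal (Localization.AtPrime p')) hI hT
  exact Module.Flat.trans A' (Localization.AtPrime p') L

end Groth.Agent.H57.RigFlat
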