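import Mathlib
import Groth.Agent.H57.RigFlatComp
import Groth.Agent.H44.RigComap
import Groth.Agent.H10.FlatDescent

/-!
# Rig-flatness: faithfully flat descent (helper57)
-/

set_option autoImplicit false
set_option linter.style.haveILetI false
universe u
open scoped TensorProduct

namespace Groth.Agent.H57.CL

open Groth.Agent.H44

section maximal

variable {R S : Type u} [CommRing R] [CommRing S] (φ : R →+* S) (J : Ideal R) (JS : Ideal S)

/-- The contraction of a maximal ideal of the completion is maximal. -/
theorem isMaximal_comap_algebraMap (hJ : J.FG) (m : Ideal (AdicCompletion J R)) [hm : m.IsMaximal] :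
    (m.comap (algebraMap R (AdicCompletion J R))).IsMaximal ∧
      J ≤ m.comap (algebraMap R (AdicCompletion J R)) ∧
      (m.comap (algebraMap R (AdicCompletion J R))).map (algebraMap R (AdicCompletion J R)) = m := by
  have hcompl := AdicCompletion.isAdicComplete_self J hJ
  have hKm : J.map (algebraMap R (AdicCompletion J R)) ≤ m :=
    (IsAdicComplete.le_jacobson_bot _).trans (sInf_le ⟨bot_le, hm⟩)
  have hsurj : Function.Surjective ((Ideal.Quotient.mk m).comp (algebraMap R (AdicCompletion J R))) := by
    intro y
    obtain ⟨y, rfl⟩ := Ideal.Quotient.mk_surjective y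
    obtain ⟨r, hr⟩ := exists_sub_mem_map_pow J hJ 1 y
    refine ⟨r, ?_⟩
    rw [RingHom.comp_apply, eq_comm, Ideal.Quotient.eq]
    rw [pow_one] at hr
    exact hKm hr
  have hmax : (m.comap (algebraMap R (AdicCompletion J R))).IsMaximal := by
    have h1 : m.comap (algebraMap R (AdicCompletion J R)) =
        (⊥ : Ideal (AdicCompletion J R ⧸ m)).comap
          ((Ideal.Quotient.mk m).comp (algebraMap R (AdicCompletion J R))) := by
      rw [← Ideal.comap_comap, ← RingHom.ker_eq_comap_bot, Ideal.mk_ker]
    rw [h1]
    have : (⊥ : Ideal (AdicCompletion J R ⧸ m)).IsMaximal := by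
      letI := Ideal.Quotient.field m
      exact Ideal.bot_isMaximal (K := AdicCompletion J R ⧸ m)
    exact Ideal.comap_isMaximal_of_surjective _ hsurj
  have hJle : J ≤ m.comap (algebraMap R (AdicCompletion J R)) :=
    Ideal.map_le_iff_le_comap.mp hKm
  refine ⟨hmax, hJle, ?_⟩
  have hmax' := AdicCompletion.isMaximal_map_of_le J _ hJle hJ
  exact hmax'.eq_of_le hm.ne_top Ideal.map_comap_le

/-- Maximal ideals of a completion do not generate the unit ideal in the completion of a ring in
which the corresponding maximal ideals do not. -/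
theorem map_complMap_ne_top (hJ : J.FG) (hJS : JS.FG) (h : J.map φ ≤ JS)
    (H : ∀ m₀ : Ideal R, m₀.IsMaximal → J ≤ m₀ → m₀.map φ ⊔ JS ≠ ⊤)
    (m : Ideal (AdicCompletion J R)) [hm : m.IsMaximal] :
    m.map (FSch.complMap J JS φ h) ≠ ⊤ := by
  obtain ⟨hmax, hJle, hmap⟩ := isMaximal_comap_algebraMap J hJ m
  obtain ⟨n₀, hn₀max, hn₀⟩ := Ideal.exists_le_maximal _ (H _ hmax hJle)
  have hn₀max' := AdicCompletion.isMaximal_map_of_le JS n₀ (le_sup_right.trans hn₀) hJS
  have hcomp : (FSch.complMap J JS φ h).comp (algebraMap R (AdicCompletion J R)) =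
      (algebraMap S (AdicCompletion JS S)).comp φ :=
    RingHom.ext (Groth.Agent.H20.complMap_of J JS φ h)
  have hle : m.map (FSch.complMap J JS φ h) ≤ n₀.map (algebraMap S (AdicCompletion JS S)) := by
    rw [← hmap, Ideal.map_map, hcomp, ← Ideal.map_map]
    exact Ideal.map_mono (le_sup_left.trans hn₀)
  intro htop
  exact hn₀max'.ne_top (top_le_iff.mp (htop ▸ hle))

end maximal

section away

variable {B B' : Type u} [CommRing B] [CommRing B'] [Algebra B B'] [Module.FaithfullyFlat B B']

/-- Along a faithfully flat map, prime ideals of a principal localization do not generate the unit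
ideal. -/
theorem map_awayMap'_ne_top (g : B) (g' : B') (hg : algebraMap B B' g = g')
    (m₀ : Ideal (Localization.Away g)) [hm₀ : m₀.IsPrime] :
    m₀.map (awayMap' (algebraMap B B') g g' hg) ≠ ⊤ := by
  have hm₁prime : (m₀.comap (algebraMap B (Localization.Away g))).IsPrime :=
    Ideal.comap_isPrime _ _
  obtain ⟨n₁, hn₁prime, hn₁over⟩ := Ideal.exists_isPrime_liesOver_of_faithfullyFlat (B := B')
    (m₀.comap (algebraMap B (Localization.Away g)))
  have hn₁ : m₀.comap (algebraMap B (Localization.Away g)) = n₁.comap (algebraMap B B') :=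
    hn₁over.over
  have hm₀eq : (m₀.comap (algebraMap B (Localization.Away g))).map
      (algebraMap B (Localization.Away g)) = m₀ :=
    IsLocalization.map_under (Submonoid.powers g) _ m₀
  have hle : m₀.map (awayMap' (algebraMap B B') g g' hg) ≤
      n₁.map (algebraMap B' (Localization.Away g')) := by
    rw [← hm₀eq, Ideal.map_map, awayMap'_comp_algebraMap, ← Ideal.map_map, hn₁]
    exact Ideal.map_mono Ideal.map_comap_le
  have hne : n₁.map (algebraMap B' (Localization.Away g')) ≠ ⊤ := by
    rw [IsLocalization.map_algebraMap_ne_top_iff_disjoint (Submonoid.powers g')]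
    rw [Set.disjoint_left]
    rintro x ⟨k, rfl⟩ hx
    have hg'n : g' ∈ n₁ := hn₁prime.mem_of_pow_mem k hx
    have hgm : g ∈ m₀.comap (algebraMap B (Localization.Away g)) := by
      rw [hn₁, Ideal.mem_comap, hg]
      exact hg'n
    exact hm₀.ne_top (Ideal.eq_top_of_isUnit_mem _ hgm
      (IsLocalization.Away.algebraMap_isUnit g))
  intro htop
  exact hne (top_le_iff.mp (htop ▸ hle))

end away

section lift

variable {B B' : Type u} [CommRing B] [CommRing B'] [Algebra B B'] [IsNoetherianRing B]
  [IsNoetherianRing B'] [Module.FaithfullyFlat B B']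

omit [IsNoetherianRing B] [IsNoetherianRing B'] [Module.FaithfullyFlat B B'] in
/-- The image of the ideal of definition under `clMap` generates the ideal of definition. -/
theorem map_clMap_clIdeal (J : Ideal B) (J' : Ideal B') (hJ : J.map (algebraMap B B') = J')
    (g : B) (g' : B') (hg : algebraMap B B' g = g') :
    (clIdeal J g).map (clMap (algebraMap B B') J J' (le_of_eq hJ) g g' hg) = clIdeal J' g' := by
  rw [clIdeal, Ideal.map_map, clMap_comp_algebraMap, ← Ideal.map_map, Ideal.map_map (I := J),
    awayMap'_comp_algebraMap, ← Ideal.map_map (I := J), hJ]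

/-- Rig-closed primes lift along the completed localization of a faithfully flat map. -/
theorem exists_isRigClosed_comap_clMap_eq (J : Ideal B) (J' : Ideal B')
    (hJ : J.map (algebraMap B B') = J') (g : B) (g' : B') (hg : algebraMap B B' g = g')
    (q : PrimeSpectrum (Cl J g)) (hq : IsRigClosed (clIdeal J g) q) :
    ∃ q' : PrimeSpectrum (Cl J' g'), IsRigClosed (clIdeal J' g') q' ∧
      q'.asIdeal.comap (clMap (algebraMap B B') J J' (le_of_eq hJ) g g' hg) = q.asIdeal := by
  have hN1 : IsNoetherianRing (Localization.Away g) :=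
    IsLocalization.isNoetherianRing (Submonoid.powers g) _ inferInstance
  have hN2 : IsNoetherianRing (Localization.Away g') :=
    IsLocalization.isNoetherianRing (Submonoid.powers g') _ inferInstance
  have hflatB : Module.Flat B B' := inferInstance
  have hβflat : (clMap (algebraMap B B') J J' (le_of_eq hJ) g g' hg).Flat :=
    flat_clMap J J' (le_of_eq hJ) g g' hg
  have hqprime : q.asIdeal.IsPrime := q.2
  obtain ⟨m, hmmax, hqm⟩ := Ideal.exists_le_maximal q.asIdeal hqprime.ne_top
  -- a prime of `B'_{g'}` over `m`
  have hne : m.map (clMap (algebraMap B B') J J' (le_of_eq hJ) g g' hg) ≠ ⊤ := by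
    refine map_complMap_ne_top _ _ _ (IsNoetherian.noetherian _) (IsNoetherian.noetherian _) _
      (fun m₀ hm₀ hJm₀ => ?_) m
    have hm₀prime : m₀.IsPrime := hm₀.isPrime
    have hle : (J'.map (algebraMap B' (Localization.Away g'))) ≤
        m₀.map (awayMap' (algebraMap B B') g g' hg) := by
      rw [← hJ, Ideal.map_map, ← awayMap'_comp_algebraMap (algebraMap B B') g g' hg,
        ← Ideal.map_map]
      exact Ideal.map_mono hJm₀
    rw [sup_eq_left.mpr hle]
    exact map_awayMap'_ne_top g g' hg m₀
  obtain ⟨Q, hQmax, hQ⟩ := Ideal.exists_le_maximal _ hne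
  have hQprime : Q.IsPrime := hQmax.isPrime
  letI alg : Algebra (Cl J g) (Cl J' g') :=
    (clMap (algebraMap B B') J J' (le_of_eq hJ) g g' hg).toAlgebra
  have hflat : Module.Flat (Cl J g) (Cl J' g') := RingHom.flat_algebraMap_iff.mp hβflat
  have hqQ : q.asIdeal ≤ (PrimeSpectrum.comap (algebraMap (Cl J g) (Cl J' g')) ⟨Q, hQprime⟩).asIdeal :=
    hqm.trans (Ideal.map_le_iff_le_comap.mp hQ)
  obtain ⟨q', hq', hq'q⟩ := exists_isRigClosed_comap_eq (clIdeal J g) q hq ⟨Q, hQprime⟩ hqQ
  refine ⟨q', ?_, congrArg PrimeSpectrum.asIdeal hq'q⟩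
  have : (clIdeal J g).map (algebraMap (Cl J g) (Cl J' g')) = clIdeal J' g' :=
    map_clMap_clIdeal J J' hJ g g' hg
  rw [← this]
  exact hq'

end lift

section descent

/-- Rig-flatness at `f` with the element of the target generalized. -/
theorem RigFlatAt.general {R S : Type u} [CommRing R] [CommRing S] [Algebra R S] {J : Ideal R}
    {JS : Ideal S} {f : R} (H : RigFlatAt J JS f) (x : S) (hx : algebraMap R S f = x)
    (ψ : Cl J f →+* Cl JS x)
    (hψ : ψ.comp (algebraMap (Localization.Away f) (Cl J f)) =
      (algebraMap (Localization.Away x) (Cl JS x)).comp (awayMap' (algebraMap R S) f x hx))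
    (q : PrimeSpectrum (Cl JS x)) (hq : IsRigClosed (clIdeal JS x) q) :
    ((algebraMap (Cl JS x) (Localization.AtPrime q.asIdeal)).comp ψ).Flat := by
  subst hx
  rw [awayMap'_eq_awayMap] at hψ
  exact H ψ hψ q hq

variable {A B A' B' : Type u} [CommRing A] [CommRing B] [CommRing A'] [CommRing B']
  [Algebra A B] [Algebra A A'] [Algebra A B'] [Algebra B B'] [Algebra A' B']
  [IsScalarTower A B B'] [IsScalarTower A A' B']
  [IsNoetherianRing A] [IsNoetherianRing B] [IsNoetherianRing A'] [IsNoetherianRing B']
  [Module.Flat A A'] [Module.FaithfullyFlat B B']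

/-- **Faithfully flat descent of rig-flatness.** -/
theorem rigFlatAt_descent (I : Ideal A) (KB : Ideal B) (KA' : Ideal A') (J' : Ideal B')
    (hIKB : I.map (algebraMap A B) ≤ KB) (hIKA' : I.map (algebraMap A A') ≤ KA')
    (hKB : KB.map (algebraMap B B') = J') (hKA' : KA'.map (algebraMap A' B') ≤ J')
    (hA'B' : ∀ f' : A', RigFlatAt KA' J' f') (f : A) : RigFlatAt I KB f := by
  intro ψf hψf q hq
  have hNA : IsNoetherianRing (Localization.Away f) :=
    IsLocalization.isNoetherianRing (Submonoid.powers f) _ inferInstance
  have hx : algebraMap A' B' (algebraMap A A' f) = algebraMap B B' (algebraMap A B f) := by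
    rw [← IsScalarTower.algebraMap_apply A A' B', ← IsScalarTower.algebraMap_apply A B B']
  have hflatB : Module.Flat B B' := inferInstance
  -- the four maps
  let α : Cl I f →+* Cl KA' (algebraMap A A' f) := canMap I KA' hIKA' f
  have hα := canMap_comp_algebraMap I KA' hIKA' f
  have hαflat : α.Flat := flat_clMap I KA' hIKA' f _ rfl
  let β : Cl KB (algebraMap A B f) →+* Cl J' (algebraMap B B' (algebraMap A B f)) :=
    clMap (algebraMap B B') KB J' (le_of_eq hKB) (algebraMap A B f) _ rfl
  have hβ := clMap_comp_algebraMap (algebraMap B B') KB J' (le_of_eq hKB) (algebraMap A B f) _ rfl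
  have hβflat : β.Flat := flat_clMap KB J' (le_of_eq hKB) (algebraMap A B f) _ rfl
  let ψ' : Cl KA' (algebraMap A A' f) →+* Cl J' (algebraMap B B' (algebraMap A B f)) :=
    clMap (algebraMap A' B') KA' J' hKA' (algebraMap A A' f) _ hx
  have hψ' := clMap_comp_algebraMap (algebraMap A' B') KA' J' hKA' (algebraMap A A' f) _ hx
  have hcompl := isAdicComplete_cl J' (algebraMap B B' (algebraMap A B f))
  -- commutativity
  have hcomm : β.comp ψf = ψ'.comp α := by
    have h1 : (β.comp ψf).comp (algebraMap (Localization.Away f) (Cl I f)) =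
        (ψ'.comp α).comp (algebraMap (Localization.Away f) (Cl I f)) := by
      have h2 : ((awayMap' (algebraMap B B') (algebraMap A B f) _ rfl).comp
            (Localization.awayMap (algebraMap A B) f)) =
          ((awayMap' (algebraMap A' B') (algebraMap A A' f) _ hx).comp
            (Localization.awayMap (algebraMap A A') f)) := by
        apply IsLocalization.ringHom_ext (Submonoid.powers f)
        refine RingHom.ext fun a => ?_
        simp only [RingHom.comp_apply, Localization.awayMap, IsLocalization.Away.map,
          IsLocalization.map_eq, awayMap'_algebraMap]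
        exact congrArg _ ((IsScalarTower.algebraMap_apply A B B' a).symm.trans
          (IsScalarTower.algebraMap_apply A A' B' a))
      refine RingHom.ext fun y => ?_
      have e1 := RingHom.congr_fun hψf y
      have e2 := RingHom.congr_fun hβ (Localization.awayMap (algebraMap A B) f y)
      have e3 := RingHom.congr_fun hα y
      have e4 := RingHom.congr_fun hψ' (Localization.awayMap (algebraMap A A') f y)
      have e5 := RingHom.congr_fun h2 y
      simp only [RingHom.comp_apply] at e1 e2 e3 e4 e5 ⊢
      rw [e1]
      change _ = ψ' (α _)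
      rw [e3, e2, e4, e5]
    refine ringHom_ext (I.map (algebraMap A (Localization.Away f))) (IsNoetherian.noetherian _)
      _ _ (clIdeal J' (algebraMap B B' (algebraMap A B f))) ?_ h1
    rw [RingHom.comp_assoc, hψf, ← RingHom.comp_assoc, hβ, RingHom.comp_assoc, ← Ideal.map_map]
    apply Ideal.map_mono
    rw [Ideal.map_map, RingHom.comp_assoc]
    have h3 : (Localization.awayMap (algebraMap A B) f).comp (algebraMap A (Localization.Away f)) =
        (algebraMap B (Localization.Away (algebraMap A B f))).comp (algebraMap A B) := by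
      ext a
      simp [Localization.awayMap, IsLocalization.Away.map]
    rw [h3, ← RingHom.comp_assoc, awayMap'_comp_algebraMap, RingHom.comp_assoc, ← Ideal.map_map,
      ← Ideal.map_map]
    apply Ideal.map_mono
    rw [← hKB]
    exact Ideal.map_mono hIKB
  -- lift `q`
  obtain ⟨q', hq', hq'q⟩ := exists_isRigClosed_comap_clMap_eq KB J' hKB (algebraMap A B f) _ rfl q hq
  have hqprime : q.asIdeal.IsPrime := q.2
  have hq'prime : q'.asIdeal.IsPrime := q'.2
  have hH := (hA'B' (algebraMap A A' f)).general _ hx ψ' hψ' q' hq'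
  -- the local homomorphism
  have hloc : (algebraMap (Cl J' (algebraMap B B' (algebraMap A B f)))
      (Localization.AtPrime q'.asIdeal)).Flat :=
    RingHom.flat_algebraMap_iff.mpr (IsLocalization.flat _ q'.asIdeal.primeCompl)
  have hρflat : (Localization.localRingHom q.asIdeal q'.asIdeal β hq'q.symm).Flat :=
    flat_localRingHom_of_flat_comp β q'.asIdeal q.asIdeal hq'q.symm (RingHom.Flat.comp hβflat hloc)
  have hρff : (Localization.localRingHom q.asIdeal q'.asIdeal β hq'q.symm).FaithfullyFlat := by
    letI := (Localization.localRingHom q.asIdeal q'.asIdeal β hq'q.symm).toAlgebra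
    have hfl : Module.Flat (Localization.AtPrime q.asIdeal) (Localization.AtPrime q'.asIdeal) :=
      RingHom.flat_algebraMap_iff.mp hρflat
    have hlh : IsLocalHom (algebraMap (Localization.AtPrime q.asIdeal)
        (Localization.AtPrime q'.asIdeal)) :=
      Localization.isLocalHom_localRingHom q.asIdeal q'.asIdeal β hq'q.symm
    exact RingHom.faithfullyFlat_algebraMap_iff.mpr Module.FaithfullyFlat.of_flat_of_isLocalHom
  refine Groth.Agent.H10.ringHomFlat_of_comp_of_faithfullyFlat _ _ hρff ?_
  have hfinal : (Localization.localRingHom q.asIdeal q'.asIdeal β hq'q.symm).comp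
      ((algebraMap (Cl KB (algebraMap A B f)) (Localization.AtPrime q.asIdeal)).comp ψf) =
      ((algebraMap (Cl J' (algebraMap B B' (algebraMap A B f)))
        (Localization.AtPrime q'.asIdeal)).comp ψ').comp α := by
    refine RingHom.ext fun y => ?_
    have e1 := RingHom.congr_fun hcomm y
    simp only [RingHom.comp_apply] at e1 ⊢
    rw [Localization.localRingHom_to_map, e1]
  rw [hfinal]
  exact RingHom.Flat.comp hαflat hH

end descent

end Groth.Agent.H57.CL
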