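import Mathlib
import Groth.Agent.H44.ComplLocRig
import Groth.Agent.S8804

/-!
# Rig-closed primes and étale reductions (helper57)
-/

set_option autoImplicit false
set_option linter.style.haveILetI false
universe u
open scoped TensorProduct

namespace Groth.Agent.H57.RigUnram

open Groth.Agent.H44

/-- Nakayama for formally unramified algebras: if `S` is essentially of finite type over `A`,
`IS` lies in the Jacobson radical of `S` and `S ⧸ IS` is formally unramified over `A`, then `S` is
formally unramified over `A`. -/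
theorem formallyUnramified_of_quotient {A S : Type*} [CommRing A] [CommRing S] [Algebra A S]
    [Algebra.EssFiniteType A S] (I : Ideal A)
    (hI : I.map (algebraMap A S) ≤ Ideal.jacobson ⊥)
    [Algebra.FormallyUnramified A (S ⧸ I.map (algebraMap A S))] :
    Algebra.FormallyUnramified A S := by
  constructor
  set J := I.map (algebraMap A S) with hJ
  have hsub : Subsingleton ((S ⧸ J) ⊗[S] Ω[S⁄A]) := by
    refine subsingleton_of_forall_eq 0 fun x ↦ ?_
    obtain ⟨x, rfl⟩ := (KaehlerDifferential.exact_kerCotangentToTensor_mapBaseChange A S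
      (S ⧸ J) Ideal.Quotient.mk_surjective x).mp (Subsingleton.elim _ _)
    obtain ⟨⟨x, hx⟩, rfl⟩ := Ideal.toCotangent_surjective _ x
    simp only [KaehlerDifferential.kerCotangentToTensor_toCotangent]
    replace hx : x ∈ J := by simpa using hx
    rw [hJ, Ideal.map] at hx
    induction hx using Submodule.span_induction with
    | zero => simp
    | mem x h => obtain ⟨x, hx, rfl⟩ := h; simp
    | add x y hx hy _ _ => simp [*, TensorProduct.tmul_add]
    | smul a x hx ih =>
      have hx' : x ∈ J := hx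
      have : (Ideal.Quotient.mk J) x = 0 := Ideal.Quotient.eq_zero_iff_mem.mpr hx'
      simp only [smul_eq_mul, Derivation.leibniz, TensorProduct.tmul_add, TensorProduct.tmul_smul,
        ih, smul_zero, zero_add]
      rw [TensorProduct.smul_tmul', Algebra.smul_def, mul_one]
      change (Ideal.Quotient.mk J x) ⊗ₜ[S] _ = 0
      rw [this, TensorProduct.zero_tmul]
  have e := TensorProduct.quotTensorEquivQuotSMul (Ω[S⁄A]) J
  have hsub2 : Subsingleton (Ω[S⁄A] ⧸ (J • ⊤ : Submodule S (Ω[S⁄A]))) := e.symm.subsingleton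
  have htop : (J • ⊤ : Submodule S (Ω[S⁄A])) = ⊤ := Submodule.Quotient.subsingleton_iff.mp hsub2
  have hbot : (⊤ : Submodule S (Ω[S⁄A])) = ⊥ :=
    Submodule.eq_bot_of_le_smul_of_le_jacobson_bot J ⊤ Module.Finite.fg_top (le_of_eq htop.symm) hI
  refine ⟨fun x y => ?_⟩
  have hx : x ∈ (⊤ : Submodule S (Ω[S⁄A])) := trivial
  have hy : y ∈ (⊤ : Submodule S (Ω[S⁄A])) := trivial
  rw [hbot, Submodule.mem_bot] at hx hy
  rw [hx, hy]

section finite

variable {A : Type u} [CommRing A] [IsNoetherianRing A] (I : Ideal A) [IsAdicComplete I A]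
  {B : Type u} [CommRing B] [Algebra A B] [IsNoetherianRing B]
  [IsAdicComplete (I.map (algebraMap A B)) B]

omit [IsNoetherianRing A] in
/-- complete Nakayama for quotients of `B` (no primality needed). -/
theorem finite_quotient_of_finite_quotient_sup (Q : Ideal B)
    (hfin : Module.Finite A (B ⧸ (Q ⊔ I.map (algebraMap A B)))) :
    Module.Finite A (B ⧸ Q) := by
  classical
  have hcompl : IsAdicComplete (I.map (algebraMap A B)) (B ⧸ Q) :=
    isAdicComplete_quotient_module (I.map (algebraMap A B)) Q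
  have hhaus : IsHausdorff I (B ⧸ Q) :=
    (IsHausdorff.map_algebraMap_iff (S := B)).mp hcompl.toIsHausdorff
  obtain ⟨n, s, hs⟩ := Module.Finite.exists_fin (R := A)
    (M := B ⧸ (Q ⊔ I.map (algebraMap A B)))
  have hlift : ∀ i, ∃ b : B, Ideal.Quotient.mk (Q ⊔ I.map (algebraMap A B)) b = s i :=
    fun i => Ideal.Quotient.mk_surjective (s i)
  choose b hb using hlift
  refine finite_of_exists_approx I (B ⧸ Q)
    (fun i => Ideal.Quotient.mk Q (b i)) (fun y => ?_)
  obtain ⟨y, rfl⟩ := Ideal.Quotient.mk_surjective y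
  have hy : Ideal.Quotient.mk (Q ⊔ I.map (algebraMap A B)) y ∈
      Submodule.span A (Set.range s) := by rw [hs]; trivial
  obtain ⟨a, ha⟩ := (Submodule.mem_span_range_iff_exists_fun A).mp hy
  refine ⟨a, ?_⟩
  have h1 : y - ∑ i, a i • b i ∈ Q ⊔ I.map (algebraMap A B) := by
    rw [← Ideal.Quotient.eq, map_sum, ← ha]
    apply Finset.sum_congr rfl
    intro i _
    rw [← hb i, Algebra.smul_def, Algebra.smul_def, map_mul]
    rfl
  obtain ⟨x, hx, z, hz, hxz⟩ := Submodule.mem_sup.mp h1
  have h2 : Ideal.Quotient.mk Q y - ∑ i, a i • Ideal.Quotient.mk Q (b i) =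
      Ideal.Quotient.mk Q z := by
    have h3 : ∑ i, a i • Ideal.Quotient.mk Q (b i) =
        Ideal.Quotient.mk Q (∑ i, a i • b i) := by
      rw [map_sum]
      apply Finset.sum_congr rfl
      intro i _
      rw [Algebra.smul_def, Algebra.smul_def, map_mul]
      rfl
    rw [h3, ← map_sub, ← hxz, map_add, Ideal.Quotient.eq_zero_iff_mem.mpr hx, zero_add]
  rw [h2]
  have hz' : z ∈ (I • ⊤ : Submodule A B) := by
    rw [Ideal.smul_top_eq_map]
    exact hz
  have h4 : (Ideal.Quotient.mkₐ A Q).toLinearMap z ∈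
      Submodule.map (Ideal.Quotient.mkₐ A Q).toLinearMap (I • ⊤ : Submodule A B) :=
    Submodule.mem_map_of_mem hz'
  rw [Submodule.map_smul''] at h4
  exact Submodule.smul_mono le_rfl le_top h4

/-- powers of elements of a maximal ideal above a rig-closed prime `p` lie in `p ⊔ I`. -/
theorem exists_pow_mem_sup (p : PrimeSpectrum A) (hp : IsRigClosed I p) (m : Ideal A)
    (hm : m.IsMaximal) (hpm : p.asIdeal ≤ m) (a : A) (ha : a ∈ m) :
    ∃ n : ℕ, a ^ n ∈ p.asIdeal ⊔ I := by
  have h8 := ((Groth.Agent.S8804.result A I p).out 0 2).mp hp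
  have hmax : (m.map (Ideal.Quotient.mk p.asIdeal)).IsMaximal := by
    rcases Ideal.map_eq_top_or_isMaximal_of_surjective (Ideal.Quotient.mk p.asIdeal)
      Ideal.Quotient.mk_surjective hm with htop | hmax
    · exfalso
      have := comap_map_mk (q := p) hpm
      rw [htop, Ideal.comap_top] at this
      exact hm.ne_top this.symm
    · exact hmax
  have heq := h8.2.1 _ hmax
  have hmem : Ideal.Quotient.mk p.asIdeal a ∈ m.map (Ideal.Quotient.mk p.asIdeal) :=
    Ideal.mem_map_of_mem _ ha
  rw [heq] at hmem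
  obtain ⟨n, hn⟩ := hmem
  refine ⟨n, ?_⟩
  rw [← map_pow, Ideal.mem_quotient_iff_mem_sup] at hn
  rwa [sup_comm] at hn

omit [IsNoetherianRing A] [IsAdicComplete I A] [IsNoetherianRing B]
  [IsAdicComplete (I.map (algebraMap A B)) B] in
/-- `B ⧸ IB` is formally unramified over `A` when it is étale over `A ⧸ I`. -/
theorem formallyUnramified_quotient_of_etale
    [Algebra.Etale (A ⧸ I) (B ⧸ I.map (algebraMap A B))] :
    Algebra.FormallyUnramified A (B ⧸ I.map (algebraMap A B)) :=
  Algebra.FormallyUnramified.comp A (A ⧸ I) (B ⧸ I.map (algebraMap A B))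

omit [IsNoetherianRing A] [IsAdicComplete I A] [IsNoetherianRing B]
  [IsAdicComplete (I.map (algebraMap A B)) B] in
/-- `B ⧸ mB` is finite over `A` for a maximal ideal `m ⊇ I` of `A` when `B ⧸ IB` is étale over
`A ⧸ I`. -/
theorem finite_quotient_map_maximal [Algebra.Etale (A ⧸ I) (B ⧸ I.map (algebraMap A B))]
    (m : Ideal A) (hm : m.IsMaximal) (hIm : I ≤ m) :
    Module.Finite A (B ⧸ m.map (algebraMap A B)) := by
  have hle : I.map (algebraMap A B) ≤ m.map (algebraMap A B) := Ideal.map_mono hIm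
  have hfu : Algebra.FormallyUnramified A (B ⧸ I.map (algebraMap A B)) :=
    Algebra.FormallyUnramified.comp A (A ⧸ I) (B ⧸ I.map (algebraMap A B))
  have hfu2 : Algebra.FormallyUnramified A (B ⧸ m.map (algebraMap A B)) :=
    Algebra.FormallyUnramified.of_surjective (Ideal.Quotient.factorₐ A hle)
      (Ideal.Quotient.factor_surjective hle)
  have hfp : Algebra.FinitePresentation (A ⧸ I) (B ⧸ I.map (algebraMap A B)) :=
    Algebra.Etale.finitePresentation
  have hft0 : Algebra.FiniteType (A ⧸ I) (B ⧸ I.map (algebraMap A B)) := inferInstance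
  have hft1 : Algebra.FiniteType A (B ⧸ I.map (algebraMap A B)) :=
    Algebra.FiniteType.trans (S := A ⧸ I) inferInstance hft0
  have hft2 : Algebra.FiniteType A (B ⧸ m.map (algebraMap A B)) :=
    Algebra.FiniteType.of_surjective (Ideal.Quotient.factorₐ A hle)
      (Ideal.Quotient.factor_surjective hle)
  let _ : Field (A ⧸ m) := Ideal.Quotient.field m
  have hfu3 : Algebra.FormallyUnramified (A ⧸ m) (B ⧸ m.map (algebraMap A B)) :=
    Algebra.FormallyUnramified.of_restrictScalars A _ _
  have hft3 : Algebra.FiniteType (A ⧸ m) (B ⧸ m.map (algebraMap A B)) :=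
    Algebra.FiniteType.of_restrictScalars_finiteType A _ _
  have hfin : Module.Finite (A ⧸ m) (B ⧸ m.map (algebraMap A B)) :=
    Algebra.FormallyUnramified.finite_of_free _ _
  exact Module.Finite.trans (A ⧸ m) (B ⧸ m.map (algebraMap A B))

omit [IsNoetherianRing A] in
/-- `B ⧸ pB` is finite over `A` for a rig-closed prime `p` of `A` when `B ⧸ IB` is étale over
`A ⧸ I`. -/
theorem finite_quotient_map_of_isRigClosed [IsNoetherianRing A]
    [Algebra.Etale (A ⧸ I) (B ⧸ I.map (algebraMap A B))]
    (p : PrimeSpectrum A) (hp : IsRigClosed I p) :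
    Module.Finite A (B ⧸ p.asIdeal.map (algebraMap A B)) := by
  obtain ⟨m, hm, hpm⟩ := Ideal.exists_le_maximal p.asIdeal p.2.ne_top
  have hIm : I ≤ m :=
    (IsAdicComplete.le_jacobson_bot I).trans (sInf_le ⟨bot_le, hm⟩)
  have hfin1 := finite_quotient_map_maximal I (B := B) m hm hIm
  apply finite_quotient_of_finite_quotient_sup I
  have hJm : p.asIdeal.map (algebraMap A B) ⊔ I.map (algebraMap A B) ≤ m.map (algebraMap A B) :=
    sup_le (Ideal.map_mono hpm) (Ideal.map_mono hIm)
  refine Module.finite_of_surjective_of_ker_le_nilradical (Ideal.Quotient.factorₐ A hJm)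
    (Ideal.Quotient.factor_surjective hJm) ?_ (IsNoetherian.noetherian _)
  intro x hx
  obtain ⟨b, rfl⟩ := Ideal.Quotient.mk_surjective x
  have hbm : b ∈ m.map (algebraMap A B) := by
    rw [RingHom.mem_ker] at hx
    have : (Ideal.Quotient.factorₐ A hJm) (Ideal.Quotient.mk _ b) =
        Ideal.Quotient.mk (m.map (algebraMap A B)) b := rfl
    rw [this, Ideal.Quotient.eq_zero_iff_mem] at hx
    exact hx
  have hmle : m.map (algebraMap A B) ≤ (nilradical (B ⧸ (p.asIdeal.map (algebraMap A B) ⊔
      I.map (algebraMap A B)))).comap (Ideal.Quotient.mk _) := by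
    rw [Ideal.map_le_iff_le_comap]
    intro a ha
    obtain ⟨n, hn⟩ := exists_pow_mem_sup I p hp m hm hpm a ha
    rw [Ideal.mem_comap, Ideal.mem_comap, mem_nilradical]
    refine ⟨n, ?_⟩
    rw [← map_pow, ← map_pow, Ideal.Quotient.eq_zero_iff_mem, ← Ideal.map_sup]
    exact Ideal.mem_map_of_mem _ hn
  exact hmle hbm

end finite

section main

variable {A : Type u} [CommRing A] [IsNoetherianRing A] (I : Ideal A) [IsAdicComplete I A]
  {B : Type u} [CommRing B] [Algebra A B] [IsNoetherianRing B]
  [IsAdicComplete (I.map (algebraMap A B)) B]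

/-- `B ⧸ pB` is formally unramified over `A` for a rig-closed prime `p`, when `B ⧸ IB` is étale
over `A ⧸ I`. -/
theorem formallyUnramified_quotient_map_of_isRigClosed
    [Algebra.Etale (A ⧸ I) (B ⧸ I.map (algebraMap A B))]
    (p : PrimeSpectrum A) (hp : IsRigClosed I p) :
    Algebra.FormallyUnramified A (B ⧸ p.asIdeal.map (algebraMap A B)) := by
  set Q := p.asIdeal.map (algebraMap A B) with hQ
  have hfin : Module.Finite A (B ⧸ Q) := finite_quotient_map_of_isRigClosed I p hp
  have hmapeq : I.map (algebraMap A (B ⧸ Q)) = (I.map (algebraMap A B)).map (Ideal.Quotient.mk Q) := by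
    rw [Ideal.map_map]
    rfl
  have hcompl : IsAdicComplete (I.map (algebraMap A (B ⧸ Q))) (B ⧸ Q) := by
    rw [hmapeq]
    exact isAdicComplete_quotient (I.map (algebraMap A B)) Q
  have hjac : I.map (algebraMap A (B ⧸ Q)) ≤ Ideal.jacobson ⊥ :=
    IsAdicComplete.le_jacobson_bot _
  have hfu : Algebra.FormallyUnramified A (B ⧸ I.map (algebraMap A B)) :=
    formallyUnramified_quotient_of_etale I
  -- the surjection `B ⧸ IB → (B ⧸ Q) ⧸ I (B ⧸ Q)`
  have hker : ∀ b ∈ I.map (algebraMap A B),
      ((Ideal.Quotient.mkₐ A (I.map (algebraMap A (B ⧸ Q)))).comp (Ideal.Quotient.mkₐ A Q)) b = 0 := by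
    intro b hb
    change Ideal.Quotient.mk _ (Ideal.Quotient.mk Q b) = 0
    rw [Ideal.Quotient.eq_zero_iff_mem, hmapeq]
    exact Ideal.mem_map_of_mem _ hb
  let φ : (B ⧸ I.map (algebraMap A B)) →ₐ[A] ((B ⧸ Q) ⧸ I.map (algebraMap A (B ⧸ Q))) :=
    Ideal.Quotient.liftₐ (I.map (algebraMap A B))
      ((Ideal.Quotient.mkₐ A (I.map (algebraMap A (B ⧸ Q)))).comp (Ideal.Quotient.mkₐ A Q)) hker
  have hφ : Function.Surjective φ := by
    intro y
    obtain ⟨y, rfl⟩ := Ideal.Quotient.mk_surjective y
    obtain ⟨b, rfl⟩ := Ideal.Quotient.mk_surjective y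
    exact ⟨Ideal.Quotient.mk _ b, rfl⟩
  have hfu2 : Algebra.FormallyUnramified A ((B ⧸ Q) ⧸ I.map (algebraMap A (B ⧸ Q))) :=
    Algebra.FormallyUnramified.of_surjective φ hφ
  exact formallyUnramified_of_quotient I hjac

/-- **Étale reductions are unramified at rig-points**: if `B ⧸ IB` is étale over `A ⧸ I`, `q` is a
prime of `B` whose contraction `p` to `A` is rig-closed, then `p B_q = q B_q`. -/
theorem map_map_eq_maximalIdeal [Algebra.Etale (A ⧸ I) (B ⧸ I.map (algebraMap A B))]
    (q : PrimeSpectrum B) (hp : IsRigClosed I (PrimeSpectrum.comap (algebraMap A B) q)) :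
    ((PrimeSpectrum.comap (algebraMap A B) q).asIdeal.map (algebraMap A B)).map
      (algebraMap B (Localization.AtPrime q.asIdeal)) =
        IsLocalRing.maximalIdeal (Localization.AtPrime q.asIdeal) := by
  set p : PrimeSpectrum A := PrimeSpectrum.comap (algebraMap A B) q with hpdef
  set Q := p.asIdeal.map (algebraMap A B) with hQ
  have hqprime : q.asIdeal.IsPrime := q.2
  have hQq : Q ≤ q.asIdeal := Ideal.map_le_iff_le_comap.mpr le_rfl
  have hfin : Module.Finite A (B ⧸ Q) := finite_quotient_map_of_isRigClosed I p hp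
  have hfu : Algebra.FormallyUnramified A (B ⧸ Q) :=
    formallyUnramified_quotient_map_of_isRigClosed I p hp
  -- the prime `q̄` of `B ⧸ Q`
  have hqbar : (q.asIdeal.map (Ideal.Quotient.mk Q)).IsPrime :=
    Ideal.map_isPrime_of_surjective Ideal.Quotient.mk_surjective (by rw [Ideal.mk_ker]; exact hQq)
  set qbar := q.asIdeal.map (Ideal.Quotient.mk Q) with hqbardef
  have hcomap_qbar : qbar.comap (Ideal.Quotient.mk Q) = q.asIdeal := by
    rw [hqbardef, Ideal.comap_map_of_surjective _ Ideal.Quotient.mk_surjective,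
      ← RingHom.ker_eq_comap_bot, Ideal.mk_ker, sup_eq_left]
    exact hQq
  have hunder : qbar.comap (algebraMap A (B ⧸ Q)) = p.asIdeal := by
    have : algebraMap A (B ⧸ Q) = (Ideal.Quotient.mk Q).comp (algebraMap A B) := rfl
    rw [this, ← Ideal.comap_comap, hcomap_qbar]
    rfl
  haveI hlies : qbar.LiesOver (qbar.comap (algebraMap A (B ⧸ Q))) := ⟨rfl⟩
  letI := Localization.AtPrime.algebraOfLiesOver (qbar.comap (algebraMap A (B ⧸ Q))) qbar
  have hunr : Algebra.IsUnramifiedAt A qbar :=
    Algebra.FormallyUnramified.comp A (B ⧸ Q) (Localization.AtPrime qbar)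
  have hmax := ((Algebra.isUnramifiedAt_iff_map_eq A (qbar.comap (algebraMap A (B ⧸ Q))) qbar).mp
    hunr).2
  have hbot : IsLocalRing.maximalIdeal (Localization.AtPrime qbar) = ⊥ := by
    rw [← hmax, hunder, Ideal.map_eq_bot_iff_le_ker]
    intro a ha
    rw [RingHom.mem_ker, IsScalarTower.algebraMap_apply A (B ⧸ Q) (Localization.AtPrime qbar)]
    have h0 : algebraMap A (B ⧸ Q) a = 0 := by
      change Ideal.Quotient.mk Q (algebraMap A B a) = 0
      exact Ideal.Quotient.eq_zero_iff_mem.mpr (Ideal.mem_map_of_mem _ ha)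
    rw [h0, map_zero]
  -- conclusion
  apply le_antisymm
  · rw [← Localization.AtPrime.map_eq_maximalIdeal]
    exact Ideal.map_mono hQq
  · rw [← Localization.AtPrime.map_eq_maximalIdeal, Ideal.map_le_iff_le_comap]
    intro x hx
    rw [Ideal.mem_comap]
    have hxbar : Ideal.Quotient.mk Q x ∈ qbar := Ideal.mem_map_of_mem _ hx
    have h1 : algebraMap (B ⧸ Q) (Localization.AtPrime qbar) (Ideal.Quotient.mk Q x) ∈
        IsLocalRing.maximalIdeal (Localization.AtPrime qbar) := by
      rw [← Localization.AtPrime.map_eq_maximalIdeal]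
      exact Ideal.mem_map_of_mem _ hxbar
    rw [hbot, Ideal.mem_bot, IsLocalization.map_eq_zero_iff qbar.primeCompl] at h1
    obtain ⟨⟨s, hs⟩, hsx⟩ := h1
    obtain ⟨s, rfl⟩ := Ideal.Quotient.mk_surjective s
    have hsq : s ∉ q.asIdeal := fun h => hs (Ideal.mem_map_of_mem _ h)
    have hsxQ : s * x ∈ Q := by
      rw [← Ideal.Quotient.eq_zero_iff_mem, map_mul]
      exact hsx
    have hunit : IsUnit (algebraMap B (Localization.AtPrime q.asIdeal) s) :=
      IsLocalization.map_units (Localization.AtPrime q.asIdeal) (⟨s, hsq⟩ : q.asIdeal.primeCompl)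
    have h2 : algebraMap B (Localization.AtPrime q.asIdeal) (s * x) ∈
        Q.map (algebraMap B (Localization.AtPrime q.asIdeal)) := Ideal.mem_map_of_mem _ hsxQ
    rw [map_mul] at h2
    exact (Ideal.unit_mul_mem_iff_mem _ hunit).mp h2

end main

end Groth.Agent.H57.RigUnram
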