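import Mathlib
import Groth.Agent.H57.RigUnram

/-!
# Unramifiedness at rig-points, general form (helper57)

Same as `RigUnram`, with the étale hypothesis weakened to: `B ⧸ IB` is formally unramified and of
finite type over `A`.
-/

set_option autoImplicit false
set_option linter.style.haveILetI false
universe u

namespace Groth.Agent.H57.RigUnram2

open Groth.Agent.H44 Groth.Agent.H57.RigUnram

section finite

variable {A : Type u} [CommRing A] [IsNoetherianRing A] (I : Ideal A) [IsAdicComplete I A]
  {B : Type u} [CommRing B] [Algebra A B] [IsNoetherianRing B]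
  [IsAdicComplete (I.map (algebraMap A B)) B]

omit [IsNoetherianRing A] [IsAdicComplete I A] [IsNoetherianRing B]
  [IsAdicComplete (I.map (algebraMap A B)) B] in
/-- `B ⧸ mB` is finite over `A` for a maximal ideal `m ⊇ I` of `A` when `B ⧸ IB` is étale over
`A ⧸ I`. -/
theorem finite_quotient_map_maximal [hfu : Algebra.FormallyUnramified A (B ⧸ I.map (algebraMap A B))]
    (hft1 : Algebra.FiniteType A (B ⧸ I.map (algebraMap A B)))
    (m : Ideal A) (hm : m.IsMaximal) (hIm : I ≤ m) :
    Module.Finite A (B ⧸ m.map (algebraMap A B)) := by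
  have hle : I.map (algebraMap A B) ≤ m.map (algebraMap A B) := Ideal.map_mono hIm
  have hfu2 : Algebra.FormallyUnramified A (B ⧸ m.map (algebraMap A B)) :=
    Algebra.FormallyUnramified.of_surjective (Ideal.Quotient.factorₐ A hle)
      (Ideal.Quotient.factor_surjective hle)
  have hft2 : Algebra.FiniteType A (B ⧸ m.map (algebraMap A B)) :=
    Algebra.FiniteType.of_surjective (Ideal.Quotient.factorₐ A hle)
      (Ideal.Quotient.factor_surjective hle)
  let _ : Field (A ⧸ m) := Ideal.Quotient.field m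
  have hfu3 : Algebra.FormallyUnramified (A ⧸ m) (B ⧸ m.map (algebraMap A B)) :=
    Algebra.FormallyUnramified.of_restrictScalars A _ _
  have hft3 : Algebra.FiniteType (A ⧸ m) (B ⧸ m.map (algebraMap A B)) :=
    Algebra.FiniteType.of_restrictScalars_finiteType A _ _
  have hfin : Module.Finite (A ⧸ m) (B ⧸ m.map (algebraMap A B)) :=
    Algebra.FormallyUnramified.finite_of_free _ _
  exact Module.Finite.trans (A ⧸ m) (B ⧸ m.map (algebraMap A B))

omit [IsNoetherianRing A] in
/-- `B ⧸ pB` is finite over `A` for a rig-closed prime `p` of `A` when `B ⧸ IB` is étale over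
`A ⧸ I`. -/
theorem finite_quotient_map_of_isRigClosed [IsNoetherianRing A]
    [hfu : Algebra.FormallyUnramified A (B ⧸ I.map (algebraMap A B))]
    (hft1 : Algebra.FiniteType A (B ⧸ I.map (algebraMap A B)))
    (p : PrimeSpectrum A) (hp : IsRigClosed I p) :
    Module.Finite A (B ⧸ p.asIdeal.map (algebraMap A B)) := by
  obtain ⟨m, hm, hpm⟩ := Ideal.exists_le_maximal p.asIdeal p.2.ne_top
  have hIm : I ≤ m :=
    (IsAdicComplete.le_jacobson_bot I).trans (sInf_le ⟨bot_le, hm⟩)
  have hfin1 := finite_quotient_map_maximal I (B := B) hft1 m hm hIm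
  apply RigUnram.finite_quotient_of_finite_quotient_sup I
  have hJm : p.asIdeal.map (algebraMap A B) ⊔ I.map (algebraMap A B) ≤ m.map (algebraMap A B) :=
    sup_le (Ideal.map_mono hpm) (Ideal.map_mono hIm)
  refine Module.finite_of_surjective_of_ker_le_nilradical (Ideal.Quotient.factorₐ A hJm)
    (Ideal.Quotient.factor_surjective hJm) ?_ (IsNoetherian.noetherian _)
  intro x hx
  obtain ⟨b, rfl⟩ := Ideal.Quotient.mk_surjective x
  have hbm : b ∈ m.map (algebraMap A B) := by
    rw [RingHom.mem_ker] at hx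
    have : (Ideal.Quotient.factorₐ A hJm) (Ideal.Quotient.mk _ b) =
        Ideal.Quotient.mk (m.map (algebraMap A B)) b := rfl
    rw [this, Ideal.Quotient.eq_zero_iff_mem] at hx
    exact hx
  have hmle : m.map (algebraMap A B) ≤ (nilradical (B ⧸ (p.asIdeal.map (algebraMap A B) ⊔
      I.map (algebraMap A B)))).comap (Ideal.Quotient.mk _) := by
    rw [Ideal.map_le_iff_le_comap]
    intro a ha
    obtain ⟨n, hn⟩ := exists_pow_mem_sup I p hp m hm hpm a ha
    rw [Ideal.mem_comap, Ideal.mem_comap, mem_nilradical]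
    refine ⟨n, ?_⟩
    rw [← map_pow, ← map_pow, Ideal.Quotient.eq_zero_iff_mem, ← Ideal.map_sup]
    exact Ideal.mem_map_of_mem _ hn
  exact hmle hbm

end finite

section main

variable {A : Type u} [CommRing A] [IsNoetherianRing A] (I : Ideal A) [IsAdicComplete I A]
  {B : Type u} [CommRing B] [Algebra A B] [IsNoetherianRing B]
  [IsAdicComplete (I.map (algebraMap A B)) B]

/-- `B ⧸ pB` is formally unramified over `A` for a rig-closed prime `p`, when `B ⧸ IB` is étale
over `A ⧸ I`. -/
theorem formallyUnramified_quotient_map_of_isRigClosed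
    [hfu : Algebra.FormallyUnramified A (B ⧸ I.map (algebraMap A B))]
    (hft1 : Algebra.FiniteType A (B ⧸ I.map (algebraMap A B)))
    (p : PrimeSpectrum A) (hp : IsRigClosed I p) :
    Algebra.FormallyUnramified A (B ⧸ p.asIdeal.map (algebraMap A B)) := by
  set Q := p.asIdeal.map (algebraMap A B) with hQ
  have hfin : Module.Finite A (B ⧸ Q) := finite_quotient_map_of_isRigClosed I hft1 p hp
  have hmapeq : I.map (algebraMap A (B ⧸ Q)) = (I.map (algebraMap A B)).map (Ideal.Quotient.mk Q) := by
    rw [Ideal.map_map]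
    rfl
  have hcompl : IsAdicComplete (I.map (algebraMap A (B ⧸ Q))) (B ⧸ Q) := by
    rw [hmapeq]
    exact isAdicComplete_quotient (I.map (algebraMap A B)) Q
  have hjac : I.map (algebraMap A (B ⧸ Q)) ≤ Ideal.jacobson ⊥ :=
    IsAdicComplete.le_jacobson_bot _
  -- the surjection `B ⧸ IB → (B ⧸ Q) ⧸ I (B ⧸ Q)`
  have hker : ∀ b ∈ I.map (algebraMap A B),
      ((Ideal.Quotient.mkₐ A (I.map (algebraMap A (B ⧸ Q)))).comp (Ideal.Quotient.mkₐ A Q)) b = 0 := by
    intro b hb
    change Ideal.Quotient.mk _ (Ideal.Quotient.mk Q b) = 0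
    rw [Ideal.Quotient.eq_zero_iff_mem, hmapeq]
    exact Ideal.mem_map_of_mem _ hb
  let φ : (B ⧸ I.map (algebraMap A B)) →ₐ[A] ((B ⧸ Q) ⧸ I.map (algebraMap A (B ⧸ Q))) :=
    Ideal.Quotient.liftₐ (I.map (algebraMap A B))
      ((Ideal.Quotient.mkₐ A (I.map (algebraMap A (B ⧸ Q)))).comp (Ideal.Quotient.mkₐ A Q)) hker
  have hφ : Function.Surjective φ := by
    intro y
    obtain ⟨y, rfl⟩ := Ideal.Quotient.mk_surjective y
    obtain ⟨b, rfl⟩ := Ideal.Quotient.mk_surjective y
    exact ⟨Ideal.Quotient.mk _ b, rfl⟩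
  have hfu2 : Algebra.FormallyUnramified A ((B ⧸ Q) ⧸ I.map (algebraMap A (B ⧸ Q))) :=
    Algebra.FormallyUnramified.of_surjective φ hφ
  exact formallyUnramified_of_quotient I hjac

/-- **Étale reductions are unramified at rig-points**: if `B ⧸ IB` is étale over `A ⧸ I`, `q` is a
prime of `B` whose contraction `p` to `A` is rig-closed, then `p B_q = q B_q`. -/
theorem map_map_eq_maximalIdeal [hfu : Algebra.FormallyUnramified A (B ⧸ I.map (algebraMap A B))]
    (hft1 : Algebra.FiniteType A (B ⧸ I.map (algebraMap A B)))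
    (q : PrimeSpectrum B) (hp : IsRigClosed I (PrimeSpectrum.comap (algebraMap A B) q)) :
    ((PrimeSpectrum.comap (algebraMap A B) q).asIdeal.map (algebraMap A B)).map
      (algebraMap B (Localization.AtPrime q.asIdeal)) =
        IsLocalRing.maximalIdeal (Localization.AtPrime q.asIdeal) := by
  set p : PrimeSpectrum A := PrimeSpectrum.comap (algebraMap A B) q with hpdef
  set Q := p.asIdeal.map (algebraMap A B) with hQ
  have hqprime : q.asIdeal.IsPrime := q.2
  have hQq : Q ≤ q.asIdeal := Ideal.map_le_iff_le_comap.mpr le_rfl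
  have hfin : Module.Finite A (B ⧸ Q) := finite_quotient_map_of_isRigClosed I hft1 p hp
  have hfu : Algebra.FormallyUnramified A (B ⧸ Q) :=
    formallyUnramified_quotient_map_of_isRigClosed I hft1 p hp
  -- the prime `q̄` of `B ⧸ Q`
  have hqbar : (q.asIdeal.map (Ideal.Quotient.mk Q)).IsPrime :=
    Ideal.map_isPrime_of_surjective Ideal.Quotient.mk_surjective (by rw [Ideal.mk_ker]; exact hQq)
  set qbar := q.asIdeal.map (Ideal.Quotient.mk Q) with hqbardef
  have hcomap_qbar : qbar.comap (Ideal.Quotient.mk Q) = q.asIdeal := by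
    rw [hqbardef, Ideal.comap_map_of_surjective _ Ideal.Quotient.mk_surjective,
      ← RingHom.ker_eq_comap_bot, Ideal.mk_ker, sup_eq_left]
    exact hQq
  have hunder : qbar.comap (algebraMap A (B ⧸ Q)) = p.asIdeal := by
    have : algebraMap A (B ⧸ Q) = (Ideal.Quotient.mk Q).comp (algebraMap A B) := rfl
    rw [this, ← Ideal.comap_comap, hcomap_qbar]
    rfl
  haveI hlies : qbar.LiesOver (qbar.comap (algebraMap A (B ⧸ Q))) := ⟨rfl⟩
  letI := Localization.AtPrime.algebraOfLiesOver (qbar.comap (algebraMap A (B ⧸ Q))) qbar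
  have hunr : Algebra.IsUnramifiedAt A qbar :=
    Algebra.FormallyUnramified.comp A (B ⧸ Q) (Localization.AtPrime qbar)
  have hmax := ((Algebra.isUnramifiedAt_iff_map_eq A (qbar.comap (algebraMap A (B ⧸ Q))) qbar).mp
    hunr).2
  have hbot : IsLocalRing.maximalIdeal (Localization.AtPrime qbar) = ⊥ := by
    rw [← hmax, hunder, Ideal.map_eq_bot_iff_le_ker]
    intro a ha
    rw [RingHom.mem_ker, IsScalarTower.algebraMap_apply A (B ⧸ Q) (Localization.AtPrime qbar)]
    have h0 : algebraMap A (B ⧸ Q) a = 0 := by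
      change Ideal.Quotient.mk Q (algebraMap A B a) = 0
      exact Ideal.Quotient.eq_zero_iff_mem.mpr (Ideal.mem_map_of_mem _ ha)
    rw [h0, map_zero]
  -- conclusion
  apply le_antisymm
  · rw [← Localization.AtPrime.map_eq_maximalIdeal]
    exact Ideal.map_mono hQq
  · rw [← Localization.AtPrime.map_eq_maximalIdeal, Ideal.map_le_iff_le_comap]
    intro x hx
    rw [Ideal.mem_comap]
    have hxbar : Ideal.Quotient.mk Q x ∈ qbar := Ideal.mem_map_of_mem _ hx
    have h1 : algebraMap (B ⧸ Q) (Localization.AtPrime qbar) (Ideal.Quotient.mk Q x) ∈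
        IsLocalRing.maximalIdeal (Localization.AtPrime qbar) := by
      rw [← Localization.AtPrime.map_eq_maximalIdeal]
      exact Ideal.mem_map_of_mem _ hxbar
    rw [hbot, Ideal.mem_bot, IsLocalization.map_eq_zero_iff qbar.primeCompl] at h1
    obtain ⟨⟨s, hs⟩, hsx⟩ := h1
    obtain ⟨s, rfl⟩ := Ideal.Quotient.mk_surjective s
    have hsq : s ∉ q.asIdeal := fun h => hs (Ideal.mem_map_of_mem _ h)
    have hsxQ : s * x ∈ Q := by
      rw [← Ideal.Quotient.eq_zero_iff_mem, map_mul]
      exact hsx
    have hunit : IsUnit (algebraMap B (Localization.AtPrime q.asIdeal) s) :=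
      IsLocalization.map_units (Localization.AtPrime q.asIdeal) (⟨s, hsq⟩ : q.asIdeal.primeCompl)
    have h2 : algebraMap B (Localization.AtPrime q.asIdeal) (s * x) ∈
        Q.map (algebraMap B (Localization.AtPrime q.asIdeal)) := Ideal.mem_map_of_mem _ hsxQ
    rw [map_mul] at h2
    exact (Ideal.unit_mul_mem_iff_mem _ hunit).mp h2

end main

end Groth.Agent.H57.RigUnram2
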