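import Mathlib
import Groth.Agent.H57.RigFlatDescent
import Groth.Agent.H57.RigUnram2
import Groth.Agent.H57.RigFlat2
import Groth.Agent.H57.ClQuot
import Groth.Agent.H44.ComplLocRig

/-!
# Rig-flatness: étale base change reduction (helper57)
-/

set_option autoImplicit false
set_option linter.style.haveILetI false
universe u
open scoped TensorProduct

namespace Groth.Agent.H57.CL

open Groth.Agent.H44

section comp

variable {R S T : Type u} [CommRing R] [CommRing S] [CommRing T]

/-- Functoriality of `clMap`. -/
theorem clMap_comp (φ : R →+* S) (φ' : S →+* T) (φ'' : R →+* T) (hφ : φ'.comp φ = φ'')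
    (J : Ideal R) (JS : Ideal S) (JT : Ideal T) (h : J.map φ ≤ JS) (h' : JS.map φ' ≤ JT)
    (h'' : J.map φ'' ≤ JT) (g : R) (gS : S) (gT : T) (hg : φ g = gS) (hg' : φ' gS = gT)
    (hg'' : φ'' g = gT) :
    (clMap φ' JS JT h' gS gT hg').comp (clMap φ J JS h g gS hg) = clMap φ'' J JT h'' g gT hg'' := by
  have haway : (awayMap' φ' gS gT hg').comp (awayMap' φ g gS hg) = awayMap' φ'' g gT hg'' := by
    apply IsLocalization.ringHom_ext (Submonoid.powers g)
    refine RingHom.ext fun r => ?_
    simp only [RingHom.comp_apply, awayMap'_algebraMap]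
    rw [← hφ, RingHom.comp_apply]
  refine RingHom.ext fun x => ?_
  exact Groth.Agent.H20.complMap_comp_eq _ _ _ _ _ _ haway (map_awayMap'_le φ J JS h g gS hg)
    (map_awayMap'_le φ' JS JT h' gS gT hg') (map_awayMap'_le φ'' J JT h'' g gT hg'') x

end comp

section flatAlg

variable {C : Type u} [CommRing C] [IsNoetherianRing C]

/-- `C → C_{g}` is flat. -/
theorem flat_algebraMap_cl (K : Ideal C) (g : C) : Module.Flat C (Cl K g) := by
  have hN : IsNoetherianRing (Localization.Away g) :=
    IsLocalization.isNoetherianRing (Submonoid.powers g) _ inferInstance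
  have h1 : Module.Flat C (Localization.Away g) := IsLocalization.flat _ (Submonoid.powers g)
  have h2 : Module.Flat (Localization.Away g) (Cl K g) := AdicCompletion.flat_of_isNoetherian _
  exact Module.Flat.trans C (Localization.Away g) (Cl K g)

end flatAlg

section bij

variable {D T : Type*} [CommRing D] [CommRing T] [Algebra D T]

theorem comap_map_eq_of_injective (q : Ideal D)
    (hinj : Function.Injective (Ideal.quotientMap (q.map (algebraMap D T)) (algebraMap D T)
      Ideal.le_comap_map)) :
    (q.map (algebraMap D T)).comap (algebraMap D T) = q := by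
  apply le_antisymm _ Ideal.le_comap_map
  intro b hb
  have h1 : Ideal.quotientMap (q.map (algebraMap D T)) (algebraMap D T)
      Ideal.le_comap_map (Ideal.Quotient.mk _ b) = 0 := by
    rw [Ideal.quotientMap_mk, Ideal.Quotient.eq_zero_iff_mem]
    exact hb
  have h2 := hinj (h1.trans (map_zero _).symm)
  exact Ideal.Quotient.eq_zero_iff_mem.mp h2

end bij

section square

variable {A B C D : Type u} [CommRing A] [CommRing B] [CommRing C] [CommRing D]
  [Algebra A B] [Algebra A C] [Algebra A D] [Algebra B D] [Algebra C D]
  [IsScalarTower A B D] [IsScalarTower A C D]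
  [IsNoetherianRing A] [IsNoetherianRing B] [IsNoetherianRing C] [IsNoetherianRing D]

omit [IsNoetherianRing C] in
/-- Core step: flatness over `A_{f}` of the localization of `D_{f}` at a prime off `V(I)`. -/
theorem flat_atPrime_cl_of_rigFlat (I : Ideal A)
    (hAB : ∀ f : A, RigFlatAt I (I.map (algebraMap A B)) f) [Module.Flat B D] (f : A)
    (q₂ : Ideal (Cl (I.map (algebraMap A D)) (algebraMap A D f))) [q₂.IsPrime]
    (hq₂ : ¬ clIdeal (I.map (algebraMap A D)) (algebraMap A D f) ≤ q₂) :
    ((algebraMap (Cl (I.map (algebraMap A D)) (algebraMap A D f))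
      (Localization.AtPrime q₂)).comp (canMap I (I.map (algebraMap A D)) le_rfl f)).Flat := by
  have hNAf : IsNoetherianRing (Localization.Away f) :=
    IsLocalization.isNoetherianRing (Submonoid.powers f) _ inferInstance
  have hNBf : IsNoetherianRing (Localization.Away (algebraMap A B f)) :=
    IsLocalization.isNoetherianRing (Submonoid.powers (algebraMap A B f)) _ inferInstance
  have hNDf : IsNoetherianRing (Localization.Away (algebraMap A D f)) :=
    IsLocalization.isNoetherianRing (Submonoid.powers (algebraMap A D f)) _ inferInstance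
  have hKBD : (I.map (algebraMap A B)).map (algebraMap B D) = I.map (algebraMap A D) := by
    rw [Ideal.map_map, ← IsScalarTower.algebraMap_eq]
  have hxB : algebraMap B D (algebraMap A B f) = algebraMap A D f :=
    (IsScalarTower.algebraMap_apply A B D f).symm
  let ψAD : Cl I f →+* Cl (I.map (algebraMap A D)) (algebraMap A D f) :=
    canMap I (I.map (algebraMap A D)) le_rfl f
  let ψAB : Cl I f →+* Cl (I.map (algebraMap A B)) (algebraMap A B f) :=
    canMap I (I.map (algebraMap A B)) le_rfl f
  have hψAB := canMap_comp_algebraMap I (I.map (algebraMap A B)) le_rfl f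
  let ψBD : Cl (I.map (algebraMap A B)) (algebraMap A B f) →+*
      Cl (I.map (algebraMap A D)) (algebraMap A D f) :=
    clMap (algebraMap B D) _ _ (le_of_eq hKBD) (algebraMap A B f) (algebraMap A D f) hxB
  have hcommB : ψBD.comp ψAB = ψAD :=
    clMap_comp (algebraMap A B) (algebraMap B D) (algebraMap A D)
      (IsScalarTower.algebraMap_eq A B D).symm _ _ _ _ _ _ _ _ _ _ _ _
  have hflatBD : ψBD.Flat := flat_clMap _ _ (le_of_eq hKBD) _ _ hxB
  have hQ₂ : ¬ clIdeal (I.map (algebraMap A B)) (algebraMap A B f) ≤ q₂.comap ψBD := by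
    intro h
    apply hq₂
    rw [← map_clMap_clIdeal (I.map (algebraMap A B)) (I.map (algebraMap A D)) hKBD
      (algebraMap A B f) (algebraMap A D f) hxB]
    exact Ideal.map_le_iff_le_comap.mpr h
  have hQ₂prime : (q₂.comap ψBD).IsPrime := Ideal.comap_isPrime _ _
  have h5c := ringHom_flat_atPrime_of_forall_isRigClosed ψAB
    (clIdeal (I.map (algebraMap A B)) (algebraMap A B f))
    (fun q hq => hAB f ψAB hψAB q hq) (q₂.comap ψBD) hQ₂
  have hlocflat : (algebraMap (Cl (I.map (algebraMap A D)) (algebraMap A D f))
      (Localization.AtPrime q₂)).Flat :=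
    RingHom.flat_algebraMap_iff.mpr (IsLocalization.flat _ q₂.primeCompl)
  have h5d := flat_localRingHom_of_flat_comp ψBD q₂ (q₂.comap ψBD) rfl
    (RingHom.Flat.comp hflatBD hlocflat)
  have : (algebraMap (Cl (I.map (algebraMap A D)) (algebraMap A D f))
      (Localization.AtPrime q₂)).comp ψAD =
      (Localization.localRingHom (q₂.comap ψBD) q₂ ψBD rfl).comp
        ((algebraMap _ (Localization.AtPrime (q₂.comap ψBD))).comp ψAB) := by
    refine RingHom.ext fun y => ?_
    rw [← hcommB]
    simp only [RingHom.comp_apply]
    exact (Localization.localRingHom_to_map _ _ ψBD rfl (ψAB y)).symm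
  rw [this]
  exact RingHom.Flat.comp h5c h5d

omit [IsNoetherianRing B] [Algebra A B] [Algebra B D] [IsScalarTower A B D] in
/-- Core step: from flatness over `A_{f}` to flatness over `C_{f}` at a prime whose contraction to
`A_{f}` is rig-closed, when `C ⧸ IC` is unramified over `A`. -/
theorem flat_atPrime_cl_of_unramified (I : Ideal A)
    [Algebra.FormallyUnramified A (C ⧸ I.map (algebraMap A C))]
    (hftC : Algebra.FiniteType A (C ⧸ I.map (algebraMap A C))) (f : A)
    (hKCD : (I.map (algebraMap A C)).map (algebraMap C D) ≤ I.map (algebraMap A D))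
    (hxC : algebraMap C D (algebraMap A C f) = algebraMap A D f)
    (q₂ : Ideal (Cl (I.map (algebraMap A D)) (algebraMap A D f))) [hq₂prime : q₂.IsPrime]
    (hp₂ : IsRigClosed (clIdeal I f)
      ⟨q₂.comap (canMap I (I.map (algebraMap A D)) le_rfl f), Ideal.comap_isPrime _ _⟩)
    (hflat : ((algebraMap (Cl (I.map (algebraMap A D)) (algebraMap A D f))
      (Localization.AtPrime q₂)).comp (canMap I (I.map (algebraMap A D)) le_rfl f)).Flat) :
    ((algebraMap (Cl (I.map (algebraMap A D)) (algebraMap A D f))
      (Localization.AtPrime q₂)).comp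
        (clMap (algebraMap C D) (I.map (algebraMap A C)) (I.map (algebraMap A D)) hKCD
          (algebraMap A C f) (algebraMap A D f) hxC)).Flat := by
  have hNAf : IsNoetherianRing (Localization.Away f) :=
    IsLocalization.isNoetherianRing (Submonoid.powers f) _ inferInstance
  have hNCf : IsNoetherianRing (Localization.Away (algebraMap A C f)) :=
    IsLocalization.isNoetherianRing (Submonoid.powers (algebraMap A C f)) _ inferInstance
  have hNDf : IsNoetherianRing (Localization.Away (algebraMap A D f)) :=
    IsLocalization.isNoetherianRing (Submonoid.powers (algebraMap A D f)) _ inferInstance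
  let ψAD : Cl I f →+* Cl (I.map (algebraMap A D)) (algebraMap A D f) :=
    canMap I (I.map (algebraMap A D)) le_rfl f
  let ψAC : Cl I f →+* Cl (I.map (algebraMap A C)) (algebraMap A C f) :=
    canMap I (I.map (algebraMap A C)) le_rfl f
  have hψAC := canMap_comp_algebraMap I (I.map (algebraMap A C)) le_rfl f
  let ψCD : Cl (I.map (algebraMap A C)) (algebraMap A C f) →+*
      Cl (I.map (algebraMap A D)) (algebraMap A D f) :=
    clMap (algebraMap C D) _ _ hKCD (algebraMap A C f) (algebraMap A D f) hxC
  have hcommC : ψCD.comp ψAC = ψAD :=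
    clMap_comp (algebraMap A C) (algebraMap C D) (algebraMap A D)
      (IsScalarTower.algebraMap_eq A C D).symm _ _ _ _ _ _ _ _ _ _ _ _
  -- algebra structures
  letI algAC : Algebra (Cl I f) (Cl (I.map (algebraMap A C)) (algebraMap A C f)) := ψAC.toAlgebra
  have hcomplA : IsAdicComplete (clIdeal I f) (Cl I f) := isAdicComplete_cl I f
  have hmapK : (clIdeal I f).map (algebraMap (Cl I f)
      (Cl (I.map (algebraMap A C)) (algebraMap A C f))) =
      clIdeal (I.map (algebraMap A C)) (algebraMap A C f) :=
    map_canMap_clIdeal I (I.map (algebraMap A C)) rfl f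
  have hcomplC : IsAdicComplete ((clIdeal I f).map (algebraMap (Cl I f)
      (Cl (I.map (algebraMap A C)) (algebraMap A C f))))
      (Cl (I.map (algebraMap A C)) (algebraMap A C f)) := by
    rw [hmapK]
    exact isAdicComplete_cl _ _
  have twA : IsScalarTower A (Cl I f) (Cl (I.map (algebraMap A C)) (algebraMap A C f)) :=
    IsScalarTower.of_algebraMap_eq (fun a => by
      have h1 := RingHom.congr_fun hψAC (algebraMap A (Localization.Away f) a)
      simp only [RingHom.comp_apply] at h1
      have h2 : Localization.awayMap (algebraMap A C) f (algebraMap A (Localization.Away f) a) =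
          algebraMap C (Localization.Away (algebraMap A C f)) (algebraMap A C a) := by
        simp [Localization.awayMap, IsLocalization.Away.map]
      rw [h2] at h1
      exact h1.symm)
  have hfuA : Algebra.FormallyUnramified A
      (Cl (I.map (algebraMap A C)) (algebraMap A C f) ⧸ (clIdeal I f).map (algebraMap (Cl I f)
        (Cl (I.map (algebraMap A C)) (algebraMap A C f)))) :=
    formallyUnramified_cl_quotient (R := A) (I.map (algebraMap A C)) (algebraMap A C f)
      (IsNoetherian.noetherian _) _ hmapK
  have hftA : Algebra.FiniteType A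
      (Cl (I.map (algebraMap A C)) (algebraMap A C f) ⧸ (clIdeal I f).map (algebraMap (Cl I f)
        (Cl (I.map (algebraMap A C)) (algebraMap A C f)))) :=
    finiteType_cl_quotient (R := A) (I.map (algebraMap A C)) (algebraMap A C f) hftC
      (IsNoetherian.noetherian _) _ hmapK
  have hfu₂ : Algebra.FormallyUnramified (Cl I f)
      (Cl (I.map (algebraMap A C)) (algebraMap A C f) ⧸ (clIdeal I f).map (algebraMap (Cl I f)
        (Cl (I.map (algebraMap A C)) (algebraMap A C f)))) :=
    Algebra.FormallyUnramified.of_restrictScalars A _ _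
  have hft₂ : Algebra.FiniteType (Cl I f)
      (Cl (I.map (algebraMap A C)) (algebraMap A C f) ⧸ (clIdeal I f).map (algebraMap (Cl I f)
        (Cl (I.map (algebraMap A C)) (algebraMap A C f)))) :=
    Algebra.FiniteType.of_restrictScalars_finiteType A _ _
  -- the prime `P₂` of `C_{f}`
  have hP₂prime : (q₂.comap ψCD).IsPrime := Ideal.comap_isPrime _ _
  have hcomapP₂ : (q₂.comap ψCD).comap ψAC = q₂.comap ψAD := by
    rw [Ideal.comap_comap, hcommC]
  have hp₂' : IsRigClosed (clIdeal I f) (PrimeSpectrum.comap (algebraMap (Cl I f)
      (Cl (I.map (algebraMap A C)) (algebraMap A C f))) ⟨q₂.comap ψCD, hP₂prime⟩) := by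
    have : PrimeSpectrum.comap (algebraMap (Cl I f)
        (Cl (I.map (algebraMap A C)) (algebraMap A C f))) ⟨q₂.comap ψCD, hP₂prime⟩ =
        ⟨q₂.comap ψAD, Ideal.comap_isPrime _ _⟩ := PrimeSpectrum.ext hcomapP₂
    rw [this]
    exact hp₂
  have hmax := Groth.Agent.H57.RigUnram2.map_map_eq_maximalIdeal (clIdeal I f) hft₂
    ⟨q₂.comap ψCD, hP₂prime⟩ hp₂'
  -- fibre criterion
  letI algCL : Algebra (Cl (I.map (algebraMap A C)) (algebraMap A C f)) (Localization.AtPrime q₂) :=
    ((algebraMap _ (Localization.AtPrime q₂)).comp ψCD).toAlgebra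
  letI algAL : Algebra (Cl I f) (Localization.AtPrime q₂) :=
    ((algebraMap _ (Localization.AtPrime q₂)).comp ψAD).toAlgebra
  have twL : IsScalarTower (Cl I f) (Cl (I.map (algebraMap A C)) (algebraMap A C f))
      (Localization.AtPrime q₂) :=
    IsScalarTower.of_algebraMap_eq (fun x => by
      change algebraMap _ (Localization.AtPrime q₂) (ψAD x) =
        algebraMap _ (Localization.AtPrime q₂) (ψCD (ψAC x))
      rw [← hcommC]
      rfl)
  have hNL : IsNoetherianRing (Localization.AtPrime q₂) :=
    IsLocalization.isNoetherianRing q₂.primeCompl _ inferInstance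
  have hflatL : Module.Flat (Cl I f) (Localization.AtPrime q₂) :=
    RingHom.flat_algebraMap_iff.mp hflat
  have hm : IsLocalRing.maximalIdeal (Localization.AtPrime (q₂.comap ψCD)) =
      (q₂.comap ψAD).map (algebraMap (Cl I f) (Localization.AtPrime (q₂.comap ψCD))) := by
    have e1 : (algebraMap (Cl (I.map (algebraMap A C)) (algebraMap A C f))
        (Localization.AtPrime (q₂.comap ψCD))).comp (algebraMap (Cl I f)
          (Cl (I.map (algebraMap A C)) (algebraMap A C f))) =
        algebraMap (Cl I f) (Localization.AtPrime (q₂.comap ψCD)) :=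
      (IsScalarTower.algebraMap_eq _ _ _).symm
    refine hmax.symm.trans ((Ideal.map_map _ _).trans ?_)
    rw [e1]
    exact congrArg (Ideal.map _) hcomapP₂
  have h2 : q₂.comap ψCD = (IsLocalRing.maximalIdeal (Localization.AtPrime q₂)).comap
      (algebraMap (Cl (I.map (algebraMap A C)) (algebraMap A C f)) (Localization.AtPrime q₂)) := by
    change _ = (IsLocalRing.maximalIdeal (Localization.AtPrime q₂)).comap
      ((algebraMap _ (Localization.AtPrime q₂)).comp ψCD)
    rw [← Ideal.comap_comap]
    exact congrArg (Ideal.comap ψCD) (Localization.AtPrime.under_maximalIdeal (I := q₂)).symm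
  have hfin := Groth.Agent.H57.RigFlat.flat_of_flat_of_maximalIdeal_eq (A := Cl I f)
    (A' := Cl (I.map (algebraMap A C)) (algebraMap A C f)) (L := Localization.AtPrime q₂)
    (q₂.comap ψAD) (q₂.comap ψCD) hm h2
  exact RingHom.flat_algebraMap_iff.mpr hfin

/-- **Key square lemma** for the étale reduction of rig-flatness. -/
theorem flat_atPrime_of_rigFlat_of_unramified (I : Ideal A)
    [IsAdicComplete (I.map (algebraMap A D)) D]
    (hAB : ∀ f : A, RigFlatAt I (I.map (algebraMap A B)) f) [Module.Flat B D]
    [Algebra.FormallyUnramified A (C ⧸ I.map (algebraMap A C))]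
    (hftC : Algebra.FiniteType A (C ⧸ I.map (algebraMap A C)))
    (hftD : Algebra.FiniteType A (D ⧸ I.map (algebraMap A D)))
    (q' : PrimeSpectrum D) (hq' : IsRigClosed (I.map (algebraMap A D)) q') :
    ((algebraMap D (Localization.AtPrime q'.asIdeal)).comp (algebraMap C D)).Flat := by
  have hq'prime : q'.asIdeal.IsPrime := q'.2
  -- Step 1: the element `f`
  obtain ⟨f, hfunit, hf⟩ := exists_isRigClosed_comap_completedLocalization I hftD q' hq'
  have hNCf : IsNoetherianRing (Localization.Away (algebraMap A C f)) :=
    IsLocalization.isNoetherianRing (Submonoid.powers (algebraMap A C f)) _ inferInstance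
  have hNDf : IsNoetherianRing (Localization.Away (algebraMap A D f)) :=
    IsLocalization.isNoetherianRing (Submonoid.powers (algebraMap A D f)) _ inferInstance
  obtain ⟨hp₂prime, hp₂rig⟩ := hf (canMap I (I.map (algebraMap A D)) le_rfl f)
    (canMap_comp_algebraMap I (I.map (algebraMap A D)) le_rfl f)
  have hKCD : (I.map (algebraMap A C)).map (algebraMap C D) = I.map (algebraMap A D) := by
    rw [Ideal.map_map, ← IsScalarTower.algebraMap_eq]
  have hxC : algebraMap C D (algebraMap A C f) = algebraMap A D f :=
    (IsScalarTower.algebraMap_apply A C D f).symm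
  -- Step 3: the prime `q₂ = q' D_{f}`
  obtain ⟨v, hv⟩ := hfunit.exists_right_inv
  obtain ⟨u, rfl⟩ := Ideal.Quotient.mk_surjective v
  have hu : algebraMap A D f * u - 1 ∈ q'.asIdeal := by
    rw [← Ideal.Quotient.eq, map_mul, hv, map_one]
  have hbij := quotientMap_completedLocalization_bijective (I.map (algebraMap A D)) q'.asIdeal
    (algebraMap A D f) u hu
  have hq₂prime : (q'.asIdeal.map (algebraMap D
      (Cl (I.map (algebraMap A D)) (algebraMap A D f)))).IsPrime := by
    rw [← Ideal.Quotient.isDomain_iff_prime]
    exact (RingEquiv.ofBijective _ hbij).toMulEquiv.symm.isDomain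
  have hq₂rig0 := isRigClosed_map_of_bijective (I.map (algebraMap A D)) q' hq' hbij hq₂prime
  have hKD₂ : (I.map (algebraMap A D)).map (algebraMap D
      (Cl (I.map (algebraMap A D)) (algebraMap A D f))) =
      clIdeal (I.map (algebraMap A D)) (algebraMap A D f) :=
    (Ideal.map_map (algebraMap D (Localization.Away (algebraMap A D f)))
      (algebraMap (Localization.Away (algebraMap A D f))
        (Cl (I.map (algebraMap A D)) (algebraMap A D f)))).symm
  rw [hKD₂] at hq₂rig0
  have hq₂comap := comap_map_eq_of_injective q'.asIdeal hbij.1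
  have hKA₂ : I.map (algebraMap A (Cl I f)) = clIdeal I f :=
    (Ideal.map_map (algebraMap A (Localization.Away f))
      (algebraMap (Localization.Away f) (Cl I f))).symm
  rw [hKA₂] at hp₂rig
  -- Steps 4-7
  have h5 := flat_atPrime_cl_of_rigFlat (B := B) I hAB f
    (q'.asIdeal.map (algebraMap D (Cl (I.map (algebraMap A D)) (algebraMap A D f)))) hq₂rig0.1
  have h7 := flat_atPrime_cl_of_unramified I hftC f (le_of_eq hKCD) hxC
    (q'.asIdeal.map (algebraMap D (Cl (I.map (algebraMap A D)) (algebraMap A D f)))) hp₂rig h5
  -- Step 8: pass to `C → C_{f}` and `D → D_{f}`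
  have hγflat : (algebraMap C (Cl (I.map (algebraMap A C)) (algebraMap A C f))).Flat :=
    RingHom.flat_algebraMap_iff.mpr (flat_algebraMap_cl _ _)
  have hδflat : (algebraMap D (Cl (I.map (algebraMap A D)) (algebraMap A D f))).Flat :=
    RingHom.flat_algebraMap_iff.mpr (flat_algebraMap_cl _ _)
  have hsq : (clMap (algebraMap C D) (I.map (algebraMap A C)) (I.map (algebraMap A D))
      (le_of_eq hKCD) (algebraMap A C f) (algebraMap A D f) hxC).comp
        (algebraMap C (Cl (I.map (algebraMap A C)) (algebraMap A C f))) =
      (algebraMap D (Cl (I.map (algebraMap A D)) (algebraMap A D f))).comp (algebraMap C D) := by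
    refine RingHom.ext fun c => ?_
    simp only [RingHom.comp_apply]
    rw [IsScalarTower.algebraMap_apply C (Localization.Away (algebraMap A C f))
      (Cl (I.map (algebraMap A C)) (algebraMap A C f)), clMap_algebraMap, awayMap'_algebraMap]
    rfl
  -- Step 9: descent along `D_{q'} → (D_{f})_{q₂}`
  have hlocflat : (algebraMap (Cl (I.map (algebraMap A D)) (algebraMap A D f))
      (Localization.AtPrime (q'.asIdeal.map (algebraMap D
        (Cl (I.map (algebraMap A D)) (algebraMap A D f)))))).Flat :=
    RingHom.flat_algebraMap_iff.mpr (IsLocalization.flat _ (Ideal.primeCompl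
      (q'.asIdeal.map (algebraMap D (Cl (I.map (algebraMap A D)) (algebraMap A D f))))))
  have hσflat := flat_localRingHom_of_flat_comp
    (algebraMap D (Cl (I.map (algebraMap A D)) (algebraMap A D f)))
    (q'.asIdeal.map (algebraMap D (Cl (I.map (algebraMap A D)) (algebraMap A D f))))
    q'.asIdeal hq₂comap.symm (RingHom.Flat.comp hδflat hlocflat)
  have hσff : (Localization.localRingHom q'.asIdeal
      (q'.asIdeal.map (algebraMap D (Cl (I.map (algebraMap A D)) (algebraMap A D f))))
      (algebraMap D (Cl (I.map (algebraMap A D)) (algebraMap A D f)))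
      hq₂comap.symm).FaithfullyFlat := by
    letI := (Localization.localRingHom q'.asIdeal
      (q'.asIdeal.map (algebraMap D (Cl (I.map (algebraMap A D)) (algebraMap A D f))))
      (algebraMap D (Cl (I.map (algebraMap A D)) (algebraMap A D f))) hq₂comap.symm).toAlgebra
    have hfl : Module.Flat (Localization.AtPrime q'.asIdeal)
        (Localization.AtPrime (q'.asIdeal.map (algebraMap D
          (Cl (I.map (algebraMap A D)) (algebraMap A D f))))) :=
      RingHom.flat_algebraMap_iff.mp hσflat
    have hlh : IsLocalHom (algebraMap (Localization.AtPrime q'.asIdeal)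
        (Localization.AtPrime (q'.asIdeal.map (algebraMap D
          (Cl (I.map (algebraMap A D)) (algebraMap A D f)))))) :=
      Localization.isLocalHom_localRingHom _ _ _ hq₂comap.symm
    exact RingHom.faithfullyFlat_algebraMap_iff.mpr Module.FaithfullyFlat.of_flat_of_isLocalHom
  refine Groth.Agent.H10.ringHomFlat_of_comp_of_faithfullyFlat _ _ hσff ?_
  have hfinal : (Localization.localRingHom q'.asIdeal
      (q'.asIdeal.map (algebraMap D (Cl (I.map (algebraMap A D)) (algebraMap A D f))))
      (algebraMap D (Cl (I.map (algebraMap A D)) (algebraMap A D f))) hq₂comap.symm).comp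
      ((algebraMap D (Localization.AtPrime q'.asIdeal)).comp (algebraMap C D)) =
      ((algebraMap (Cl (I.map (algebraMap A D)) (algebraMap A D f))
        (Localization.AtPrime (q'.asIdeal.map (algebraMap D
          (Cl (I.map (algebraMap A D)) (algebraMap A D f)))))).comp
        (clMap (algebraMap C D) (I.map (algebraMap A C)) (I.map (algebraMap A D))
          (le_of_eq hKCD) (algebraMap A C f) (algebraMap A D f) hxC)).comp
        (algebraMap C (Cl (I.map (algebraMap A C)) (algebraMap A C f))) := by
    refine RingHom.ext fun c => ?_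
    have e1 := RingHom.congr_fun hsq c
    simp only [RingHom.comp_apply] at e1 ⊢
    rw [Localization.localRingHom_to_map, e1]
  rw [hfinal]
  exact RingHom.Flat.comp hγflat h7

end square

section etale

theorem isScalarTower_quotient_map {R S T : Type*} [CommRing R] [CommRing S] [CommRing T]
    [Algebra R S] [Algebra S T] [Algebra R T] [IsScalarTower R S T] (K : Ideal S) :
    IsScalarTower R (S ⧸ K) (T ⧸ K.map (algebraMap S T)) :=
  IsScalarTower.of_algebraMap_eq (fun r => by
    rw [IsScalarTower.algebraMap_apply R S (S ⧸ K),
      IsScalarTower.algebraMap_apply R S (T ⧸ K.map (algebraMap S T)),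
      ← IsScalarTower.algebraMap_apply S (S ⧸ K)])

variable {A B A' B' : Type u} [CommRing A] [CommRing B] [CommRing A'] [CommRing B']
  [Algebra A B] [Algebra A A'] [Algebra A B'] [Algebra B B'] [Algebra A' B']
  [IsScalarTower A B B'] [IsScalarTower A A' B']
  [IsNoetherianRing A] [IsNoetherianRing B] [IsNoetherianRing A'] [IsNoetherianRing B']

/-- **Étale reduction of rig-flatness.** -/
theorem rigFlatAt_of_etale (I : Ideal A)
    (hftA' : Algebra.FiniteType A (A' ⧸ I.map (algebraMap A A')))
    (hftB'A' : Algebra.FiniteType A' (B' ⧸ I.map (algebraMap A B')))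
    [Module.Flat B B'] [Algebra.Etale (A ⧸ I) (A' ⧸ I.map (algebraMap A A'))]
    (hAB : ∀ f : A, RigFlatAt I (I.map (algebraMap A B)) f) (f' : A') :
    RigFlatAt (I.map (algebraMap A A')) ((I.map (algebraMap A A')).map (algebraMap A' B')) f' := by
  intro ψ hψ q hq
  have hNA'f : IsNoetherianRing (Localization.Away f') :=
    IsLocalization.isNoetherianRing (Submonoid.powers f') _ inferInstance
  have hNB'f : IsNoetherianRing (Localization.Away (algebraMap A' B' f')) :=
    IsLocalization.isNoetherianRing (Submonoid.powers (algebraMap A' B' f')) _ inferInstance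
  have hJ' : (I.map (algebraMap A A')).map (algebraMap A' B') = I.map (algebraMap A B') := by
    rw [Ideal.map_map, ← IsScalarTower.algebraMap_eq]
  -- the algebra structure `C → D`
  letI algCD : Algebra (Cl (I.map (algebraMap A A')) f')
      (Cl ((I.map (algebraMap A A')).map (algebraMap A' B')) (algebraMap A' B' f')) := ψ.toAlgebra
  have twACD : IsScalarTower A (Cl (I.map (algebraMap A A')) f')
      (Cl ((I.map (algebraMap A A')).map (algebraMap A' B')) (algebraMap A' B' f')) :=
    IsScalarTower.of_algebraMap_eq (fun a => by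
      have h1 := RingHom.congr_fun hψ (algebraMap A' (Localization.Away f') (algebraMap A A' a))
      simp only [RingHom.comp_apply] at h1
      have h2 : Localization.awayMap (algebraMap A' B') f'
          (algebraMap A' (Localization.Away f') (algebraMap A A' a)) =
          algebraMap B' (Localization.Away (algebraMap A' B' f'))
            (algebraMap A' B' (algebraMap A A' a)) := by
        simp [Localization.awayMap, IsLocalization.Away.map]
      rw [h2, ← IsScalarTower.algebraMap_apply A A' B'] at h1
      exact h1.symm)
  -- ideals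
  have hKC : I.map (algebraMap A (Cl (I.map (algebraMap A A')) f')) =
      clIdeal (I.map (algebraMap A A')) f' := by
    have : algebraMap A (Cl (I.map (algebraMap A A')) f') =
        ((algebraMap (Localization.Away f') (Cl (I.map (algebraMap A A')) f')).comp
          (algebraMap A' (Localization.Away f'))).comp (algebraMap A A') := rfl
    rw [this, ← Ideal.map_map, ← Ideal.map_map]
  have hKD : I.map (algebraMap A
      (Cl ((I.map (algebraMap A A')).map (algebraMap A' B')) (algebraMap A' B' f'))) =
      clIdeal ((I.map (algebraMap A A')).map (algebraMap A' B')) (algebraMap A' B' f') := by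
    have : algebraMap A
        (Cl ((I.map (algebraMap A A')).map (algebraMap A' B')) (algebraMap A' B' f')) =
        ((algebraMap (Localization.Away (algebraMap A' B' f'))
          (Cl ((I.map (algebraMap A A')).map (algebraMap A' B')) (algebraMap A' B' f'))).comp
          (algebraMap B' (Localization.Away (algebraMap A' B' f')))).comp (algebraMap A B') := rfl
    rw [this, ← Ideal.map_map, ← Ideal.map_map, ← hJ']
  have hcomplD : IsAdicComplete (I.map (algebraMap A
      (Cl ((I.map (algebraMap A A')).map (algebraMap A' B')) (algebraMap A' B' f'))))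
      (Cl ((I.map (algebraMap A A')).map (algebraMap A' B')) (algebraMap A' B' f')) := by
    rw [hKD]
    exact isAdicComplete_cl _ _
  -- flatness of `B → D`
  have hflatBD : Module.Flat B
      (Cl ((I.map (algebraMap A A')).map (algebraMap A' B')) (algebraMap A' B' f')) := by
    have := flat_algebraMap_cl ((I.map (algebraMap A A')).map (algebraMap A' B'))
      (algebraMap A' B' f')
    exact Module.Flat.trans B B' _
  -- unramifiedness and finiteness
  have hfuA' : Algebra.FormallyUnramified A (A' ⧸ I.map (algebraMap A A')) :=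
    Groth.Agent.H57.RigUnram.formallyUnramified_quotient_of_etale I
  have hfuC : Algebra.FormallyUnramified A
      (Cl (I.map (algebraMap A A')) f' ⧸ I.map (algebraMap A (Cl (I.map (algebraMap A A')) f'))) :=
    formallyUnramified_cl_quotient (R := A) (I.map (algebraMap A A')) f'
      (IsNoetherian.noetherian _) _ hKC
  have hftC : Algebra.FiniteType A
      (Cl (I.map (algebraMap A A')) f' ⧸ I.map (algebraMap A (Cl (I.map (algebraMap A A')) f'))) :=
    finiteType_cl_quotient (R := A) (I.map (algebraMap A A')) f' hftA'
      (IsNoetherian.noetherian _) _ hKC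
  have hftB' : Algebra.FiniteType A (B' ⧸ (I.map (algebraMap A A')).map (algebraMap A' B')) := by
    have h1 : Algebra.FiniteType A' (B' ⧸ (I.map (algebraMap A A')).map (algebraMap A' B')) :=
      Algebra.FiniteType.equiv hftB'A' (Ideal.quotientEquivAlgOfEq A' hJ'.symm)
    have h2 : Algebra.FiniteType (A' ⧸ I.map (algebraMap A A'))
        (B' ⧸ (I.map (algebraMap A A')).map (algebraMap A' B')) :=
      Algebra.FiniteType.of_restrictScalars_finiteType A' _ _
    have tw := isScalarTower_quotient_map (R := A) (S := A') (T := B') (I.map (algebraMap A A'))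
    exact Algebra.FiniteType.trans hftA' h2
  have hftD : Algebra.FiniteType A
      (Cl ((I.map (algebraMap A A')).map (algebraMap A' B')) (algebraMap A' B' f') ⧸
        I.map (algebraMap A
          (Cl ((I.map (algebraMap A A')).map (algebraMap A' B')) (algebraMap A' B' f')))) :=
    finiteType_cl_quotient (R := A) ((I.map (algebraMap A A')).map (algebraMap A' B'))
      (algebraMap A' B' f') hftB' (IsNoetherian.noetherian _) _ hKD
  have hq' : IsRigClosed (I.map (algebraMap A
      (Cl ((I.map (algebraMap A A')).map (algebraMap A' B')) (algebraMap A' B' f')))) q := by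
    rw [hKD]
    exact hq
  exact flat_atPrime_of_rigFlat_of_unramified (B := B) I hAB hftC hftD q hq'

end etale

end Groth.Agent.H57.CL
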