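import Mathlib
import Groth.Agent.H57.RigFlatEtale

/-!
# Completed pushouts of adic rings (helper57)

A ring `D` with maps `β : B → D`, `γ : C → D` is a *completed pushout* of `B ← A → C` with respect
to an ideal `I` of `A` if it has the universal property of `B ⊗̂_A C` with respect to `I`-adically
complete (resp. separated) rings.  We show that the literal completed tensor product is one, and
that completed pushouts are stable under completed localization.
-/

set_option autoImplicit false
set_option linter.style.haveILetI false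
universe u
open scoped TensorProduct

namespace Groth.Agent.H57.CL

section lift

variable {R T : Type u} [CommRing R] [CommRing T]

/-- Lift of a ring hom to the adic completion when the target is complete. -/
noncomputable def complLift (K : Ideal R) (JT : Ideal T) [IsAdicComplete JT T] (φ : R →+* T)
    (h : K.map φ ≤ JT) : AdicCompletion K R →+* T :=
  ((AdicCompletion.ofAlgEquiv JT).symm.toRingEquiv.toRingHom).comp (FSch.complMap K JT φ h)

theorem complLift_algebraMap (K : Ideal R) (JT : Ideal T) [IsAdicComplete JT T] (φ : R →+* T)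
    (h : K.map φ ≤ JT) (x : R) :
    complLift K JT φ h (algebraMap R (AdicCompletion K R) x) = φ x := by
  rw [complLift, RingHom.comp_apply]
  have h1 : algebraMap R (AdicCompletion K R) x = AdicCompletion.of K R x := rfl
  rw [h1, Groth.Agent.H20.complMap_of]
  exact AdicCompletion.ofAlgEquiv_symm_of JT (φ x)

variable {S : Type u} [CommRing S]

/-- Lift of a ring hom to the completed localization. -/
noncomputable def clLift (K : Ideal S) (g : S) (JT : Ideal T) [IsAdicComplete JT T] (φ : S →+* T)
    (h : K.map φ ≤ JT) (hg : IsUnit (φ g)) : Cl K g →+* T :=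
  complLift (K.map (algebraMap S (Localization.Away g))) JT (IsLocalization.Away.lift g hg) (by
    rw [Ideal.map_map, IsLocalization.Away.lift_comp]
    exact h)

theorem clLift_algebraMap (K : Ideal S) (g : S) (JT : Ideal T) [IsAdicComplete JT T] (φ : S →+* T)
    (h : K.map φ ≤ JT) (hg : IsUnit (φ g)) (s : S) :
    clLift K g JT φ h hg (algebraMap S (Cl K g) s) = φ s := by
  have h1 : algebraMap S (Cl K g) s =
      algebraMap (Localization.Away g) (Cl K g) (algebraMap S (Localization.Away g) s) := rfl
  rw [h1, clLift, complLift_algebraMap, IsLocalization.Away.lift_eq]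

theorem clLift_comp_algebraMap (K : Ideal S) (g : S) (JT : Ideal T) [IsAdicComplete JT T]
    (φ : S →+* T) (h : K.map φ ≤ JT) (hg : IsUnit (φ g)) :
    (clLift K g JT φ h hg).comp (algebraMap S (Cl K g)) = φ :=
  RingHom.ext (clLift_algebraMap K g JT φ h hg)

/-- Ring homs out of a completed localization into a separated ring are determined by their
restriction to the original ring. -/
theorem cl_hom_ext (K : Ideal S) (hK : K.FG) (g : S) (JT : Ideal T) [IsHausdorff JT T]
    (φ₁ φ₂ : Cl K g →+* T) (h : K.map (φ₁.comp (algebraMap S (Cl K g))) ≤ JT)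
    (heq : φ₁.comp (algebraMap S (Cl K g)) = φ₂.comp (algebraMap S (Cl K g))) : φ₁ = φ₂ := by
  refine ringHom_ext (K.map (algebraMap S (Localization.Away g))) (hK.map _) φ₁ φ₂ JT ?_ ?_
  · rw [Ideal.map_map]
    exact h
  · apply IsLocalization.ringHom_ext (Submonoid.powers g)
    exact heq

theorem isUnit_algebraMap_cl (K : Ideal S) (g : S) : IsUnit (algebraMap S (Cl K g) g) := by
  have h1 : algebraMap S (Cl K g) g =
      algebraMap (Localization.Away g) (Cl K g) (algebraMap S (Localization.Away g) g) := rfl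
  rw [h1]
  exact (IsLocalization.Away.algebraMap_isUnit g).map _

theorem clMap_algebraMap' {S' : Type u} [CommRing S'] (φ : S →+* S') (K : Ideal S) (K' : Ideal S')
    (hK : K.map φ ≤ K') (g : S) (g' : S') (hg : φ g = g') (s : S) :
    clMap φ K K' hK g g' hg (algebraMap S (Cl K g) s) = algebraMap S' (Cl K' g') (φ s) := by
  have h1 : algebraMap S (Cl K g) s =
      algebraMap (Localization.Away g) (Cl K g) (algebraMap S (Localization.Away g) s) := rfl
  rw [h1, clMap_algebraMap, awayMap'_algebraMap]
  rfl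

theorem clMap_comp_algebraMap' {S' : Type u} [CommRing S'] (φ : S →+* S') (K : Ideal S)
    (K' : Ideal S') (hK : K.map φ ≤ K') (g : S) (g' : S') (hg : φ g = g') :
    (clMap φ K K' hK g g' hg).comp (algebraMap S (Cl K g)) = (algebraMap S' (Cl K' g')).comp φ :=
  RingHom.ext (clMap_algebraMap' φ K K' hK g g' hg)

end lift

section defn

variable {A B C D : Type u} [CommRing A] [CommRing B] [CommRing C] [CommRing D]

/-- `D` is a completed pushout of `B ← A → C` with respect to the ideal `I` of `A`. -/
structure IsCPushout (I : Ideal A) (αB : A →+* B) (αC : A →+* C) (β : B →+* D) (γ : C →+* D) :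
    Prop where
  comm : β.comp αB = γ.comp αC
  exists_lift : ∀ (T : Type u) [CommRing T] (JT : Ideal T) [IsAdicComplete JT T]
    (φB : B →+* T) (φC : C →+* T), φB.comp αB = φC.comp αC → I.map (φC.comp αC) ≤ JT →
    ∃ φ : D →+* T, φ.comp β = φB ∧ φ.comp γ = φC
  hom_ext : ∀ (T : Type u) [CommRing T] (JT : Ideal T) [IsHausdorff JT T] (φ₁ φ₂ : D →+* T),
    I.map ((φ₁.comp γ).comp αC) ≤ JT → φ₁.comp β = φ₂.comp β → φ₁.comp γ = φ₂.comp γ → φ₁ = φ₂

end defn

section literal

variable {A B C : Type u} [CommRing A] [CommRing B] [CommRing C] [Algebra A B] [Algebra A C]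

/-- The literal completed tensor product `(C ⊗[A] B)^` is a completed pushout. -/
theorem isCPushout_adicCompletion_tensorProduct (I : Ideal A) (hI : I.FG) :
    IsCPushout (D := AdicCompletion ((I.map (algebraMap A C)).map (algebraMap C (C ⊗[A] B)))
        (C ⊗[A] B)) I (algebraMap A B) (algebraMap A C)
      ((algebraMap (C ⊗[A] B) (AdicCompletion ((I.map (algebraMap A C)).map
        (algebraMap C (C ⊗[A] B))) (C ⊗[A] B))).comp
          (Algebra.TensorProduct.includeRight : B →ₐ[A] C ⊗[A] B).toRingHom)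
      (algebraMap C (AdicCompletion ((I.map (algebraMap A C)).map (algebraMap C (C ⊗[A] B)))
        (C ⊗[A] B))) := by
  have hKE : ((I.map (algebraMap A C)).map (algebraMap C (C ⊗[A] B))).FG := (hI.map _).map _
  have hγ : ∀ c : C, algebraMap C (AdicCompletion ((I.map (algebraMap A C)).map
      (algebraMap C (C ⊗[A] B))) (C ⊗[A] B)) c =
      algebraMap (C ⊗[A] B) (AdicCompletion ((I.map (algebraMap A C)).map
        (algebraMap C (C ⊗[A] B))) (C ⊗[A] B)) (c ⊗ₜ[A] (1 : B)) := by
    intro c
    rw [IsScalarTower.algebraMap_apply C (C ⊗[A] B) (AdicCompletion _ (C ⊗[A] B)),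
      Algebra.TensorProduct.algebraMap_apply, Algebra.algebraMap_self, RingHom.id_apply]
  refine ⟨?_, ?_, ?_⟩
  · -- commutativity
    refine RingHom.ext fun a => ?_
    simp only [RingHom.comp_apply, AlgHom.toRingHom_eq_coe, RingHom.coe_coe,
      Algebra.TensorProduct.includeRight_apply]
    rw [hγ]
    congr 1
    rw [Algebra.algebraMap_eq_smul_one, Algebra.algebraMap_eq_smul_one (A := C),
      TensorProduct.smul_tmul]
  · -- existence of lifts
    intro T _ JT _ φB φC hcomp hIJ
    letI algT : Algebra A T := (φC.comp (algebraMap A C)).toAlgebra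
    let φC' : C →ₐ[A] T := { φC with commutes' := fun a => rfl }
    let φB' : B →ₐ[A] T := { φB with commutes' := fun a => RingHom.congr_fun hcomp a }
    let φE : C ⊗[A] B →ₐ[A] T := Algebra.TensorProduct.productMap φC' φB'
    have hKEle : ((I.map (algebraMap A C)).map (algebraMap C (C ⊗[A] B))).map φE.toRingHom ≤ JT := by
      rw [Ideal.map_map, Ideal.map_map]
      refine le_trans (le_of_eq ?_) hIJ
      congr 1
      refine RingHom.ext fun a => ?_
      simp only [RingHom.comp_apply, Algebra.TensorProduct.algebraMap_apply,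
        Algebra.algebraMap_self, RingHom.id_apply]
      exact (Algebra.TensorProduct.productMap_left_apply φC' φB' (algebraMap A C a))
    refine ⟨complLift _ JT φE.toRingHom hKEle, ?_, ?_⟩
    · refine RingHom.ext fun b => ?_
      simp only [RingHom.comp_apply, AlgHom.toRingHom_eq_coe, RingHom.coe_coe,
        Algebra.TensorProduct.includeRight_apply]
      rw [complLift_algebraMap]
      exact Algebra.TensorProduct.productMap_right_apply φC' φB' b
    · refine RingHom.ext fun c => ?_
      rw [RingHom.comp_apply, hγ, complLift_algebraMap]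
      exact Algebra.TensorProduct.productMap_left_apply φC' φB' c
  · -- uniqueness
    intro T _ JT _ φ₁ φ₂ hIJ hβ hγ'
    refine ringHom_ext _ hKE φ₁ φ₂ JT ?_ ?_
    · rw [Ideal.map_map, Ideal.map_map]
      refine le_trans (le_of_eq ?_) hIJ
      congr 1
    · refine RingHom.ext fun x => ?_
      induction x using TensorProduct.induction_on with
      | zero => simp
      | add x y hx hy => rw [map_add, map_add, hx, hy]
      | tmul c b =>
        have h1 : c ⊗ₜ[A] b = (c ⊗ₜ[A] (1 : B)) * ((1 : C) ⊗ₜ[A] b) := by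
          rw [Algebra.TensorProduct.tmul_mul_tmul, mul_one, one_mul]
        have h2 := RingHom.congr_fun hβ b
        have h3 := RingHom.congr_fun hγ' c
        simp only [RingHom.comp_apply, AlgHom.toRingHom_eq_coe, RingHom.coe_coe,
          Algebra.TensorProduct.includeRight_apply] at h2 h3 ⊢
        rw [hγ] at h3
        rw [h1, map_mul, map_mul, map_mul, h2, h3]

end literal

section stability

variable {A B C D : Type u} [CommRing A] [CommRing B] [CommRing C] [CommRing D]
  {I : Ideal A} {αB : A →+* B} {αC : A →+* C} {β : B →+* D} {γ : C →+* D}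

/-- Completed pushouts are stable under completed localization at an element of `C`. -/
theorem IsCPushout.cl_right (H : IsCPushout I αB αC β γ) (hI : I.FG) (KC : Ideal C) (KD : Ideal D)
    (hKC : KC = I.map αC) (hKD : KD = KC.map γ) (h : C) (hD : D) (hh : γ h = hD) :
    IsCPushout I αB ((algebraMap C (Cl KC h)).comp αC) ((algebraMap D (Cl KD hD)).comp β)
      (clMap γ KC KD (le_of_eq hKD.symm) h hD hh) := by
  have hKCfg : KC.FG := hKC ▸ hI.map _
  have hKDfg : KD.FG := hKD ▸ hKCfg.map _
  have hKCmap : ∀ {T' : Type u} [CommRing T'] (ψ : C →+* T'), KC.map ψ = I.map (ψ.comp αC) :=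
    fun ψ => (congrArg (Ideal.map ψ) hKC).trans (Ideal.map_map _ _)
  have hKDmap : ∀ {T' : Type u} [CommRing T'] (ψ : D →+* T'),
      KD.map ψ = I.map ((ψ.comp γ).comp αC) :=
    fun ψ => ((congrArg (Ideal.map ψ) hKD).trans (Ideal.map_map _ _)).trans (hKCmap _)
  refine ⟨?_, ?_, ?_⟩
  · refine RingHom.ext fun a => ?_
    have h1 := RingHom.congr_fun H.comm a
    simp only [RingHom.comp_apply] at h1 ⊢
    rw [clMap_algebraMap', h1]
  · intro T _ JT _ φB φC' hcomp hIJ
    obtain ⟨φD, hφDβ, hφDγ⟩ := H.exists_lift T JT φB (φC'.comp (algebraMap C (Cl KC h))) hcomp hIJ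
    have hKDle : KD.map φD ≤ JT := by
      rw [hKDmap, hφDγ]
      exact hIJ
    have hunit : IsUnit (φD hD) := by
      have h1 := RingHom.congr_fun hφDγ h
      simp only [RingHom.comp_apply] at h1
      rw [← hh, h1]
      exact (isUnit_algebraMap_cl KC h).map φC'
    refine ⟨clLift KD hD JT φD hKDle hunit, ?_, ?_⟩
    · rw [← RingHom.comp_assoc, clLift_comp_algebraMap, hφDβ]
    · have hT : IsHausdorff JT T := inferInstance
      refine cl_hom_ext KC hKCfg h JT _ _ ?_ ?_
      · rw [RingHom.comp_assoc, clMap_comp_algebraMap', ← RingHom.comp_assoc,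
          clLift_comp_algebraMap, hφDγ, hKCmap]
        exact hIJ
      · rw [RingHom.comp_assoc, clMap_comp_algebraMap', ← RingHom.comp_assoc,
          clLift_comp_algebraMap, hφDγ]
  · intro T _ JT _ φ₁ φ₂ hIJ hβ hγ
    have e1 : ∀ φ : Cl KD hD →+* T, (φ.comp (algebraMap D (Cl KD hD))).comp γ =
        (φ.comp (clMap γ KC KD (le_of_eq hKD.symm) h hD hh)).comp (algebraMap C (Cl KC h)) := by
      intro φ
      rw [RingHom.comp_assoc, RingHom.comp_assoc, clMap_comp_algebraMap']
    have hmain : φ₁.comp (algebraMap D (Cl KD hD)) = φ₂.comp (algebraMap D (Cl KD hD)) := by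
      refine H.hom_ext T JT _ _ ?_ ?_ ?_
      · rw [e1]
        exact hIJ
      · rw [RingHom.comp_assoc, RingHom.comp_assoc]
        exact hβ
      · rw [e1, e1, hγ]
    refine cl_hom_ext KD hKDfg hD JT φ₁ φ₂ ?_ hmain
    rw [hKDmap, e1]
    exact hIJ

/-- Completed pushouts are stable under completed localization at an element of `A`. -/
theorem IsCPushout.cl_base (H : IsCPushout I αB αC β γ) (hI : I.FG) (KB : Ideal B) (KC : Ideal C)
    (KD : Ideal D) (hKB : KB = I.map αB) (hKC : KC = I.map αC) (hKD : KD = KC.map γ)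
    (hKBD : KB.map β ≤ KD) (f : A) (fB : B) (fC : C) (fD : D)
    (hfB : αB f = fB) (hfC : αC f = fC) (hβf : β fB = fD) (hγf : γ fC = fD) :
    IsCPushout (clIdeal I f) (clMap αB I KB (le_of_eq hKB.symm) f fB hfB)
      (clMap αC I KC (le_of_eq hKC.symm) f fC hfC)
      (clMap β KB KD hKBD fB fD hβf) (clMap γ KC KD (le_of_eq hKD.symm) fC fD hγf) := by
  have hKBfg : KB.FG := hKB ▸ hI.map _
  have hKCfg : KC.FG := hKC ▸ hI.map _
  have hKDfg : KD.FG := hKD ▸ hKCfg.map _
  have hKBmap : ∀ {T' : Type u} [CommRing T'] (ψ : B →+* T'), KB.map ψ = I.map (ψ.comp αB) :=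
    fun ψ => (congrArg (Ideal.map ψ) hKB).trans (Ideal.map_map _ _)
  have hKCmap : ∀ {T' : Type u} [CommRing T'] (ψ : C →+* T'), KC.map ψ = I.map (ψ.comp αC) :=
    fun ψ => (congrArg (Ideal.map ψ) hKC).trans (Ideal.map_map _ _)
  have hKDmap : ∀ {T' : Type u} [CommRing T'] (ψ : D →+* T'),
      KD.map ψ = I.map ((ψ.comp γ).comp αC) :=
    fun ψ => ((congrArg (Ideal.map ψ) hKD).trans (Ideal.map_map _ _)).trans (hKCmap _)
  have hImap : ∀ {T' : Type u} [CommRing T'] (ψ : Cl I f →+* T'),
      (clIdeal I f).map ψ = I.map (ψ.comp (algebraMap A (Cl I f))) := by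
    intro T' _ ψ
    rw [clIdeal, Ideal.map_map, Ideal.map_map]
    rfl
  have hle : I.map (γ.comp αC) ≤ KD := by
    rw [hKD, hKC, Ideal.map_map]
  refine ⟨?_, ?_, ?_⟩
  · rw [clMap_comp αB β (γ.comp αC) H.comm I KB KD _ hKBD hle f fB fD hfB hβf
        (by rw [RingHom.comp_apply, hfC, hγf]),
      clMap_comp αC γ (γ.comp αC) rfl I KC KD _ _ hle f fC fD hfC hγf
        (by rw [RingHom.comp_apply, hfC, hγf])]
  · intro T _ JT _ φB₂ φC₂ hcomp hIJ
    have hT : IsHausdorff JT T := inferInstance
    have hcompA : (φB₂.comp (algebraMap B (Cl KB fB))).comp αB =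
        (φC₂.comp (algebraMap C (Cl KC fC))).comp αC := by
      rw [RingHom.comp_assoc, ← clMap_comp_algebraMap' αB I KB (le_of_eq hKB.symm) f fB hfB,
        ← RingHom.comp_assoc, hcomp, RingHom.comp_assoc, clMap_comp_algebraMap' αC I KC
          (le_of_eq hKC.symm) f fC hfC, RingHom.comp_assoc]
    have hIJ' : I.map ((φC₂.comp (algebraMap C (Cl KC fC))).comp αC) ≤ JT := by
      rw [hImap] at hIJ
      rw [RingHom.comp_assoc, ← clMap_comp_algebraMap' αC I KC (le_of_eq hKC.symm) f fC hfC,
        ← RingHom.comp_assoc]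
      exact hIJ
    obtain ⟨φD, hφDβ, hφDγ⟩ := H.exists_lift T JT (φB₂.comp (algebraMap B (Cl KB fB)))
      (φC₂.comp (algebraMap C (Cl KC fC))) hcompA hIJ'
    have hKDle : KD.map φD ≤ JT := by
      rw [hKDmap, hφDγ]
      exact hIJ'
    have hunit : IsUnit (φD fD) := by
      have h1 := RingHom.congr_fun hφDγ fC
      simp only [RingHom.comp_apply] at h1
      rw [← hγf, h1]
      exact (isUnit_algebraMap_cl KC fC).map φC₂
    refine ⟨clLift KD fD JT φD hKDle hunit, ?_, ?_⟩
    · refine cl_hom_ext KB hKBfg fB JT _ _ ?_ ?_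
      · rw [RingHom.comp_assoc, clMap_comp_algebraMap', ← RingHom.comp_assoc,
          clLift_comp_algebraMap, hφDβ, hKBmap, hcompA]
        exact hIJ'
      · rw [RingHom.comp_assoc, clMap_comp_algebraMap', ← RingHom.comp_assoc,
          clLift_comp_algebraMap, hφDβ]
    · refine cl_hom_ext KC hKCfg fC JT _ _ ?_ ?_
      · rw [RingHom.comp_assoc, clMap_comp_algebraMap', ← RingHom.comp_assoc,
          clLift_comp_algebraMap, hφDγ, hKCmap]
        exact hIJ'
      · rw [RingHom.comp_assoc, clMap_comp_algebraMap', ← RingHom.comp_assoc,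
          clLift_comp_algebraMap, hφDγ]
  · intro T _ JT _ φ₁ φ₂ hIJ hβ hγ
    have eC : ∀ φ : Cl KD fD →+* T, (φ.comp (algebraMap D (Cl KD fD))).comp γ =
        (φ.comp (clMap γ KC KD (le_of_eq hKD.symm) fC fD hγf)).comp (algebraMap C (Cl KC fC)) := by
      intro φ
      rw [RingHom.comp_assoc, RingHom.comp_assoc, clMap_comp_algebraMap']
    have eB : ∀ φ : Cl KD fD →+* T, (φ.comp (algebraMap D (Cl KD fD))).comp β =
        (φ.comp (clMap β KB KD hKBD fB fD hβf)).comp (algebraMap B (Cl KB fB)) := by
      intro φ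
      rw [RingHom.comp_assoc, RingHom.comp_assoc, clMap_comp_algebraMap']
    have hIJ' : I.map (((φ₁.comp (algebraMap D (Cl KD fD))).comp γ).comp αC) ≤ JT := by
      rw [hImap] at hIJ
      rw [eC, RingHom.comp_assoc, ← clMap_comp_algebraMap' αC I KC (le_of_eq hKC.symm) f fC hfC,
        ← RingHom.comp_assoc]
      exact hIJ
    have hmain : φ₁.comp (algebraMap D (Cl KD fD)) = φ₂.comp (algebraMap D (Cl KD fD)) := by
      refine H.hom_ext T JT _ _ hIJ' ?_ ?_
      · rw [eB, eB, hβ]
      · rw [eC, eC, hγ]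
    refine cl_hom_ext KD hKDfg fD JT φ₁ φ₂ ?_ hmain
    rw [hKDmap]
    exact hIJ'

end stability

end Groth.Agent.H57.CL
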