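import Mathlib
import Groth.Agent.H57.CPushout
import Groth.Agent.H89.ComplFinite
import Groth.Agent.H44.AdicLemmas
import Groth.Agent.H57.AdicMod

/-!
# Fibres of completed pushouts over module-finite quotients (helper57)

For a completed pushout `D` of `B ← A → C` and an ideal `𝔞` of `C` with `C ⧸ 𝔞` finite over `A`,
the quotient `D ⧸ 𝔞 D` is the ordinary tensor product `(C ⧸ 𝔞) ⊗[A] B`.
-/

set_option autoImplicit false
set_option linter.style.haveILetI false
universe u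
open scoped TensorProduct

namespace Groth.Agent.H57.CL

section finitePow

/-- If `R ⧸ P` is module-finite over `A`, so is `R ⧸ P ^ n`. -/
theorem finite_quotient_pow {A R : Type*} [CommRing A] [CommRing R] [Algebra A R]
    [IsNoetherianRing R] (P : Ideal R) [Module.Finite A (R ⧸ P)] (n : ℕ) :
    Module.Finite A (R ⧸ P ^ n) := by
  rcases Nat.eq_zero_or_pos n with rfl | hn
  · rw [pow_zero, Ideal.one_eq_top]
    infer_instance
  have hle : P ^ n ≤ P := Ideal.pow_le_self hn.ne'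
  refine Module.finite_of_surjective_of_ker_le_nilradical (Ideal.Quotient.factorₐ A hle)
    (Ideal.Quotient.factor_surjective hle) ?_ (IsNoetherian.noetherian _)
  intro x hx
  obtain ⟨r, rfl⟩ := Ideal.Quotient.mk_surjective x
  have hr : r ∈ P := by
    rw [RingHom.mem_ker] at hx
    have : (Ideal.Quotient.factorₐ A hle) (Ideal.Quotient.mk _ r) = Ideal.Quotient.mk P r := rfl
    rw [this, Ideal.Quotient.eq_zero_iff_mem] at hx
    exact hx
  rw [mem_nilradical]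
  refine ⟨n, ?_⟩
  rw [← map_pow, Ideal.Quotient.eq_zero_iff_mem]
  exact Ideal.pow_mem_pow hr n

end finitePow

section complete

variable {A B : Type u} [CommRing A] [CommRing B] [Algebra A B] [IsNoetherianRing B]

/-- `M ⊗[A] B` is `I`-adically complete as a ring when `M` is a module-finite `A`-algebra and `B` is
Noetherian and `IB`-adically complete. -/
theorem isAdicComplete_tensorProduct_of_finite (I : Ideal A)
    [IsAdicComplete (I.map (algebraMap A B)) B] (M : Type u) [CommRing M] [Algebra A M]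
    [Module.Finite A M] :
    IsAdicComplete (I.map (algebraMap A (M ⊗[A] B))) (M ⊗[A] B) := by
  have h1 : Module.Finite B (B ⊗[A] M) := inferInstance
  have h2 : IsAdicComplete (I.map (algebraMap A B)) (B ⊗[A] M) :=
    Groth.Agent.H89.isAdicComplete_of_finite_noeth _ _
  have h3 : IsAdicComplete I (B ⊗[A] M) :=
    (IsAdicComplete.map_algebraMap_iff (S := B) I (B ⊗[A] M)).mp h2
  have h4 : IsAdicComplete I (M ⊗[A] B) :=
    Groth.Agent.H57.AdicMod.isAdicComplete_of_linearEquiv I (TensorProduct.comm A B M)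
  exact (IsAdicComplete.map_algebraMap_iff (S := M ⊗[A] B) I (M ⊗[A] B)).mpr h4

end complete

section fibre

variable {A B C D : Type u} [CommRing A] [CommRing B] [CommRing C] [CommRing D]
  [Algebra A B] [Algebra A C] [IsNoetherianRing B] [IsNoetherianRing D]

/-- **Fibres of a completed pushout**: if `C ⧸ 𝔞` is module-finite over `A`, then
`D ⧸ 𝔞 D ≃ (C ⧸ 𝔞) ⊗[A] B`. -/
theorem exists_ringEquiv_quotient_tensor (I : Ideal A) [IsAdicComplete (I.map (algebraMap A B)) B]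
    (β : B →+* D) (γ : C →+* D) (H : IsCPushout I (algebraMap A B) (algebraMap A C) β γ)
    (KD : Ideal D) (hKD : KD = I.map (γ.comp (algebraMap A C))) [IsAdicComplete KD D]
    (𝔞 : Ideal C) [Module.Finite A (C ⧸ 𝔞)] :
    ∃ e : (D ⧸ 𝔞.map γ) ≃+* (C ⧸ 𝔞) ⊗[A] B,
      (∀ c : C, e (Ideal.Quotient.mk _ (γ c)) = (Ideal.Quotient.mk 𝔞 c) ⊗ₜ[A] (1 : B)) ∧
      (∀ b : B, e (Ideal.Quotient.mk _ (β b)) = (1 : C ⧸ 𝔞) ⊗ₜ[A] b) := by
  have hcomplF : IsAdicComplete (I.map (algebraMap A ((C ⧸ 𝔞) ⊗[A] B))) ((C ⧸ 𝔞) ⊗[A] B) :=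
    isAdicComplete_tensorProduct_of_finite I (C ⧸ 𝔞)
  let φB : B →+* (C ⧸ 𝔞) ⊗[A] B :=
    (Algebra.TensorProduct.includeRight : B →ₐ[A] (C ⧸ 𝔞) ⊗[A] B).toRingHom
  let φC : C →+* (C ⧸ 𝔞) ⊗[A] B :=
    ((Algebra.TensorProduct.includeLeft : (C ⧸ 𝔞) →ₐ[A] (C ⧸ 𝔞) ⊗[A] B).toRingHom).comp
      (Ideal.Quotient.mk 𝔞)
  have hφB : ∀ b : B, φB b = (1 : C ⧸ 𝔞) ⊗ₜ[A] b := fun b => rfl
  have hφC : ∀ c : C, φC c = (Ideal.Quotient.mk 𝔞 c) ⊗ₜ[A] (1 : B) := fun c => rfl
  have hφCA : φC.comp (algebraMap A C) = algebraMap A ((C ⧸ 𝔞) ⊗[A] B) := by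
    refine RingHom.ext fun a => ?_
    rw [RingHom.comp_apply, hφC, Algebra.TensorProduct.algebraMap_apply]
    rfl
  have hcomp : φB.comp (algebraMap A B) = φC.comp (algebraMap A C) := by
    refine RingHom.ext fun a => ?_
    rw [RingHom.comp_apply, RingHom.comp_apply, hφB, hφC]
    have h0 : Ideal.Quotient.mk 𝔞 (algebraMap A C a) = algebraMap A (C ⧸ 𝔞) a := rfl
    rw [h0, Algebra.algebraMap_eq_smul_one (R := A) (A := B) a,
      Algebra.algebraMap_eq_smul_one (R := A) (A := C ⧸ 𝔞) a, TensorProduct.smul_tmul]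
  have hIJ : I.map (φC.comp (algebraMap A C)) ≤ I.map (algebraMap A ((C ⧸ 𝔞) ⊗[A] B)) := by
    rw [hφCA]
  obtain ⟨ρ, hρβ, hργ⟩ := H.exists_lift _ (I.map (algebraMap A ((C ⧸ 𝔞) ⊗[A] B))) φB φC hcomp hIJ
  have hρβ' : ∀ b : B, ρ (β b) = (1 : C ⧸ 𝔞) ⊗ₜ[A] b := fun b => RingHom.congr_fun hρβ b
  have hργ' : ∀ c : C, ρ (γ c) = (Ideal.Quotient.mk 𝔞 c) ⊗ₜ[A] (1 : B) :=
    fun c => RingHom.congr_fun hργ c
  have hker : ∀ x ∈ 𝔞.map γ, ρ x = 0 := by
    have : 𝔞.map γ ≤ RingHom.ker ρ := by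
      rw [Ideal.map_le_iff_le_comap]
      intro c hc
      rw [Ideal.mem_comap, RingHom.mem_ker, hργ', Ideal.Quotient.eq_zero_iff_mem.mpr hc,
        TensorProduct.zero_tmul]
    exact fun x hx => this hx
  let ρbar : D ⧸ 𝔞.map γ →+* (C ⧸ 𝔞) ⊗[A] B := Ideal.Quotient.lift _ ρ hker
  -- the inverse
  letI algDbar : Algebra A (D ⧸ 𝔞.map γ) :=
    ((Ideal.Quotient.mk (𝔞.map γ)).comp (γ.comp (algebraMap A C))).toAlgebra
  let σC₀ : C →ₐ[A] (D ⧸ 𝔞.map γ) :=
    { (Ideal.Quotient.mk (𝔞.map γ)).comp γ with commutes' := fun a => rfl }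
  let σC : (C ⧸ 𝔞) →ₐ[A] (D ⧸ 𝔞.map γ) := Ideal.Quotient.liftₐ 𝔞 σC₀ (by
    intro c hc
    change Ideal.Quotient.mk (𝔞.map γ) (γ c) = 0
    exact Ideal.Quotient.eq_zero_iff_mem.mpr (Ideal.mem_map_of_mem γ hc))
  let σB : B →ₐ[A] (D ⧸ 𝔞.map γ) :=
    { (Ideal.Quotient.mk (𝔞.map γ)).comp β with
      commutes' := fun a => by
        change Ideal.Quotient.mk (𝔞.map γ) (β (algebraMap A B a)) =
          Ideal.Quotient.mk (𝔞.map γ) (γ (algebraMap A C a))
        have := RingHom.congr_fun H.comm a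
        simp only [RingHom.comp_apply] at this
        rw [this] }
  let σ : (C ⧸ 𝔞) ⊗[A] B →ₐ[A] (D ⧸ 𝔞.map γ) := Algebra.TensorProduct.productMap σC σB
  have hσC : ∀ c : C, σ ((Ideal.Quotient.mk 𝔞 c) ⊗ₜ[A] (1 : B)) =
      Ideal.Quotient.mk (𝔞.map γ) (γ c) := by
    intro c
    rw [Algebra.TensorProduct.productMap_left_apply]
    rfl
  have hσB : ∀ b : B, σ ((1 : C ⧸ 𝔞) ⊗ₜ[A] b) = Ideal.Quotient.mk (𝔞.map γ) (β b) := by
    intro b
    rw [Algebra.TensorProduct.productMap_right_apply]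
    rfl
  -- `ρbar ∘ σ = id`
  have h1 : ρbar.comp σ.toRingHom = RingHom.id _ := by
    refine RingHom.ext fun x => ?_
    induction x using TensorProduct.induction_on with
    | zero => simp
    | add x y hx hy => rw [map_add, map_add, hx, hy]
    | tmul c b =>
      obtain ⟨c, rfl⟩ := Ideal.Quotient.mk_surjective c
      have hcb : (Ideal.Quotient.mk 𝔞 c) ⊗ₜ[A] b =
          ((Ideal.Quotient.mk 𝔞 c) ⊗ₜ[A] (1 : B)) * ((1 : C ⧸ 𝔞) ⊗ₜ[A] b) := by
        rw [Algebra.TensorProduct.tmul_mul_tmul, mul_one, one_mul]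
      rw [RingHom.id_apply, hcb, map_mul, RingHom.comp_apply, RingHom.comp_apply]
      change ρbar (σ _) * ρbar (σ _) = _
      rw [hσC, hσB]
      change ρ (γ c) * ρ (β b) = _
      rw [hργ', hρβ']
  -- `σ ∘ ρbar = id`
  have hHaus : IsHausdorff (KD.map (Ideal.Quotient.mk (𝔞.map γ))) (D ⧸ 𝔞.map γ) :=
    (Groth.Agent.H44.isAdicComplete_quotient KD (𝔞.map γ)).toIsHausdorff
  have h2' : Ideal.Quotient.mk (𝔞.map γ) = σ.toRingHom.comp ρ := by
    refine H.hom_ext _ (KD.map (Ideal.Quotient.mk (𝔞.map γ))) _ _ ?_ ?_ ?_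
    · rw [hKD, Ideal.map_map, RingHom.comp_assoc]
    · refine RingHom.ext fun b => ?_
      simp only [RingHom.comp_apply]
      rw [hρβ']
      exact (hσB b).symm
    · refine RingHom.ext fun c => ?_
      simp only [RingHom.comp_apply]
      rw [hργ']
      exact (hσC c).symm
  have h2 : σ.toRingHom.comp ρbar = RingHom.id _ := by
    apply Ideal.Quotient.ringHom_ext
    refine RingHom.ext fun d => ?_
    have := RingHom.congr_fun h2' d
    simp only [RingHom.comp_apply, RingHom.id_apply] at this ⊢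
    have h3 : ρbar (Ideal.Quotient.mk _ d) = ρ d := Ideal.Quotient.lift_mk _ _ _
    rw [h3]
    exact this.symm
  refine ⟨RingEquiv.ofRingHom ρbar σ.toRingHom h1 h2, ?_, ?_⟩
  · intro c
    change ρ (γ c) = _
    exact hργ' c
  · intro b
    change ρ (β b) = _
    exact hρβ' b

end fibre

end Groth.Agent.H57.CL
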