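import Mathlib
import Groth.Prelude.Def_Found
import Groth.Prelude.Def_EGA4b
import Groth.Agent.H23.GRMain
import Groth.Agent.H23.GRDescent
import Groth.Agent.H26.RegHomComp
import Groth.Agent.H26.SkFlat
import Groth.Agent.H72.ExcellentLoc
import Groth.Agent.H72.HensGRing
import Groth.Agent.Lead.CompletionIAdic

/-!
# A Noetherian ring is a G-ring iff the completion maps at maximal ideals are regular

* `isRegularHom_of_isLocalization'` : a localization map of a Noetherian ring is a regular
  homomorphism.
* `isGRing_of_isRegularHom_cpl` : a Noetherian local ring `A` with `A → Â` regular is a G-ring.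
* `isGRing_iff_forall_maximal`.
-/

set_option autoImplicit false
set_option linter.style.haveILetI false
set_option linter.unusedSectionVars false
universe u

namespace Groth.Agent.H57.GRingMax

open IsLocalRing TensorProduct Groth.Agent.H14.HensProp

/-- A localization map of a Noetherian ring is a regular homomorphism. -/
theorem isRegularHom_localization (A S : Type u) [CommRing A] [CommRing S] [Algebra A S]
    [IsNoetherianRing A] (M : Submonoid A) [IsLocalization M S] : CAlg.IsRegularHom A S := by
  haveI : IsNoetherianRing S := IsLocalization.isNoetherianRing M S inferInstance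
  haveI : Module.Flat A S := IsLocalization.flat S M
  refine Groth.Agent.H72.HensGRing.isRegularHom_of_inEtImage A S fun x => ?_
  obtain ⟨a, s, rfl⟩ := IsLocalization.exists_mk'_eq M x
  have hs : IsUnit (algebraMap A S (s : A)) := IsLocalization.map_units S s
  let φ : Localization.Away (s : A) →ₐ[A] S :=
    IsLocalization.liftAlgHom (M := Submonoid.powers (s : A)) (f := Algebra.ofId A S)
      (by
        rintro ⟨_, n, rfl⟩
        simpa using hs.pow n)
  refine ⟨Localization.Away (s : A), inferInstance, inferInstance, inferInstance, φ, ?_⟩
  rintro _ rfl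
  refine ⟨IsLocalization.mk' (Localization.Away (s : A)) a
    (⟨(s : A), Submonoid.mem_powers _⟩ : Submonoid.powers (s : A)), ?_⟩
  rw [IsLocalization.eq_mk'_iff_mul_eq]
  have : φ (algebraMap A _ (s : A)) = algebraMap A S (s : A) := φ.commutes _
  rw [← this, ← map_mul, IsLocalization.mk'_spec]
  exact φ.commutes a

/-- A Noetherian local ring whose completion map is regular: the completion maps of all
localizations at primes are regular. -/
theorem isRegularHom_cpl_atPrime (A : Type u) [CommRing A] [IsLocalRing A] [IsNoetherianRing A]
    (hA : CAlg.IsRegularHom A (AdicCompletion (maximalIdeal A) A)) (P : Ideal A) [P.IsPrime] :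
    CAlg.IsRegularHom (Localization.AtPrime P)
      (AdicCompletion (maximalIdeal (Localization.AtPrime P)) (Localization.AtPrime P)) := by
  have hne : maximalIdeal A ≠ ⊤ := Ideal.IsPrime.ne_top inferInstance
  have hfg : (maximalIdeal A).FG := Ideal.fg_of_isNoetherianRing _
  haveI hRloc : IsLocalRing (AdicCompletion (maximalIdeal A) A) :=
    Groth.Agent.Lead.RLR.isLocalRing_adicCompletion A _ hne
  haveI hRnoeth : IsNoetherianRing (AdicCompletion (maximalIdeal A) A) :=
    Groth.Agent.Lead.RLR.isNoetherianRing_adicCompletion' A _
  haveI hRlh : IsLocalHom (algebraMap A (AdicCompletion (maximalIdeal A) A)) :=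
    Groth.Agent.Lead.RLR.isLocalHom_algebraMap_adicCompletion A _ hne
  have hmax : maximalIdeal (AdicCompletion (maximalIdeal A) A) =
      (maximalIdeal A).map (algebraMap A (AdicCompletion (maximalIdeal A) A)) :=
    Groth.Agent.Lead.RLR.maximalIdeal_adicCompletion_eq_map A _ hne
  haveI hRff : Module.FaithfullyFlat A (AdicCompletion (maximalIdeal A) A) :=
    Module.FaithfullyFlat.of_flat_of_isLocalHom
  haveI hRc : IsAdicComplete (maximalIdeal (AdicCompletion (maximalIdeal A) A))
      (AdicCompletion (maximalIdeal A) A) := by
    rw [hmax]
    exact AdicCompletion.isAdicComplete_self _ hfg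
  set R := AdicCompletion (maximalIdeal A) A with hR
  have hG : CAlg.IsGRing R := Groth.Agent.H23.GR.isGRing_of_complete R
  -- a prime over `P`
  obtain ⟨⟨Q, hQ⟩, hcomap⟩ := PrimeSpectrum.comap_surjective_of_faithfullyFlat
    (A := A) (B := R) ⟨P, inferInstance⟩
  have hQP : Q.comap (algebraMap A R) = P := congrArg PrimeSpectrum.asIdeal hcomap
  haveI : Q.LiesOver P := ⟨hQP.symm⟩
  -- the localizations
  set B := Localization.AtPrime P with hB
  set C := Localization.AtPrime Q with hC
  haveI : IsNoetherianRing B := IsLocalization.isNoetherianRing P.primeCompl B inferInstance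
  haveI : IsNoetherianRing C := IsLocalization.isNoetherianRing Q.primeCompl C inferInstance
  letI algBC : Algebra B C := Localization.AtPrime.algebraOfLiesOver P Q
  haveI : IsScalarTower A R C := inferInstance
  haveI : IsScalarTower A B C :=
    inferInstanceAs (IsScalarTower A (Localization.AtPrime P) (Localization.AtPrime Q))
  haveI : IsLocalHom (algebraMap B C) :=
    Localization.isLocalHom_localRingHom P Q (algebraMap A R) Ideal.LiesOver.over
  -- `A → C` is regular
  have hRC : CAlg.IsRegularHom R C := isRegularHom_localization R C Q.primeCompl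
  have hAC : CAlg.IsRegularHom A C :=
    Groth.Agent.H26.RegHomComp.isRegularHom_comp A R C hA hRC
      (fun p _ => Groth.Agent.H26.SkFlat.isNoetherianRing_fiber C p)
  have hBC : CAlg.IsRegularHom B C :=
    Groth.Agent.H23.GRDescent.isRegularHom_of_isLocalization A B C P.primeCompl hAC
  haveI : Module.Flat B C := hBC.1
  exact Groth.Agent.H72.ExcellentLoc.isRegularHom_compl_of_flat B C hBC (hG.2 Q)

/-- A Noetherian local ring whose completion map is regular is a G-ring. -/
theorem isGRing_of_isRegularHom_cpl (A : Type u) [CommRing A] [IsLocalRing A]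
    [IsNoetherianRing A] (hA : CAlg.IsRegularHom A (AdicCompletion (maximalIdeal A) A)) :
    CAlg.IsGRing A :=
  ⟨inferInstance, fun P _ => isRegularHom_cpl_atPrime A hA P⟩

/-- A Noetherian ring is a G-ring iff the completion maps of its localizations at maximal ideals
are regular. -/
theorem isGRing_iff_forall_maximal {R : Type u} [CommRing R] [IsNoetherianRing R] :
    CAlg.IsGRing R ↔ ∀ (m : Ideal R) [m.IsMaximal],
      CAlg.IsRegularHom (Localization.AtPrime m)
        (AdicCompletion (maximalIdeal (Localization.AtPrime m)) (Localization.AtPrime m)) := by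
  refine ⟨fun h m _ => h.2 m, fun h => ⟨inferInstance, fun p hp => ?_⟩⟩
  obtain ⟨m, hm, hpm⟩ := Ideal.exists_le_maximal p hp.ne_top
  haveI := hm
  set A := Localization.AtPrime m with hA
  haveI : IsNoetherianRing A := IsLocalization.isNoetherianRing m.primeCompl A inferInstance
  have hG : CAlg.IsGRing A := isGRing_of_isRegularHom_cpl A (h m)
  have hdisj : Disjoint (m.primeCompl : Set R) (p : Set R) := by
    rw [Set.disjoint_left]
    intro x hx hxp
    exact hx (hpm hxp)
  set P : Ideal A := p.map (algebraMap R A) with hP
  haveI hPprime : P.IsPrime := IsLocalization.isPrime_of_isPrime_disjoint m.primeCompl A p hp hdisj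
  have hcomap : P.comap (algebraMap R A) = p :=
    IsLocalization.comap_map_of_isPrime_disjoint m.primeCompl A hp hdisj
  have key : ∀ (p' : Ideal R) [p'.IsPrime], p' = P.comap (algebraMap R A) →
      CAlg.IsRegularHom (Localization.AtPrime p')
        (AdicCompletion (maximalIdeal (Localization.AtPrime p')) (Localization.AtPrime p')) := by
    rintro p' hp' rfl
    have hloc : IsLocalization.AtPrime (Localization.AtPrime P) (P.comap (algebraMap R A)) :=
      IsLocalization.isLocalization_isLocalization_atPrime_isLocalization m.primeCompl
        (Localization.AtPrime P) P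
    let e : Localization.AtPrime P ≃+* Localization.AtPrime (P.comap (algebraMap R A)) :=
      (IsLocalization.algEquiv (P.comap (algebraMap R A)).primeCompl
        (Localization.AtPrime P) (Localization.AtPrime (P.comap (algebraMap R A)))).toRingEquiv
    haveI hN1 : IsNoetherianRing (Localization.AtPrime (P.comap (algebraMap R A))) :=
      IsLocalization.isNoetherianRing (P.comap (algebraMap R A)).primeCompl _ inferInstance
    haveI hN2 : IsNoetherianRing (Localization.AtPrime P) :=
      IsLocalization.isNoetherianRing P.primeCompl _ inferInstance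
    exact Groth.Agent.H72.ExcellentLoc.isRegularHom_compl_of_ringEquiv e (hG.2 P)
  exact key p hcomap.symm

end Groth.Agent.H57.GRingMax
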