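import Mathlib
import Groth.Agent.Lead.RegularLocal4
import Groth.Agent.H19.QuasiReg
import Groth.Agent.H61.EssFTPresent

/-!
# Regular local rings and infinitesimal lifting against local Artinian algebras

For a local `k`-algebra `A` essentially of finite type with residue field `k`, `A` is regular iff
every `k`-algebra map `A → B'/J` (`B'` local, finite over `k`, `J² = 0`) lifts to `B'`.
-/

set_option autoImplicit false
set_option linter.style.haveILetI false
set_option linter.unusedSectionVars false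
universe u
open IsLocalRing

namespace Groth.Agent.H57.RegLiftArt

/-- the residue field is `k` -/
def ResK (k : Type*) [Field k] (P : Type*) [CommRing P] [IsLocalRing P] [Algebra k P] : Prop :=
  ∀ p : P, ∃ c : k, p - algebraMap k P c ∈ maximalIdeal P

/-- the lifting property against square-zero extensions of local finite `k`-algebras -/
def LiftProp (k : Type u) [Field k] (A : Type u) [CommRing A] [Algebra k A] : Prop :=
  ∀ (B' : Type u) [CommRing B'] [IsLocalRing B'] [Algebra k B'] [Module.Finite k B']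
    (J : Ideal B'), J ^ 2 = ⊥ → ∀ f : A →ₐ[k] B' ⧸ J,
      ∃ g : A →ₐ[k] B', (Ideal.Quotient.mkₐ k J).comp g = f

section finite

variable {k : Type u} [Field k] {P : Type u} [CommRing P] [IsLocalRing P] [Algebra k P]

theorem exists_fg_add_pow [IsNoetherianRing P] (hk : ResK k P) (j : ℕ) :
    ∃ V : Submodule k P, V.FG ∧ ∀ p : P, ∃ v ∈ V, p - v ∈ maximalIdeal P ^ j := by
  classical
  induction j with
  | zero => exact ⟨⊥, Submodule.fg_bot, fun p => ⟨0, Submodule.zero_mem _, by simp⟩⟩
  | succ j ih =>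
    obtain ⟨V, hV, hVp⟩ := ih
    obtain ⟨s, hs⟩ := (isNoetherianRing_iff_ideal_fg P).1 inferInstance (maximalIdeal P ^ j)
    refine ⟨V ⊔ Submodule.span k (s : Set P), hV.sup (Submodule.fg_span s.finite_toSet), ?_⟩
    intro p
    obtain ⟨v, hv, hpv⟩ := hVp p
    rw [← hs] at hpv
    obtain ⟨r, -, hr⟩ := Submodule.mem_span_finset.1 hpv
    choose c hc using hk
    refine ⟨v + ∑ y ∈ s, c (r y) • y, ?_, ?_⟩
    · refine Submodule.add_mem _ (Submodule.mem_sup_left hv) (Submodule.mem_sup_right ?_)
      exact Submodule.sum_mem _ fun y hy =>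
        Submodule.smul_mem _ _ (Submodule.subset_span hy)
    · have h1 : p - (v + ∑ y ∈ s, c (r y) • y) =
          ∑ y ∈ s, (r y - algebraMap k P (c (r y))) * y := by
        rw [← sub_sub, ← hr, ← Finset.sum_sub_distrib]
        refine Finset.sum_congr rfl fun y _ => ?_
        rw [smul_eq_mul, Algebra.smul_def (c (r y)) y, sub_mul]
      rw [h1, pow_succ']
      refine Ideal.sum_mem _ fun y hy => Ideal.mul_mem_mul (hc (r y)) ?_
      rw [← hs]
      exact Ideal.subset_span hy

theorem finite_quot_pow [IsNoetherianRing P] (hk : ResK k P) (j : ℕ) :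
    Module.Finite k (P ⧸ maximalIdeal P ^ j) := by
  obtain ⟨V, hV, hVp⟩ := exists_fg_add_pow hk j
  haveI : Module.Finite k V := Module.Finite.iff_fg.2 hV
  let ψ : V →ₗ[k] P ⧸ maximalIdeal P ^ j :=
    ((Ideal.Quotient.mkₐ k (maximalIdeal P ^ j)).toLinearMap).comp V.subtype
  apply Module.Finite.of_surjective ψ
  intro q
  obtain ⟨p, rfl⟩ := Ideal.Quotient.mk_surjective q
  obtain ⟨v, hv, hpv⟩ := hVp p
  refine ⟨⟨v, hv⟩, ?_⟩
  change Ideal.Quotient.mk _ v = Ideal.Quotient.mk _ p
  rw [Ideal.Quotient.eq]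
  have := Ideal.neg_mem_iff _ |>.2 hpv
  rwa [neg_sub] at this

end finite

section keyL

variable {k : Type u} [Field k] {P A : Type u} [CommRing P] [IsLocalRing P] [IsNoetherianRing P]
  [Algebra k P] [CommRing A] [Algebra k A]

theorem isLocalRing_quot_pow (j : ℕ) : IsLocalRing (P ⧸ maximalIdeal P ^ (j + 1)) := by
  haveI : Nontrivial (P ⧸ maximalIdeal P ^ (j + 1)) := Ideal.Quotient.nontrivial_iff.2 (by
    intro h
    have h1 : maximalIdeal P ^ (j + 1) ≤ maximalIdeal P := Ideal.pow_le_self (Nat.succ_ne_zero j)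
    rw [h] at h1
    exact (maximalIdeal.isMaximal P).ne_top (eq_top_iff.2 h1))
  exact IsLocalRing.of_surjective' (Ideal.Quotient.mk _) Ideal.Quotient.mk_surjective

/-- Key step: if `A = P/I` has the lifting property and `I ≤ 𝔪ⁿ` with `n ≥ 2` then `I ≤ 𝔪ⁿ⁺¹`. -/
theorem ker_le_pow_succ (hk : ResK k P) (π : P →ₐ[k] A) (hπ : Function.Surjective π)
    (hL : LiftProp k A) (n : ℕ) (hn : 2 ≤ n)
    (hI : RingHom.ker π ≤ maximalIdeal P ^ n) : RingHom.ker π ≤ maximalIdeal P ^ (n + 1) := by
  set 𝔪 := maximalIdeal P with h𝔪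
  haveI : IsLocalRing (P ⧸ 𝔪 ^ (n + 1)) := isLocalRing_quot_pow n
  haveI : Module.Finite k (P ⧸ 𝔪 ^ (n + 1)) := finite_quot_pow hk (n + 1)
  let mk : P →ₐ[k] P ⧸ 𝔪 ^ (n + 1) := Ideal.Quotient.mkₐ k _
  have hmk : ∀ p, mk p = Ideal.Quotient.mk (𝔪 ^ (n + 1)) p := fun p => rfl
  let E : ℕ → Ideal (P ⧸ 𝔪 ^ (n + 1)) := fun j => (𝔪 ^ j).map mk
  have hEanti : ∀ {a b : ℕ}, b ≤ a → E a ≤ E b := fun {a b} hab =>
    Ideal.map_mono (Ideal.pow_le_pow_right hab)
  have hEmul : ∀ a b : ℕ, E a * E b = E (a + b) := fun a b => by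
    change (𝔪 ^ a).map mk * (𝔪 ^ b).map mk = (𝔪 ^ (a + b)).map mk
    rw [← Ideal.map_mul, ← pow_add]
  have hEbot : E (n + 1) = ⊥ := by
    change (𝔪 ^ (n + 1)).map (Ideal.Quotient.mk (𝔪 ^ (n + 1))) = ⊥
    exact Ideal.map_quotient_self _
  have hEmem : ∀ {j : ℕ} {p : P}, p ∈ 𝔪 ^ j → mk p ∈ E j := fun {j p} hp =>
    Ideal.mem_map_of_mem _ hp
  let J : Ideal (P ⧸ 𝔪 ^ (n + 1)) := (RingHom.ker π).map mk
  have hJE : J ≤ E n := Ideal.map_mono hI
  have hJ2 : J ^ 2 = ⊥ := by
    rw [eq_bot_iff, ← hEbot]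
    calc J ^ 2 ≤ E n ^ 2 := Ideal.pow_right_mono hJE 2
      _ = E (n + n) := by rw [pow_two, hEmul]
      _ ≤ E (n + 1) := hEanti (by omega)
  let q₂ : P →ₐ[k] (P ⧸ 𝔪 ^ (n + 1)) ⧸ J := (Ideal.Quotient.mkₐ k J).comp mk
  have hq₂ : RingHom.ker π.toRingHom ≤ RingHom.ker q₂.toRingHom := by
    intro p hp
    rw [RingHom.mem_ker]
    change Ideal.Quotient.mk J (mk p) = 0
    rw [Ideal.Quotient.eq_zero_iff_mem]
    exact Ideal.mem_map_of_mem _ hp
  let f : A →ₐ[k] (P ⧸ 𝔪 ^ (n + 1)) ⧸ J := AlgHom.liftOfSurjective π hπ q₂ hq₂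
  obtain ⟨g, hg⟩ := hL (P ⧸ 𝔪 ^ (n + 1)) J hJ2 f
  let h : P →ₐ[k] P ⧸ 𝔪 ^ (n + 1) := g.comp π
  -- (1) `h ≡ mk` modulo `J`
  have h1 : ∀ p, h p - mk p ∈ E n := by
    intro p
    apply hJE
    rw [← Ideal.Quotient.eq]
    have e1 : Ideal.Quotient.mk J (h p) = ((Ideal.Quotient.mkₐ k J).comp g) (π p) := rfl
    rw [e1, hg]
    exact AlgHom.liftOfSurjective_apply π hπ q₂ hq₂ p
  -- (2) `h` maps `𝔪` into `E 1`
  have h2 : ∀ p ∈ 𝔪, h p ∈ E 1 := by
    intro p hp
    have : h p = (h p - mk p) + mk p := by ring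
    rw [this]
    refine Ideal.add_mem _ (hEanti (by omega) (h1 p)) (hEmem ?_)
    rwa [pow_one]
  -- (3) on `𝔪^(j+1)`, `h ≡ mk` modulo `E (n + j)`
  have h3 : ∀ j : ℕ, ∀ x ∈ 𝔪 ^ (j + 1), h x - mk x ∈ E (n + j) := by
    intro j
    induction j with
    | zero => intro x _; exact h1 x
    | succ j ih =>
      intro x hx
      rw [pow_succ] at hx
      refine Submodule.mul_induction_on hx (fun a ha b hb => ?_) (fun a b ha hb => ?_)
      · have e : h (a * b) - mk (a * b) = (h a - mk a) * h b + mk a * (h b - mk b) := by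
          rw [map_mul, map_mul]; ring
        rw [e]
        refine Ideal.add_mem _ ?_ ?_
        · have := Ideal.mul_mem_mul (ih a ha) (h2 b hb)
          rw [hEmul] at this
          exact this
        · have := Ideal.mul_mem_mul (hEmem ha) (h1 b)
          rw [hEmul] at this
          exact hEanti (by omega) this
      · have e : h (a + b) - mk (a + b) = (h a - mk a) + (h b - mk b) := by
          rw [map_add, map_add]; ring
        rw [e]
        exact Ideal.add_mem _ ha hb
  intro x hx
  have hxn : x ∈ 𝔪 ^ ((n - 1) + 1) := by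
    have : n - 1 + 1 = n := by omega
    rw [this]; exact hI hx
  have h4 := hEanti (show n + 1 ≤ n + (n - 1) by omega) (h3 (n - 1) x hxn)
  rw [hEbot, Ideal.mem_bot] at h4
  have h5 : h x = 0 := by
    change g (π x) = 0
    rw [(RingHom.mem_ker).1 hx, map_zero]
  rw [h5, zero_sub, neg_eq_zero] at h4
  exact Ideal.Quotient.eq_zero_iff_mem.1 h4

/-- If `A = P/I` has the lifting property and `I ≤ 𝔪²` then `I = 0`. -/
theorem ker_eq_bot (hk : ResK k P) (π : P →ₐ[k] A) (hπ : Function.Surjective π)
    (hL : LiftProp k A) (hI : RingHom.ker π ≤ maximalIdeal P ^ 2) : RingHom.ker π = ⊥ := by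
  have hall : ∀ n : ℕ, RingHom.ker π ≤ maximalIdeal P ^ (n + 2) := by
    intro n
    induction n with
    | zero => exact hI
    | succ n ih => exact ker_le_pow_succ hk π hπ hL (n + 2) (by omega) ih
  rw [eq_bot_iff, ← Ideal.iInf_pow_eq_bot_of_isLocalRing (maximalIdeal P)
    (maximalIdeal.isMaximal P).ne_top]
  refine le_iInf fun n => ?_
  exact (hall n).trans (Ideal.pow_le_pow_right (by omega))

end keyL

section converse

variable {k : Type u} [Field k]

theorem resK_quotient {P : Type u} [CommRing P] [IsLocalRing P] [Algebra k P] (hk : ResK k P)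
    (I : Ideal P) [IsLocalRing (P ⧸ I)] : ResK k (P ⧸ I) := by
  intro q
  obtain ⟨p, rfl⟩ := Ideal.Quotient.mk_surjective q
  obtain ⟨c, hc⟩ := hk p
  refine ⟨c, ?_⟩
  rw [← map_maximalIdeal_of_surjective (Ideal.Quotient.mk I) Ideal.Quotient.mk_surjective]
  have : Ideal.Quotient.mk I p - algebraMap k (P ⧸ I) c =
      Ideal.Quotient.mk I (p - algebraMap k P c) := by
    rw [map_sub]; rfl
  rw [this]
  exact Ideal.mem_map_of_mem _ hc

theorem regular_of_surjective_aux {A : Type u} [CommRing A] [Algebra k A] [Nontrivial A]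
    (hL : LiftProp k A) :
    ∀ (d : ℕ) (P : Type u) [CommRing P] [IsRegularLocalRing P] [Algebra k P],
      ResK k P → (maximalIdeal P).spanFinrank = d → ∀ π : P →ₐ[k] A, Function.Surjective π →
      IsRegularLocalRing A := by
  intro d
  induction d with
  | zero =>
    intro P _ _ _ hk hd π hπ
    have hkertop : RingHom.ker π ≠ ⊤ := RingHom.ker_ne_top _
    by_cases h2 : RingHom.ker π ≤ maximalIdeal P ^ 2
    · have hbot := ker_eq_bot hk π hπ hL h2
      have hinj : Function.Injective π := (RingHom.injective_iff_ker_eq_bot _).2 hbot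
      exact IsRegularLocalRing.of_ringEquiv (RingEquiv.ofBijective π ⟨hinj, hπ⟩)
    · exfalso
      obtain ⟨x, hxk, hx2⟩ := SetLike.not_le_iff_exists.1 h2
      have hxm : x ∈ maximalIdeal P := IsLocalRing.le_maximalIdeal hkertop hxk
      obtain ⟨t, ht, -⟩ := Lead.RLR.exists_finset_span_insert P x hxm hx2
      omega
  | succ d ih =>
    intro P _ _ _ hk hd π hπ
    have hkertop : RingHom.ker π ≠ ⊤ := RingHom.ker_ne_top _
    by_cases h2 : RingHom.ker π ≤ maximalIdeal P ^ 2
    · have hbot := ker_eq_bot hk π hπ hL h2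
      have hinj : Function.Injective π := (RingHom.injective_iff_ker_eq_bot _).2 hbot
      exact IsRegularLocalRing.of_ringEquiv (RingEquiv.ofBijective π ⟨hinj, hπ⟩)
    · obtain ⟨x, hxk, hx2⟩ := SetLike.not_le_iff_exists.1 h2
      have hxm : x ∈ maximalIdeal P := IsLocalRing.le_maximalIdeal hkertop hxk
      obtain ⟨t, ht, hspan⟩ := Lead.RLR.exists_finset_span_insert P x hxm hx2
      obtain ⟨hreg, hdim, -⟩ := Lead.RLR.quotient_regular P x t hspan ht.le
      haveI := hreg
      have hd' : (maximalIdeal (P ⧸ Ideal.span {x})).spanFinrank = d := by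
        have e1 := Lead.RLR.ringKrullDim_eq_spanFinrank (P ⧸ Ideal.span {x})
        have e2 := Lead.RLR.ringKrullDim_eq_spanFinrank P
        rw [e1, e2, hd] at hdim
        have : (maximalIdeal (P ⧸ Ideal.span {x})).spanFinrank + 1 = d + 1 := by
          exact_mod_cast hdim
        omega
      have hle : Ideal.span {x} ≤ RingHom.ker π := (Ideal.span_singleton_le_iff_mem _).2 hxk
      let π' : P ⧸ Ideal.span {x} →ₐ[k] A :=
        Ideal.Quotient.liftₐ (Ideal.span {x}) π (fun a ha => (RingHom.mem_ker).1 (hle ha))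
      have hπ' : Function.Surjective π' := by
        intro a
        obtain ⟨p, rfl⟩ := hπ a
        exact ⟨Ideal.Quotient.mk _ p, rfl⟩
      exact ih (P ⧸ Ideal.span {x}) (resK_quotient hk _) hd' π' hπ'

theorem regular_of_liftProp {A : Type u} [CommRing A] [IsLocalRing A] [Algebra k A]
    [Algebra.EssFiniteType k A]
    (hres : Function.Surjective (algebraMap k (IsLocalRing.ResidueField A)))
    (hL : LiftProp k A) : IsRegularLocalRing A := by
  have hbij : Function.Bijective (Algebra.ofId k (IsLocalRing.ResidueField A)) :=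
    ⟨(algebraMap k (IsLocalRing.ResidueField A)).injective, hres⟩
  let e : k ≃ₐ[k] IsLocalRing.ResidueField A := AlgEquiv.ofBijective _ hbij
  let res : A →ₐ[k] k :=
    (e.symm : IsLocalRing.ResidueField A →ₐ[k] k).comp
      (IsScalarTower.toAlgHom k A (IsLocalRing.ResidueField A))
  obtain ⟨P, _, _, hreg, π, hπ, -⟩ := Groth.Agent.H61.exists_regular_presentation res
  haveI := hreg
  have hkP : ResK k P := by
    intro p
    refine ⟨res (π p), ?_⟩
    rw [IsLocalRing.mem_maximalIdeal, mem_nonunits_iff]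
    intro hu
    have h1 : res (π (p - algebraMap k P (res (π p)))) = 0 := by
      rw [map_sub, map_sub, AlgHom.commutes, AlgHom.commutes]
      simp
    have h2 := (hu.map π).map res
    rw [h1] at h2
    exact not_isUnit_zero h2
  exact regular_of_surjective_aux hL _ P hkP rfl π hπ

end converse

section forward

open MvPolynomial

variable {k : Type u} [Field k] {A : Type u} [CommRing A] [IsLocalRing A] [Algebra k A]
variable {d : ℕ} (x : Fin d → A)

theorem aeval_mem_pow {B : Type*} [CommRing B] [Algebra k B] (b : Fin d → B) (𝔫 : Ideal B)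
    (hb : ∀ i, b i ∈ 𝔫) {j : ℕ} {F : MvPolynomial (Fin d) k} (hF : F.IsHomogeneous j) :
    aeval b F ∈ 𝔫 ^ j := by
  have h1 : aeval b F = eval b (map (algebraMap k B) F) := by
    rw [aeval_def, eval_map]
  have h2 := Groth.Agent.H19.QReg.eval_mem b ⊤ (hF.map (algebraMap k B)) (fun _ => trivial)
  rw [← h1, Ideal.top_mul] at h2
  refine Ideal.pow_right_mono ?_ j h2
  rw [Ideal.span_le]
  rintro _ ⟨i, rfl⟩
  exact hb i

theorem eq_zero_of_homog_of_aeval_mem (hx : Ideal.span (Set.range x) = maximalIdeal A)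
    (hqr : CAlgX.IsQuasiRegular x) {j : ℕ} {F : MvPolynomial (Fin d) k} (hF : F.IsHomogeneous j)
    (h : aeval x F ∈ maximalIdeal A ^ (j + 1)) : F = 0 := by
  have h1 : aeval x F = eval x (map (algebraMap k A) F) := by
    rw [aeval_def, eval_map]
  rw [h1, ← hx] at h
  have h2 := hqr j (map (algebraMap k A) F) (hF.map _) h
  ext e
  rw [coeff_zero]
  by_contra hne
  have h3 := h2 e
  rw [coeff_map, hx] at h3
  exact h3 ((isUnit_iff_ne_zero.2 hne).map (algebraMap k A))

theorem homogeneousComponent_eq_zero_of_aeval_mem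
    (hx : Ideal.span (Set.range x) = maximalIdeal A)
    (hqr : CAlgX.IsQuasiRegular x) (M : ℕ) (F : MvPolynomial (Fin d) k)
    (h : aeval x F ∈ maximalIdeal A ^ M) : ∀ j < M, homogeneousComponent j F = 0 := by
  classical
  intro j
  induction j using Nat.strong_induction_on with
  | _ j ih =>
    intro hjM
    have hxm : ∀ i, x i ∈ maximalIdeal A := fun i => by
      rw [← hx]; exact Ideal.subset_span ⟨i, rfl⟩
    by_cases hjD : j ∈ Finset.range (F.totalDegree + 1)
    · apply eq_zero_of_homog_of_aeval_mem x hx hqr (homogeneousComponent_isHomogeneous j F)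
      have hsum : aeval x F = ∑ i ∈ Finset.range (F.totalDegree + 1),
          aeval x (homogeneousComponent i F) := by
        rw [← map_sum, sum_homogeneousComponent]
      rw [← Finset.add_sum_erase _ _ hjD] at hsum
      have e : aeval x (homogeneousComponent j F) = aeval x F -
          ∑ i ∈ (Finset.range (F.totalDegree + 1)).erase j,
            aeval x (homogeneousComponent i F) := by
        rw [hsum]; ring
      rw [e]
      refine Ideal.sub_mem _ (Ideal.pow_le_pow_right (by omega) h) (Ideal.sum_mem _ ?_)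
      intro i hi
      have hij : i ≠ j := (Finset.mem_erase.1 hi).1
      rcases lt_or_gt_of_ne hij with hlt | hgt
      · rw [ih i hlt (by omega), map_zero]
        exact Ideal.zero_mem _
      · exact Ideal.pow_le_pow_right (by omega)
          (aeval_mem_pow x _ hxm (homogeneousComponent_isHomogeneous i F))
    · apply homogeneousComponent_eq_zero
      rw [Finset.mem_range] at hjD
      omega

theorem exists_aeval_sub_mem_succ (hk : ResK k A)
    (hx : Ideal.span (Set.range x) = maximalIdeal A) (j : ℕ) :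
    ∀ r ∈ maximalIdeal A ^ j, ∃ F : MvPolynomial (Fin d) k,
      r - aeval x F ∈ maximalIdeal A ^ (j + 1) := by
  induction j with
  | zero =>
    intro r _
    obtain ⟨c, hc⟩ := hk r
    refine ⟨C c, ?_⟩
    rw [aeval_C, zero_add, pow_one]
    exact hc
  | succ j ih =>
    intro r hr
    rw [pow_succ] at hr
    refine Submodule.mul_induction_on hr (fun a ha b hb => ?_) (fun a b ha hb => ?_)
    · rw [← hx] at hb
      obtain ⟨s, hs⟩ := (Ideal.mem_span_range_iff_exists_fun).1 hb
      have hF : ∀ l : Fin d, ∃ F : MvPolynomial (Fin d) k,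
          a * s l - aeval x F ∈ maximalIdeal A ^ (j + 1) :=
        fun l => ih (a * s l) (Ideal.mul_mem_right _ _ ha)
      choose G hG using hF
      refine ⟨∑ l, G l * X l, ?_⟩
      have e : a * b - aeval x (∑ l, G l * X l) = ∑ l, (a * s l - aeval x (G l)) * x l := by
        rw [← hs, map_sum, Finset.mul_sum, ← Finset.sum_sub_distrib]
        refine Finset.sum_congr rfl fun l _ => ?_
        rw [map_mul, aeval_X]; ring
      rw [e, pow_succ (maximalIdeal A) (j + 1)]
      refine Ideal.sum_mem _ fun l _ => Ideal.mul_mem_mul (hG l) ?_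
      rw [← hx]; exact Ideal.subset_span ⟨l, rfl⟩
    · obtain ⟨Fa, hFa⟩ := ha
      obtain ⟨Fb, hFb⟩ := hb
      refine ⟨Fa + Fb, ?_⟩
      have e : a + b - aeval x (Fa + Fb) = (a - aeval x Fa) + (b - aeval x Fb) := by
        rw [map_add]; ring
      rw [e]
      exact Ideal.add_mem _ hFa hFb

theorem exists_aeval_sub_mem (hk : ResK k A)
    (hx : Ideal.span (Set.range x) = maximalIdeal A) (j : ℕ) :
    ∀ a : A, ∃ F : MvPolynomial (Fin d) k, a - aeval x F ∈ maximalIdeal A ^ j := by
  induction j with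
  | zero => intro a; exact ⟨0, by simp⟩
  | succ j ih =>
    intro a
    obtain ⟨F₁, h₁⟩ := ih a
    obtain ⟨F₂, h₂⟩ := exists_aeval_sub_mem_succ x hk hx j _ h₁
    refine ⟨F₁ + F₂, ?_⟩
    have e : a - aeval x (F₁ + F₂) = a - aeval x F₁ - aeval x F₂ := by
      rw [map_add]; ring
    rw [e]; exact h₂

end forward

section forwardMain

open MvPolynomial

variable {k : Type u} [Field k]

theorem liftProp_of_regular [IsAlgClosed k] {A : Type u} [CommRing A] [IsRegularLocalRing A]
    [Algebra k A] (hk : ResK k A) : LiftProp k A := by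
  intro B' _ _ _ _ J hJ2 f
  classical
  -- regular parameters
  obtain ⟨d, hd, -⟩ := Lead.RLR.exists_ringKrullDim_eq A
  have hsf : (maximalIdeal A).spanFinrank = d := by
    have := Lead.RLR.ringKrullDim_eq_spanFinrank A
    rw [hd] at this
    exact_mod_cast this.symm
  obtain ⟨s, hs1, hs2⟩ := Submodule.FG.exists_span_finset_card_eq_spanFinrank
    ((isNoetherianRing_iff_ideal_fg A).1 inferInstance (maximalIdeal A))
  obtain ⟨x, hxr⟩ := Lead.RLR.exists_fin_range_eq s d (hs1.trans hsf)
  have hx : Ideal.span (Set.range x) = maximalIdeal A := by rw [hxr]; exact hs2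
  have hxm : ∀ i, x i ∈ maximalIdeal A := fun i => by
    rw [← hx]; exact Ideal.subset_span ⟨i, rfl⟩
  have hreg := Lead.RLR.isRegular_ofFn A d hd x hx
  have hqr := Groth.Agent.H19.QReg.isQuasiRegular_of_isWeaklyRegular x hreg.toIsWeaklyRegular
  -- facts on `B'`
  haveI : IsArtinianRing B' := IsArtinianRing.of_finite k B'
  obtain ⟨M, hM⟩ : ∃ M, maximalIdeal B' ^ M = ⊥ := by
    have := IsArtinianRing.isNilpotent_jacobson_bot (R := B')
    rw [IsLocalRing.jacobson_eq_maximalIdeal ⊥ bot_ne_top] at this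
    exact this
  have hJtop : J ≠ ⊤ := by
    rintro rfl
    rw [Ideal.top_pow] at hJ2
    exact top_ne_bot hJ2
  haveI : Nontrivial (B' ⧸ J) := Ideal.Quotient.nontrivial_iff.2 hJtop
  have hJm : J ≤ maximalIdeal B' := IsLocalRing.le_maximalIdeal hJtop
  have hkB : ResK k B' := by
    intro b
    haveI : Module.Finite k (ResidueField B') :=
      Module.Finite.of_surjective (IsScalarTower.toAlgHom k B' (ResidueField B')).toLinearMap
        IsLocalRing.residue_surjective
    haveI : Algebra.IsIntegral k (ResidueField B') := Algebra.IsIntegral.of_finite k _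
    obtain ⟨c, hc⟩ := (IsAlgClosed.algebraMap_bijective_of_isIntegral (k := k)
      (K := ResidueField B')).2 (residue B' b)
    refine ⟨c, ?_⟩
    rw [← IsLocalRing.residue_eq_zero_iff, map_sub, ← hc, sub_eq_zero]
    rfl
  -- `f` is local
  have hfloc : ∀ a ∈ maximalIdeal A, ∀ b : B', Ideal.Quotient.mk J b = f a →
      b ∈ maximalIdeal B' := by
    intro a ha b hb
    by_contra hbm
    obtain ⟨c, hc⟩ := hkB b
    have hc0 : c ≠ 0 := by
      rintro rfl
      rw [map_zero, sub_zero] at hc
      exact hbm hc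
    have hpow : (b - algebraMap k B' c) ^ M = 0 := by
      have := Ideal.pow_mem_pow hc M
      rwa [hM, Ideal.mem_bot] at this
    have hfa : f (a - algebraMap k A c) = Ideal.Quotient.mk J (b - algebraMap k B' c) := by
      rw [map_sub, map_sub, hb, AlgHom.commutes]
      rfl
    have hunit : IsUnit (a - algebraMap k A c) := by
      by_contra hnu
      have h1 : a - algebraMap k A c ∈ maximalIdeal A := hnu
      have h2 : algebraMap k A c ∈ maximalIdeal A := by
        have := Ideal.sub_mem _ ha h1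
        rwa [sub_sub_cancel] at this
      exact h2 ((isUnit_iff_ne_zero.2 hc0).map (algebraMap k A))
    have h3 : f ((a - algebraMap k A c) ^ M) = 0 := by
      rw [map_pow, hfa, ← map_pow, hpow, map_zero]
    have h4 := (hunit.pow M).map f
    rw [h3] at h4
    exact not_isUnit_zero h4
  -- lifts of the images of the parameters
  choose b hb using fun i => Ideal.Quotient.mk_surjective (I := J) (f (x i))
  have hbm : ∀ i, b i ∈ maximalIdeal B' := fun i => hfloc (x i) (hxm i) (b i) (hb i)
  let φ : MvPolynomial (Fin d) k →ₐ[k] B' := aeval b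
  let θ : MvPolynomial (Fin d) k →ₐ[k] A := aeval x
  -- key: the kernel condition
  have hkey : ∀ F : MvPolynomial (Fin d) k, θ F ∈ maximalIdeal A ^ M → φ F = 0 := by
    intro F hF
    have h0 := homogeneousComponent_eq_zero_of_aeval_mem x hx hqr M F hF
    have hsum : φ F = ∑ i ∈ Finset.range (F.totalDegree + 1),
        φ (homogeneousComponent i F) := by
      rw [← map_sum, sum_homogeneousComponent]
    rw [hsum]
    refine Finset.sum_eq_zero fun i _ => ?_
    by_cases hi : i < M
    · rw [h0 i hi, map_zero]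
    · have h1 : φ (homogeneousComponent i F) ∈ maximalIdeal B' ^ i :=
        aeval_mem_pow b _ hbm (homogeneousComponent_isHomogeneous i F)
      have h2 := Ideal.pow_le_pow_right (not_lt.1 hi) h1
      rwa [hM, Ideal.mem_bot] at h2
  let θM : MvPolynomial (Fin d) k →ₐ[k] A ⧸ maximalIdeal A ^ M :=
    (Ideal.Quotient.mkₐ k (maximalIdeal A ^ M)).comp θ
  have hθM : Function.Surjective θM := by
    intro q
    obtain ⟨a, rfl⟩ := Ideal.Quotient.mk_surjective q
    obtain ⟨F, hF⟩ := exists_aeval_sub_mem x hk hx M a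
    refine ⟨F, ?_⟩
    change Ideal.Quotient.mk _ (θ F) = Ideal.Quotient.mk _ a
    rw [Ideal.Quotient.eq]
    have := (Ideal.neg_mem_iff _).2 hF
    rwa [neg_sub] at this
  have hker : RingHom.ker θM.toRingHom ≤ RingHom.ker φ.toRingHom := by
    intro F hF
    rw [RingHom.mem_ker] at hF ⊢
    apply hkey
    exact Ideal.Quotient.eq_zero_iff_mem.1 hF
  let g : A →ₐ[k] B' :=
    (AlgHom.liftOfSurjective θM hθM φ hker).comp (Ideal.Quotient.mkₐ k (maximalIdeal A ^ M))
  refine ⟨g, ?_⟩
  -- `f` kills `𝔪^M`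
  have hfm : ∀ y ∈ maximalIdeal A ^ M, f y = 0 := by
    intro y hy
    have h1 : (maximalIdeal A).map f ≤ (maximalIdeal B').map (Ideal.Quotient.mk J) := by
      rw [Ideal.map_le_iff_le_comap]
      intro a ha
      obtain ⟨b', hb'⟩ := Ideal.Quotient.mk_surjective (I := J) (f a)
      rw [Ideal.mem_comap, ← hb']
      exact Ideal.mem_map_of_mem _ (hfloc a ha b' hb')
    have h2 : f y ∈ (maximalIdeal A ^ M).map f := Ideal.mem_map_of_mem _ hy
    rw [Ideal.map_pow] at h2
    have h3 := Ideal.pow_right_mono h1 M h2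
    rw [← Ideal.map_pow, hM, Ideal.map_bot, Ideal.mem_bot] at h3
    exact h3
  have hcomp : (Ideal.Quotient.mkₐ k J).comp φ = f.comp θ := by
    apply MvPolynomial.algHom_ext
    intro i
    change Ideal.Quotient.mk J (aeval b (X i)) = f (aeval x (X i))
    rw [aeval_X, aeval_X, hb]
  apply AlgHom.ext
  intro a
  obtain ⟨F, hF⟩ := exists_aeval_sub_mem x hk hx M a
  have e1 : Ideal.Quotient.mkₐ k (maximalIdeal A ^ M) a = θM F := by
    change Ideal.Quotient.mk _ a = Ideal.Quotient.mk _ (θ F)
    rw [Ideal.Quotient.eq]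
    exact hF
  have e2 : g a = φ F := by
    change (AlgHom.liftOfSurjective θM hθM φ hker) (Ideal.Quotient.mkₐ k _ a) = φ F
    rw [e1, AlgHom.liftOfSurjective_apply]
  change Ideal.Quotient.mkₐ k J (g a) = f a
  rw [e2]
  have e3 : Ideal.Quotient.mkₐ k J (φ F) = f (θ F) := DFunLike.congr_fun hcomp F
  rw [e3]
  have e4 := hfm _ hF
  rw [map_sub, sub_eq_zero] at e4
  exact e4.symm

end forwardMain

end Groth.Agent.H57.RegLiftArt
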