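import Mathlib
import Groth.Agent.H57.CPushout
import Groth.Agent.S8800

/-!
# The completed tensor product is Noetherian and topologically of finite type (helper57)
-/

set_option autoImplicit false
set_option linter.style.haveILetI false
universe u
open scoped TensorProduct

namespace Groth.Agent.H57.CL

section FTgen

variable {A B C D : Type u} [CommRing A] [CommRing B] [CommRing C] [CommRing D]
  [Algebra A B] [Algebra A C] [Algebra A D]

/-- If the image of `C ⊗[A] B` is dense in `D` modulo `I D`, then `D ⧸ I D` is of finite type over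
`A` as soon as `B ⧸ I B` and `C ⧸ I C` are. -/
theorem finiteType_quotient_of_dense (I : Ideal A) (γₐ : C →ₐ[A] D) (βₐ : B →ₐ[A] D)
    (hftB : Algebra.FiniteType A (B ⧸ I.map (algebraMap A B)))
    (hftC : Algebra.FiniteType A (C ⧸ I.map (algebraMap A C)))
    (hdense : ∀ d : D, ∃ e : C ⊗[A] B,
      d - Algebra.TensorProduct.productMap γₐ βₐ e ∈ I.map (algebraMap A D)) :
    Algebra.FiniteType A (D ⧸ I.map (algebraMap A D)) := by
  have hγmem : ∀ c ∈ I.map (algebraMap A C), γₐ c ∈ I.map (algebraMap A D) := by
    intro c hc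
    have h1 : (I.map (algebraMap A C)).map γₐ.toRingHom = I.map (algebraMap A D) := by
      rw [Ideal.map_map]
      congr 1
      exact RingHom.ext fun a => γₐ.commutes a
    rw [← h1]
    exact Ideal.mem_map_of_mem _ hc
  have hβmem : ∀ b ∈ I.map (algebraMap A B), βₐ b ∈ I.map (algebraMap A D) := by
    intro b hb
    have h1 : (I.map (algebraMap A B)).map βₐ.toRingHom = I.map (algebraMap A D) := by
      rw [Ideal.map_map]
      congr 1
      exact RingHom.ext fun a => βₐ.commutes a
    rw [← h1]
    exact Ideal.mem_map_of_mem _ hb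
  let ΦC : (C ⧸ I.map (algebraMap A C)) →ₐ[A] D ⧸ I.map (algebraMap A D) :=
    Ideal.Quotient.liftₐ (I.map (algebraMap A C))
      ((Ideal.Quotient.mkₐ A (I.map (algebraMap A D))).comp γₐ)
      (fun c hc => Ideal.Quotient.eq_zero_iff_mem.mpr (hγmem c hc))
  let ΦB : (B ⧸ I.map (algebraMap A B)) →ₐ[A] D ⧸ I.map (algebraMap A D) :=
    Ideal.Quotient.liftₐ (I.map (algebraMap A B))
      ((Ideal.Quotient.mkₐ A (I.map (algebraMap A D))).comp βₐ)
      (fun b hb => Ideal.Quotient.eq_zero_iff_mem.mpr (hβmem b hb))
  let Φ := Algebra.TensorProduct.productMap ΦC ΦB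
  have hft1 : Algebra.FiniteType A ((C ⧸ I.map (algebraMap A C)) ⊗[A]
      (B ⧸ I.map (algebraMap A B))) :=
    Algebra.FiniteType.trans hftC inferInstance
  have hrange : ∀ e : C ⊗[A] B, Ideal.Quotient.mk (I.map (algebraMap A D))
      (Algebra.TensorProduct.productMap γₐ βₐ e) ∈ Φ.range := by
    intro e
    induction e using TensorProduct.induction_on with
    | zero =>
      rw [map_zero, map_zero]
      exact Φ.range.zero_mem
    | add x y hx hy =>
      rw [map_add, map_add]
      exact Φ.range.add_mem hx hy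
    | tmul c b =>
      refine ⟨(Ideal.Quotient.mk _ c) ⊗ₜ[A] (Ideal.Quotient.mk _ b), ?_⟩
      rw [Algebra.TensorProduct.productMap_apply_tmul, map_mul]
      change Φ _ = _
      rw [Algebra.TensorProduct.productMap_apply_tmul]
      rfl
  refine Algebra.FiniteType.of_surjective Φ ?_
  intro y
  obtain ⟨d, rfl⟩ := Ideal.Quotient.mk_surjective y
  obtain ⟨e, he⟩ := hdense d
  have hd : Ideal.Quotient.mk (I.map (algebraMap A D)) d =
      Ideal.Quotient.mk _ (Algebra.TensorProduct.productMap γₐ βₐ e) :=
    Ideal.Quotient.eq.mpr he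
  rw [hd]
  exact hrange e

end FTgen

section FT

variable {A B C : Type u} [CommRing A] [CommRing B] [CommRing C] [Algebra A B] [Algebra A C]

/-- Density of `P` in its completion modulo `K`. -/
theorem exists_sub_mem_map {P : Type u} [CommRing P] (K : Ideal P) (hK : K.FG)
    (t : AdicCompletion K P) :
    ∃ r : P, t - algebraMap P (AdicCompletion K P) r ∈ K.map (algebraMap P (AdicCompletion K P)) := by
  obtain ⟨r, hr⟩ := exists_sub_mem_map_pow K hK 1 t
  exact ⟨r, by rwa [pow_one] at hr⟩

/-- The structure map `E → Ê` as a product map, for `E = C ⊗[A] B`. -/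
theorem productMap_eq_algebraMap {D : Type u} [CommRing D] [Algebra A D] [Algebra C D]
    [Algebra (C ⊗[A] B) D] [IsScalarTower A C D] [IsScalarTower A (C ⊗[A] B) D]
    [IsScalarTower C (C ⊗[A] B) D] (e : C ⊗[A] B) :
    Algebra.TensorProduct.productMap (IsScalarTower.toAlgHom A C D)
      ((IsScalarTower.toAlgHom A (C ⊗[A] B) D).comp Algebra.TensorProduct.includeRight) e =
      algebraMap (C ⊗[A] B) D e := by
  induction e using TensorProduct.induction_on with
  | zero => rw [map_zero, map_zero]
  | add x y hx hy => rw [map_add, map_add, hx, hy]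
  | tmul c b =>
    rw [Algebra.TensorProduct.productMap_apply_tmul]
    have h1 : c ⊗ₜ[A] b = (c ⊗ₜ[A] (1 : B)) * ((1 : C) ⊗ₜ[A] b) := by
      rw [Algebra.TensorProduct.tmul_mul_tmul, mul_one, one_mul]
    rw [h1, map_mul]
    congr 1
    change algebraMap C D c = _
    rw [IsScalarTower.algebraMap_apply C (C ⊗[A] B) D,
      Algebra.TensorProduct.algebraMap_apply, Algebra.algebraMap_self, RingHom.id_apply]

/-- `D ⧸ I D` is of finite type over `A` for the completed tensor product `D = (C ⊗[A] B)^`. -/
theorem finiteType_quotient_completedTensor (I : Ideal A) (hI : I.FG)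
    (hftB : Algebra.FiniteType A (B ⧸ I.map (algebraMap A B)))
    (hftC : Algebra.FiniteType A (C ⧸ I.map (algebraMap A C))) :
    Algebra.FiniteType A
      (AdicCompletion ((I.map (algebraMap A C)).map (algebraMap C (C ⊗[A] B))) (C ⊗[A] B) ⧸
        I.map (algebraMap A (AdicCompletion ((I.map (algebraMap A C)).map
          (algebraMap C (C ⊗[A] B))) (C ⊗[A] B)))) := by
  have hKE : ((I.map (algebraMap A C)).map (algebraMap C (C ⊗[A] B))).FG := (hI.map _).map _
  refine finiteType_quotient_of_dense I (IsScalarTower.toAlgHom A C _)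
    ((IsScalarTower.toAlgHom A (C ⊗[A] B) _).comp Algebra.TensorProduct.includeRight)
    hftB hftC (fun d => ?_)
  obtain ⟨e, he⟩ := exists_sub_mem_map _ hKE d
  refine ⟨e, ?_⟩
  rw [productMap_eq_algebraMap]
  have hKD : ((I.map (algebraMap A C)).map (algebraMap C (C ⊗[A] B))).map
      (algebraMap (C ⊗[A] B) (AdicCompletion ((I.map (algebraMap A C)).map
        (algebraMap C (C ⊗[A] B))) (C ⊗[A] B))) = I.map (algebraMap A _) :=
    calc ((I.map (algebraMap A C)).map (algebraMap C (C ⊗[A] B))).map
          (algebraMap (C ⊗[A] B) (AdicCompletion ((I.map (algebraMap A C)).map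
            (algebraMap C (C ⊗[A] B))) (C ⊗[A] B)))
        = (I.map ((algebraMap C (C ⊗[A] B)).comp (algebraMap A C))).map
          (algebraMap (C ⊗[A] B) (AdicCompletion ((I.map (algebraMap A C)).map
            (algebraMap C (C ⊗[A] B))) (C ⊗[A] B))) :=
          congrArg (Ideal.map _) (Ideal.map_map _ _)
      _ = I.map ((algebraMap (C ⊗[A] B) (AdicCompletion ((I.map (algebraMap A C)).map
            (algebraMap C (C ⊗[A] B))) (C ⊗[A] B))).comp
            ((algebraMap C (C ⊗[A] B)).comp (algebraMap A C))) := Ideal.map_map _ _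
      _ = I.map (algebraMap A _) := by
          congr 1
  exact hKD ▸ he

end FT

end Groth.Agent.H57.CL
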