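import Mathlib
import Groth.Prelude.Def_Found
import Groth.Prelude.Def_EGA4b
import Groth.Agent.H13.LocalNagata
import Groth.Agent.H26.NormalFlat
import Groth.Agent.H26.FibreProp
import Groth.Agent.H26.FormalFibreQuot
import Groth.Agent.S4749
import Groth.Agent.S0499
import Groth.Agent.H57.CPushoutFT
import Groth.Agent.H72.FormalEquidim
import Groth.Agent.H20.ComplNoeth2

/-!
# Local rings with geometrically normal formal fibres: Nagata, and finite normal local extensions
-/

set_option autoImplicit false
set_option linter.style.haveILetI false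
set_option linter.unusedSectionVars false
universe u

open TensorProduct IsLocalRing

namespace Groth.Agent.H57.FormalNormal

/-- A normal ring is reduced. -/
theorem isReduced_of_isNormalRing (R : Type u) [CommRing R] (h : EGA4.IsNormalRing R) :
    IsReduced R := by
  refine ⟨fun x hx => ?_⟩
  by_contra hne
  -- annihilator of x is a proper ideal, contained in a maximal ideal m
  have hann : (Ideal.span {x}).annihilator ≠ ⊤ := by
    intro htop
    apply hne
    have h1 : (1 : R) ∈ (Ideal.span {x}).annihilator := htop ▸ Submodule.mem_top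
    have := (Submodule.mem_annihilator.1 h1) x (Ideal.subset_span rfl)
    simpa using this
  obtain ⟨m, hm, hle⟩ := Ideal.exists_le_maximal _ hann
  haveI := hm.isPrime
  obtain ⟨hdom, -⟩ := h m
  have hx0 : algebraMap R (Localization.AtPrime m) x = 0 := by
    have : IsNilpotent (algebraMap R (Localization.AtPrime m) x) := hx.map _
    exact this.eq_zero
  rw [IsLocalization.map_eq_zero_iff m.primeCompl] at hx0
  obtain ⟨s, hs⟩ := hx0
  apply s.2
  apply hle
  rw [Submodule.mem_annihilator]
  intro y hy
  obtain ⟨c, rfl⟩ := Ideal.mem_span_singleton'.1 hy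
  rw [smul_eq_mul, mul_comm c x, ← mul_assoc, hs, zero_mul]

variable (A : Type u) [CommRing A] [IsLocalRing A] [IsNoetherianRing A]

set_option backward.isDefEq.respectTransparency false in
/-- **A Noetherian local ring with geometrically normal formal fibres is Nagata.** -/
theorem isNagata_of_hasGeomNormalFormalFibres (hA : EGA4.HasGeomNormalFormalFibres A) :
    CAlg.IsNagata A := by
  apply Groth.Agent.H13.LocalNagata.isNagata_of_local
  intro B _ _ _ _
  obtain ⟨p, hp, alg, tower⟩ :=
    Groth.Agent.H26.RegHomBaseChange.exists_residueField_algebra' (R := A) (FractionRing B)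
  haveI hfin : Module.Finite p.ResidueField (FractionRing B) :=
    Groth.Agent.H26.FormalFibreFinite.finite_residueField_of_finite A B (FractionRing B) p
  have hnor : EGA4.IsNormalRing ((FractionRing B) ⊗[p.ResidueField]
      (p.Fiber (AdicCompletion (maximalIdeal A) A))) := hA p (FractionRing B) hfin
  have hred : IsReduced ((FractionRing B) ⊗[p.ResidueField]
      (p.Fiber (AdicCompletion (maximalIdeal A) A))) := isReduced_of_isNormalRing _ hnor
  have hred' : IsReduced ((FractionRing B) ⊗[A] (AdicCompletion (maximalIdeal A) A)) :=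
    Groth.Agent.H26.FormalFibreFinite.isReduced_of_ringEquiv'
      (X := (FractionRing B) ⊗[p.ResidueField] (p.Fiber (AdicCompletion (maximalIdeal A) A)))
      (Y := (FractionRing B) ⊗[A] (AdicCompletion (maximalIdeal A) A))
      (Groth.Agent.H26.RegHomDescent.tensorFiberEquiv A (AdicCompletion (maximalIdeal A) A)
        (FractionRing B) p).symm hred
  exact isReduced_of_injective
    (Algebra.TensorProduct.comm A (AdicCompletion (maximalIdeal A) A) (FractionRing B)).toRingHom
    (Algebra.TensorProduct.comm A (AdicCompletion (maximalIdeal A) A) (FractionRing B)).injective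


/-- `A → Â` is a normal homomorphism when the formal fibres are geometrically normal. -/
theorem isNormalHom_cpl (hA : EGA4.HasGeomNormalFormalFibres A) :
    EGA4.IsNormalHom A (EGA4.Cpl A) :=
  ⟨inferInstance, fun p _ => hA p⟩

omit [IsLocalRing A] [IsNoetherianRing A] in
/-- A ring which is local modulo an ideal contained in the Jacobson radical is local. -/
theorem isLocalRing_of_quotient_le_jacobson {R : Type*} [CommRing R] (J : Ideal R)
    (hJ : J ≤ Ideal.jacobson ⊥) [IsLocalRing (R ⧸ J)] : IsLocalRing R := by
  haveI := isLocalHom_of_le_jacobson_bot J hJ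
  exact RingHom.domain_isLocalRing (Ideal.Quotient.mk J)

omit [IsLocalRing A] [IsNoetherianRing A] in
/-- A local normal ring is a domain. -/
theorem isDomain_of_isNormalRing_of_isLocalRing (R : Type u) [CommRing R] [IsLocalRing R]
    (h : EGA4.IsNormalRing R) : IsDomain R := by
  obtain ⟨hd, -⟩ := h (maximalIdeal R)
  have hinj : Function.Injective (algebraMap R (Localization.AtPrime (maximalIdeal R))) := by
    apply IsLocalization.injective (M := (maximalIdeal R).primeCompl)
    intro s hs
    have hu : IsUnit s := by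
      by_contra hns
      exact hs ((mem_maximalIdeal s).2 hns)
    exact hu.mem_nonZeroDivisors
  exact hinj.isDomain (algebraMap R _)

/-- For a finite local `A`-algebra `B'`, the ring `Â ⊗_A B'` is local. -/
theorem isLocalRing_cpl_tensor (B' : Type u) [CommRing B'] [Algebra A B'] [Module.Finite A B']
    [IsLocalRing B'] : IsLocalRing (EGA4.Cpl A ⊗[A] B') := by
  haveI := Groth.Agent.H72.FormalEquidim.isLocalRing_compl A
  haveI := Groth.Agent.H72.FormalEquidim.isLocalHom_compl A
  haveI : Module.FaithfullyFlat A (AdicCompletion (maximalIdeal A) A) :=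
    Module.FaithfullyFlat.of_flat_of_isLocalHom
  let T := EGA4.Cpl A ⊗[A] B'
  let J : Ideal T := (maximalIdeal A).map (algebraMap A T)
  haveI : Nontrivial T := inferInstance
  haveI : Algebra.IsIntegral (EGA4.Cpl A) T := Algebra.IsIntegral.of_finite _ _
  have hJ : J ≤ Ideal.jacobson ⊥ := by
    rw [Ideal.jacobson]
    refine le_sInf fun M hM => ?_
    haveI : M.IsMaximal := hM.2
    have hcm : (M.comap (algebraMap (EGA4.Cpl A) T)).IsMaximal :=
      Ideal.isMaximal_comap_of_isIntegral_of_isMaximal M
    have hcm' : M.comap (algebraMap (EGA4.Cpl A) T) = maximalIdeal (EGA4.Cpl A) :=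
      IsLocalRing.eq_maximalIdeal hcm
    rw [Ideal.map_le_iff_le_comap]
    intro a ha
    rw [Ideal.mem_comap, IsScalarTower.algebraMap_apply A (EGA4.Cpl A) T, ← Ideal.mem_comap, hcm']
    exact (IsLocalRing.mem_maximalIdeal _).2 (fun hu => ha (isUnit_of_map_unit _ a hu))
  have hJne : J ≠ ⊤ := by
    intro h
    have : Ideal.jacobson (⊥ : Ideal T) = ⊤ := top_le_iff.1 (h ▸ hJ)
    exact (Ideal.jacobson_eq_top_iff.1 this) ▸ bot_ne_top <| rfl
  haveI : Nontrivial (T ⧸ J) := Ideal.Quotient.nontrivial_iff.2 hJne
  let φ : B' →+* T ⧸ J :=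
    (Ideal.Quotient.mk J).comp (Algebra.TensorProduct.includeRight : B' →ₐ[A] T).toRingHom
  have hφ : Function.Surjective φ := by
    intro y
    obtain ⟨t, rfl⟩ := Ideal.Quotient.mk_surjective y
    induction t using TensorProduct.induction_on with
    | zero => exact ⟨0, by simp⟩
    | add x y hx hy =>
      obtain ⟨bx, hbx⟩ := hx
      obtain ⟨by', hby⟩ := hy
      exact ⟨bx + by', by rw [map_add, hbx, hby, map_add]⟩
    | tmul a b =>
      obtain ⟨r, hr⟩ := Groth.Agent.H57.CL.exists_sub_mem_map (maximalIdeal A)
        (maximalIdeal A).fg_of_isNoetherianRing a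
      refine ⟨r • b, ?_⟩
      change Ideal.Quotient.mk J ((1 : EGA4.Cpl A) ⊗ₜ[A] (r • b)) = Ideal.Quotient.mk J (a ⊗ₜ[A] b)
      rw [Ideal.Quotient.eq]
      have h1 : (1 : EGA4.Cpl A) ⊗ₜ[A] (r • b) - a ⊗ₜ[A] b =
          - (algebraMap (EGA4.Cpl A) T (a - algebraMap A (EGA4.Cpl A) r) * ((1 : EGA4.Cpl A) ⊗ₜ[A] b)) := by
        rw [Algebra.TensorProduct.algebraMap_apply, Algebra.TensorProduct.tmul_mul_tmul,
          Algebra.algebraMap_self, RingHom.id_apply, mul_one, one_mul, TensorProduct.sub_tmul,
          ← TensorProduct.smul_tmul, Algebra.smul_def, mul_one]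
        ring
      rw [h1]
      refine J.neg_mem (J.mul_mem_right _ ?_)
      have h2 : (maximalIdeal A).map (algebraMap A T) =
          ((maximalIdeal A).map (algebraMap A (EGA4.Cpl A))).map (algebraMap (EGA4.Cpl A) T) := by
        rw [Ideal.map_map, ← IsScalarTower.algebraMap_eq]
      change _ ∈ (maximalIdeal A).map (algebraMap A T)
      rw [h2]
      exact Ideal.mem_map_of_mem _ hr
  haveI : IsLocalRing (T ⧸ J) := IsLocalRing.of_surjective' φ hφ
  exact isLocalRing_of_quotient_le_jacobson J hJ

omit [IsLocalRing A] [IsNoetherianRing A] in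
/-- A finite domain over a henselian local ring is local. -/
theorem isLocalRing_of_finite_of_henselian (R : Type u) [CommRing R] [HenselianLocalRing R]
    (S : Type u) [CommRing S] [IsDomain S] [Algebra R S] [Module.Finite R S] : IsLocalRing S := by
  classical
  obtain ⟨ι, _, F, _, hloc, ⟨e⟩⟩ := Groth.Agent.S0499.result R S
  haveI : ∀ i, IsLocalRing (F i) := hloc
  haveI : IsDomain (∀ i, F i) := e.symm.toMulEquiv.isDomain _
  haveI : Subsingleton ι := by
    refine ⟨fun i j => ?_⟩
    by_contra hij
    have h0 : (Pi.single i (1 : F i) : ∀ i, F i) * Pi.single j (1 : F j) = 0 := by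
      ext k
      by_cases hk : k = i
      · subst hk
        simp [Pi.single_eq_of_ne hij]
      · simp [Pi.single_eq_of_ne hk]
    rcases mul_eq_zero.1 h0 with h | h
    · have := congrFun h i
      simp at this
    · have := congrFun h j
      simp at this
  haveI : Nonempty ι := by
    by_contra hne
    haveI : IsEmpty ι := not_nonempty_iff.1 hne
    exact one_ne_zero (α := ∀ i, F i) (Subsingleton.elim _ _)
  let i₀ : ι := Classical.arbitrary ι
  haveI : Unique ι := uniqueOfSubsingleton i₀
  exact (e.trans (RingEquiv.piUnique F)).symm.isLocalRing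

/-- **Key lemma.** Let `A` be a Noetherian local ring with geometrically normal formal fibres and
`B'` a finite `A`-algebra which is a local normal ring.  Then `B' ⊗_A Â` is a domain. -/
theorem isDomain_tensor_cpl_of_normal (hA : EGA4.HasGeomNormalFormalFibres A)
    (B' : Type u) [CommRing B'] [Algebra A B'] [Module.Finite A B'] [IsLocalRing B']
    (hB : EGA4.IsNormalRing B') : IsDomain (B' ⊗[A] EGA4.Cpl A) := by
  haveI hN : IsNoetherianRing (AdicCompletion (maximalIdeal A) A) :=
    Groth.Agent.H20.isNoetherianRing_adicCompletion _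
  haveI : IsNoetherianRing B' := IsNoetherianRing.of_finite A B'
  haveI : IsNoetherianRing (EGA4.Cpl A ⊗[A] B') := IsNoetherianRing.of_finite (EGA4.Cpl A) _
  haveI : IsNoetherianRing (B' ⊗[A] EGA4.Cpl A) :=
    isNoetherianRing_of_ringEquiv _ (Algebra.TensorProduct.comm A (EGA4.Cpl A) B').toRingEquiv
  have hNH : EGA4.IsNormalHom B' (B' ⊗[A] EGA4.Cpl A) :=
    (Groth.Agent.S4749.result A (EGA4.Cpl A) B' (Or.inr inferInstance)).1 (isNormalHom_cpl A hA)
  haveI : Module.Flat B' (B' ⊗[A] EGA4.Cpl A) := hNH.1
  have hnor : EGA4.IsNormalRing (B' ⊗[A] EGA4.Cpl A) := by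
    refine Groth.Agent.H26.NormalFlat.isNormalRing_of_flat_of_fibres B' _ hB (fun q hq => ?_)
    have h1 := hNH.2 q q.ResidueField inferInstance
    exact Groth.Agent.H26.FormalFibreQuot.isNormalRing_of_ringEquiv
      (Groth.Agent.H26.FibreProp.selfTensorEquiv q _) h1
  haveI : IsLocalRing (EGA4.Cpl A ⊗[A] B') := isLocalRing_cpl_tensor A B'
  haveI : IsLocalRing (B' ⊗[A] EGA4.Cpl A) :=
    (Algebra.TensorProduct.comm A (EGA4.Cpl A) B').toRingEquiv.isLocalRing
  exact isDomain_of_isNormalRing_of_isLocalRing _ hnor

end Groth.Agent.H57.FormalNormal
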