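import Mathlib
import Groth.Prelude.Def_W4bk4boschfrg79

set_option autoImplicit false

namespace Groth.Agent.H57
universe u

theorem adic_torsionfree (P : Type u) [CommRing P] [IsDomain P] (c : P) (hc : c ≠ 0)
    (x : AdicCompletion (Ideal.span {c}) P) (m : ℕ) (h : c ^ m • x = 0) : x = 0 := by
  apply AdicCompletion.ext
  intro k
  rw [AdicCompletion.val_zero_apply]
  refine (AdicCompletion.val_apply_mem_smul_top_iff (I := Ideal.span {c}) (M := P) (x := x)
    (Nat.le_add_right k m)).1 ?_
  obtain ⟨p, hp⟩ := Submodule.Quotient.mk_surjective _ (x.val (k + m))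
  have h1 : (c ^ m • x).val (k + m) = 0 := by rw [h]; rfl
  rw [AdicCompletion.val_smul_apply, ← hp, ← Submodule.Quotient.mk_smul,
    Submodule.Quotient.mk_eq_zero] at h1
  rw [smul_eq_mul, Ideal.mul_top, Ideal.span_singleton_pow, Ideal.mem_span_singleton] at h1
  obtain ⟨q, hq⟩ := h1
  have h2 : p = c ^ k * q := by
    have : c ^ m * p = c ^ m * (c ^ k * q) := by
      rw [← mul_assoc, ← pow_add, add_comm m k, ← hq, smul_eq_mul]
    exact mul_left_cancel₀ (pow_ne_zero m hc) this
  rw [← hp, h2]
  rw [← smul_eq_mul, Submodule.Quotient.mk_smul]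
  apply Submodule.smul_mem_smul
  · rw [Ideal.span_singleton_pow]
    exact Ideal.mem_span_singleton_self _
  · trivial

/-- In a separated valuation ring, every nonzero element divides a power of `t`. -/
theorem dvd_pow_of_prevaluation (R : Type u) [CommRing R] [PreValuationRing R] (t : R)
    (hH : IsHausdorff (Ideal.span {t}) R) (r : R) (hr : r ≠ 0) :
    ∃ (m : ℕ) (s : R), t ^ m = r * s := by
  by_contra hcon
  have hall : ∀ m : ℕ, t ^ m ∣ r := by
    intro m
    obtain ⟨c, hc | hc⟩ := PreValuationRing.cond (t ^ m) r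
    · exact ⟨c, hc.symm⟩
    · exact absurd ⟨m, c, hc.symm⟩ hcon
  apply hr
  apply hH.haus
  intro m
  rw [SModEq.zero]
  obtain ⟨c, hc⟩ := hall m
  rw [smul_eq_mul, Ideal.mul_top, Ideal.span_singleton_pow, Ideal.mem_span_singleton]
  exact ⟨c, hc⟩

end Groth.Agent.H57
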