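import Mathlib
import Groth.Prelude.Def_W4bk4boschfrg79

/-!
# Restricted power series `R⟨ζ⟩`: reductions modulo open ideals (helper57)
-/

set_option autoImplicit false
universe u

namespace Groth.Agent.H57.RPow

open AdicRing

section General

variable {S : Type u} [CommRing S] (J : Ideal S)

/-- The kernel of `evalₐ J k` on the completion is `J ^ k` extended. -/
theorem ker_evalₐ (hJ : J.FG) (k : ℕ) :
    RingHom.ker (AdicCompletion.evalₐ J k).toRingHom =
      (J ^ k).map (algebraMap S (AdicCompletion J S)) := by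
  ext x
  have h1 : x ∈ RingHom.ker (AdicCompletion.evalₐ J k).toRingHom ↔
      x ∈ LinearMap.ker (AdicCompletion.eval J S k) := by
    rw [RingHom.mem_ker, LinearMap.mem_ker]
    have h : (J ^ k • ⊤ : Ideal S) = J ^ k := by ext x; simp
    change (Ideal.quotientEquivAlgOfEq S h) (AdicCompletion.eval J S k x) = 0 ↔ _
    exact (Ideal.quotientEquivAlgOfEq S h).map_eq_zero_iff
  rw [h1, ← AdicCompletion.pow_smul_top_eq_ker_eval hJ, Ideal.smul_top_eq_map]
  rfl

end General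

section Series

variable {B : Type u} [CommRing B] (J : Ideal B)

theorem pow_mem_pow_div {e : B} {d : ℕ} (he : e ^ d ∈ J) (j : ℕ) : e ^ j ∈ J ^ (j / d) := by
  have h1 : e ^ j = (e ^ d) ^ (j / d) * e ^ (j % d) := by
    rw [← pow_mul, ← pow_add, Nat.div_add_mod]
  rw [h1]
  exact Ideal.mul_mem_right _ _ (Ideal.pow_mem_pow he _)

theorem eq_zero_of_forall_mem_pow [IsHausdorff J B] (x : B) (h : ∀ K : ℕ, x ∈ J ^ K) : x = 0 := by
  apply IsHausdorff.haus' (I := J) x
  intro K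
  rw [SModEq.zero, smul_eq_mul, Ideal.mul_top]
  exact h K

/-- Convergence of the series `∑ e ^ j * b j` when `e` is topologically nilpotent. -/
theorem exists_limit [IsPrecomplete J B] {e : B} {d : ℕ} (hd : 0 < d) (he : e ^ d ∈ J)
    (b : ℕ → B) :
    ∃ s : B, ∀ K : ℕ, ∀ l : ℕ, K * d ≤ l →
      s - ∑ j ∈ Finset.range l, e ^ j * b j ∈ J ^ K := by
  -- differences of partial sums
  have hdiff : ∀ K l l' : ℕ, K * d ≤ l → l ≤ l' →
      (∑ j ∈ Finset.range l', e ^ j * b j) - ∑ j ∈ Finset.range l, e ^ j * b j ∈ J ^ K := by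
    intro K l l' hKl hll'
    rw [← Finset.sum_range_add_sum_Ico _ hll', add_sub_cancel_left]
    refine Ideal.sum_mem _ fun j hj => ?_
    rw [Finset.mem_Ico] at hj
    have h1 : K ≤ j / d := by
      rw [Nat.le_div_iff_mul_le hd]
      exact hKl.trans hj.1
    exact Ideal.mul_mem_right _ _ (Ideal.pow_le_pow_right h1 (pow_mem_pow_div J he j))
  obtain ⟨L, hL⟩ := IsPrecomplete.prec' (I := J)
    (fun K => ∑ j ∈ Finset.range (K * d), e ^ j * b j) (by
      intro m n hmn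
      rw [SModEq.sub_mem, smul_eq_mul, Ideal.mul_top]
      have := hdiff m (m * d) (n * d) le_rfl (Nat.mul_le_mul_right d hmn)
      rw [← neg_sub]
      exact Ideal.neg_mem_iff _ |>.mpr this)
  refine ⟨L, fun K l hKl => ?_⟩
  have h1 := hL K
  rw [SModEq.sub_mem, smul_eq_mul, Ideal.mul_top] at h1
  have h2 := hdiff K (K * d) l le_rfl hKl
  have : L - ∑ j ∈ Finset.range l, e ^ j * b j =
      -((∑ j ∈ Finset.range (K * d), e ^ j * b j) - L) -
        ((∑ j ∈ Finset.range l, e ^ j * b j) - ∑ j ∈ Finset.range (K * d), e ^ j * b j) := by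
    ring
  rw [this]
  exact Ideal.sub_mem _ (Ideal.neg_mem_iff _ |>.mpr h1) h2

/-- The sum of the series with explicit tails. -/
theorem exists_series [IsAdicComplete J B] {e : B} {d : ℕ} (hd : 0 < d) (he : e ^ d ∈ J)
    (b : ℕ → B) :
    ∃ s : B, ∀ m : ℕ, ∃ y : B, s = ∑ j ∈ Finset.range m, e ^ j * b j + e ^ m * y := by
  obtain ⟨s, hs⟩ := exists_limit J hd he b
  refine ⟨s, fun m => ?_⟩
  obtain ⟨y, hy⟩ := exists_limit J hd he (fun j => b (m + j))
  refine ⟨y, ?_⟩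
  rw [← sub_eq_zero]
  apply eq_zero_of_forall_mem_pow J
  intro K
  have h1 := hs K (m + K * d) (Nat.le_add_left _ _)
  have h2 := hy K (K * d) le_rfl
  have h3 : ∑ j ∈ Finset.range (m + K * d), e ^ j * b j =
      ∑ j ∈ Finset.range m, e ^ j * b j + e ^ m * ∑ j ∈ Finset.range (K * d), e ^ j * b (m + j) := by
    rw [Finset.sum_range_add, Finset.mul_sum]
    congr 1
    refine Finset.sum_congr rfl fun j _ => ?_
    rw [pow_add]; ring
  have : s - (∑ j ∈ Finset.range m, e ^ j * b j + e ^ m * y) =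
      (s - ∑ j ∈ Finset.range (m + K * d), e ^ j * b j) -
        e ^ m * (y - ∑ j ∈ Finset.range (K * d), e ^ j * b (m + j)) := by
    rw [h3]; ring
  rw [this]
  exact Ideal.sub_mem _ h1 (Ideal.mul_mem_left _ _ h2)

end Series

section RPow

variable {R : Type u} [CommRing R] (I : Ideal R) (n : ℕ)

/-- The inclusion of polynomials into restricted power series. -/
noncomputable def ι : MvPolynomial (Fin n) R →ₐ[R] RPow R I n :=
  (Algebra.ofId (MvPolynomial (Fin n) R) (RPow R I n)).restrictScalars R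

theorem ι_apply (p : MvPolynomial (Fin n) R) :
    ι I n p = AdicCompletion.of _ _ p := rfl

theorem map_C_pow_le_ker {𝔢 : Ideal R} {k : ℕ} (h : I ^ k ≤ 𝔢) :
    ∀ a ∈ (I.map (MvPolynomial.C : R →+* MvPolynomial (Fin n) R)) ^ k,
      MvPolynomial.mapAlgHom (σ := Fin n) (Ideal.Quotient.mkₐ R 𝔢) a = 0 := by
  intro a ha
  rw [← Ideal.map_pow] at ha
  have h2 : a ∈ 𝔢.map (MvPolynomial.C : R →+* MvPolynomial (Fin n) R) := Ideal.map_mono h ha
  have h3 : RingHom.ker (MvPolynomial.map (σ := Fin n) (Ideal.Quotient.mk 𝔢)) =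
      𝔢.map (MvPolynomial.C : R →+* MvPolynomial (Fin n) R) := by
    rw [MvPolynomial.ker_map, Ideal.mk_ker]
  rw [← h3] at h2
  exact h2

/-- Reduction of a restricted power series modulo an open ideal `𝔢 ⊇ I ^ k` of `R`: a polynomial
over `R ⧸ 𝔢`. -/
noncomputable def red (𝔢 : Ideal R) (k : ℕ) (h : I ^ k ≤ 𝔢) :
    RPow R I n →ₐ[R] MvPolynomial (Fin n) (R ⧸ 𝔢) :=
  (Ideal.Quotient.liftₐ ((I.map (MvPolynomial.C : R →+* MvPolynomial (Fin n) R)) ^ k)
    (MvPolynomial.mapAlgHom (Ideal.Quotient.mkₐ R 𝔢)) (map_C_pow_le_ker I n h)).comp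
    ((AdicCompletion.evalₐ (I.map (MvPolynomial.C : R →+* MvPolynomial (Fin n) R)) k).restrictScalars R)

variable {I n}

theorem red_apply {𝔢 : Ideal R} {k : ℕ} (h : I ^ k ≤ 𝔢) (x : RPow R I n) :
    red I n 𝔢 k h x =
      Ideal.Quotient.liftₐ ((I.map (MvPolynomial.C : R →+* MvPolynomial (Fin n) R)) ^ k)
        (MvPolynomial.mapAlgHom (Ideal.Quotient.mkₐ R 𝔢)) (map_C_pow_le_ker I n h)
        (AdicCompletion.evalₐ (I.map (MvPolynomial.C : R →+* MvPolynomial (Fin n) R)) k x) := rfl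

theorem red_ι {𝔢 : Ideal R} {k : ℕ} (h : I ^ k ≤ 𝔢) (p : MvPolynomial (Fin n) R) :
    red I n 𝔢 k h (ι I n p) = MvPolynomial.map (Ideal.Quotient.mk 𝔢) p := by
  rw [red_apply, ι_apply, AdicCompletion.evalₐ_of]
  rfl

theorem red_surjective {𝔢 : Ideal R} {k : ℕ} (h : I ^ k ≤ 𝔢) :
    Function.Surjective (red I n 𝔢 k h) := by
  intro q
  obtain ⟨p, rfl⟩ := MvPolynomial.map_surjective (Ideal.Quotient.mk 𝔢) Ideal.Quotient.mk_surjective q
  exact ⟨ι I n p, red_ι h p⟩

theorem map_map_C (𝔞 : Ideal R) :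
    (𝔞.map (MvPolynomial.C : R →+* MvPolynomial (Fin n) R)).map
      (algebraMap (MvPolynomial (Fin n) R) (RPow R I n)) = 𝔞.map (algebraMap R (RPow R I n)) := by
  rw [Ideal.map_map]
  rfl

theorem red_algebraMap {𝔢 : Ideal R} {k : ℕ} (h : I ^ k ≤ 𝔢) (r : R) :
    red I n 𝔢 k h (algebraMap R (RPow R I n) r) = MvPolynomial.C (Ideal.Quotient.mk 𝔢 r) := by
  rw [AlgHom.commutes]
  rfl

theorem ker_red (hI : I.FG) {𝔢 : Ideal R} {k : ℕ} (h : I ^ k ≤ 𝔢) :
    RingHom.ker (red I n 𝔢 k h).toRingHom = 𝔢.map (algebraMap R (RPow R I n)) := by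
  apply le_antisymm
  · intro x hx
    rw [RingHom.mem_ker] at hx
    change red I n 𝔢 k h x = 0 at hx
    obtain ⟨p, hp⟩ := Ideal.Quotient.mk_surjective
      (AdicCompletion.evalₐ (I.map (MvPolynomial.C : R →+* MvPolynomial (Fin n) R)) k x)
    have h1 : MvPolynomial.map (Ideal.Quotient.mk 𝔢) p = 0 := by
      rw [red_apply, ← hp] at hx
      exact hx
    have h2 : p ∈ 𝔢.map (MvPolynomial.C : R →+* MvPolynomial (Fin n) R) := by
      have h3 : RingHom.ker (MvPolynomial.map (σ := Fin n) (Ideal.Quotient.mk 𝔢)) =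
          𝔢.map (MvPolynomial.C : R →+* MvPolynomial (Fin n) R) := by
        rw [MvPolynomial.ker_map, Ideal.mk_ker]
      rw [← h3]
      exact h1
    have h4 : ι I n p ∈ 𝔢.map (algebraMap R (RPow R I n)) := by
      rw [← map_map_C]
      exact Ideal.mem_map_of_mem _ h2
    have h5 : x - ι I n p ∈ 𝔢.map (algebraMap R (RPow R I n)) := by
      have h6 : x - ι I n p ∈ RingHom.ker (AdicCompletion.evalₐ
          (I.map (MvPolynomial.C : R →+* MvPolynomial (Fin n) R)) k).toRingHom := by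
        rw [RingHom.mem_ker]
        change AdicCompletion.evalₐ _ k (x - ι I n p) = 0
        rw [map_sub, ι_apply, AdicCompletion.evalₐ_of, hp, sub_self]
      rw [ker_evalₐ _ (hI.map _), ← Ideal.map_pow, map_map_C] at h6
      exact Ideal.map_mono h h6
    have := Ideal.add_mem _ h5 h4
    rwa [sub_add_cancel] at this
  · rw [Ideal.map_le_iff_le_comap]
    intro e he
    rw [Ideal.mem_comap, RingHom.mem_ker]
    change red I n 𝔢 k h (algebraMap R (RPow R I n) e) = 0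
    rw [red_algebraMap, Ideal.Quotient.eq_zero_iff_mem.mpr he, map_zero]

theorem red_eq_zero_iff (hI : I.FG) {𝔢 : Ideal R} {k : ℕ} (h : I ^ k ≤ 𝔢) (x : RPow R I n) :
    red I n 𝔢 k h x = 0 ↔ x ∈ 𝔢.map (algebraMap R (RPow R I n)) := by
  rw [← ker_red hI h]
  rfl

/-- Every restricted power series is a polynomial modulo `I ^ K`. -/
theorem exists_sub_ι_mem (hI : I.FG) (x : RPow R I n) (K : ℕ) :
    ∃ p : MvPolynomial (Fin n) R, x - ι I n p ∈ (I ^ K).map (algebraMap R (RPow R I n)) := by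
  obtain ⟨p, hp⟩ := Ideal.Quotient.mk_surjective
    (AdicCompletion.evalₐ (I.map (MvPolynomial.C : R →+* MvPolynomial (Fin n) R)) K x)
  refine ⟨p, ?_⟩
  have h6 : x - ι I n p ∈ RingHom.ker (AdicCompletion.evalₐ
      (I.map (MvPolynomial.C : R →+* MvPolynomial (Fin n) R)) K).toRingHom := by
    rw [RingHom.mem_ker]
    change AdicCompletion.evalₐ _ K (x - ι I n p) = 0
    rw [map_sub, ι_apply, AdicCompletion.evalₐ_of, hp, sub_self]
  rwa [ker_evalₐ _ (hI.map _), ← Ideal.map_pow, map_map_C] at h6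

theorem red_eq_of_sub_mem (hI : I.FG) {𝔢 : Ideal R} {k : ℕ} (h : I ^ k ≤ 𝔢) {x y : RPow R I n}
    (hxy : x - y ∈ 𝔢.map (algebraMap R (RPow R I n))) : red I n 𝔢 k h x = red I n 𝔢 k h y := by
  rw [← sub_eq_zero, ← map_sub, red_eq_zero_iff hI]
  exact hxy

theorem red_factor (hI : I.FG) {𝔢 𝔢' : Ideal R} {k k' : ℕ} (h : I ^ k ≤ 𝔢) (h' : I ^ k' ≤ 𝔢')
    (hle : 𝔢 ≤ 𝔢') (x : RPow R I n) :
    MvPolynomial.map (Ideal.Quotient.factor hle) (red I n 𝔢 k h x) = red I n 𝔢' k' h' x := by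
  obtain ⟨p, hp⟩ := exists_sub_ι_mem hI x (max k k')
  have h1 : x - ι I n p ∈ 𝔢.map (algebraMap R (RPow R I n)) :=
    Ideal.map_mono ((Ideal.pow_le_pow_right (le_max_left k k')).trans h) hp
  have h2 : x - ι I n p ∈ 𝔢'.map (algebraMap R (RPow R I n)) :=
    Ideal.map_mono ((Ideal.pow_le_pow_right (le_max_right k k')).trans h') hp
  rw [red_eq_of_sub_mem hI h h1, red_eq_of_sub_mem hI h' h2, red_ι, red_ι, MvPolynomial.map_map]
  rfl

theorem red_indep (hI : I.FG) {𝔢 : Ideal R} {k k' : ℕ} (h : I ^ k ≤ 𝔢) (h' : I ^ k' ≤ 𝔢)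
    (x : RPow R I n) : red I n 𝔢 k h x = red I n 𝔢 k' h' x := by
  have := red_factor hI h h' le_rfl x
  rw [← this]
  have hid : Ideal.Quotient.factor (le_refl 𝔢) = RingHom.id _ := by
    ext y
    rfl
  rw [hid, MvPolynomial.map_id]

end RPow

end Groth.Agent.H57.RPow
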