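import Mathlib
import Groth.Prelude.Def_W4bk4boschfrg79
import Groth.Agent.H57.AdicAux
import Groth.Agent.H57.RPow1

/-!
# Restricted power series over a complete valuation ring of height one (helper57)
-/

set_option autoImplicit false
set_option linter.unusedSectionVars false
universe u

namespace Groth.Agent.H57.RPow

open AdicRing IsLocalRing

section ValRing

variable {R : Type u} [CommRing R] [IsDomain R] [ValuationRing R]

/-- In a valuation ring, a nonempty finite set contains an element dividing all the others. -/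
theorem exists_dvd_all (s : Finset R) (hs : s.Nonempty) : ∃ a ∈ s, ∀ b ∈ s, a ∣ b := by
  classical
  induction hs using Finset.Nonempty.cons_induction with
  | singleton x => exact ⟨x, Finset.mem_singleton_self x, fun b hb => by
      rw [Finset.mem_singleton] at hb; rw [hb]⟩
  | cons x s' hx hs' ih =>
    obtain ⟨a', ha', hall⟩ := ih
    rcases ValuationRing.dvd_total x a' with h | h
    · refine ⟨x, Finset.mem_cons_self x s', fun b hb => ?_⟩
      rw [Finset.mem_cons] at hb
      rcases hb with rfl | hb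
      · exact dvd_rfl
      · exact h.trans (hall b hb)
    · refine ⟨a', Finset.mem_cons.mpr (Or.inr ha'), fun b hb => ?_⟩
      rw [Finset.mem_cons] at hb
      rcases hb with rfl | hb
      · exact h
      · exact hall b hb

end ValRing

section Val

variable {R : Type u} [CommRing R] [IsDomain R] [ValuationRing R] [Ring.KrullDimLE 1 R]
  (t : R) (ht : t ≠ 0) [IsAdicComplete (Ideal.span {t}) R]

include ht in
theorem not_isUnit_t : ¬ IsUnit t := by
  intro hu
  have htop : Ideal.span {t} = ⊤ := Ideal.span_singleton_eq_top.mpr hu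
  have h1 : (1 : R) = 0 := by
    apply IsHausdorff.haus' (I := Ideal.span {t}) (1 : R)
    intro k
    rw [SModEq.zero, htop, Ideal.top_pow, smul_eq_mul, Ideal.mul_top]
    trivial
  exact one_ne_zero h1

include ht in
theorem t_mem_maximalIdeal : t ∈ maximalIdeal R := (mem_maximalIdeal t).mpr (not_isUnit_t t ht)

/-- every nonzero element divides a power of `t`. -/
theorem exists_pow_eq_mul {c : R} (hc : c ≠ 0) : ∃ (d : ℕ) (s : R), t ^ d = c * s :=
  Groth.Agent.H57.dvd_pow_of_prevaluation R t inferInstance c hc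

theorem exists_span_pow_le {c : R} (hc : c ≠ 0) : ∃ d : ℕ, Ideal.span {t} ^ d ≤ Ideal.span {c} := by
  obtain ⟨d, s, hs⟩ := exists_pow_eq_mul t hc
  refine ⟨d, ?_⟩
  rw [Ideal.span_singleton_pow, Ideal.span_singleton_le_span_singleton]
  exact ⟨s, hs⟩

include ht in
/-- every nonunit has a power divisible by `t` (height one). -/
theorem exists_pow_mem_span {e : R} (he : ¬ IsUnit e) : ∃ d : ℕ, 0 < d ∧ e ^ d ∈ Ideal.span {t} := by
  have hrad : e ∈ (Ideal.span {t}).radical := by
    rw [Ideal.radical_eq_sInf, Ideal.mem_sInf]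
    rintro p ⟨hp1, hp2⟩
    have hpne : p ≠ ⊥ := by
      intro h
      rw [h] at hp1
      have : t ∈ (⊥ : Ideal R) := hp1 (Ideal.mem_span_singleton_self t)
      exact ht (by simpa using this)
    have hmax : p.IsMaximal := hp2.isMaximal_of_ne_bot hpne
    rw [IsLocalRing.eq_maximalIdeal hmax]
    exact (mem_maximalIdeal e).mpr he
  obtain ⟨d, hd⟩ := hrad
  refine ⟨d + 1, Nat.succ_pos d, ?_⟩
  rw [pow_succ]
  exact Ideal.mul_mem_right _ _ hd

section Red

variable (n : ℕ)

set_option quotPrecheck false in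
local notation "A" => RPow R (Ideal.span {t}) n

theorem fg_span : (Ideal.span {t}).FG := ⟨{t}, by simp⟩

/-- Reduction modulo a nonzero element `c` of `R`. -/
noncomputable def redc (c : R) (hc : c ≠ 0) : A →ₐ[R] MvPolynomial (Fin n) (R ⧸ Ideal.span {c}) :=
  red (Ideal.span {t}) n (Ideal.span {c}) (exists_span_pow_le t hc).choose
    (exists_span_pow_le t hc).choose_spec

variable {n}

theorem redc_ι {c : R} (hc : c ≠ 0) (p : MvPolynomial (Fin n) R) :
    redc t n c hc (ι _ n p) = MvPolynomial.map (Ideal.Quotient.mk (Ideal.span {c})) p :=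
  red_ι _ p

theorem redc_surjective {c : R} (hc : c ≠ 0) : Function.Surjective (redc t n c hc) :=
  red_surjective _

theorem map_span_singleton (c : R) :
    (Ideal.span {c}).map (algebraMap R A) = Ideal.span {algebraMap R A c} := by
  have := Ideal.map_span (algebraMap R A) ({c} : Set R)
  rw [this, Set.image_singleton]

theorem redc_eq_zero_iff {c : R} (hc : c ≠ 0) (x : A) :
    redc t n c hc x = 0 ↔ ∃ y : A, x = c • y := by
  unfold redc
  rw [red_eq_zero_iff (fg_span t), map_span_singleton, Ideal.mem_span_singleton]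
  constructor
  · rintro ⟨y, hy⟩
    exact ⟨y, by rw [hy, Algebra.smul_def]⟩
  · rintro ⟨y, hy⟩
    exact ⟨y, by rw [hy, Algebra.smul_def]⟩

theorem redc_factor {c c' : R} (hc : c ≠ 0) (hc' : c' ≠ 0)
    (hle : Ideal.span {c} ≤ Ideal.span {c'}) (x : A) :
    MvPolynomial.map (Ideal.Quotient.factor hle) (redc t n c hc x) = redc t n c' hc' x :=
  red_factor (fg_span t) _ _ hle x

include ht

theorem span_le_maximalIdeal : Ideal.span {t} ^ 1 ≤ maximalIdeal R := by
  rw [pow_one, Ideal.span_singleton_le_iff_mem]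
  exact t_mem_maximalIdeal t ht

/-- Reduction modulo the maximal ideal. -/
noncomputable def redm : A →ₐ[R] MvPolynomial (Fin n) (R ⧸ maximalIdeal R) :=
  red (Ideal.span {t}) n (maximalIdeal R) 1 (span_le_maximalIdeal t ht)

theorem redm_ι (p : MvPolynomial (Fin n) R) :
    redm t ht (n := n) (ι _ n p) = MvPolynomial.map (Ideal.Quotient.mk (maximalIdeal R)) p :=
  red_ι _ p

theorem redm_eq_map_redc {c : R} (hc : c ≠ 0) (hle : Ideal.span {c} ≤ maximalIdeal R) (x : A) :
    redm t ht x = MvPolynomial.map (Ideal.Quotient.factor hle) (redc t n c hc x) :=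
  (red_factor (fg_span t) _ _ hle x).symm

/-- `A` is torsion free over `R`. -/
theorem eq_zero_of_smul_eq_zero {c : R} (hc : c ≠ 0) {x : A} (h : c • x = 0) : x = 0 := by
  obtain ⟨m, s, hs⟩ := exists_pow_eq_mul t hc
  have htm : t ^ m • x = 0 := by
    rw [hs, mul_comm, mul_smul, h, smul_zero]
  have hCt : (MvPolynomial.C t : MvPolynomial (Fin n) R) ≠ 0 := by
    intro h
    exact ht (MvPolynomial.C_injective (Fin n) R (by simpa using h))
  have hJ : (Ideal.span {t}).map (MvPolynomial.C : R →+* MvPolynomial (Fin n) R) =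
      Ideal.span {MvPolynomial.C t} := by
    rw [Ideal.map_span, Set.image_singleton]
  have key : ∀ (J : Ideal (MvPolynomial (Fin n) R)) (hJ : J = Ideal.span {MvPolynomial.C t})
      (y : AdicCompletion J (MvPolynomial (Fin n) R)), t ^ m • y = 0 → y = 0 := by
    intro J hJ
    subst hJ
    intro y hy
    apply Groth.Agent.H57.adic_torsionfree _ (MvPolynomial.C t) hCt y m
    have h3 : (MvPolynomial.C t : MvPolynomial (Fin n) R) ^ m • y = t ^ m • y := by
      rw [← map_pow]
      exact algebraMap_smul (MvPolynomial (Fin n) R) (t ^ m) y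
    rw [h3]
    exact hy
  exact key _ hJ x htm

theorem smul_left_cancel {c : R} (hc : c ≠ 0) {x y : A} (h : c • x = c • y) : x = y := by
  rw [← sub_eq_zero]
  apply eq_zero_of_smul_eq_zero t ht hc
  rw [smul_sub, h, sub_self]

theorem isAdicComplete :
    IsAdicComplete ((Ideal.span {t}).map (algebraMap R A)) A := by
  have := AdicCompletion.isAdicComplete_self
    ((Ideal.span {t}).map (MvPolynomial.C : R →+* MvPolynomial (Fin n) R)) ((fg_span t).map _)
  rwa [map_map_C] at this

/-- separatedness in terms of reductions -/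
theorem eq_zero_of_forall_redc (x : A)
    (h : ∀ K : ℕ, redc t n (t ^ K) (pow_ne_zero K ht) x = 0) : x = 0 := by
  have := isAdicComplete t ht (n := n)
  apply eq_zero_of_forall_mem_pow ((Ideal.span {t}).map (algebraMap R A))
  intro K
  obtain ⟨y, hy⟩ := (redc_eq_zero_iff t _ x).mp (h K)
  rw [← Ideal.map_pow, Ideal.span_singleton_pow, map_span_singleton, Ideal.mem_span_singleton]
  exact ⟨y, by rw [hy, Algebra.smul_def]⟩

theorem ι_C_mul (c : R) (p : MvPolynomial (Fin n) R) :
    ι (Ideal.span {t}) n (MvPolynomial.C c * p) = c • ι (Ideal.span {t}) n p := by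
  rw [MvPolynomial.C_mul', map_smul]

/-- The content of a nonzero restricted power series. -/
theorem exists_content {x : A} (hx : x ≠ 0) :
    ∃ (c : R) (x' : A), c ≠ 0 ∧ x = c • x' ∧ redm t ht x' ≠ 0 := by
  classical
  -- a level at which `x` is nonzero
  obtain ⟨K, hK⟩ : ∃ K : ℕ, redc t n (t ^ K) (pow_ne_zero K ht) x ≠ 0 := by
    by_contra hcon
    push Not at hcon
    exact hx (eq_zero_of_forall_redc t ht x hcon)
  obtain ⟨p, hp⟩ := MvPolynomial.map_surjective (Ideal.Quotient.mk (Ideal.span {t ^ K}))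
    Ideal.Quotient.mk_surjective (redc t n (t ^ K) (pow_ne_zero K ht) x)
  -- coefficients of `p` not divisible by `t ^ K`
  let S : Finset R := (p.support.image fun ν => MvPolynomial.coeff ν p).filter
    fun a => ¬ t ^ K ∣ a
  have hS : S.Nonempty := by
    by_contra hS
    rw [Finset.not_nonempty_iff_eq_empty] at hS
    apply hK
    rw [← hp]
    ext ν
    rw [MvPolynomial.coeff_map, MvPolynomial.coeff_zero, Ideal.Quotient.eq_zero_iff_mem,
      Ideal.mem_span_singleton]
    by_contra hν
    have hmem : MvPolynomial.coeff ν p ∈ S := by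
      rw [Finset.mem_filter, Finset.mem_image]
      refine ⟨⟨ν, ?_, rfl⟩, hν⟩
      rw [MvPolynomial.mem_support_iff]
      intro h0
      exact hν (by rw [h0]; exact dvd_zero _)
    rw [hS] at hmem
    exact absurd hmem (Finset.notMem_empty _)
  obtain ⟨c, hcS, hcall⟩ := exists_dvd_all S hS
  have hcK : ¬ t ^ K ∣ c := (Finset.mem_filter.mp hcS).2
  obtain ⟨ν₀, hν₀, hcν₀⟩ := Finset.mem_image.mp (Finset.mem_filter.mp hcS).1
  have hc0 : c ≠ 0 := by
    intro h0
    exact hcK (by rw [h0]; exact dvd_zero _)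
  have hctK : c ∣ t ^ K := (ValuationRing.dvd_total c (t ^ K)).resolve_right hcK
  obtain ⟨s, hs⟩ := hctK
  have hsm : s ∈ maximalIdeal R := by
    rw [mem_maximalIdeal, mem_nonunits_iff]
    intro hu
    apply hcK
    obtain ⟨u, rfl⟩ := hu
    exact ⟨(u⁻¹ : Rˣ), by rw [hs, mul_assoc, Units.mul_inv, mul_one]⟩
  -- `c` divides all coefficients
  have hdvd : ∀ ν, c ∣ MvPolynomial.coeff ν p := by
    intro ν
    by_cases h1 : t ^ K ∣ MvPolynomial.coeff ν p
    · exact (Dvd.intro s hs.symm).trans h1
    · apply hcall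
      rw [Finset.mem_filter, Finset.mem_image]
      refine ⟨⟨ν, ?_, rfl⟩, h1⟩
      rw [MvPolynomial.mem_support_iff]
      intro h0
      exact h1 (by rw [h0]; exact dvd_zero _)
  obtain ⟨p', hp'⟩ := (MvPolynomial.C_dvd_iff_dvd_coeff c p).mpr hdvd
  have hcoeff : MvPolynomial.coeff ν₀ p' = 1 := by
    have h1 : MvPolynomial.coeff ν₀ p = c * MvPolynomial.coeff ν₀ p' := by
      rw [hp', MvPolynomial.coeff_C_mul]
    rw [hcν₀] at h1
    exact (mul_left_cancel₀ hc0 (by rw [mul_one]; exact h1)).symm
  -- the difference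
  have hdiff : redc t n (t ^ K) (pow_ne_zero K ht) (x - ι _ n p) = 0 := by
    rw [map_sub, redc_ι, hp, sub_self]
  obtain ⟨y, hy⟩ := (redc_eq_zero_iff t _ _).mp hdiff
  refine ⟨c, ι _ n p' + s • y, hc0, ?_, ?_⟩
  · rw [smul_add, ← ι_C_mul t ht, ← hp', smul_smul, ← hs, ← hy]
    ring
  · intro h0
    have h1 := congrArg (MvPolynomial.coeff ν₀) h0
    rw [map_add, redm_ι, MvPolynomial.coeff_add, MvPolynomial.coeff_map, hcoeff,
      MvPolynomial.coeff_zero, map_smul, MvPolynomial.coeff_smul] at h1
    have h2 : s • MvPolynomial.coeff ν₀ (redm t ht y) = 0 := by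
      rw [Algebra.smul_def]
      have : algebraMap R (R ⧸ maximalIdeal R) s = 0 :=
        Ideal.Quotient.eq_zero_iff_mem.mpr hsm
      rw [this, zero_mul]
    rw [h2, add_zero, map_one] at h1
    exact one_ne_zero h1

end Red

end Val

end Groth.Agent.H57.RPow
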