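import Mathlib
import Groth.Prelude.Def_W4bk4boschfrg79
import Groth.Agent.H57.RPow2

/-!
# Saturated ideals of restricted power series rings are finitely generated (helper57)

Division with remainder by a "standard basis" in `R⟨ζ⟩`, `R` a complete valuation ring of height one.
-/

set_option autoImplicit false
set_option linter.unusedSectionVars false
universe u

namespace Groth.Agent.H57.RPow

open AdicRing IsLocalRing

section Dickson

/-- Dickson's lemma: every subset of `ℕ^n` has a finite set of minimal elements dominating it. -/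
theorem exists_finset_minimal {n : ℕ} (L : Set (Fin n →₀ ℕ)) :
    ∃ s : Finset (Fin n →₀ ℕ), (↑s : Set (Fin n →₀ ℕ)) ⊆ L ∧ ∀ a ∈ L, ∃ b ∈ s, b ≤ a := by
  have hpwo : L.IsPWO := Set.isPWO_of_wellQuasiOrderedLE L
  have hanti : IsAntichain (· ≤ ·) {x | Minimal (· ∈ L) x} := setOfPred_minimal_antichain _
  have hsub : {x | Minimal (· ∈ L) x} ⊆ L := fun x hx => hx.1
  have hfin : {x | Minimal (· ∈ L) x}.Finite :=
    hanti.finite_of_partiallyWellOrderedOn (hpwo.mono hsub)
  refine ⟨hfin.toFinset, ?_, ?_⟩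
  · intro x hx
    rw [Set.Finite.coe_toFinset] at hx
    exact hsub hx
  · intro a ha
    obtain ⟨b, hba, hb⟩ := hpwo.exists_le_minimal ha
    exact ⟨b, by rw [Set.Finite.mem_toFinset]; exact hb, hba⟩

end Dickson

section Lift

variable {R : Type u} [CommRing R] {n : ℕ}

/-- Lifting a polynomial along a quotient map without enlarging the support. -/
theorem exists_lift_support (𝔢 : Ideal R) (q : MvPolynomial (Fin n) (R ⧸ 𝔢)) :
    ∃ p : MvPolynomial (Fin n) R, MvPolynomial.map (Ideal.Quotient.mk 𝔢) p = q ∧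
      p.support ⊆ q.support := by
  classical
  obtain ⟨p₀, hp₀⟩ := MvPolynomial.map_surjective (Ideal.Quotient.mk 𝔢)
    Ideal.Quotient.mk_surjective q
  refine ⟨∑ ν ∈ q.support, MvPolynomial.monomial ν (MvPolynomial.coeff ν p₀), ?_, ?_⟩
  · ext ν
    rw [MvPolynomial.coeff_map, MvPolynomial.coeff_sum]
    simp only [MvPolynomial.coeff_monomial]
    rw [Finset.sum_ite_eq' q.support ν]
    split_ifs with h
    · rw [← hp₀, MvPolynomial.coeff_map]
    · rw [map_zero]
      exact (MvPolynomial.notMem_support_iff.mp h).symm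
  · intro ν hν
    by_contra hq
    rw [MvPolynomial.mem_support_iff, MvPolynomial.coeff_sum] at hν
    apply hν
    simp only [MvPolynomial.coeff_monomial]
    rw [Finset.sum_ite_eq' q.support ν, if_neg hq]

end Lift

section Main

variable {R : Type u} [CommRing R] [IsDomain R] [ValuationRing R] [Ring.KrullDimLE 1 R]
  (t : R) (ht : t ≠ 0) [IsAdicComplete (Ideal.span {t}) R] {n : ℕ} (mo : MonomialOrder (Fin n))

set_option quotPrecheck false in
local notation "A" => RPow R (Ideal.span {t}) n

/-- `t`-saturated ideals of `R⟨ζ⟩`. -/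
def IsSat (J : Ideal A) : Prop := ∀ x : A, t • x ∈ J → x ∈ J

include ht

theorem IsSat.mem_of_smul_mem {J : Ideal A} (hJ : IsSat t J) {c : R} (hc : c ≠ 0) {x : A}
    (h : c • x ∈ J) : x ∈ J := by
  obtain ⟨d, s, hs⟩ := exists_pow_eq_mul t hc
  have h1 : t ^ d • x ∈ J := by
    rw [hs, mul_comm, mul_smul]
    exact Submodule.smul_of_tower_mem J s h
  clear hs
  induction d with
  | zero => simpa using h1
  | succ d ih =>
    apply ih
    apply hJ
    rw [smul_smul, ← pow_succ']
    exact h1

theorem span_le_maximalIdeal_of_not_isUnit {c : R} (hc : ¬ IsUnit c) :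
    Ideal.span {c} ≤ maximalIdeal R := by
  rw [Ideal.span_singleton_le_iff_mem]
  exact (mem_maximalIdeal c).mpr hc

/-- A finite "standard basis" of leading exponents. -/
theorem exists_basis (J : Ideal A) :
    ∃ (s : Finset (Fin n →₀ ℕ)) (g : (Fin n →₀ ℕ) → A),
      (∀ b ∈ s, g b ∈ J ∧ redm t ht (g b) ≠ 0 ∧ mo.degree (redm t ht (g b)) = b) ∧
      ∀ x ∈ J, redm t ht x ≠ 0 → ∃ b ∈ s, b ≤ mo.degree (redm t ht x) := by
  classical
  let L : Set (Fin n →₀ ℕ) := {ν | ∃ x ∈ J, redm t ht x ≠ 0 ∧ mo.degree (redm t ht x) = ν}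
  obtain ⟨s, hsL, hs⟩ := exists_finset_minimal L
  refine ⟨s, fun b => if h : b ∈ L then h.choose else 0, ?_, ?_⟩
  · intro b hb
    have hbL : b ∈ L := hsL hb
    simp only [dif_pos hbL]
    exact hbL.choose_spec
  · intro x hx hx0
    exact hs _ ⟨x, hx, hx0, rfl⟩

/-- The choice of the modulus `e`. -/
theorem exists_e (s : Finset (Fin n →₀ ℕ)) (g : (Fin n →₀ ℕ) → A)
    (hg : ∀ b ∈ s, redm t ht (g b) ≠ 0 ∧ mo.degree (redm t ht (g b)) = b) :
    ∃ (e : R) (he : e ≠ 0), ¬ IsUnit e ∧ ∀ b ∈ s,
      mo.degree (redc t n e he (g b)) = b ∧ IsUnit (mo.leadingCoeff (redc t n e he (g b))) := by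
  classical
  have hlift : ∀ b, ∃ p : MvPolynomial (Fin n) R,
      MvPolynomial.map (Ideal.Quotient.mk (Ideal.span {t})) p = redc t n t ht (g b) := fun b =>
    MvPolynomial.map_surjective _ Ideal.Quotient.mk_surjective _
  choose p hp using hlift
  have htm : Ideal.span {t} ≤ maximalIdeal R :=
    span_le_maximalIdeal_of_not_isUnit t ht (not_isUnit_t t ht)
  have hredm : ∀ b, redm t ht (g b) = MvPolynomial.map (Ideal.Quotient.mk (maximalIdeal R)) (p b) := by
    intro b
    rw [redm_eq_map_redc t ht ht htm, ← hp, MvPolynomial.map_map]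
    rfl
  -- bad coefficients
  let Bad : Finset R := s.biUnion fun b =>
    ((p b).support.filter fun ν => mo.toSyn b < mo.toSyn ν).image fun ν => MvPolynomial.coeff ν (p b)
  have hBad : ∀ a ∈ Bad, a ∈ maximalIdeal R := by
    intro a ha
    rw [Finset.mem_biUnion] at ha
    obtain ⟨b, hb, ha⟩ := ha
    rw [Finset.mem_image] at ha
    obtain ⟨ν, hν, rfl⟩ := ha
    rw [Finset.mem_filter] at hν
    have h1 : MvPolynomial.coeff ν (redm t ht (g b)) = 0 := by
      apply mo.coeff_eq_zero_of_lt
      rw [(hg b hb).2]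
      exact hν.2
    rw [hredm, MvPolynomial.coeff_map] at h1
    exact Ideal.Quotient.eq_zero_iff_mem.mp h1
  obtain ⟨e, heE, hall⟩ := exists_dvd_all (insert t Bad) (Finset.insert_nonempty t Bad)
  have het : e ∣ t := hall t (Finset.mem_insert_self t Bad)
  have he0 : e ≠ 0 := by
    intro h0
    rw [h0, zero_dvd_iff] at het
    exact ht het
  have hem : e ∈ maximalIdeal R := by
    rw [Finset.mem_insert] at heE
    rcases heE with rfl | h
    · exact t_mem_maximalIdeal e ht
    · exact hBad e h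
  have heu : ¬ IsUnit e := (mem_maximalIdeal e).mp hem
  have hle : Ideal.span {t} ≤ Ideal.span {e} := by
    rw [Ideal.span_singleton_le_span_singleton]
    exact het
  have hrede : ∀ b, redc t n e he0 (g b) =
      MvPolynomial.map (Ideal.Quotient.mk (Ideal.span {e})) (p b) := by
    intro b
    rw [← redc_factor t ht he0 hle, ← hp, MvPolynomial.map_map]
    rfl
  have : Nontrivial (R ⧸ Ideal.span {e}) :=
    Ideal.Quotient.nontrivial_iff.mpr (fun h => heu (Ideal.span_singleton_eq_top.mp h))
  refine ⟨e, he0, heu, fun b hb => ?_⟩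
  -- the leading coefficient is a unit
  have hunit : IsUnit (MvPolynomial.coeff b (p b)) := by
    have h1 : MvPolynomial.coeff b (redm t ht (g b)) ≠ 0 := by
      have := (hg b hb).1
      rw [← mo.leadingCoeff_ne_zero_iff, MonomialOrder.leadingCoeff, (hg b hb).2] at this
      exact this
    rw [hredm, MvPolynomial.coeff_map] at h1
    by_contra hnu
    exact h1 (Ideal.Quotient.eq_zero_iff_mem.mpr ((mem_maximalIdeal _).mpr hnu))
  have hcoeffb : MvPolynomial.coeff b (redc t n e he0 (g b)) =
      Ideal.Quotient.mk (Ideal.span {e}) (MvPolynomial.coeff b (p b)) := by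
    rw [hrede, MvPolynomial.coeff_map]
  have hunit' : IsUnit (MvPolynomial.coeff b (redc t n e he0 (g b))) := by
    rw [hcoeffb]
    exact hunit.map _
  -- vanishing above `b`
  have hvan : ∀ ν, mo.toSyn b < mo.toSyn ν → MvPolynomial.coeff ν (redc t n e he0 (g b)) = 0 := by
    intro ν hν
    rw [hrede, MvPolynomial.coeff_map, Ideal.Quotient.eq_zero_iff_mem, Ideal.mem_span_singleton]
    by_cases hsupp : ν ∈ (p b).support
    · apply hall
      rw [Finset.mem_insert]
      right
      rw [Finset.mem_biUnion]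
      refine ⟨b, hb, ?_⟩
      rw [Finset.mem_image]
      exact ⟨ν, Finset.mem_filter.mpr ⟨hsupp, hν⟩, rfl⟩
    · rw [MvPolynomial.notMem_support_iff.mp hsupp]
      exact dvd_zero e
  have hdeg : mo.degree (redc t n e he0 (g b)) = b := by
    apply mo.toSyn.injective
    apply le_antisymm
    · rw [mo.degree_le_iff]
      intro c hc
      by_contra hlt
      rw [not_le] at hlt
      exact (MvPolynomial.mem_support_iff.mp hc) (hvan c hlt)
    · apply mo.le_degree
      rw [MvPolynomial.mem_support_iff]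
      exact hunit'.ne_zero
  refine ⟨hdeg, ?_⟩
  rw [MonomialOrder.leadingCoeff, hdeg]
  exact hunit'

/-- One step of the division algorithm: division modulo `e`. -/
theorem step (s : Finset (Fin n →₀ ℕ)) (g : (Fin n →₀ ℕ) → A) (e : R) (he : e ≠ 0)
    (hdeg : ∀ b ∈ s, mo.degree (redc t n e he (g b)) = b ∧
      IsUnit (mo.leadingCoeff (redc t n e he (g b))))
    (f : A) :
    ∃ (q : (Fin n →₀ ℕ) → MvPolynomial (Fin n) R) (r : MvPolynomial (Fin n) R) (f₁ : A),
      f = ∑ b ∈ s, ι _ n (q b) * g b + ι _ n r + e • f₁ ∧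
      ∀ ν ∈ r.support, ∀ b ∈ s, ¬ b ≤ ν := by
  classical
  obtain ⟨qbar, rbar, h1, -, h3⟩ := mo.div (ι := ↥s)
    (b := fun b : ↥s => redc t n e he (g b.1)) (fun b => (hdeg b.1 b.2).2) (redc t n e he f)
  have hlift : ∀ b : ↥s, ∃ p : MvPolynomial (Fin n) R,
      MvPolynomial.map (Ideal.Quotient.mk (Ideal.span {e})) p = qbar b := fun b =>
    MvPolynomial.map_surjective _ Ideal.Quotient.mk_surjective _
  choose qq hqq using hlift
  obtain ⟨r, hr, hrsupp⟩ := exists_lift_support (Ideal.span {e}) rbar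
  let q : (Fin n →₀ ℕ) → MvPolynomial (Fin n) R := fun b => if h : b ∈ s then qq ⟨b, h⟩ else 0
  have hq : ∀ b : ↥s, q b.1 = qq b := fun b => by simp only [q, dif_pos b.2]
  have hzero : redc t n e he (f - (∑ b ∈ s, ι _ n (q b) * g b + ι _ n r)) = 0 := by
    rw [map_sub, map_add, map_sum, redc_ι, hr, h1, Finsupp.linearCombination_apply,
      Finsupp.sum_fintype _ _ (fun i => by rw [zero_smul])]
    rw [← Finset.sum_coe_sort s]
    have : ∀ b : ↥s, redc t n e he (ι _ n (q b.1) * g b.1) =
        qbar b • redc t n e he (g b.1) := by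
      intro b
      rw [map_mul, redc_ι, hq, hqq, smul_eq_mul]
    simp only [this]
    ring
  obtain ⟨f₁, hf₁⟩ := (redc_eq_zero_iff t he _).mp hzero
  refine ⟨q, r, f₁, ?_, ?_⟩
  · rw [← hf₁]; ring
  · intro ν hν b hb hbν
    have := h3 ν (hrsupp hν) ⟨b, hb⟩
    simp only [(hdeg b hb).1] at this
    exact this hbν

theorem ι_smul (c : R) (p : MvPolynomial (Fin n) R) :
    ι (Ideal.span {t}) n (c • p) = c • ι (Ideal.span {t}) n p := map_smul _ _ _

/-- Division with remainder by a standard basis. -/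
theorem division (s : Finset (Fin n →₀ ℕ)) (g : (Fin n →₀ ℕ) → A) (e : R) (he : e ≠ 0)
    (heu : ¬ IsUnit e)
    (hdeg : ∀ b ∈ s, mo.degree (redc t n e he (g b)) = b ∧
      IsUnit (mo.leadingCoeff (redc t n e he (g b))))
    (f : A) :
    ∃ (Q : (Fin n →₀ ℕ) → A) (Rem : A),
      f = ∑ b ∈ s, Q b * g b + Rem ∧
      ∀ m : ℕ, ∃ (r : MvPolynomial (Fin n) R) (z : A), Rem = ι _ n r + e ^ m • z ∧
        ∀ ν ∈ r.support, ∀ b ∈ s, ¬ b ≤ ν := by
  classical
  choose qf rf nf hstep using step t ht mo s g e he hdeg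
  let F : ℕ → A := fun j => nf^[j] f
  have hF : ∀ j, F (j + 1) = nf (F j) := fun j => Function.iterate_succ_apply' nf j f
  -- the finite expansion
  have hexp : ∀ m : ℕ, f = ∑ j ∈ Finset.range m,
      e ^ j • (∑ b ∈ s, ι _ n (qf (F j) b) * g b + ι _ n (rf (F j))) + e ^ m • F m := by
    intro m
    induction m with
    | zero => simp [F]
    | succ m ih =>
      rw [Finset.sum_range_succ, add_assoc]
      have h1 := (hstep (F m)).1
      have h2 : e ^ m • (∑ b ∈ s, ι _ n (qf (F m) b) * g b + ι _ n (rf (F m))) +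
          e ^ (m + 1) • F (m + 1) = e ^ m • F m := by
        rw [hF, pow_succ, mul_smul, ← smul_add]
        congr 1
        exact h1.symm
      rw [h2]
      exact ih
  -- topological nilpotence of `e`
  obtain ⟨d, hd, hed⟩ := exists_pow_mem_span t ht heu
  have hcompl := isAdicComplete t ht (n := n)
  have hea : (algebraMap R A e) ^ d ∈ (Ideal.span {t}).map (algebraMap R A) := by
    rw [← map_pow]
    exact Ideal.mem_map_of_mem _ hed
  -- the series
  have hQ : ∀ b, ∃ Qb : A, ∀ m : ℕ, ∃ y : A,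
      Qb = ∑ j ∈ Finset.range m, (algebraMap R A e) ^ j * ι _ n (qf (F j) b) +
        (algebraMap R A e) ^ m * y := fun b =>
    exists_series _ hd hea (fun j => ι _ n (qf (F j) b))
  choose Q hQ using hQ
  obtain ⟨Rem, hRem⟩ := exists_series _ hd hea (fun j => ι _ n (rf (F j)))
  refine ⟨Q, Rem, ?_, ?_⟩
  · rw [← sub_eq_zero]
    apply eq_zero_of_forall_mem_pow ((Ideal.span {t}).map (algebraMap R A))
    intro K
    choose y hy using fun b => hQ b (K * d)
    obtain ⟨z, hz⟩ := hRem (K * d)
    have hkey : f - (∑ b ∈ s, Q b * g b + Rem) =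
        (algebraMap R A e) ^ (K * d) * (F (K * d) - ∑ b ∈ s, y b * g b - z) := by
      have h1 : ∑ b ∈ s, Q b * g b = ∑ b ∈ s, (∑ j ∈ Finset.range (K * d),
          (algebraMap R A e) ^ j * ι _ n (qf (F j) b) + (algebraMap R A e) ^ (K * d) * y b) * g b :=
        Finset.sum_congr rfl fun b _ => by rw [← hy b]
      rw [h1, hz]
      conv_lhs => rw [hexp (K * d)]
      simp only [Algebra.smul_def, map_pow, add_mul, Finset.sum_add_distrib, Finset.sum_mul,
        Finset.mul_sum, mul_add, mul_sub]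
      rw [Finset.sum_comm (s := s)]
      have : ∀ j ∈ Finset.range (K * d), ∑ b ∈ s, (algebraMap R A e) ^ j *
          (ι _ n (qf (F j) b) * g b) = ∑ b ∈ s, (algebraMap R A e) ^ j * ι _ n (qf (F j) b) * g b :=
        fun j _ => Finset.sum_congr rfl fun b _ => by ring
      rw [Finset.sum_congr rfl this]
      have h2 : ∑ b ∈ s, (algebraMap R A e) ^ (K * d) * y b * g b =
          ∑ b ∈ s, (algebraMap R A e) ^ (K * d) * (y b * g b) :=
        Finset.sum_congr rfl fun b _ => by ring
      rw [h2]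
      ring
    rw [hkey]
    apply Ideal.mul_mem_right
    rw [mul_comm, pow_mul]
    exact Ideal.pow_mem_pow hea K
  · intro m
    obtain ⟨z, hz⟩ := hRem m
    refine ⟨∑ j ∈ Finset.range m, e ^ j • rf (F j), z, ?_, ?_⟩
    · rw [hz, map_sum]
      congr 1
      · refine Finset.sum_congr rfl fun j _ => ?_
        rw [ι_smul t ht, Algebra.smul_def, map_pow]
      · rw [Algebra.smul_def, map_pow]
    · intro ν hν b hb
      have h1 := MvPolynomial.support_sum hν
      rw [Finset.mem_biUnion] at h1
      obtain ⟨j, -, hj⟩ := h1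
      exact (hstep (F j)).2 ν (MvPolynomial.support_smul hj) b hb

/-- A nonzero element is not divisible by all powers of a nonunit. -/
theorem exists_not_pow_dvd {e : R} (heu : ¬ IsUnit e) {c : R} (hc : c ≠ 0) :
    ∃ m : ℕ, ¬ e ^ m ∣ c := by
  by_contra hcon
  push Not at hcon
  obtain ⟨d, hd, hed⟩ := exists_pow_mem_span t ht heu
  apply hc
  apply IsHausdorff.haus' (I := Ideal.span {t}) c
  intro K
  rw [SModEq.zero, smul_eq_mul, Ideal.mul_top, Ideal.span_singleton_pow, Ideal.mem_span_singleton]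
  have h1 : t ^ K ∣ e ^ (d * K) := by
    rw [pow_mul]
    exact pow_dvd_pow_of_dvd (Ideal.mem_span_singleton.mp hed) K
  exact h1.trans (hcon _)

/-- **Saturated ideals of `R⟨ζ⟩` are finitely generated.** -/
theorem fg_of_isSat (J : Ideal A) (hJ : IsSat t J) : J.FG := by
  classical
  have mo : MonomialOrder (Fin n) := MonomialOrder.lex
  obtain ⟨s, g, hg, hdom⟩ := exists_basis t ht mo J
  obtain ⟨e, he, heu, hdeg⟩ := exists_e t ht mo s g (fun b hb => (hg b hb).2)
  have hgen : J = Ideal.span (g '' (s : Set (Fin n →₀ ℕ))) := by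
    apply le_antisymm
    · intro f hf
      obtain ⟨Q, Rem, hfeq, hRem⟩ := division t ht mo s g e he heu hdeg f
      have hsum : ∑ b ∈ s, Q b * g b ∈ Ideal.span (g '' (s : Set (Fin n →₀ ℕ))) :=
        Ideal.sum_mem _ fun b hb => Ideal.mul_mem_left _ _
          (Ideal.subset_span ⟨b, hb, rfl⟩)
      have hsumJ : ∑ b ∈ s, Q b * g b ∈ J :=
        Ideal.sum_mem _ fun b hb => Ideal.mul_mem_left _ _ (hg b hb).1
      have hRemJ : Rem ∈ J := by
        have : Rem = f - ∑ b ∈ s, Q b * g b := by rw [hfeq]; ring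
        rw [this]
        exact Ideal.sub_mem _ hf hsumJ
      suffices hR0 : Rem = 0 by
        rw [hfeq, hR0, add_zero]
        exact hsum
      by_contra hR0
      obtain ⟨c, x', hc0, hcx, hx'⟩ := exists_content t ht hR0
      have hx'J : x' ∈ J := hJ.mem_of_smul_mem t ht hc0 (hcx ▸ hRemJ)
      obtain ⟨b, hb, hbν⟩ := hdom x' hx'J hx'
      obtain ⟨m, hm⟩ := exists_not_pow_dvd t ht heu hc0
      have hem0 : e ^ m ≠ 0 := pow_ne_zero m he
      have hemu : ¬ IsUnit (e ^ m) := fun hu => hm (hu.dvd)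
      have hle : Ideal.span {e ^ m} ≤ maximalIdeal R :=
        span_le_maximalIdeal_of_not_isUnit t ht hemu
      obtain ⟨r, z, hRz, hrsupp⟩ := hRem m
      set ν₀ := mo.degree (redm t ht x') with hν₀
      -- first computation of the coefficient
      have h1 : MvPolynomial.coeff ν₀ (redc t n (e ^ m) hem0 Rem) = 0 := by
        rw [hRz, map_add, redc_ι, map_smul, MvPolynomial.coeff_add, MvPolynomial.coeff_map,
          MvPolynomial.coeff_smul]
        have h2 : MvPolynomial.coeff ν₀ r = 0 := by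
          by_contra h
          exact hrsupp ν₀ (MvPolynomial.mem_support_iff.mpr h) b hb hbν
        have h3 : (e ^ m) • MvPolynomial.coeff ν₀ (redc t n (e ^ m) hem0 z) = 0 := by
          rw [Algebra.smul_def]
          have : algebraMap R (R ⧸ Ideal.span {e ^ m}) (e ^ m) = 0 :=
            Ideal.Quotient.eq_zero_iff_mem.mpr (Ideal.mem_span_singleton_self _)
          rw [this, zero_mul]
        rw [h2, h3, map_zero, add_zero]
      -- second computation
      obtain ⟨u, hu⟩ := Ideal.Quotient.mk_surjective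
        (MvPolynomial.coeff ν₀ (redc t n (e ^ m) hem0 x'))
      have hunit : IsUnit u := by
        by_contra hnu
        have h4 : MvPolynomial.coeff ν₀ (redm t ht x') = 0 := by
          rw [redm_eq_map_redc t ht hem0 hle, MvPolynomial.coeff_map, ← hu]
          exact Ideal.Quotient.eq_zero_iff_mem.mpr ((mem_maximalIdeal u).mpr hnu)
        have h5 := (mo.leadingCoeff_ne_zero_iff).mpr hx'
        exact h5 h4
      rw [hcx, map_smul, MvPolynomial.coeff_smul, ← hu, Algebra.smul_def] at h1
      have h6 : Ideal.Quotient.mk (Ideal.span {e ^ m}) (c * u) = 0 := by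
        rw [map_mul]
        exact h1
      rw [Ideal.Quotient.eq_zero_iff_mem, Ideal.mem_span_singleton] at h6
      exact hm ((hunit.dvd_mul_right).mp h6)
    · rw [Ideal.span_le]
      rintro _ ⟨b, hb, rfl⟩
      exact (hg b hb).1
  rw [hgen]
  exact ⟨s.image g, by rw [Finset.coe_image]⟩

end Main

end Groth.Agent.H57.RPow
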