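import Mathlib
import Groth.Prelude.Def_W4bk4boschfrg79
import Groth.Agent.H57.RPow1

/-!
# The universal property of restricted power series `R⟨ζ⟩` (helper57)
-/

set_option autoImplicit false
universe u v

namespace Groth.Agent.H57.RPow

open AdicRing

section General

variable {S : Type u} [CommRing S] (J : Ideal S)

theorem factor_evalₐ {m k : ℕ} (hle : m ≤ k) (x : AdicCompletion J S) :
    Ideal.Quotient.factor (Ideal.pow_le_pow_right hle) (AdicCompletion.evalₐ J k x) =
      AdicCompletion.evalₐ J m x := by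
  obtain ⟨a, rfl⟩ := AdicCompletion.mk_surjective J S x
  rw [AdicCompletion.evalₐ_mk, AdicCompletion.evalₐ_mk, Ideal.Quotient.factor_mk]
  exact AdicCompletion.Ideal.mk_eq_mk J hle a

end General

section UP

variable {R : Type u} [CommRing R] (I : Ideal R) {n : ℕ}
variable {B : Type v} [CommRing B] [Algebra R B]

theorem map_C_map_aeval (b : Fin n → B) :
    (I.map (MvPolynomial.C : R →+* MvPolynomial (Fin n) R)).map
      (MvPolynomial.aeval b : MvPolynomial (Fin n) R →ₐ[R] B).toRingHom =
      I.map (algebraMap R B) := by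
  rw [Ideal.map_map]
  congr 1
  ext r
  simp

theorem aeval_mem_pow (b : Fin n → B) (k : ℕ) :
    ∀ a ∈ (I.map (MvPolynomial.C : R →+* MvPolynomial (Fin n) R)) ^ k,
      ((Ideal.Quotient.mkₐ R ((I.map (algebraMap R B)) ^ k)).comp (MvPolynomial.aeval b)) a = 0 := by
  intro a ha
  rw [AlgHom.comp_apply, Ideal.Quotient.mkₐ_eq_mk, Ideal.Quotient.eq_zero_iff_mem,
    ← map_C_map_aeval I b, ← Ideal.map_pow]
  exact Ideal.mem_map_of_mem
    (MvPolynomial.aeval b : MvPolynomial (Fin n) R →ₐ[R] B).toRingHom ha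

/-- The `k`-th level of the universal map. -/
noncomputable def liftLevel (b : Fin n → B) (k : ℕ) :
    RPow R I n →ₐ[R] B ⧸ (I.map (algebraMap R B)) ^ k :=
  (Ideal.Quotient.liftₐ ((I.map (MvPolynomial.C : R →+* MvPolynomial (Fin n) R)) ^ k)
    ((Ideal.Quotient.mkₐ R ((I.map (algebraMap R B)) ^ k)).comp (MvPolynomial.aeval b))
    (aeval_mem_pow I b k)).comp
    ((AdicCompletion.evalₐ (I.map (MvPolynomial.C : R →+* MvPolynomial (Fin n) R)) k).restrictScalars R)

theorem liftLevel_apply (b : Fin n → B) (k : ℕ) (x : RPow R I n) :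
    liftLevel I b k x =
      Ideal.Quotient.liftₐ ((I.map (MvPolynomial.C : R →+* MvPolynomial (Fin n) R)) ^ k)
        ((Ideal.Quotient.mkₐ R ((I.map (algebraMap R B)) ^ k)).comp (MvPolynomial.aeval b))
        (aeval_mem_pow I b k)
        (AdicCompletion.evalₐ (I.map (MvPolynomial.C : R →+* MvPolynomial (Fin n) R)) k x) := rfl

theorem liftLevel_of_evalₐ_eq (b : Fin n → B) (k : ℕ) (x : RPow R I n)
    (p : MvPolynomial (Fin n) R)
    (h : AdicCompletion.evalₐ (I.map (MvPolynomial.C : R →+* MvPolynomial (Fin n) R)) k x =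
      Ideal.Quotient.mk _ p) :
    liftLevel I b k x = Ideal.Quotient.mk _ (MvPolynomial.aeval b p) := by
  rw [liftLevel_apply, h]
  rfl

theorem liftLevel_ι (b : Fin n → B) (k : ℕ) (p : MvPolynomial (Fin n) R) :
    liftLevel I b k (ι I n p) = Ideal.Quotient.mk _ (MvPolynomial.aeval b p) :=
  liftLevel_of_evalₐ_eq I b k _ p (by rw [ι_apply, AdicCompletion.evalₐ_of])

theorem liftLevel_compat (b : Fin n → B) {m k : ℕ} (hle : m ≤ k) :
    (Ideal.Quotient.factorₐ R (Ideal.pow_le_pow_right hle)).comp (liftLevel I b k) =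
      liftLevel I b m := by
  ext x
  obtain ⟨p, hp⟩ := Ideal.Quotient.mk_surjective
    (AdicCompletion.evalₐ (I.map (MvPolynomial.C : R →+* MvPolynomial (Fin n) R)) k x)
  have hp' : AdicCompletion.evalₐ (I.map (MvPolynomial.C : R →+* MvPolynomial (Fin n) R)) m x =
      Ideal.Quotient.mk _ p := by
    rw [← factor_evalₐ _ hle, ← hp, Ideal.Quotient.factor_mk]
  rw [AlgHom.comp_apply, liftLevel_of_evalₐ_eq I b k x p hp.symm,
    liftLevel_of_evalₐ_eq I b m x p hp']
  rfl

variable [IsAdicComplete (I.map (algebraMap R B)) B]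

/-- **Universal property of `R⟨ζ⟩`**: the `R`-algebra map `R⟨ζ⟩ → B`, `ζ i ↦ b i`, for an
`I`-adically complete `R`-algebra `B`. -/
noncomputable def lift (b : Fin n → B) : RPow R I n →ₐ[R] B :=
  IsAdicComplete.liftAlgHom (I.map (algebraMap R B)) (liftLevel I b)
    (fun hle => liftLevel_compat I b hle)

theorem mk_lift (b : Fin n → B) (k : ℕ) (x : RPow R I n) :
    Ideal.Quotient.mk ((I.map (algebraMap R B)) ^ k) (lift I b x) = liftLevel I b k x :=
  IsAdicComplete.mk_liftAlgHom _ _ (fun hle => liftLevel_compat I b hle) k x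

theorem lift_ι (b : Fin n → B) (p : MvPolynomial (Fin n) R) :
    lift I b (ι I n p) = MvPolynomial.aeval b p := by
  rw [← sub_eq_zero]
  apply eq_zero_of_forall_mem_pow (I.map (algebraMap R B))
  intro K
  rw [← Ideal.Quotient.eq_zero_iff_mem, map_sub, mk_lift, liftLevel_ι, sub_self]

theorem lift_X (b : Fin n → B) (i : Fin n) :
    lift I b (ι I n (MvPolynomial.X i)) = b i := by
  rw [lift_ι, MvPolynomial.aeval_X]

end UP

section Ext

variable {R : Type u} [CommRing R] {I : Ideal R} {n : ℕ}
variable {B : Type v} [CommRing B] [Algebra R B]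

theorem map_mem_pow (φ : RPow R I n →ₐ[R] B) {K : ℕ} {y : RPow R I n}
    (hy : y ∈ (I ^ K).map (algebraMap R (RPow R I n))) :
    φ y ∈ (I.map (algebraMap R B)) ^ K := by
  have h1 : ((I ^ K).map (algebraMap R (RPow R I n))).map φ.toRingHom =
      (I.map (algebraMap R B)) ^ K := by
    rw [Ideal.map_map, ← Ideal.map_pow]
    congr 1
    exact φ.comp_algebraMap
  rw [← h1]
  exact Ideal.mem_map_of_mem _ hy

/-- Uniqueness in the universal property. -/
theorem hom_ext (hI : I.FG) [IsHausdorff (I.map (algebraMap R B)) B]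
    {φ ψ : RPow R I n →ₐ[R] B}
    (h : ∀ i, φ (ι I n (MvPolynomial.X i)) = ψ (ι I n (MvPolynomial.X i))) : φ = ψ := by
  have h1 : φ.comp (ι I n) = ψ.comp (ι I n) := MvPolynomial.algHom_ext h
  ext x
  rw [← sub_eq_zero]
  apply eq_zero_of_forall_mem_pow (I.map (algebraMap R B))
  intro K
  obtain ⟨p, hp⟩ := exists_sub_ι_mem hI x K
  have h2 : φ x - ψ x = φ (x - ι I n p) - ψ (x - ι I n p) := by
    have : φ (ι I n p) = ψ (ι I n p) := congrArg (fun f => f p) h1
    rw [map_sub, map_sub, this]; ring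
  rw [h2]
  exact Ideal.sub_mem _ (map_mem_pow φ hp) (map_mem_pow ψ hp)

theorem isAdicComplete_self (hI : I.FG) :
    IsAdicComplete (I.map (algebraMap R (RPow R I n))) (RPow R I n) := by
  have := AdicCompletion.isAdicComplete_self
    (I.map (MvPolynomial.C : R →+* MvPolynomial (Fin n) R)) (hI.map _)
  rwa [map_map_C] at this

/-- A map out of `R⟨ζ⟩` into a separated algebra which is surjective modulo `I` is surjective. -/
theorem surjective_of_mk_comp_surjective (hI : I.FG) [IsHausdorff (I.map (algebraMap R B)) B]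
    (φ : RPow R I n →ₐ[R] B)
    (h : Function.Surjective
      ((Ideal.Quotient.mk (I.map (algebraMap R B))).comp φ.toRingHom)) :
    Function.Surjective φ := by
  have hc := isAdicComplete_self (n := n) hI
  have h1 : (I.map (algebraMap R (RPow R I n))).map φ.toRingHom = I.map (algebraMap R B) := by
    rw [Ideal.map_map]
    congr 1
    exact φ.comp_algebraMap
  have : IsHausdorff ((I.map (algebraMap R (RPow R I n))).map φ.toRingHom) B := by rwa [h1]
  apply surjective_of_mk_map_comp_surjective (I := I.map (algebraMap R (RPow R I n))) φ.toRingHom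
  rw [h1]
  exact h

end Ext

end Groth.Agent.H57.RPow
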