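import Mathlib
import Groth.Prelude.Def_W4bk4boschfrg79
import Groth.Agent.H57.RPow3
import Groth.Agent.H57.RPowUP
import Groth.Agent.H57.AdicMod

/-!
# Saturated submodules of `R⟨ζ⟩^r` are finitely generated (helper57)

Via Nagata's idealization `R⟨ζ⟩ ⊕ R⟨ζ⟩^r`, a quotient of `R⟨ζ, η⟩`.
-/

set_option autoImplicit false
universe u v

namespace Groth.Agent.H57.RPow

open AdicRing IsLocalRing

section Triv

variable {R : Type u} [CommRing R] (I : Ideal R)
variable (B : Type v) [CommRing B] [Algebra R B] (r : ℕ)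

/-- The idealization as a product. -/
noncomputable def tszeLinearEquiv :
    TrivSqZeroExt B (Fin r → B) ≃ₗ[R] B × (Fin r → B) where
  toFun x := (x.fst, x.snd)
  invFun y := TrivSqZeroExt.inl y.1 + TrivSqZeroExt.inr y.2
  map_add' x y := rfl
  map_smul' c x := rfl
  left_inv x := TrivSqZeroExt.inl_fst_add_inr_snd_eq x
  right_inv y := by ext <;> simp

theorem isAdicComplete_tsze [IsAdicComplete (I.map (algebraMap R B)) B] :
    IsAdicComplete (I.map (algebraMap R (TrivSqZeroExt B (Fin r → B))))
      (TrivSqZeroExt B (Fin r → B)) := by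
  classical
  have h1 : IsAdicComplete I B := (IsAdicComplete.map_algebraMap_iff (S := B) I B).mp inferInstance
  have h2 : IsAdicComplete I (Fin r → B) := AdicMod.isAdicComplete_pi I
  have h3 : IsAdicComplete I (B × (Fin r → B)) := AdicMod.isAdicComplete_prod I
  have h4 : IsAdicComplete I (TrivSqZeroExt B (Fin r → B)) :=
    AdicMod.isAdicComplete_of_linearEquiv I (tszeLinearEquiv B r).symm
  exact (IsAdicComplete.map_algebraMap_iff (S := TrivSqZeroExt B (Fin r → B)) I _).mpr h4

end Triv

section Surj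

variable {R : Type u} [CommRing R] (I : Ideal R) (hI : I.FG) (n r : ℕ)

/-- `R⟨ζ⟩ → R⟨ζ, η⟩`. -/
noncomputable def inclLeft : RPow R I n →ₐ[R] RPow R I (n + r) :=
  haveI := isAdicComplete_self (I := I) (n := n + r) hI
  lift I (fun i => ι I (n + r) (MvPolynomial.X (Fin.castAdd r i)))

/-- The surjection from `R⟨ζ, η⟩` onto the idealization of `R⟨ζ⟩^r`. -/
noncomputable def toTsze :
    RPow R I (n + r) →ₐ[R] TrivSqZeroExt (RPow R I n) (Fin r → RPow R I n) :=
  haveI := isAdicComplete_self (I := I) (n := n) hI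
  haveI := isAdicComplete_tsze I (RPow R I n) r
  lift I (Fin.append (fun i => TrivSqZeroExt.inl (ι I n (MvPolynomial.X i)))
    (fun j => TrivSqZeroExt.inr (Pi.single j 1)))

theorem toTsze_comp_inclLeft :
    (toTsze I hI n r).comp (inclLeft I hI n r) =
      TrivSqZeroExt.inlAlgHom R (RPow R I n) (Fin r → RPow R I n) := by
  have := isAdicComplete_self (I := I) (n := n) hI
  have := isAdicComplete_self (I := I) (n := n + r) hI
  have := isAdicComplete_tsze I (RPow R I n) r
  apply hom_ext hI
  intro i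
  rw [AlgHom.comp_apply, inclLeft, lift_X, toTsze, lift_X, Fin.append_left]
  rfl

theorem toTsze_inclLeft (a : RPow R I n) :
    toTsze I hI n r (inclLeft I hI n r a) = TrivSqZeroExt.inl a :=
  congrArg (fun f => f a) (toTsze_comp_inclLeft I hI n r)

theorem toTsze_X_right (j : Fin r) :
    toTsze I hI n r (ι I (n + r) (MvPolynomial.X (Fin.natAdd n j))) =
      TrivSqZeroExt.inr (Pi.single j 1) := by
  have := isAdicComplete_self (I := I) (n := n) hI
  have := isAdicComplete_tsze I (RPow R I n) r
  rw [toTsze, lift_X, Fin.append_right]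

theorem toTsze_surjective : Function.Surjective (toTsze I hI n r) := by
  classical
  intro x
  have hx : x = TrivSqZeroExt.inl x.fst +
      ∑ j : Fin r, TrivSqZeroExt.inl (x.snd j) * TrivSqZeroExt.inr (Pi.single j 1) := by
    conv_lhs => rw [← TrivSqZeroExt.inl_fst_add_inr_snd_eq x]
    congr 1
    have h1 : x.snd = ∑ j : Fin r, x.snd j • (Pi.single j (1 : RPow R I n) : Fin r → RPow R I n) := by
      ext k
      simp [Finset.sum_apply, Pi.single_apply]
    conv_lhs => rw [h1]
    rw [TrivSqZeroExt.inr_sum]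
    refine Finset.sum_congr rfl fun j _ => ?_
    rw [TrivSqZeroExt.inl_mul_inr]
  refine ⟨inclLeft I hI n r x.fst + ∑ j : Fin r, inclLeft I hI n r (x.snd j) *
    ι I (n + r) (MvPolynomial.X (Fin.natAdd n j)), ?_⟩
  rw [map_add, map_sum, toTsze_inclLeft]
  conv_rhs => rw [hx]
  congr 1
  refine Finset.sum_congr rfl fun j _ => ?_
  rw [map_mul, toTsze_inclLeft, toTsze_X_right]

end Surj

section Main

variable {R : Type u} [CommRing R] [IsDomain R] [ValuationRing R] [Ring.KrullDimLE 1 R]
  (t : R) (ht : t ≠ 0) [IsAdicComplete (Ideal.span {t}) R] {n : ℕ}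

set_option quotPrecheck false in
local notation "A" => RPow R (Ideal.span {t}) n

include ht

/-- **Saturated submodules of `R⟨ζ⟩^r` are finitely generated.** -/
theorem fg_of_isSat_pi (r : ℕ) (N : Submodule A (Fin r → A))
    (hN : ∀ x : Fin r → A, t • x ∈ N → x ∈ N) : N.FG := by
  classical
  let T := TrivSqZeroExt A (Fin r → A)
  -- the ideal `0 ⊕ N`
  let J : Ideal T :=
    { carrier := {x | x.fst = 0 ∧ x.snd ∈ N}
      add_mem' := by
        rintro x y ⟨hx1, hx2⟩ ⟨hy1, hy2⟩
        refine ⟨?_, ?_⟩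
        · rw [TrivSqZeroExt.fst_add, hx1, hy1, add_zero]
        · rw [TrivSqZeroExt.snd_add]
          exact N.add_mem hx2 hy2
      zero_mem' := ⟨rfl, N.zero_mem⟩
      smul_mem' := by
        rintro c x ⟨hx1, hx2⟩
        refine ⟨?_, ?_⟩
        · rw [smul_eq_mul, TrivSqZeroExt.fst_mul, hx1, mul_zero]
        · rw [smul_eq_mul, TrivSqZeroExt.snd_mul, hx1]
          simp only [MulOpposite.op_zero, zero_smul, add_zero]
          exact N.smul_mem _ hx2 }
  have hJmem : ∀ x : T, x ∈ J ↔ x.fst = 0 ∧ x.snd ∈ N := fun x => Iff.rfl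
  let φ := toTsze (Ideal.span {t}) (fg_span t) n r
  have hφ : Function.Surjective φ := toTsze_surjective _ _ n r
  have hsat : IsSat t (J.comap φ.toRingHom) := by
    intro x hx
    rw [Ideal.mem_comap] at hx ⊢
    change φ (t • x) ∈ J at hx
    change φ x ∈ J
    rw [map_smul, hJmem] at hx
    rw [hJmem]
    rw [TrivSqZeroExt.fst_smul, TrivSqZeroExt.snd_smul] at hx
    exact ⟨eq_zero_of_smul_eq_zero t ht ht hx.1, hN _ hx.2⟩
  have hfg : (J.comap φ.toRingHom).FG := fg_of_isSat t ht _ hsat
  have hJfg : J.FG := by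
    have := hfg.map φ.toRingHom
    rwa [Ideal.map_comap_of_surjective φ.toRingHom hφ] at this
  obtain ⟨s, hs⟩ := hJfg
  refine ⟨s.image TrivSqZeroExt.snd, ?_⟩
  apply le_antisymm
  · rw [Submodule.span_le]
    intro m hm
    rw [Finset.coe_image] at hm
    obtain ⟨x, hx, rfl⟩ := hm
    have : x ∈ J := by rw [← hs]; exact Ideal.subset_span hx
    exact this.2
  · intro m hm
    have h1 : (TrivSqZeroExt.inr m : T) ∈ J := by
      rw [hJmem]
      exact ⟨TrivSqZeroExt.fst_inr _ m, by rw [TrivSqZeroExt.snd_inr]; exact hm⟩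
    rw [← hs] at h1
    -- every element of the span has second component in the `A`-span
    have key : ∀ y ∈ Ideal.span (s : Set T), y.snd ∈
        Submodule.span A ((s.image TrivSqZeroExt.snd : Finset (Fin r → A)) : Set (Fin r → A)) := by
      intro y hy
      refine Submodule.span_induction ?_ ?_ ?_ ?_ hy
      · intro x hx
        apply Submodule.subset_span
        rw [Finset.coe_image]
        exact ⟨x, hx, rfl⟩
      · rw [TrivSqZeroExt.snd_zero]; exact Submodule.zero_mem _
      · intro x y _ _ hx hy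
        rw [TrivSqZeroExt.snd_add]; exact Submodule.add_mem _ hx hy
      · intro c x hx hx'
        have hxJ : x ∈ J := by rw [← hs]; exact hx
        rw [smul_eq_mul, TrivSqZeroExt.snd_mul, hxJ.1]
        simp only [MulOpposite.op_zero, zero_smul, add_zero]
        exact Submodule.smul_mem _ _ hx'
    have := key _ h1
    rwa [TrivSqZeroExt.snd_inr] at this

end Main

end Groth.Agent.H57.RPow
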