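import Mathlib
import Groth.Prelude.Def_W4bk4boschfrg79
import Groth.Agent.H57.RPow4

/-!
# Finite modules over `R⟨ζ⟩`, class (V) (helper57)

Saturated submodules are finitely generated, Artin–Rees, completeness.
-/

set_option autoImplicit false
set_option linter.unusedSectionVars false
universe u

namespace Groth.Agent.H57.RPow

open AdicRing IsLocalRing

section V

variable {R : Type u} [CommRing R] [IsDomain R] [ValuationRing R] [Ring.KrullDimLE 1 R]
  (t : R) (ht : t ≠ 0) [IsAdicComplete (Ideal.span {t}) R] {n : ℕ}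

set_option quotPrecheck false in
local notation "P" => RPow R (Ideal.span {t}) n

variable {M : Type u} [AddCommGroup M] [Module (RPow R (Ideal.span {t}) n) M] [Module R M]
  [IsScalarTower R (RPow R (Ideal.span {t}) n) M]

include ht

/-- Saturated submodules of finite `R⟨ζ⟩`-modules are finitely generated. -/
theorem sat_fg_V [Module.Finite P M] (N : Submodule P M) (hN : ∀ x : M, t • x ∈ N → x ∈ N) :
    N.FG := by
  obtain ⟨r, π, hπ⟩ := Module.Finite.exists_fin' P M
  have h1 : (N.comap π).FG := by
    apply fg_of_isSat_pi t ht r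
    intro x hx
    rw [Submodule.mem_comap] at hx ⊢
    apply hN
    have : π (t • x) = t • π x := by
      rw [← algebraMap_smul P t x, map_smul, algebraMap_smul]
    rwa [this] at hx
  have := h1.map π
  rwa [Submodule.map_comap_eq_of_surjective hπ] at this

omit ht in
/-- The `t`-saturation of a submodule. -/
def satur (N : Submodule P M) : Submodule P M where
  carrier := {x | ∃ k : ℕ, t ^ k • x ∈ N}
  add_mem' := by
    rintro x y ⟨k, hk⟩ ⟨l, hl⟩
    refine ⟨k + l, ?_⟩
    rw [smul_add]
    apply N.add_mem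
    · rw [add_comm, pow_add, mul_smul]
      rw [← algebraMap_smul P (t ^ l)]
      exact N.smul_mem _ hk
    · rw [pow_add, mul_smul]
      rw [← algebraMap_smul P (t ^ k)]
      exact N.smul_mem _ hl
  zero_mem' := ⟨0, by rw [smul_zero]; exact N.zero_mem⟩
  smul_mem' := by
    rintro c x ⟨k, hk⟩
    refine ⟨k, ?_⟩
    rw [smul_comm]
    exact N.smul_mem _ hk

omit ht in
theorem mem_satur {N : Submodule P M} {x : M} : x ∈ satur t N ↔ ∃ k : ℕ, t ^ k • x ∈ N := Iff.rfl

omit ht in
theorem le_satur (N : Submodule P M) : N ≤ satur t N := fun x hx => ⟨0, by simpa using hx⟩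

omit ht in
theorem satur_sat (N : Submodule P M) (k : ℕ) {x : M} (hx : t ^ k • x ∈ satur t N) :
    x ∈ satur t N := by
  obtain ⟨l, hl⟩ := hx
  exact ⟨l + k, by rwa [pow_add, mul_smul]⟩

theorem satur_fg [Module.Finite P M] (N : Submodule P M) : (satur t N).FG := by
  apply sat_fg_V t ht
  intro x hx
  apply satur_sat t N 1
  rwa [pow_one]

/-- Bounded torsion: a uniform power of `t` maps the saturation into `N`. -/
theorem exists_pow_smul_satur_le [Module.Finite P M] (N : Submodule P M) :
    ∃ e : ℕ, ∀ x ∈ satur t N, t ^ e • x ∈ N := by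
  classical
  obtain ⟨s, hs⟩ := satur_fg t ht N
  have h1 : ∀ x ∈ s, ∃ k : ℕ, t ^ k • x ∈ N := by
    intro x hx
    have : x ∈ satur t N := by rw [← hs]; exact Submodule.subset_span hx
    exact this
  choose! k hk using h1
  refine ⟨s.sup k, ?_⟩
  intro x hx
  rw [← hs] at hx
  refine Submodule.span_induction ?_ ?_ ?_ ?_ hx
  · intro y hy
    have hle : k y ≤ s.sup k := Finset.le_sup hy
    obtain ⟨d, hd⟩ := Nat.exists_eq_add_of_le hle
    rw [hd, add_comm, pow_add, mul_smul, ← algebraMap_smul P (t ^ d)]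
    exact N.smul_mem _ (hk y hy)
  · rw [smul_zero]; exact N.zero_mem
  · intro x y _ _ hx hy
    rw [smul_add]; exact N.add_mem hx hy
  · intro c x _ hx
    rw [smul_comm]; exact N.smul_mem _ hx

/-- Artin–Rees in class (V). -/
theorem artinRees_V [Module.Finite P M] (N : Submodule P M) :
    ∃ e : ℕ, ∀ (m : ℕ) (y : M), t ^ (m + e) • y ∈ N → ∃ z ∈ N, t ^ (m + e) • y = t ^ m • z := by
  obtain ⟨e, he⟩ := exists_pow_smul_satur_le t ht N
  refine ⟨e, fun m y hy => ⟨t ^ e • y, he y ⟨m + e, hy⟩, ?_⟩⟩
  rw [pow_add, mul_smul]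

omit ht in
theorem smul_top_eq (k : ℕ) (x : M) :
    x ∈ (Ideal.span {t} ^ k • ⊤ : Submodule R M) ↔ ∃ y : M, x = t ^ k • y := by
  rw [Ideal.span_singleton_pow, Submodule.ideal_span_singleton_smul,
    Submodule.mem_smul_pointwise_iff_exists]
  constructor
  · rintro ⟨y, -, rfl⟩; exact ⟨y, rfl⟩
  · rintro ⟨y, rfl⟩; exact ⟨y, Submodule.mem_top, rfl⟩

omit ht in
/-- A saturated precomplete submodule of a separated module is closed. -/
theorem mem_of_forall_approx {F : Type u} [AddCommGroup F] [Module P F] [Module R F]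
    [IsScalarTower R P F] [IsHausdorff (Ideal.span {t}) F] (K : Submodule P F)
    (hK : ∀ (k : ℕ) (x : F), t ^ k • x ∈ K → x ∈ K) [IsPrecomplete (Ideal.span {t}) K]
    (x : F) (hx : ∀ k : ℕ, ∃ y ∈ K, ∃ z : F, x = y + t ^ k • z) : x ∈ K := by
  choose y hyK z hxyz using hx
  -- the Cauchy sequence in `K`
  let f : ℕ → K := fun k => ⟨y k, hyK k⟩
  have hdiff : ∀ m l : ℕ, m ≤ l → ∃ w : K, f l - f m = t ^ m • w := by
    intro m l hml
    obtain ⟨d, rfl⟩ := Nat.exists_eq_add_of_le hml
    have h1 : y (m + d) - y m = t ^ m • (z m - t ^ d • z (m + d)) := by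
      have e1 := hxyz m
      have e2 := hxyz (m + d)
      have : y (m + d) - y m = t ^ m • z m - t ^ (m + d) • z (m + d) := by
        have : y m + t ^ m • z m = y (m + d) + t ^ (m + d) • z (m + d) := by rw [← e1, ← e2]
        rw [sub_eq_sub_iff_add_eq_add]
        rw [add_comm (t ^ m • z m), this, add_comm]
      rw [this, smul_sub, pow_add, mul_smul]
    have h2 : z m - t ^ d • z (m + d) ∈ K := by
      apply hK m
      rw [← h1]
      exact K.sub_mem (hyK _) (hyK _)
    refine ⟨⟨_, h2⟩, ?_⟩
    apply Subtype.ext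
    exact h1
  obtain ⟨L, hL⟩ := IsPrecomplete.prec' (I := Ideal.span {t}) f (by
    intro m l hml
    rw [SModEq.sub_mem]
    obtain ⟨w, hw⟩ := hdiff m l hml
    have : f m - f l = t ^ m • (-w) := by rw [smul_neg, ← hw]; abel
    rw [this, smul_top_eq]
    exact ⟨-w, rfl⟩)
  have hxL : x = (L : F) := by
    rw [← sub_eq_zero]
    apply IsHausdorff.haus' (I := Ideal.span {t})
    intro k
    rw [SModEq.zero]
    have h1 := hL k
    rw [SModEq.sub_mem] at h1
    have h2 : ((f k - L : K) : F) ∈ (Ideal.span {t} ^ k • ⊤ : Submodule R F) :=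
      AdicMod.map_mem_smul_top (Ideal.span {t} ^ k) (K.subtype.restrictScalars R) h1
    have h3 : x - (L : F) = ((f k - L : K) : F) + t ^ k • z k := by
      rw [Submodule.coe_sub]
      change x - (L : F) = (y k - (L : F)) + t ^ k • z k
      rw [hxyz k]; abel
    rw [h3]
    refine Submodule.add_mem _ h2 ?_
    rw [smul_top_eq]
    exact ⟨z k, rfl⟩
  rw [hxL]
  exact L.2

theorem isAdicComplete_pi_V (r : ℕ) : IsAdicComplete (Ideal.span {t}) (Fin r → P) := by
  classical
  have h0 := isAdicComplete t ht (n := n)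
  have h1 : IsAdicComplete (Ideal.span {t}) P :=
    (IsAdicComplete.map_algebraMap_iff (S := P) (Ideal.span {t}) P).mp h0
  exact AdicMod.isAdicComplete_pi _

theorem isPrecomplete_of_finite_V [Module.Finite P M] : IsPrecomplete (Ideal.span {t}) M := by
  obtain ⟨r, π, hπ⟩ := Module.Finite.exists_fin' P M
  have := isAdicComplete_pi_V t ht (n := n) r
  exact AdicMod.isPrecomplete_of_surjective _ (π.restrictScalars R) hπ

/-- Finite modules over `R⟨ζ⟩` are complete and separated. -/
theorem isAdicComplete_of_finite_V [Module.Finite P M] : IsAdicComplete (Ideal.span {t}) M := by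
  have hprec : IsPrecomplete (Ideal.span {t}) M := isPrecomplete_of_finite_V t ht (n := n)
  have hhaus : IsHausdorff (Ideal.span {t}) M := by
    refine ⟨fun m hm => ?_⟩
    obtain ⟨r, π, hπ⟩ := Module.Finite.exists_fin' P M
    have hF := isAdicComplete_pi_V t ht (n := n) r
    obtain ⟨x, rfl⟩ := hπ m
    let K := LinearMap.ker π
    have hfg : (satur t K).FG := satur_fg t ht K
    have : Module.Finite P (satur t K) := Module.Finite.iff_fg.mpr hfg
    have hprecK : IsPrecomplete (Ideal.span {t}) (satur t K) :=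
      isPrecomplete_of_finite_V t ht (n := n)
    have hπt : ∀ (k : ℕ) (z : Fin r → P), π (t ^ k • z) = t ^ k • π z := by
      intro k z
      rw [← algebraMap_smul P (t ^ k) z, map_smul, algebraMap_smul]
    -- approximations
    have happ : ∀ k : ℕ, ∃ y ∈ K, ∃ z : Fin r → P, x = y + t ^ k • z := by
      intro k
      have := hm k
      rw [SModEq.zero, smul_top_eq] at this
      obtain ⟨w, hw⟩ := this
      obtain ⟨z, rfl⟩ := hπ w
      refine ⟨x - t ^ k • z, ?_, z, by abel⟩
      rw [LinearMap.mem_ker, map_sub, hπt, hw, sub_self]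
    have hxsat : x ∈ satur t K := by
      apply mem_of_forall_approx t (satur t K) (fun k x hx => satur_sat t K k hx) x
      intro k
      obtain ⟨y, hy, z, hz⟩ := happ k
      exact ⟨y, le_satur t K hy, z, hz⟩
    obtain ⟨e, he⟩ := exists_pow_smul_satur_le t ht K
    obtain ⟨y, hy, z, hz⟩ := happ e
    have hz' : z ∈ satur t K := by
      apply satur_sat t K e
      have : t ^ e • z = x - y := by rw [hz]; abel
      rw [this]
      exact Submodule.sub_mem _ hxsat (le_satur t K hy)
    have : x ∈ K := by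
      rw [hz]
      exact K.add_mem hy (he z hz')
    exact this
  exact { hhaus, hprec with }

end V

end Groth.Agent.H57.RPow
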