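import Mathlib
import Groth.Prelude.Def_W4bk4boschfrg79
import Groth.Agent.H57.TftV
import Groth.Agent.H20.ComplNoeth2

/-!
# Finite modules over `R⟨ζ⟩` for base rings of class (N) or (V) (helper57)
-/

set_option autoImplicit false
set_option linter.unusedSectionVars false
universe u

namespace Groth.Agent.H57.RPow

open AdicRing IsLocalRing TensorProduct

section Flat

variable {R : Type u} [CommRing R] {I : Ideal R}

/-- No `I`-power torsion is inherited by flat modules. -/
theorem noPowTorsion_of_flat (hI : I.FG) (h : NoPowTorsion I R)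
    (M : Type u) [AddCommGroup M] [Module R M] [Module.Flat R M] : NoPowTorsion I M := by
  classical
  intro x k hx
  obtain ⟨s, hs⟩ : (I ^ k).FG := hI.pow
  let ψ : R →ₗ[R] (s → R) := LinearMap.pi fun j => LinearMap.mulLeft R (j : R)
  have hψ : Function.Injective ψ := by
    rw [injective_iff_map_eq_zero]
    intro r hr
    apply h r k
    intro a ha
    rw [← hs] at ha
    refine Submodule.span_induction ?_ ?_ ?_ ?_ ha
    · intro g hg
      have := congrFun hr ⟨g, hg⟩
      simpa [ψ] using this
    · rw [zero_smul]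
    · intro a b _ _ ha hb
      rw [add_smul, ha, hb, add_zero]
    · intro c a _ ha
      rw [smul_assoc, ha, smul_zero]
  have hinj := Module.Flat.lTensor_preserves_injective_linearMap (M := M) ψ hψ
  have h1 : ψ.lTensor M (x ⊗ₜ[R] (1 : R)) = 0 := by
    rw [LinearMap.lTensor_tmul]
    have h2 : ψ 1 = ∑ j : s, (j : R) • (Pi.single j (1 : R) : s → R) := by
      ext i
      simp [ψ, Finset.sum_apply, Pi.single_apply]
    rw [h2, TensorProduct.tmul_sum]
    apply Finset.sum_eq_zero
    intro j _
    rw [TensorProduct.tmul_smul, TensorProduct.smul_tmul', hx (j : R), TensorProduct.zero_tmul]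
    rw [← hs]
    exact Submodule.subset_span j.2
  have h3 : x ⊗ₜ[R] (1 : R) = 0 := by
    apply hinj
    rw [h1, map_zero]
  have := congrArg (TensorProduct.rid R M) h3
  simpa using this

end Flat

section N

variable {R : Type u} [CommRing R] [IsNoetherianRing R] (I : Ideal R) [IsAdicComplete I R] {n : ℕ}
variable {M : Type u} [AddCommGroup M] [Module (RPow R I n) M] [Module R M]
  [IsScalarTower R (RPow R I n) M]

instance isNoetherianRing_rpow : IsNoetherianRing (RPow R I n) :=
  Groth.Agent.H20.isNoetherianRing_adicCompletion _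

theorem flat_rpow_N : Module.Flat R (RPow R I n) := by
  have h1 : Module.Flat (MvPolynomial (Fin n) R) (RPow R I n) :=
    AdicCompletion.flat_of_isNoetherian _
  exact Module.Flat.trans R (MvPolynomial (Fin n) R) (RPow R I n)

theorem artinRees_N [Module.Finite (RPow R I n) M] (N : Submodule (RPow R I n) M) :
    ∃ n₀ : ℕ, ∀ m : ℕ, (I ^ (m + n₀) • (⊤ : Submodule R M)) ⊓ N.restrictScalars R ≤
      I ^ m • N.restrictScalars R := by
  obtain ⟨k, hk⟩ := Ideal.exists_pow_inf_eq_pow_smul (I.map (algebraMap R (RPow R I n))) N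
  refine ⟨k, fun m => ?_⟩
  have h1 := hk (m + k) (Nat.le_add_left _ _)
  rw [Nat.add_sub_cancel] at h1
  have h2 : (I.map (algebraMap R (RPow R I n))) ^ (m + k) • (⊤ : Submodule (RPow R I n) M) ⊓ N ≤
      (I.map (algebraMap R (RPow R I n))) ^ m • N := by
    rw [h1]
    exact Submodule.smul_mono le_rfl inf_le_right
  intro x hx
  have hx1 : x ∈ ((I.map (algebraMap R (RPow R I n))) ^ (m + k) •
      (⊤ : Submodule (RPow R I n) M)).restrictScalars R := by
    rw [← Ideal.map_pow, Ideal.smul_restrictScalars, Submodule.restrictScalars_top]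
    exact hx.1
  have hx2 : x ∈ (I.map (algebraMap R (RPow R I n))) ^ m • N := h2 ⟨hx1, hx.2⟩
  have hx3 : x ∈ ((I.map (algebraMap R (RPow R I n))) ^ m • N).restrictScalars R := hx2
  rwa [← Ideal.map_pow, Ideal.smul_restrictScalars] at hx3

theorem isAdicComplete_pi_N (r : ℕ) : IsAdicComplete I (Fin r → RPow R I n) := by
  classical
  have h0 := isAdicComplete_self (I := I) (n := n) (IsNoetherian.noetherian I)
  have h1 : IsAdicComplete I (RPow R I n) :=
    (IsAdicComplete.map_algebraMap_iff (S := RPow R I n) I (RPow R I n)).mp h0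
  exact AdicMod.isAdicComplete_pi _

theorem isAdicComplete_of_finite_N [Module.Finite (RPow R I n) M] : IsAdicComplete I M := by
  have h0 := isAdicComplete_self (I := I) (n := n) (IsNoetherian.noetherian I)
  have hprec : IsPrecomplete I M := by
    obtain ⟨r, π, hπ⟩ := Module.Finite.exists_fin' (RPow R I n) M
    have := isAdicComplete_pi_N I (n := n) r
    exact AdicMod.isPrecomplete_of_surjective _ (π.restrictScalars R) hπ
  have hhaus : IsHausdorff I M := by
    have : IsHausdorff (I.map (algebraMap R (RPow R I n))) M :=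
      IsHausdorff.of_le_jacobson _ M (IsAdicComplete.le_jacobson_bot _)
    exact IsHausdorff.map_algebraMap_iff.mp this
  exact { hhaus, hprec with }

end N

section Base

variable {R : Type u} [CommRing R] {I : Ideal R} (hR : IsBase R I) {n : ℕ}
variable {M : Type u} [AddCommGroup M] [Module (RPow R I n) M] [Module R M]
  [IsScalarTower R (RPow R I n) M]

include hR

theorem fg_of_isBase : I.FG := by
  obtain ⟨-, ⟨hN, -⟩ | ⟨-, -, -, t, -, rfl⟩⟩ := hR
  · exact IsNoetherian.noetherian I
  · exact ⟨{t}, by simp⟩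

theorem noPowTorsion_of_isBase : NoPowTorsion I R := by
  obtain ⟨-, ⟨-, h⟩ | ⟨hd, -, -, t, ht, rfl⟩⟩ := hR
  · exact h
  · intro x k hx
    have h1 := hx (t ^ k) (Ideal.pow_mem_pow (Ideal.mem_span_singleton_self t) k)
    rw [smul_eq_mul] at h1
    exact (mul_eq_zero.mp h1).resolve_left (pow_ne_zero k ht)

theorem isAdicComplete_self_of_isBase :
    IsAdicComplete (I.map (algebraMap R (RPow R I n))) (RPow R I n) :=
  isAdicComplete_self (fg_of_isBase hR)

/-- `R⟨ζ⟩` has no `I`-power torsion. -/
theorem noPowTorsion_rpow : NoPowTorsion I (RPow R I n) := by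
  obtain ⟨hc, ⟨hN, h⟩ | ⟨hd, hv, hk, t, ht, rfl⟩⟩ := hR
  · have := flat_rpow_N I (n := n)
    exact noPowTorsion_of_flat (IsNoetherian.noetherian I) h _
  · have : ValuationRing R := { hv with }
    intro x k hx
    have h1 := hx (t ^ k) (Ideal.pow_mem_pow (Ideal.mem_span_singleton_self t) k)
    exact eq_zero_of_smul_eq_zero t ht (pow_ne_zero k ht) h1

/-- Saturated submodules of finite `R⟨ζ⟩`-modules are finitely generated. -/
theorem sat_fg [Module.Finite (RPow R I n) M] (N : Submodule (RPow R I n) M)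
    (hsat : ∀ (x : M) (k : ℕ), (∀ a ∈ I ^ k, a • x ∈ N) → x ∈ N) : N.FG := by
  obtain ⟨hc, ⟨hN, h⟩ | ⟨hd, hv, hk, t, ht, rfl⟩⟩ := hR
  · have : IsNoetherian (RPow R I n) M := isNoetherian_of_isNoetherianRing_of_finite _ _
    exact IsNoetherian.noetherian N
  · have : ValuationRing R := { hv with }
    apply sat_fg_V t ht
    intro x hx
    apply hsat x 1
    intro a ha
    rw [pow_one, Ideal.mem_span_singleton] at ha
    obtain ⟨c, rfl⟩ := ha
    rw [mul_comm, mul_smul, ← algebraMap_smul (RPow R (Ideal.span {t}) n) c]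
    exact N.smul_mem _ hx

/-- Artin–Rees for finite `R⟨ζ⟩`-modules. -/
theorem artinRees [Module.Finite (RPow R I n) M] (N : Submodule (RPow R I n) M) :
    ∃ n₀ : ℕ, ∀ m : ℕ, (I ^ (m + n₀) • (⊤ : Submodule R M)) ⊓ N.restrictScalars R ≤
      I ^ m • N.restrictScalars R := by
  obtain ⟨hc, ⟨hN, h⟩ | ⟨hd, hv, hk, t, ht, rfl⟩⟩ := hR
  · exact artinRees_N I N
  · have : ValuationRing R := { hv with }
    obtain ⟨e, he⟩ := artinRees_V t ht N
    refine ⟨e, fun m x hx => ?_⟩
    obtain ⟨y, rfl⟩ := (smul_top_eq t (m + e) x).mp hx.1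
    obtain ⟨z, hz, hyz⟩ := he m y hx.2
    rw [hyz]
    exact Submodule.smul_mem_smul (Ideal.pow_mem_pow (Ideal.mem_span_singleton_self t) m) hz

/-- Finite `R⟨ζ⟩`-modules are `I`-adically complete and separated. -/
theorem isAdicComplete_of_finite [Module.Finite (RPow R I n) M] : IsAdicComplete I M := by
  obtain ⟨hc, ⟨hN, h⟩ | ⟨hd, hv, hk, t, ht, rfl⟩⟩ := hR
  · exact isAdicComplete_of_finite_N I (n := n)
  · have : ValuationRing R := { hv with }
    exact isAdicComplete_of_finite_V t ht (n := n)

end Base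

end Groth.Agent.H57.RPow
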