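import Mathlib
import Groth.Prelude.Def_W4bk4boschfrg79
import Groth.Agent.H57.Tft

/-!
# Finite modules over algebras topologically of finite type (helper57)
-/

set_option autoImplicit false
set_option linter.unusedSectionVars false
universe u

namespace Groth.Agent.H57.RPow

open AdicRing IsLocalRing TensorProduct

section Transfer

variable {R : Type u} [CommRing R] {I : Ideal R}
  {A : Type u} [CommRing A] [Algebra R A]
  (M : Type u) [AddCommGroup M] [Module A M] [Module R M] [IsScalarTower R A M]

/-- A finite module over an algebra topologically of finite type is a finite module over some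
`R⟨ζ⟩`, with the same submodules. -/
theorem exists_module (hA : TopFiniteType R I A) [Module.Finite A M] :
    ∃ (n : ℕ) (_ : Module (RPow R I n) M) (_ : IsScalarTower R (RPow R I n) M),
      Module.Finite (RPow R I n) M ∧
      ∀ N : Submodule A M, ∃ N' : Submodule (RPow R I n) M,
        N'.restrictScalars R = N.restrictScalars R ∧ (N'.FG → N.FG) := by
  obtain ⟨n, φ, hφ⟩ := hA
  let _ : Algebra (RPow R I n) A := φ.toRingHom.toAlgebra
  let _ : Module (RPow R I n) M := Module.compHom M φ.toRingHom
  have hsm : ∀ (p : RPow R I n) (m : M), p • m = φ p • m := fun p m => rfl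
  have hsa : ∀ (p : RPow R I n) (a : A), p • a = φ p * a := fun p a => rfl
  have h1 : IsScalarTower (RPow R I n) A M := ⟨fun p a m => by
    rw [hsm, hsa, mul_smul]⟩
  have h2 : IsScalarTower R (RPow R I n) M := by
    apply IsScalarTower.of_algebraMap_smul
    intro r m
    rw [hsm, AlgHom.commutes, algebraMap_smul]
  have h3 : Module.Finite (RPow R I n) A :=
    Module.Finite.of_surjective (Algebra.linearMap (RPow R I n) A) hφ
  have h4 : Module.Finite (RPow R I n) M := Module.Finite.trans A M
  refine ⟨n, inferInstance, h2, h4, fun N => ⟨N.restrictScalars (RPow R I n), rfl, ?_⟩⟩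
  exact Submodule.FG.of_restrictScalars (RPow R I n)

end Transfer

section Main

variable {R : Type u} [CommRing R] {I : Ideal R} (hR : IsBase R I)
  {A : Type u} [CommRing A] [Algebra R A] (hA : TopFiniteType R I A)
  {M : Type u} [AddCommGroup M] [Module A M] [Module R M] [IsScalarTower R A M]
  [Module.Finite A M]

include hR hA

/-- Saturated submodules of finite modules are finitely generated. -/
theorem tft_sat_fg (N : Submodule A M)
    (hsat : ∀ (x : M) (k : ℕ), (∀ a ∈ I ^ k, a • x ∈ N) → x ∈ N) : N.FG := by
  obtain ⟨n, _, h2, h4, hN⟩ := exists_module M hA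
  obtain ⟨N', hN', hfg⟩ := hN N
  apply hfg
  apply sat_fg hR
  intro x k hx
  have hmem : ∀ y : M, y ∈ N' ↔ y ∈ N := fun y => by
    have : y ∈ N'.restrictScalars R ↔ y ∈ N.restrictScalars R := by rw [hN']
    exact this
  rw [hmem]
  apply hsat x k
  intro a ha
  rw [← hmem]
  exact hx a ha

/-- Artin–Rees. -/
theorem tft_artinRees (N : Submodule A M) :
    ∃ n₀ : ℕ, ∀ m : ℕ, (I ^ (m + n₀) • (⊤ : Submodule R M)) ⊓ N.restrictScalars R ≤
      I ^ m • N.restrictScalars R := by
  obtain ⟨n, _, h2, h4, hN⟩ := exists_module M hA
  obtain ⟨N', hN', -⟩ := hN N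
  rw [← hN']
  exact artinRees hR N'

/-- Finite modules are complete and separated. -/
theorem tft_isAdicComplete : IsAdicComplete I M := by
  obtain ⟨n, _, h2, h4, -⟩ := exists_module M hA
  exact isAdicComplete_of_finite hR (n := n)

end Main

end Groth.Agent.H57.RPow
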