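import Mathlib
import Groth.Prelude.Def_W4bk4boschfrg79
import Groth.Agent.H57.Tft2

/-!
# Truncations of algebras topologically of finite type (helper57)
-/

set_option autoImplicit false
set_option linter.unusedSectionVars false
universe u

namespace Groth.Agent.H57.RPow

open AdicRing IsLocalRing TensorProduct

section RedHom

variable {R : Type u} [CommRing R] {I : Ideal R} (hI : I.FG)
  {A : Type u} [CommRing A] [Algebra R A] {m : ℕ} (Φ : RPow R I m →ₐ[R] A) (k : ℕ)

theorem map_mem_map_pow {x : RPow R I m} (hx : x ∈ (I ^ k).map (algebraMap R (RPow R I m))) :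
    Φ x ∈ (I ^ k).map (algebraMap R A) := by
  have h1 : ((I ^ k).map (algebraMap R (RPow R I m))).map Φ.toRingHom =
      (I ^ k).map (algebraMap R A) := by
    rw [Ideal.map_map]
    congr 1
    exact Φ.comp_algebraMap
  rw [← h1]
  exact Ideal.mem_map_of_mem _ hx

include hI in
theorem ker_red_le :
    RingHom.ker (red I m (I ^ k) k le_rfl).toRingHom ≤
      RingHom.ker ((Ideal.Quotient.mk ((I ^ k).map (algebraMap R A))).comp Φ.toRingHom) := by
  rw [ker_red hI]
  intro x hx
  rw [RingHom.mem_ker, RingHom.comp_apply, Ideal.Quotient.eq_zero_iff_mem]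
  exact map_mem_map_pow Φ k hx

/-- The reduction of `Φ : R⟨ζ⟩ → A` modulo `I ^ k`. -/
noncomputable def redHom :
    MvPolynomial (Fin m) (R ⧸ I ^ k) →+* A ⧸ (I ^ k).map (algebraMap R A) :=
  RingHom.liftOfSurjective (red I m (I ^ k) k le_rfl).toRingHom (red_surjective _)
    ⟨(Ideal.Quotient.mk ((I ^ k).map (algebraMap R A))).comp Φ.toRingHom, ker_red_le hI Φ k⟩

theorem redHom_red (x : RPow R I m) :
    redHom hI Φ k (red I m (I ^ k) k le_rfl x) = Ideal.Quotient.mk _ (Φ x) :=
  RingHom.liftOfRightInverse_comp_apply _ _ _ _ x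

theorem redHom_C (r : R) :
    redHom hI Φ k (MvPolynomial.C (Ideal.Quotient.mk (I ^ k) r)) =
      Ideal.Quotient.mk _ (algebraMap R A r) := by
  rw [← red_algebraMap (le_refl (I ^ k)) (n := m), redHom_red, AlgHom.commutes]

theorem redHom_comp_C :
    (redHom hI Φ k).comp MvPolynomial.C =
      Ideal.quotientMap ((I ^ k).map (algebraMap R A)) (algebraMap R A) Ideal.le_comap_map := by
  apply Ideal.Quotient.ringHom_ext
  ext r
  rw [RingHom.comp_apply, RingHom.comp_apply, redHom_C, RingHom.comp_apply, Ideal.quotientMap_mk]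

theorem redHom_surjective (hΦ : Function.Surjective Φ) : Function.Surjective (redHom hI Φ k) := by
  intro y
  obtain ⟨a, rfl⟩ := Ideal.Quotient.mk_surjective y
  obtain ⟨x, rfl⟩ := hΦ a
  exact ⟨_, redHom_red hI Φ k x⟩

theorem ker_redHom (hΦ : Function.Surjective Φ) :
    RingHom.ker (redHom hI Φ k) =
      (RingHom.ker Φ.toRingHom).map (red I m (I ^ k) k le_rfl).toRingHom := by
  apply le_antisymm
  · intro y hy
    obtain ⟨x, rfl⟩ := red_surjective (le_refl (I ^ k)) y
    rw [RingHom.mem_ker, redHom_red, Ideal.Quotient.eq_zero_iff_mem] at hy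
    -- `Φ x ∈ I^k A = Φ (I^k P)`
    have h1 : ((I ^ k).map (algebraMap R (RPow R I m))).map Φ.toRingHom =
        (I ^ k).map (algebraMap R A) := by
      rw [Ideal.map_map]
      congr 1
      exact Φ.comp_algebraMap
    rw [← h1] at hy
    obtain ⟨z, hz, hzx⟩ := (Ideal.mem_map_iff_of_surjective Φ.toRingHom hΦ).mp hy
    have h2 : x - z ∈ RingHom.ker Φ.toRingHom := by
      rw [RingHom.mem_ker, map_sub, hzx]
      exact sub_self _
    have h3 : red I m (I ^ k) k le_rfl x = red I m (I ^ k) k le_rfl (x - z) := by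
      rw [map_sub, (red_eq_zero_iff hI le_rfl z).mpr hz, sub_zero]
    rw [h3]
    exact Ideal.mem_map_of_mem (red I m (I ^ k) k le_rfl).toRingHom h2
  · rw [Ideal.map_le_iff_le_comap]
    intro x hx
    rw [Ideal.mem_comap, RingHom.mem_ker]
    change redHom hI Φ k (red I m (I ^ k) k le_rfl x) = 0
    have hx' : Φ x = 0 := hx
    rw [redHom_red, hx', map_zero]

end RedHom

section TruncFP

variable {R : Type u} [CommRing R] {I : Ideal R}
  {A : Type u} [CommRing A] [Algebra R A]

/-- Truncations of algebras topologically of finite presentation are of finite presentation. -/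
theorem trunc_fp_of_tfp (hI : I.FG) (hA : TopFinitePresentation R I A) (k : ℕ) :
    (Ideal.quotientMap ((I ^ k).map (algebraMap R A)) (algebraMap R A)
      Ideal.le_comap_map).FinitePresentation := by
  obtain ⟨m, Φ, hΦ, hker⟩ := hA
  rw [← redHom_comp_C hI Φ k]
  have hC : (MvPolynomial.C : R ⧸ I ^ k →+* MvPolynomial (Fin m) (R ⧸ I ^ k)).FinitePresentation := by
    have : (algebraMap (R ⧸ I ^ k) (MvPolynomial (Fin m) (R ⧸ I ^ k))).FinitePresentation := by
      rw [RingHom.finitePresentation_algebraMap]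
      infer_instance
    exact this
  apply hC.comp_surjective (redHom_surjective hI Φ k hΦ)
  rw [ker_redHom hI Φ k hΦ]
  exact hker.map _

end TruncFP

section Converse

variable {R : Type u} [CommRing R] {I : Ideal R}
  {A : Type u} [CommRing A] [Algebra R A]

/-- A complete algebra whose reduction modulo `I` is of finite type is topologically of finite
type. -/
theorem tft_of_finiteType_quotient (hI : I.FG) [IsAdicComplete (I.map (algebraMap R A)) A]
    (hft : Algebra.FiniteType R (A ⧸ I.map (algebraMap R A))) : TopFiniteType R I A := by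
  obtain ⟨m, f, hf⟩ := Algebra.FiniteType.iff_quotient_mvPolynomial''.mp hft
  choose b hb using fun i => Ideal.Quotient.mk_surjective (f (MvPolynomial.X i))
  refine ⟨m, lift I b, ?_⟩
  apply surjective_of_mk_comp_surjective hI
  have h1 : ((Ideal.Quotient.mkₐ R (I.map (algebraMap R A))).comp (lift I b)).comp (ι I m) = f := by
    apply MvPolynomial.algHom_ext
    intro i
    rw [AlgHom.comp_apply, AlgHom.comp_apply, lift_X, Ideal.Quotient.mkₐ_eq_mk, hb]
  intro y
  obtain ⟨q, rfl⟩ := hf y
  refine ⟨ι I m q, ?_⟩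
  rw [← h1]
  rfl

/-- If all truncations are of finite presentation, the kernel of a presentation is finitely
generated. -/
theorem ker_fg_of_trunc_fp (hR : IsBase R I) {m : ℕ} (Φ : RPow R I m →ₐ[R] A)
    (hΦ : Function.Surjective Φ)
    (h : ∀ n : ℕ, (Ideal.quotientMap ((I ^ (n + 1)).map (algebraMap R A)) (algebraMap R A)
      Ideal.le_comap_map).FinitePresentation) :
    (RingHom.ker Φ.toRingHom).FG := by
  classical
  have hI := fg_of_isBase hR
  obtain ⟨n₀, hAR⟩ := artinRees hR (M := RPow R I m) (RingHom.ker Φ.toRingHom)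
  have hAR1 := hAR 1
  -- the kernel of the truncation is finitely generated
  have hkfg : (RingHom.ker (redHom hI Φ (n₀ + 1))).FG := by
    let _ : Algebra (R ⧸ I ^ (n₀ + 1)) (A ⧸ (I ^ (n₀ + 1)).map (algebraMap R A)) :=
      (Ideal.quotientMap ((I ^ (n₀ + 1)).map (algebraMap R A)) (algebraMap R A)
        Ideal.le_comap_map).toAlgebra
    let ψ : MvPolynomial (Fin m) (R ⧸ I ^ (n₀ + 1)) →ₐ[R ⧸ I ^ (n₀ + 1)]
        (A ⧸ (I ^ (n₀ + 1)).map (algebraMap R A)) :=
      { redHom hI Φ (n₀ + 1) with
        commutes' := fun r => by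
          have := congrArg (fun f => f r) (redHom_comp_C hI Φ (n₀ + 1))
          exact this }
    have hfp : Algebra.FinitePresentation (R ⧸ I ^ (n₀ + 1))
        (A ⧸ (I ^ (n₀ + 1)).map (algebraMap R A)) := h n₀
    exact Algebra.FinitePresentation.ker_fG_of_surjective ψ (redHom_surjective hI Φ _ hΦ)
  rw [ker_redHom hI Φ _ hΦ] at hkfg
  obtain ⟨s, κ, hκ⟩ := Submodule.fg_iff_exists_fin_generating_family.mp hkfg
  have hκmem : ∀ j, κ j ∈ (RingHom.ker Φ.toRingHom).map
      (red I m (I ^ (n₀ + 1)) (n₀ + 1) le_rfl).toRingHom := by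
    intro j
    rw [← hκ]
    exact Submodule.subset_span ⟨j, rfl⟩
  choose g hg hgκ using fun j => (Ideal.mem_map_iff_of_surjective
    (red I m (I ^ (n₀ + 1)) (n₀ + 1) le_rfl).toRingHom (red_surjective _)).mp (hκmem j)
  -- approximation
  have happrox : ∀ x ∈ RingHom.ker Φ.toRingHom, ∃ c : Fin s → RPow R I m,
      x - ∑ j, c j * g j ∈ I ^ 1 • (RingHom.ker Φ.toRingHom).restrictScalars R := by
    intro x hx
    have h1 : red I m (I ^ (n₀ + 1)) (n₀ + 1) le_rfl x ∈ (RingHom.ker Φ.toRingHom).map
        (red I m (I ^ (n₀ + 1)) (n₀ + 1) le_rfl).toRingHom :=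
      Ideal.mem_map_of_mem (red I m (I ^ (n₀ + 1)) (n₀ + 1) le_rfl).toRingHom hx
    rw [← hκ] at h1
    obtain ⟨cbar, hcbar⟩ := (Submodule.mem_span_range_iff_exists_fun _).mp h1
    choose c hc using fun j => red_surjective (le_refl (I ^ (n₀ + 1))) (n := m) (cbar j)
    refine ⟨c, hAR1 ⟨?_, ?_⟩⟩
    · have h2 : red I m (I ^ (n₀ + 1)) (n₀ + 1) le_rfl (x - ∑ j, c j * g j) = 0 := by
        rw [map_sub, map_sum, ← hcbar, sub_eq_zero]
        refine Finset.sum_congr rfl fun j _ => ?_
        rw [map_mul, hc, smul_eq_mul]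
        congr 1
        exact (hgκ j).symm
      rw [red_eq_zero_iff hI] at h2
      rw [add_comm 1 n₀, Ideal.smul_top_eq_map]
      exact h2
    · exact Submodule.sub_mem _ hx (Submodule.sum_mem _ fun j _ =>
        Ideal.mul_mem_left _ _ (hg j))
  -- Nakayama
  have hcompl := isAdicComplete_self (I := I) (n := m) hI
  have hhaus : IsHausdorff (I.map (algebraMap R (RPow R I m))) (RingHom.ker Φ.toRingHom) :=
    AdicMod.isHausdorff_of_injective _ (RingHom.ker Φ.toRingHom).subtype
      (Submodule.injective_subtype _)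
  have hfin : Module.Finite (RPow R I m) (RingHom.ker Φ.toRingHom) := by
    apply Groth.Agent.H44.finite_of_exists_approx (I.map (algebraMap R (RPow R I m)))
      (RingHom.ker Φ.toRingHom) (fun j => (⟨g j, hg j⟩ : RingHom.ker Φ.toRingHom))
    intro y
    obtain ⟨c, hc⟩ := happrox y.1 y.2
    refine ⟨c, ?_⟩
    rw [Submodule.mem_smul_top_iff]
    have h3 : ((y - ∑ j, c j • (⟨g j, hg j⟩ : RingHom.ker Φ.toRingHom) :
        RingHom.ker Φ.toRingHom) : RPow R I m) = y.1 - ∑ j, c j * g j := by
      rw [Submodule.coe_sub, Submodule.coe_sum]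
      rfl
    rw [h3]
    rw [pow_one, ← Ideal.smul_restrictScalars] at hc
    exact hc
  exact Module.Finite.iff_fg.mp hfin

end Converse

end Groth.Agent.H57.RPow
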