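import Mathlib
import Groth.Prelude.Def_W4bk4boschfrg79
import Groth.Agent.H57.Tft3

/-!
# Complete localizations (helper57)

Reductions of the completed localization `A⟨f⁻¹⟩` modulo powers of `I` are localizations of the
reductions of `A`.
-/

set_option autoImplicit false
set_option linter.unusedSectionVars false
universe u

namespace Groth.Agent.H57.CLoc

open AdicRing TensorProduct

section Compl

variable {L : Type u} [CommRing L] (J : Ideal L)

theorem evalₐ_algebraMap (k : ℕ) (l : L) :
    AdicCompletion.evalₐ J k (algebraMap L (AdicCompletion J L) l) = Ideal.Quotient.mk _ l := by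
  rw [AlgHom.commutes]
  rfl

theorem exists_sub_algebraMap_mem (hJ : J.FG) (k : ℕ) (c : AdicCompletion J L) :
    ∃ l : L, c - algebraMap L (AdicCompletion J L) l ∈
      (J ^ k).map (algebraMap L (AdicCompletion J L)) := by
  obtain ⟨l, hl⟩ := Ideal.Quotient.mk_surjective (AdicCompletion.evalₐ J k c)
  refine ⟨l, ?_⟩
  rw [← RPow.ker_evalₐ J hJ k, RingHom.mem_ker]
  change AdicCompletion.evalₐ J k (c - _) = 0
  rw [map_sub, evalₐ_algebraMap, hl, sub_self]

theorem algebraMap_mem_map_pow_iff (hJ : J.FG) (k : ℕ) (l : L) :
    algebraMap L (AdicCompletion J L) l ∈ (J ^ k).map (algebraMap L (AdicCompletion J L)) ↔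
      l ∈ J ^ k := by
  constructor
  · intro h
    rw [← RPow.ker_evalₐ J hJ k, RingHom.mem_ker] at h
    change AdicCompletion.evalₐ J k _ = 0 at h
    rwa [evalₐ_algebraMap, Ideal.Quotient.eq_zero_iff_mem] at h
  · intro h
    exact Ideal.mem_map_of_mem _ h

end Compl

section Loc

variable {A : Type u} [CommRing A] (M : Submonoid A) {L : Type u} [CommRing L] [Algebra A L]
  [IsLocalization M L] (J : Ideal L) (hJ : J.FG) (K : Ideal A) (k : ℕ)
  (hK : K.map (algebraMap A L) = J ^ k)

include hK in
theorem map_map_eq :
    K.map (algebraMap A (AdicCompletion J L)) =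
      (J ^ k).map (algebraMap L (AdicCompletion J L)) := by
  rw [← hK, Ideal.map_map, ← IsScalarTower.algebraMap_eq]

include hJ hK in
/-- The reduction of the completed localization is the localization of the reduction. -/
theorem isLocalization_quotient :
    IsLocalization (M.map (Ideal.Quotient.mk K))
      (AdicCompletion J L ⧸ K.map (algebraMap A (AdicCompletion J L))) := by
  have hKC := map_map_eq J K k hK
  apply IsLocalization.of_surjective M L (Ideal.Quotient.mk K) Ideal.Quotient.mk_surjective
    ((Ideal.Quotient.mk (K.map (algebraMap A (AdicCompletion J L)))).comp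
      (algebraMap L (AdicCompletion J L)))
  · intro y
    obtain ⟨c, rfl⟩ := Ideal.Quotient.mk_surjective y
    obtain ⟨l, hl⟩ := exists_sub_algebraMap_mem J hJ k c
    refine ⟨l, ?_⟩
    rw [RingHom.comp_apply, eq_comm, Ideal.Quotient.eq, hKC]
    exact hl
  · ext a
    simp only [RingHom.comp_apply]
    rw [← IsScalarTower.algebraMap_apply A L (AdicCompletion J L)]
    rfl
  · rw [Ideal.mk_ker, hK]
    intro l hl
    rw [RingHom.mem_ker, RingHom.comp_apply, Ideal.Quotient.eq_zero_iff_mem, hKC] at hl
    exact (algebraMap_mem_map_pow_iff J hJ k l).mp hl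

end Loc

section Away

variable {A : Type u} [CommRing A] (f : A) {L : Type u} [CommRing L] [Algebra A L]
  [IsLocalization.Away f L] (J : Ideal L) (hJ : J.FG) (K : Ideal A) (k : ℕ)
  (hK : K.map (algebraMap A L) = J ^ k)

include hJ hK in
theorem isLocalization_away_quotient :
    IsLocalization.Away (Ideal.Quotient.mk K f)
      (AdicCompletion J L ⧸ K.map (algebraMap A (AdicCompletion J L))) := by
  have := isLocalization_quotient (Submonoid.powers f) J hJ K k hK
  rwa [Submonoid.map_powers] at this

end Away

section Base

variable {R : Type u} [CommRing R] {I : Ideal R} (hI : I.FG)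
  {A : Type u} [CommRing A] [Algebra R A] (f : A)

include hI in
theorem fg_map_away : (I.map (algebraMap R (Localization.Away f))).FG := hI.map _

theorem map_map_pow_away (k : ℕ) :
    ((I ^ k).map (algebraMap R A)).map (algebraMap A (Localization.Away f)) =
      (I.map (algebraMap R (Localization.Away f))) ^ k := by
  rw [Ideal.map_map, ← IsScalarTower.algebraMap_eq, Ideal.map_pow]

include hI in
/-- The complete localization is complete. -/
theorem isAdicComplete_cloc :
    IsAdicComplete (I.map (algebraMap R (CLoc I f))) (CLoc I f) := by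
  have := AdicCompletion.isAdicComplete_self (I.map (algebraMap R (Localization.Away f)))
    (fg_map_away hI f)
  rwa [Ideal.map_map, ← IsScalarTower.algebraMap_eq] at this

include hI in
/-- The truncations of the complete localization are localizations of the truncations. -/
theorem isLocalization_trunc (k : ℕ) :
    IsLocalization.Away (Ideal.Quotient.mk ((I ^ k).map (algebraMap R A)) f)
      (CLoc I f ⧸ ((I ^ k).map (algebraMap R A)).map (algebraMap A (CLoc I f))) :=
  isLocalization_away_quotient f _ (fg_map_away hI f) _ k (map_map_pow_away f k)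

theorem map_map_cloc (k : ℕ) :
    ((I ^ k).map (algebraMap R A)).map (algebraMap A (CLoc I f)) =
      (I ^ k).map (algebraMap R (CLoc I f)) := by
  rw [Ideal.map_map, ← IsScalarTower.algebraMap_eq]

include hI in
theorem flat_trunc_cloc (k : ℕ) :
    Module.Flat (A ⧸ (I ^ k).map (algebraMap R A))
      ((A ⧸ (I ^ k).map (algebraMap R A)) ⊗[A] CLoc I f) := by
  have := isLocalization_trunc hI f k
  have hflat : Module.Flat (A ⧸ (I ^ k).map (algebraMap R A))
      (CLoc I f ⧸ ((I ^ k).map (algebraMap R A)).map (algebraMap A (CLoc I f))) :=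
    IsLocalization.flat _ (Submonoid.powers (Ideal.Quotient.mk ((I ^ k).map (algebraMap R A)) f))
  exact Module.Flat.of_linearEquiv (Algebra.TensorProduct.quotIdealMapEquivQuotTensor (CLoc I f)
    ((I ^ k).map (algebraMap R A))).symm.toLinearEquiv

/-- The truncation map of the complete localization factors through that of `A`. -/
theorem quotientMap_cloc_eq (k : ℕ) :
    Ideal.quotientMap ((I ^ k).map (algebraMap R (CLoc I f))) (algebraMap R (CLoc I f))
      Ideal.le_comap_map =
    (Ideal.quotEquivOfEq (map_map_cloc (I := I) f k)).toRingHom.comp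
      ((Ideal.quotientMap (((I ^ k).map (algebraMap R A)).map (algebraMap A (CLoc I f)))
        (algebraMap A (CLoc I f)) Ideal.le_comap_map).comp
        (Ideal.quotientMap ((I ^ k).map (algebraMap R A)) (algebraMap R A)
          Ideal.le_comap_map)) := by
  apply Ideal.Quotient.ringHom_ext
  ext r
  simp only [RingHom.comp_apply, Ideal.quotientMap_mk, RingEquiv.toRingHom_eq_coe,
    RingHom.coe_coe, Ideal.quotEquivOfEq_mk]
  rw [← IsScalarTower.algebraMap_apply R A (CLoc I f)]

end Base

section Local

variable {P : ∀ {R S : Type u} [CommRing R] [CommRing S], (R →+* S) → Prop}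
variable {R : Type u} [CommRing R] {I : Ideal R} (hI : I.FG)
  {A : Type u} [CommRing A] [Algebra R A]

include hI in
/-- A local property holds for a truncation of `A` iff it does for the truncations of the complete
localizations of a covering. -/
theorem trunc_iff_forall_cloc (hP : RingHom.PropertyIsLocal @P) {r : ℕ} (f : Fin r → A)
    (hf : Ideal.span (Set.range f) = ⊤) (k : ℕ) :
    P (Ideal.quotientMap ((I ^ k).map (algebraMap R A)) (algebraMap R A) Ideal.le_comap_map) ↔
      ∀ i, P (Ideal.quotientMap ((I ^ k).map (algebraMap R (CLoc I (f i))))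
        (algebraMap R (CLoc I (f i))) Ideal.le_comap_map) := by
  have hiso := hP.respectsIso
  have key : ∀ i, P (Ideal.quotientMap ((I ^ k).map (algebraMap R (CLoc I (f i))))
        (algebraMap R (CLoc I (f i))) Ideal.le_comap_map) ↔
      P ((algebraMap (A ⧸ (I ^ k).map (algebraMap R A))
        (CLoc I (f i) ⧸ ((I ^ k).map (algebraMap R A)).map (algebraMap A (CLoc I (f i))))).comp
        (Ideal.quotientMap ((I ^ k).map (algebraMap R A)) (algebraMap R A)
          Ideal.le_comap_map)) := by
    intro i
    rw [quotientMap_cloc_eq (f i) k]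
    constructor
    · intro h
      have h2 := hiso.1 _ (Ideal.quotEquivOfEq (map_map_cloc (I := I) (f i) k)).symm h
      have h3 : ∀ (g : A ⧸ (I ^ k).map (algebraMap R A) →+*
          CLoc I (f i) ⧸ ((I ^ k).map (algebraMap R A)).map (algebraMap A (CLoc I (f i))))
          (g' : R ⧸ I ^ k →+* A ⧸ (I ^ k).map (algebraMap R A)),
          (Ideal.quotEquivOfEq (map_map_cloc (I := I) (f i) k)).symm.toRingHom.comp
            ((Ideal.quotEquivOfEq (map_map_cloc (I := I) (f i) k)).toRingHom.comp (g.comp g')) =
          g.comp g' := by
        intro g g'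
        ext x
        simp only [RingHom.comp_apply, RingEquiv.toRingHom_eq_coe, RingHom.coe_coe,
          RingEquiv.symm_apply_apply]
      rw [h3] at h2
      exact h2
    · intro h
      exact hiso.1 _ (Ideal.quotEquivOfEq (map_map_cloc (I := I) (f i) k)) h
  constructor
  · intro h i
    rw [key i]
    have := isLocalization_trunc hI (f i) k
    exact hP.StableUnderCompositionWithLocalizationAwayTarget _
      (Ideal.Quotient.mk ((I ^ k).map (algebraMap R A)) (f i)) _ h
  · intro h
    apply hP.ofLocalizationSpanTarget.ofIsLocalization hiso _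
      (Set.range fun i => Ideal.Quotient.mk ((I ^ k).map (algebraMap R A)) (f i))
    · have : (Set.range fun i => Ideal.Quotient.mk ((I ^ k).map (algebraMap R A)) (f i)) =
          (Ideal.Quotient.mk ((I ^ k).map (algebraMap R A))) '' (Set.range f) := by
        rw [← Set.range_comp]
        rfl
      rw [this, ← Ideal.map_span, hf, Ideal.map_top]
    · rintro ⟨_, i, rfl⟩
      exact ⟨_, inferInstance, inferInstance, isLocalization_trunc hI (f i) k, (key i).mp (h i)⟩

end Local

section Tft

variable {R : Type u} [CommRing R] {I : Ideal R} (hI : I.FG)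
  {A : Type u} [CommRing A] [Algebra R A]

include hI in
/-- Truncations of algebras topologically of finite type are of finite type. -/
theorem trunc_ft_of_tft (hA : TopFiniteType R I A) (k : ℕ) :
    (Ideal.quotientMap ((I ^ k).map (algebraMap R A)) (algebraMap R A)
      Ideal.le_comap_map).FiniteType := by
  obtain ⟨m, Φ, hΦ⟩ := hA
  rw [← RPow.redHom_comp_C hI Φ k]
  have hC : (MvPolynomial.C : R ⧸ I ^ k →+* MvPolynomial (Fin m) (R ⧸ I ^ k)).FiniteType := by
    have : (algebraMap (R ⧸ I ^ k) (MvPolynomial (Fin m) (R ⧸ I ^ k))).FiniteType := by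
      rw [RingHom.finiteType_algebraMap]
      infer_instance
    exact this
  exact (RingHom.FiniteType.of_surjective _ (RPow.redHom_surjective hI Φ k hΦ)).comp hC

include hI in
/-- A complete algebra is topologically of finite type iff its reduction is of finite type. -/
theorem tft_iff_finiteType_trunc [IsAdicComplete (I.map (algebraMap R A)) A] :
    TopFiniteType R I A ↔
      (Ideal.quotientMap ((I ^ (0 + 1)).map (algebraMap R A)) (algebraMap R A)
        Ideal.le_comap_map).FiniteType := by
  constructor
  · intro hA
    exact trunc_ft_of_tft hI hA (0 + 1)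
  · intro h0
    have hft : Algebra.FiniteType R (A ⧸ I.map (algebraMap R A)) := by
      have h1 : (Ideal.Quotient.mk (I ^ (0 + 1))).FiniteType :=
        RingHom.FiniteType.of_surjective _ Ideal.Quotient.mk_surjective
      have h2 := h0.comp h1
      rw [Ideal.quotientMap_comp_mk] at h2
      have h3 : Algebra.FiniteType R (A ⧸ (I ^ (0 + 1)).map (algebraMap R A)) :=
        RingHom.finiteType_algebraMap.mp h2
      have h4 : (I ^ (0 + 1)).map (algebraMap R A) = I.map (algebraMap R A) := by
        rw [zero_add, pow_one]
      rwa [h4] at h3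
    exact RPow.tft_of_finiteType_quotient hI hft

include hI in
/-- Complete localizations of algebras topologically of finite type are topologically of finite
type. -/
theorem tft_cloc (hA : TopFiniteType R I A) (f : A) : TopFiniteType R I (CLoc I f) := by
  have hc := isAdicComplete_cloc hI f
  rw [tft_iff_finiteType_trunc hI, quotientMap_cloc_eq f (0 + 1)]
  have h1 := trunc_ft_of_tft hI hA (0 + 1)
  have hloc := isLocalization_trunc hI f (0 + 1)
  have h2 := RingHom.finiteType_isLocal.StableUnderCompositionWithLocalizationAwayTarget
    (CLoc I f ⧸ ((I ^ (0 + 1)).map (algebraMap R A)).map (algebraMap A (CLoc I f)))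
    (Ideal.Quotient.mk ((I ^ (0 + 1)).map (algebraMap R A)) f) _ h1
  exact RingHom.finiteType_respectsIso.1 _ _ h2

end Tft

end Groth.Agent.H57.CLoc
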