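import Mathlib
import Groth.Prelude.Def_W4bk4boschfrg79
import Groth.Agent.H57.CLoc

/-!
# Completions of finitely generated algebras over algebras topologically of finite type (helper57)
-/

set_option autoImplicit false
set_option linter.unusedSectionVars false
universe u

namespace Groth.Agent.H57.ComplFT

open AdicRing TensorProduct

section Quot

variable {R : Type u} [CommRing R] {I : Ideal R} (hI : I.FG)
  {A : Type u} [CommRing A] [Algebra R A]

include hI in
/-- The reduction modulo `I` of an algebra topologically of finite type is of finite type. -/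
theorem finiteType_quotient_of_tft (hA : TopFiniteType R I A) :
    Algebra.FiniteType R (A ⧸ I.map (algebraMap R A)) := by
  obtain ⟨m, Φ, hΦ⟩ := hA
  apply Algebra.FiniteType.of_surjective
    (((Ideal.Quotient.mkₐ R (I.map (algebraMap R A))).comp Φ).comp (RPow.ι I m))
  intro y
  obtain ⟨a, rfl⟩ := Ideal.Quotient.mk_surjective y
  obtain ⟨x, rfl⟩ := hΦ a
  obtain ⟨p, hp⟩ := RPow.exists_sub_ι_mem hI x 1
  refine ⟨p, ?_⟩
  rw [AlgHom.comp_apply, AlgHom.comp_apply, Ideal.Quotient.mkₐ_eq_mk, Ideal.Quotient.eq,
    ← Ideal.neg_mem_iff, neg_sub, ← map_sub]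
  have := RPow.map_mem_pow Φ hp
  rwa [pow_one] at this

end Quot

section Compl

variable {R : Type u} [CommRing R] {I : Ideal R} (hI : I.FG)
  {A : Type u} [CommRing A] [Algebra R A]
  (B : Type u) [CommRing B] [Algebra R B] [Algebra A B] [IsScalarTower R A B]

theorem map_map_adicCompletion :
    (I.map (algebraMap R B)).map
      (algebraMap B (AdicCompletion (I.map (algebraMap R B)) B)) =
      I.map (algebraMap R (AdicCompletion (I.map (algebraMap R B)) B)) := by
  rw [Ideal.map_map, ← IsScalarTower.algebraMap_eq]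

include hI in
theorem isAdicComplete_adicCompletion :
    IsAdicComplete (I.map (algebraMap R (AdicCompletion (I.map (algebraMap R B)) B)))
      (AdicCompletion (I.map (algebraMap R B)) B) := by
  have := AdicCompletion.isAdicComplete_self (I.map (algebraMap R B)) (hI.map _)
  rwa [map_map_adicCompletion] at this

include hI in
/-- The completion of a finitely generated algebra over an algebra topologically of finite type
is topologically of finite type. -/
theorem tft_adicCompletion (hA : TopFiniteType R I A) [Algebra.FiniteType A B] :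
    TopFiniteType R I (AdicCompletion (I.map (algebraMap R B)) B) := by
  have hc := isAdicComplete_adicCompletion hI B
  apply RPow.tft_of_finiteType_quotient hI
  rw [← RingHom.finiteType_algebraMap]
  -- `R → A/IA`
  have h1 : (algebraMap R (A ⧸ I.map (algebraMap R A))).FiniteType :=
    RingHom.finiteType_algebraMap.mpr (finiteType_quotient_of_tft hI hA)
  -- `A/IA → B/IB`
  have hle : I.map (algebraMap R A) ≤ (I.map (algebraMap R B)).comap (algebraMap A B) := by
    rw [← Ideal.map_le_iff_le_comap, Ideal.map_map, ← IsScalarTower.algebraMap_eq]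
  have h2 : (Ideal.quotientMap (I.map (algebraMap R B)) (algebraMap A B) hle).FiniteType := by
    apply RingHom.FiniteType.of_comp_finiteType (f := Ideal.Quotient.mk (I.map (algebraMap R A)))
    rw [Ideal.quotientMap_comp_mk]
    have h3 : (algebraMap A B).FiniteType := RingHom.finiteType_algebraMap.mpr inferInstance
    exact (RingHom.FiniteType.of_surjective _ Ideal.Quotient.mk_surjective).comp h3
  -- `B/IB → B^/IB^`
  have hle' : I.map (algebraMap R B) ≤
      (I.map (algebraMap R (AdicCompletion (I.map (algebraMap R B)) B))).comap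
        (algebraMap B (AdicCompletion (I.map (algebraMap R B)) B)) := by
    rw [← Ideal.map_le_iff_le_comap, map_map_adicCompletion]
  have h3 : (Ideal.quotientMap
      (I.map (algebraMap R (AdicCompletion (I.map (algebraMap R B)) B)))
      (algebraMap B (AdicCompletion (I.map (algebraMap R B)) B)) hle').FiniteType := by
    apply RingHom.FiniteType.of_surjective
    intro y
    obtain ⟨c, rfl⟩ := Ideal.Quotient.mk_surjective y
    obtain ⟨b, hb⟩ := CLoc.exists_sub_algebraMap_mem (I.map (algebraMap R B)) (hI.map _) 1 c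
    refine ⟨Ideal.Quotient.mk _ b, ?_⟩
    rw [Ideal.quotientMap_mk, eq_comm, Ideal.Quotient.eq, ← map_map_adicCompletion]
    rwa [pow_one] at hb
  have h4 := h3.comp (h2.comp h1)
  have h5 : (Ideal.quotientMap
      (I.map (algebraMap R (AdicCompletion (I.map (algebraMap R B)) B)))
      (algebraMap B (AdicCompletion (I.map (algebraMap R B)) B)) hle').comp
      ((Ideal.quotientMap (I.map (algebraMap R B)) (algebraMap A B) hle).comp
        (algebraMap R (A ⧸ I.map (algebraMap R A)))) =
      algebraMap R (AdicCompletion (I.map (algebraMap R B)) B ⧸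
        I.map (algebraMap R (AdicCompletion (I.map (algebraMap R B)) B))) := by
    ext r
    simp only [RingHom.comp_apply]
    change Ideal.quotientMap _ _ hle' (Ideal.quotientMap _ _ hle
      (Ideal.Quotient.mk _ (algebraMap R A r))) = Ideal.Quotient.mk _ (algebraMap R _ r)
    rw [Ideal.quotientMap_mk, Ideal.quotientMap_mk, ← IsScalarTower.algebraMap_apply R A B,
      ← IsScalarTower.algebraMap_apply R B]
  rwa [h5] at h4

end Compl

section OfTensor

variable {B : Type u} [CommRing B] (J : Ideal B) (hJ : J.FG)
  (M : Type u) [AddCommGroup M] [Module B M]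

/-- Every tensor is congruent to a pure tensor `1 ⊗ m` modulo `J ^ k`. -/
theorem exists_one_tmul (k : ℕ) (z : AdicCompletion J B ⊗[B] M) (hJ : J.FG) :
    ∃ m : M, z - (1 : AdicCompletion J B) ⊗ₜ[B] m ∈
      ((J.map (algebraMap B (AdicCompletion J B))) ^ k • ⊤ :
        Submodule (AdicCompletion J B) (AdicCompletion J B ⊗[B] M)) := by
  induction z using TensorProduct.induction_on with
  | zero => exact ⟨0, by simp⟩
  | add x y hx hy =>
    obtain ⟨m₁, h₁⟩ := hx
    obtain ⟨m₂, h₂⟩ := hy
    refine ⟨m₁ + m₂, ?_⟩
    have : x + y - (1 : AdicCompletion J B) ⊗ₜ[B] (m₁ + m₂) =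
        (x - (1 : AdicCompletion J B) ⊗ₜ[B] m₁) + (y - (1 : AdicCompletion J B) ⊗ₜ[B] m₂) := by
      rw [TensorProduct.tmul_add]; abel
    rw [this]
    exact Submodule.add_mem _ h₁ h₂
  | tmul c m' =>
    obtain ⟨b, hb⟩ := CLoc.exists_sub_algebraMap_mem J hJ k c
    refine ⟨b • m', ?_⟩
    have h1 : (1 : AdicCompletion J B) ⊗ₜ[B] (b • m') =
        (algebraMap B (AdicCompletion J B) b) ⊗ₜ[B] m' := by
      rw [← TensorProduct.smul_tmul, Algebra.smul_def, mul_one]
    have h2 : c ⊗ₜ[B] m' - (1 : AdicCompletion J B) ⊗ₜ[B] (b • m') =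
        (c - algebraMap B (AdicCompletion J B) b) • ((1 : AdicCompletion J B) ⊗ₜ[B] m') := by
      rw [h1, TensorProduct.smul_tmul', smul_eq_mul, mul_one, TensorProduct.sub_tmul]
    rw [h2]
    rw [← Ideal.map_pow]
    exact Submodule.smul_mem_smul hb Submodule.mem_top

theorem val_eq_zero_of_mem (k : ℕ) (y : AdicCompletion J M)
    (hy : y ∈ ((J.map (algebraMap B (AdicCompletion J B))) ^ k • ⊤ :
      Submodule (AdicCompletion J B) (AdicCompletion J M))) : y.val k = 0 := by
  refine Submodule.smul_induction_on hy ?_ ?_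
  · intro c hc x _
    rw [AdicCompletion.smul_eval]
    have hc0 : c.val k = 0 := by
      rw [← Ideal.map_pow] at hc
      have h1 : c ∈ (J ^ k • ⊤ : Submodule B (AdicCompletion J B)) := by
        rw [Ideal.smul_top_eq_map]
        exact hc
      exact AdicCompletion.pow_smul_top_le_ker_eval J k h1
    rw [hc0, zero_smul]
  · intro x y hx hy
    rw [AdicCompletion.val_add_apply, hx, hy, add_zero]

theorem one_tmul_mem (k : ℕ) (m : M) (hm : m ∈ (J ^ k • ⊤ : Submodule B M)) :
    (1 : AdicCompletion J B) ⊗ₜ[B] m ∈
      ((J.map (algebraMap B (AdicCompletion J B))) ^ k • ⊤ :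
        Submodule (AdicCompletion J B) (AdicCompletion J B ⊗[B] M)) := by
  refine Submodule.smul_induction_on hm ?_ ?_
  · intro a ha m' _
    have : (1 : AdicCompletion J B) ⊗ₜ[B] (a • m') =
        (algebraMap B (AdicCompletion J B) a) • ((1 : AdicCompletion J B) ⊗ₜ[B] m') := by
      rw [TensorProduct.smul_tmul', smul_eq_mul, mul_one, ← TensorProduct.smul_tmul,
        Algebra.smul_def, mul_one]
    rw [this, ← Ideal.map_pow]
    exact Submodule.smul_mem_smul (Ideal.mem_map_of_mem _ ha) Submodule.mem_top
  · intro x y hx hy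
    rw [TensorProduct.tmul_add]
    exact Submodule.add_mem _ hx hy

/-- The kernel of `ofTensorProduct` is contained in all `J ^ k (B^ ⊗ M)`. -/
theorem mem_of_ofTensorProduct_eq_zero (hJ : J.FG) (z : AdicCompletion J B ⊗[B] M)
    (hz : AdicCompletion.ofTensorProduct J M z = 0) (k : ℕ) :
    z ∈ ((J.map (algebraMap B (AdicCompletion J B))) ^ k • ⊤ :
      Submodule (AdicCompletion J B) (AdicCompletion J B ⊗[B] M)) := by
  obtain ⟨m, hm⟩ := exists_one_tmul J M k z hJ
  have h1 := AdicMod.map_mem_smul_top ((J.map (algebraMap B (AdicCompletion J B))) ^ k)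
    (AdicCompletion.ofTensorProduct J M) hm
  rw [map_sub, hz, zero_sub, AdicCompletion.ofTensorProduct_tmul, one_smul] at h1
  have h2 := val_eq_zero_of_mem J M k _ h1
  rw [AdicCompletion.val_neg_apply, neg_eq_zero] at h2
  have h3 : m ∈ (J ^ k • ⊤ : Submodule B M) := by
    have : (AdicCompletion.of J M m).val k = Submodule.Quotient.mk m := rfl
    rw [this, Submodule.Quotient.mk_eq_zero] at h2
    exact h2
  have h4 := one_tmul_mem J M k m h3
  have : z = (z - (1 : AdicCompletion J B) ⊗ₜ[B] m) + (1 : AdicCompletion J B) ⊗ₜ[B] m := by abel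
  rw [this]
  exact Submodule.add_mem _ hm h4

end OfTensor

end Groth.Agent.H57.ComplFT
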