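import Mathlib
import Groth.Prelude.Def_W4bk4boschfrg79
import Groth.Agent.H57.Tft2
import Groth.Agent.H57.Tft3
import Groth.Agent.H57.ComplFT
import Groth.Agent.S11525

/-!
# Finite algebras over algebras topologically of finite type
-/

set_option autoImplicit false
universe u

namespace Groth.Agent.H57.AdjoinAdm

open AdicRing

section Finite

variable {R : Type u} [CommRing R] {I : Ideal R} (hR : IsBase R I)
  {A : Type u} [CommRing A] [Algebra R A] (hA : TopFiniteType R I A)
  (A' : Type u) [CommRing A'] [Algebra R A'] [Algebra A A'] [IsScalarTower R A A']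
  [Module.Finite A A']

include hR hA in
/-- A finite algebra over an algebra topologically of finite type is topologically of finite
type. -/
theorem tft_of_finite : TopFiniteType R I A' := by
  have hI := RPow.fg_of_isBase hR
  have hc : IsAdicComplete I A' := RPow.tft_isAdicComplete hR hA
  have hc' : IsAdicComplete (I.map (algebraMap R A')) A' :=
    (IsAdicComplete.map_algebraMap_iff (S := A') I A').mpr hc
  have hft0 : Algebra.FiniteType R (A ⧸ I.map (algebraMap R A)) :=
    ComplFT.finiteType_quotient_of_tft hI hA
  have hle : I.map (algebraMap R A) ≤ (I.map (algebraMap R A')).comap (algebraMap A A') := by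
    rw [← Ideal.map_le_iff_le_comap, Ideal.map_map, ← IsScalarTower.algebraMap_eq]
  let _ : Algebra (A ⧸ I.map (algebraMap R A)) (A' ⧸ I.map (algebraMap R A')) :=
    Ideal.Quotient.algebraQuotientOfLEComap hle
  have h1 : IsScalarTower A (A ⧸ I.map (algebraMap R A)) (A' ⧸ I.map (algebraMap R A')) :=
    IsScalarTower.of_algebraMap_eq (fun x => rfl)
  have h2 : IsScalarTower R (A ⧸ I.map (algebraMap R A)) (A' ⧸ I.map (algebraMap R A')) := by
    apply IsScalarTower.of_algebraMap_eq
    intro x
    rw [IsScalarTower.algebraMap_apply R A (A ⧸ I.map (algebraMap R A)),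
      ← IsScalarTower.algebraMap_apply A (A ⧸ I.map (algebraMap R A)),
      ← IsScalarTower.algebraMap_apply R A]
  have h3 : Module.Finite A (A' ⧸ I.map (algebraMap R A')) := inferInstance
  have h4 : Module.Finite (A ⧸ I.map (algebraMap R A)) (A' ⧸ I.map (algebraMap R A')) :=
    Module.Finite.of_restrictScalars_finite A _ _
  have h5 : Algebra.FiniteType (A ⧸ I.map (algebraMap R A)) (A' ⧸ I.map (algebraMap R A')) :=
    inferInstance
  exact RPow.tft_of_finiteType_quotient hI (Algebra.FiniteType.trans hft0 h5)

include hR hA in
theorem admissible_of_finite (hnt : NoPowTorsion I A') : Admissible R I A' :=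
  ⟨Groth.Agent.S11525.result R I hR A' (tft_of_finite hR hA A') hnt, hnt⟩

end Finite

end Groth.Agent.H57.AdjoinAdm
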