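import Mathlib
import Groth.Agent.H57.ArtinPoly

/-!
# Non-zero-divisors in flat algebras over an Artinian local ring (helper57)
-/

set_option autoImplicit false
universe u v
open scoped Pointwise
open Function (Injective Surjective Exact)
open IsLocalRing

namespace Groth.Agent.H57.ArtinNZD

open Groth.Agent.H57.ArtinPoly

variable {A' : Type u} [CommRing A'] [IsArtinianRing A'] [IsLocalRing A']
  {S' : Type v} [CommRing S'] [Algebra A' S']

/-- multiplication by `f'` on `S'` as an `A'`-linear map. -/
noncomputable def mulL (f' : S') : S' →ₗ[A'] S' := mulC (C := A') S' f'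

omit [IsArtinianRing A'] [IsLocalRing A'] in
lemma mulL_apply (f' x : S') : mulL (A' := A') f' x = f' * x := rfl

/-- the quotient map `S' → S'/(f')` as an `A'`-linear map. -/
noncomputable def quotL (f' : S') : S' →ₗ[A'] (S' ⧸ Ideal.span {f'}) :=
  (Ideal.Quotient.mkₐ A' (Ideal.span {f'})).toLinearMap

omit [IsArtinianRing A'] [IsLocalRing A'] in
lemma exact_mulL_quotL (f' : S') : Exact (mulL (A' := A') f') (quotL (A' := A') f') := by
  intro y
  change Ideal.Quotient.mk (Ideal.span {f'}) y = 0 ↔ _
  rw [Ideal.Quotient.eq_zero_iff_mem, Ideal.mem_span_singleton']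
  constructor
  · rintro ⟨a, rfl⟩
    exact ⟨a, mul_comm _ _⟩
  · rintro ⟨a, rfl⟩
    exact ⟨a, mul_comm _ _⟩

omit [IsArtinianRing A'] [IsLocalRing A'] in
lemma surjective_quotL (f' : S') : Surjective (quotL (A' := A') f') :=
  Ideal.Quotient.mk_surjective

omit [IsArtinianRing A'] [IsLocalRing A'] in
lemma mem_nonZeroDivisors_iff_inj (f' : S') :
    f' ∈ nonZeroDivisors S' ↔ Injective (mulL (A' := A') f') := by
  rw [mem_nonZeroDivisors_iff_right, injective_iff_map_eq_zero]
  constructor
  · intro h x hx
    exact h x (by rw [mul_comm]; exact hx)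
  · intro h x hx
    exact h x (by rw [mulL_apply, mul_comm]; exact hx)

omit [IsArtinianRing A'] [IsLocalRing A'] in
lemma mem_nonZeroDivisors_quot_iff (I : Ideal A') (f' : S') :
    Ideal.Quotient.mk (I.map (algebraMap A' S')) f' ∈
        nonZeroDivisors (S' ⧸ I.map (algebraMap A' S')) ↔
      ∀ x : S', mulL (A' := A') f' x ∈ I • (⊤ : Submodule A' S') →
        x ∈ I • (⊤ : Submodule A' S') := by
  rw [mem_nonZeroDivisors_iff_right, Ideal.smul_top_eq_map]
  simp only [Submodule.restrictScalars_mem, mulL_apply]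
  constructor
  · intro h x hx
    rw [← Ideal.Quotient.eq_zero_iff_mem] at hx ⊢
    apply h
    rw [← map_mul, mul_comm]
    exact hx
  · intro h y hy
    obtain ⟨x, rfl⟩ := Ideal.Quotient.mk_surjective y
    rw [← map_mul, Ideal.Quotient.eq_zero_iff_mem, mul_comm] at hy
    rw [Ideal.Quotient.eq_zero_iff_mem]
    exact h x hy

variable [Module.Flat A' S']

theorem nzd_main (I : Ideal A') (hI : I ≠ ⊤) (f' : S') :
    (f' ∈ nonZeroDivisors S' ↔
      Ideal.Quotient.mk (I.map (algebraMap A' S')) f' ∈
        nonZeroDivisors (S' ⧸ I.map (algebraMap A' S'))) ∧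
    (f' ∈ nonZeroDivisors S' → Module.Flat A' (S' ⧸ Ideal.span {f'})) := by
  have hflat : f' ∈ nonZeroDivisors S' →
      (∀ x : S', mulL (A' := A') f' x ∈ maximalIdeal A' • (⊤ : Submodule A' S') →
        x ∈ maximalIdeal A' • (⊤ : Submodule A' S')) := by
    intro h
    rw [mem_nonZeroDivisors_iff_inj (A' := A')] at h
    refine residue_of_mod (⊥ : Ideal A') bot_ne_top (mulL (A' := A') f') ?_
    intro x hx
    rw [Submodule.bot_smul, Submodule.mem_bot] at hx ⊢
    exact h (by rw [hx, map_zero])
  refine ⟨⟨fun h => ?_, fun h => ?_⟩, fun h => ?_⟩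
  · obtain ⟨hinj, hfl⟩ := injective_and_flat_of_residue (mulL (A' := A') f')
      (quotL (A' := A') f') (exact_mulL_quotL f') (surjective_quotL f') (hflat h)
    rw [mem_nonZeroDivisors_quot_iff]
    intro x hx
    have := hfl
    exact mem_smul_top_of_flat_coker (mulL (A' := A') f') (quotL (A' := A') f') hinj
      (exact_mulL_quotL f') (surjective_quotL f') I x hx
  · rw [mem_nonZeroDivisors_quot_iff] at h
    have h2 := residue_of_mod I hI (mulL (A' := A') f') h
    rw [mem_nonZeroDivisors_iff_inj (A' := A')]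
    exact (injective_and_flat_of_residue (mulL (A' := A') f')
      (quotL (A' := A') f') (exact_mulL_quotL f') (surjective_quotL f') h2).1
  · exact (injective_and_flat_of_residue (mulL (A' := A') f')
      (quotL (A' := A') f') (exact_mulL_quotL f') (surjective_quotL f') (hflat h)).2

end Groth.Agent.H57.ArtinNZD
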