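import Mathlib
import Groth.Agent.H57.ArtinPoly

/-!
# Regular sequences in flat algebras over an Artinian local ring (helper57)
-/

set_option autoImplicit false
universe u v
open scoped Pointwise
open Function (Injective Surjective Exact)
open IsLocalRing RingTheory.Sequence

namespace Groth.Agent.H57.ArtinReg

open Groth.Agent.H57.ArtinPoly

variable {A' : Type u} [CommRing A'] [IsArtinianRing A'] [IsLocalRing A']
  {S' : Type v} [CommRing S'] [Algebra A' S']

lemma isNilpotent_of_mem_map (I : Ideal A') (hI : I ≠ ⊤) {b : S'}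
    (hb : b ∈ I.map (algebraMap A' S')) : IsNilpotent b := by
  obtain ⟨n, hn⟩ := exists_pow_maximalIdeal_eq_bot (R := A')
  refine ⟨n, ?_⟩
  have h1 : b ^ n ∈ (I.map (algebraMap A' S')) ^ n := Ideal.pow_mem_pow hb n
  rw [← Ideal.map_pow] at h1
  have h2 : I ^ n ≤ ⊥ := hn ▸ Ideal.pow_right_mono (IsLocalRing.le_maximalIdeal hI) n
  rw [le_bot_iff] at h2
  rw [h2, Ideal.map_bot] at h1
  exact h1

/-- The `S'`-linear identification `S'/(J • ⊤) ≃ S'/J`. -/
noncomputable def quotTopEquiv (J : Ideal S') :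
    (S' ⧸ (J • (⊤ : Submodule S' S'))) ≃ₗ[S'] (S' ⧸ J) :=
  Submodule.quotEquivOfEq _ _ (by rw [smul_eq_mul, Ideal.mul_top])

omit [IsArtinianRing A'] [IsLocalRing A'] [Algebra A' S'] in
lemma isWeaklyRegular_quot_iff (J : Ideal S') (rs : List S') :
    IsWeaklyRegular (S' ⧸ J) (rs.map (algebraMap S' (S' ⧸ J))) ↔
      IsWeaklyRegular (S' ⧸ (J • (⊤ : Submodule S' S'))) rs := by
  rw [(quotTopEquiv J).isWeaklyRegular_congr]
  exact isWeaklyRegular_map_algebraMap_iff (S' ⧸ J) (S' ⧸ J) rs

variable [Module.Flat A' S']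

theorem isRegular_iff (I : Ideal A') (hI : I ≠ ⊤) (rs : List S') :
    IsRegular S' rs ↔
      IsRegular (S' ⧸ I.map (algebraMap A' S'))
        (rs.map (algebraMap S' (S' ⧸ I.map (algebraMap A' S')))) := by
  constructor
  · intro h
    refine ⟨?_, ?_⟩
    · rw [isWeaklyRegular_quot_iff]
      exact (isWeaklyRegular_quot_and_flat (C := A') I rs S' h.toIsWeaklyRegular).1
    · intro htop
      apply h.top_ne_smul
      rw [smul_eq_mul, Ideal.mul_top] at htop ⊢
      rw [← Ideal.map_ofList] at htop
      have h1 : (1 : S') ∈ Ideal.comap (Ideal.Quotient.mk (I.map (algebraMap A' S')))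
          ((Ideal.ofList rs).map (algebraMap S' (S' ⧸ I.map (algebraMap A' S')))) := by
        rw [Ideal.mem_comap, ← htop]; trivial
      rw [show algebraMap S' (S' ⧸ I.map (algebraMap A' S')) =
          Ideal.Quotient.mk (I.map (algebraMap A' S')) from rfl,
        Ideal.comap_map_of_surjective _ Ideal.Quotient.mk_surjective,
        ← RingHom.ker_eq_comap_bot, Ideal.mk_ker, Submodule.mem_sup] at h1
      obtain ⟨a, ha, b, hb, hab⟩ := h1
      have hu : IsUnit a := by
        have : a = 1 - b := by rw [← hab]; ring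
        rw [this]
        exact (isNilpotent_of_mem_map I hI hb).isUnit_one_sub
      exact (Ideal.eq_top_of_isUnit_mem _ ha hu).symm
  · intro h
    refine ⟨?_, ?_⟩
    · have h1 := (isWeaklyRegular_quot_iff _ rs).1 h.toIsWeaklyRegular
      exact (isWeaklyRegular_and_flat (C := A') I hI rs S' h1).1
    · intro htop
      apply h.top_ne_smul
      rw [smul_eq_mul, Ideal.mul_top] at htop ⊢
      rw [← Ideal.map_ofList, ← htop]
      exact (Ideal.map_top _).symm

end Groth.Agent.H57.ArtinReg
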