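import Mathlib
import Groth.Agent.H57.CPushoutFibre
import Groth.Agent.H2.FlatPow

/-!
# Flatness of completed pushouts at primes with finite residue rings (helper57)
-/

set_option autoImplicit false
set_option linter.style.haveILetI false
universe u
open scoped TensorProduct

namespace Groth.Agent.H57.CL

section FL

variable {A B C' T : Type u} [CommRing A] [CommRing B] [CommRing C'] [CommRing T]
  [Algebra A B] [Algebra A C']

/-- Localizations of `C' ⊗[A] B` at submonoids containing the image of `B ∖ Q` are flat over `C'`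
when `B_Q` is flat over `A`. -/
theorem flat_of_isLocalization_tensorProduct (Q : Ideal B) [Q.IsPrime]
    [Module.Flat A (Localization.AtPrime Q)]
    (M : Submonoid (C' ⊗[A] B)) [Algebra (C' ⊗[A] B) T] [IsLocalization M T]
    (hM : ∀ b : B, b ∉ Q → (1 : C') ⊗ₜ[A] b ∈ M)
    [Algebra C' T] [IsScalarTower C' (C' ⊗[A] B) T] : Module.Flat C' T := by
  let φ : C' ⊗[A] B →ₐ[C'] C' ⊗[A] Localization.AtPrime Q :=
    Algebra.TensorProduct.map (AlgHom.id C' C') (IsScalarTower.toAlgHom A B (Localization.AtPrime Q))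
  letI algFG : Algebra (C' ⊗[A] B) (C' ⊗[A] Localization.AtPrime Q) := φ.toRingHom.toAlgebra
  have tw : IsScalarTower C' (C' ⊗[A] B) (C' ⊗[A] Localization.AtPrime Q) :=
    IsScalarTower.of_algebraMap_eq (fun c => (φ.commutes c).symm)
  have H : (algebraMap (C' ⊗[A] B) (C' ⊗[A] Localization.AtPrime Q)).comp
      (Algebra.TensorProduct.includeRight : B →ₐ[A] C' ⊗[A] B).toRingHom =
      (Algebra.TensorProduct.includeRight : Localization.AtPrime Q →ₐ[A]
        C' ⊗[A] Localization.AtPrime Q).toRingHom.comp (algebraMap B (Localization.AtPrime Q)) := by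
    refine RingHom.ext fun b => ?_
    change φ ((1 : C') ⊗ₜ[A] b) = (1 : C') ⊗ₜ[A] (algebraMap B (Localization.AtPrime Q) b)
    rw [Algebra.TensorProduct.map_tmul]
    rfl
  have hloc : IsLocalization (Q.primeCompl.map
      (Algebra.TensorProduct.includeRight (R := A) (A := C')))
      (C' ⊗[A] Localization.AtPrime Q) :=
    IsLocalization.tensorProduct_tensorProduct_right A C' Q.primeCompl (Localization.AtPrime Q) H
  have hle : Q.primeCompl.map (Algebra.TensorProduct.includeRight (R := A) (A := C')) ≤ M := by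
    rintro _ ⟨b, hb, rfl⟩
    exact hM b hb
  have hunits : ∀ y : Q.primeCompl.map (Algebra.TensorProduct.includeRight (R := A) (A := C')),
      IsUnit (algebraMap (C' ⊗[A] B) T y) :=
    fun y => IsLocalization.map_units T (⟨y, hle y.2⟩ : M)
  letI algGT : Algebra (C' ⊗[A] Localization.AtPrime Q) T := (IsLocalization.lift hunits).toAlgebra
  have tw2 : IsScalarTower (C' ⊗[A] B) (C' ⊗[A] Localization.AtPrime Q) T :=
    IsScalarTower.of_algebraMap_eq (fun x => (IsLocalization.lift_eq hunits x).symm)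
  have hloc2 : IsLocalization (M.map (algebraMap (C' ⊗[A] B) (C' ⊗[A] Localization.AtPrime Q))) T :=
    IsLocalization.isLocalization_of_submonoid_le (C' ⊗[A] Localization.AtPrime Q) T
      (Q.primeCompl.map (Algebra.TensorProduct.includeRight (R := A) (A := C'))) M hle
  have hfl1 : Module.Flat (C' ⊗[A] Localization.AtPrime Q) T :=
    IsLocalization.flat T (M.map (algebraMap (C' ⊗[A] B) (C' ⊗[A] Localization.AtPrime Q)))
  have hfl2 : Module.Flat C' (C' ⊗[A] Localization.AtPrime Q) := inferInstance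
  have tw3 : IsScalarTower C' (C' ⊗[A] Localization.AtPrime Q) T :=
    IsScalarTower.of_algebraMap_eq (fun c =>
      calc algebraMap C' T c = algebraMap (C' ⊗[A] B) T (algebraMap C' (C' ⊗[A] B) c) :=
            IsScalarTower.algebraMap_apply C' (C' ⊗[A] B) T c
        _ = algebraMap (C' ⊗[A] Localization.AtPrime Q) T
              (algebraMap (C' ⊗[A] B) (C' ⊗[A] Localization.AtPrime Q)
                (algebraMap C' (C' ⊗[A] B) c)) :=
            IsScalarTower.algebraMap_apply (C' ⊗[A] B) (C' ⊗[A] Localization.AtPrime Q) T _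
        _ = algebraMap (C' ⊗[A] Localization.AtPrime Q) T
              (algebraMap C' (C' ⊗[A] Localization.AtPrime Q) c) :=
            congrArg _ (IsScalarTower.algebraMap_apply C' (C' ⊗[A] B)
              (C' ⊗[A] Localization.AtPrime Q) c).symm)
  exact Module.Flat.trans C' (C' ⊗[A] Localization.AtPrime Q) T

end FL

section transfer

/-- Transfer of flatness from the ring quotient `S ⧸ 𝔞 S` to the tensor product
`(C ⧸ 𝔞) ⊗[C] S`. -/
theorem flat_quotient_tensor_of_flat_quotient {C S : Type u} [CommRing C] [CommRing S]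
    [Algebra C S] (𝔞 : Ideal C) (J : Ideal S) (hJ : J = 𝔞.map (algebraMap C S))
    [Algebra (C ⧸ 𝔞) (S ⧸ J)] [IsScalarTower C (C ⧸ 𝔞) (S ⧸ J)] [Module.Flat (C ⧸ 𝔞) (S ⧸ J)] :
    Module.Flat (C ⧸ 𝔞) ((C ⧸ 𝔞) ⊗[C] S) := by
  subst hJ
  let ℓ1 : ((C ⧸ 𝔞) ⊗[C] S) ≃ₗ[C] S ⧸ (𝔞 • (⊤ : Submodule C S)) :=
    TensorProduct.quotTensorEquivQuotSMul S 𝔞
  let ℓ2 : (S ⧸ (𝔞 • (⊤ : Submodule C S))) ≃ₗ[C]
      S ⧸ ((𝔞.map (algebraMap C S)).restrictScalars C) :=
    Submodule.quotEquivOfEq _ _ (Ideal.smul_top_eq_map 𝔞)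
  let ℓ3 : (S ⧸ ((𝔞.map (algebraMap C S)).restrictScalars C)) ≃ₗ[C]
      S ⧸ (𝔞.map (algebraMap C S)) :=
    Submodule.Quotient.restrictScalarsEquiv C (𝔞.map (algebraMap C S))
  let ℓ : ((C ⧸ 𝔞) ⊗[C] S) ≃ₗ[C] S ⧸ (𝔞.map (algebraMap C S)) := ℓ1 ≪≫ₗ ℓ2 ≪≫ₗ ℓ3
  exact Module.Flat.of_linearEquiv
    (LinearEquiv.extendScalarsOfSurjective Ideal.Quotient.mk_surjective ℓ)

end transfer

section T1

variable {A B C D : Type u} [CommRing A] [CommRing B] [CommRing C] [CommRing D]
  [Algebra A B] [Algebra A C] [IsNoetherianRing B] [IsNoetherianRing D]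

/-- Flatness modulo a module-finite quotient: if `C ⧸ 𝔞` is finite over `A` and `B_Q` is flat over
`A` (`Q = q ∩ B`), then `D_q ⧸ 𝔞 D_q` is flat over `C ⧸ 𝔞`, in the tensor product form. -/
theorem flat_quotient_tensor_atPrime (I : Ideal A) [IsAdicComplete (I.map (algebraMap A B)) B]
    (β : B →+* D) [Algebra C D] (H : IsCPushout I (algebraMap A B) (algebraMap A C) β (algebraMap C D))
    (KD : Ideal D) (hKD : KD = I.map ((algebraMap C D).comp (algebraMap A C))) [IsAdicComplete KD D]
    (q : Ideal D) [q.IsPrime] [Module.Flat A (Localization.AtPrime (q.comap β))]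
    (𝔞 : Ideal C) [Module.Finite A (C ⧸ 𝔞)] :
    Module.Flat (C ⧸ 𝔞) ((C ⧸ 𝔞) ⊗[C] Localization.AtPrime q) := by
  obtain ⟨e, heγ, heβ⟩ := exists_ringEquiv_quotient_tensor I β (algebraMap C D) H KD hKD 𝔞
  -- `Sn = D_q ⧸ 𝔞 D_q` as a localization of `F = (C ⧸ 𝔞) ⊗[A] B`
  letI algFS : Algebra ((C ⧸ 𝔞) ⊗[A] B) (Localization.AtPrime q ⧸
      (𝔞.map (algebraMap C D)).map (algebraMap D (Localization.AtPrime q))) :=
    ((algebraMap (D ⧸ 𝔞.map (algebraMap C D)) (Localization.AtPrime q ⧸
      (𝔞.map (algebraMap C D)).map (algebraMap D (Localization.AtPrime q)))).comp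
        e.symm.toRingHom).toAlgebra
  have hlocF := IsLocalization.isLocalization_of_base_ringEquiv
    (Algebra.algebraMapSubmonoid (D ⧸ 𝔞.map (algebraMap C D)) q.primeCompl)
    (Localization.AtPrime q ⧸ (𝔞.map (algebraMap C D)).map (algebraMap D (Localization.AtPrime q))) e
  letI algCS : Algebra (C ⧸ 𝔞) (Localization.AtPrime q ⧸
      (𝔞.map (algebraMap C D)).map (algebraMap D (Localization.AtPrime q))) :=
    ((algebraMap ((C ⧸ 𝔞) ⊗[A] B) (Localization.AtPrime q ⧸
      (𝔞.map (algebraMap C D)).map (algebraMap D (Localization.AtPrime q)))).comp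
        (algebraMap (C ⧸ 𝔞) ((C ⧸ 𝔞) ⊗[A] B))).toAlgebra
  have tw : IsScalarTower (C ⧸ 𝔞) ((C ⧸ 𝔞) ⊗[A] B) (Localization.AtPrime q ⧸
      (𝔞.map (algebraMap C D)).map (algebraMap D (Localization.AtPrime q))) :=
    ⟨fun c x s => by
      rw [Algebra.smul_def, Algebra.smul_def c x, map_mul, mul_assoc, Algebra.smul_def c,
        Algebra.smul_def x]
      rfl⟩
  have hM : ∀ b : B, b ∉ q.comap β → (1 : C ⧸ 𝔞) ⊗ₜ[A] b ∈
      (Algebra.algebraMapSubmonoid (D ⧸ 𝔞.map (algebraMap C D)) q.primeCompl).map e := by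
    intro b hb
    refine ⟨Ideal.Quotient.mk _ (β b), ?_, heβ b⟩
    exact ⟨β b, hb, rfl⟩
  have hflatS : Module.Flat (C ⧸ 𝔞) (Localization.AtPrime q ⧸
      (𝔞.map (algebraMap C D)).map (algebraMap D (Localization.AtPrime q))) :=
    flat_of_isLocalization_tensorProduct (q.comap β)
      ((Algebra.algebraMapSubmonoid (D ⧸ 𝔞.map (algebraMap C D)) q.primeCompl).map e) hM
  have hJ : (𝔞.map (algebraMap C D)).map (algebraMap D (Localization.AtPrime q)) =
      𝔞.map (algebraMap C (Localization.AtPrime q)) := by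
    rw [Ideal.map_map, ← IsScalarTower.algebraMap_eq]
  have tw2 : IsScalarTower C (C ⧸ 𝔞) (Localization.AtPrime q ⧸
      (𝔞.map (algebraMap C D)).map (algebraMap D (Localization.AtPrime q))) := by
    refine IsScalarTower.of_algebraMap_eq (fun c => ?_)
    change _ = algebraMap (D ⧸ 𝔞.map (algebraMap C D)) (Localization.AtPrime q ⧸
      (𝔞.map (algebraMap C D)).map (algebraMap D (Localization.AtPrime q)))
      (e.symm ((Ideal.Quotient.mk 𝔞 c) ⊗ₜ[A] (1 : B)))
    rw [← heγ c, e.symm_apply_apply]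
    rfl
  exact flat_quotient_tensor_of_flat_quotient 𝔞 _ hJ

/-- **Flatness of a completed pushout at primes with module-finite residue ring**: if
`P = q ∩ C` has `C ⧸ P` finite over `A` and `B_Q` (`Q = q ∩ B`) is flat over `A`, then `D_q` is
flat over `C`. -/
theorem flat_atPrime_of_isCPushout [IsNoetherianRing C] (I : Ideal A)
    [IsAdicComplete (I.map (algebraMap A B)) B]
    (β : B →+* D) [Algebra C D] (H : IsCPushout I (algebraMap A B) (algebraMap A C) β (algebraMap C D))
    (KD : Ideal D) (hKD : KD = I.map ((algebraMap C D).comp (algebraMap A C))) [IsAdicComplete KD D]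
    (q : Ideal D) [q.IsPrime] [Module.Flat A (Localization.AtPrime (q.comap β))]
    [Module.Finite A (C ⧸ q.comap (algebraMap C D))] :
    Module.Flat C (Localization.AtPrime q) := by
  have hnoeth : IsNoetherianRing (Localization.AtPrime q) :=
    IsLocalization.isNoetherianRing q.primeCompl _ inferInstance
  refine Groth.Agent.H2.flat_of_flat_quotient_pow (S := Localization.AtPrime q)
    (q.comap (algebraMap C D)) ?_ ?_
  · rw [IsLocalRing.jacobson_eq_maximalIdeal ⊥ bot_ne_top,
      ← Localization.AtPrime.map_eq_maximalIdeal (I := q),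
      IsScalarTower.algebraMap_eq C D (Localization.AtPrime q), ← Ideal.map_map]
    exact Ideal.map_mono Ideal.map_comap_le
  · intro n _
    have hfin : Module.Finite A (C ⧸ (q.comap (algebraMap C D)) ^ n) :=
      finite_quotient_pow (q.comap (algebraMap C D)) n
    exact flat_quotient_tensor_atPrime I β H KD hKD q ((q.comap (algebraMap C D)) ^ n)

end T1

end Groth.Agent.H57.CL
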