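import Mathlib
import Groth.Agent.H57.CPushoutFlat
import Groth.Agent.H57.ComplLocRigFin
import Groth.Agent.H57.RigFlatEtale

/-!
# Base change of rig-flatness along a completed pushout (helper57)
-/

set_option autoImplicit false
set_option linter.style.haveILetI false
universe u
open scoped TensorProduct

namespace Groth.Agent.H57.CL

open Groth.Agent.H44

section core

variable {A B C D : Type u} [CommRing A] [CommRing B] [CommRing C] [CommRing D]
  [Algebra A B] [Algebra A C] [Algebra A D] [Algebra B D] [Algebra C D]
  [IsScalarTower A B D] [IsScalarTower A C D]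
  [IsNoetherianRing A] [IsNoetherianRing B] [IsNoetherianRing C] [IsNoetherianRing D]

/-- Core step: flatness of `(D_{f})_{q₂}` over `C_{f}` for a completed pushout, when `D_{f} ⧸ q₂`
is finite over `A_{f}`. -/
theorem flat_atPrime_cl_of_isCPushout (I : Ideal A)
    (H : IsCPushout I (algebraMap A B) (algebraMap A C) (algebraMap B D) (algebraMap C D))
    (hAB : ∀ f : A, RigFlatAt I (I.map (algebraMap A B)) f) (f : A)
    (hKCD : (I.map (algebraMap A C)).map (algebraMap C D) = I.map (algebraMap A D))
    (hxC : algebraMap C D (algebraMap A C f) = algebraMap A D f)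
    (q₂ : Ideal (Cl (I.map (algebraMap A D)) (algebraMap A D f))) [q₂.IsPrime]
    (hq₂ : ¬ clIdeal (I.map (algebraMap A D)) (algebraMap A D f) ≤ q₂)
    (hfin : ((Ideal.Quotient.mk q₂).comp (canMap I (I.map (algebraMap A D)) le_rfl f)).Finite) :
    ((algebraMap (Cl (I.map (algebraMap A D)) (algebraMap A D f)) (Localization.AtPrime q₂)).comp
      (clMap (algebraMap C D) (I.map (algebraMap A C)) (I.map (algebraMap A D))
        (le_of_eq hKCD) (algebraMap A C f) (algebraMap A D f) hxC)).Flat := by
  have hNAf : IsNoetherianRing (Localization.Away f) :=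
    IsLocalization.isNoetherianRing (Submonoid.powers f) _ inferInstance
  have hNBf : IsNoetherianRing (Localization.Away (algebraMap A B f)) :=
    IsLocalization.isNoetherianRing (Submonoid.powers (algebraMap A B f)) _ inferInstance
  have hNCf : IsNoetherianRing (Localization.Away (algebraMap A C f)) :=
    IsLocalization.isNoetherianRing (Submonoid.powers (algebraMap A C f)) _ inferInstance
  have hNDf : IsNoetherianRing (Localization.Away (algebraMap A D f)) :=
    IsLocalization.isNoetherianRing (Submonoid.powers (algebraMap A D f)) _ inferInstance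
  have hKBD : (I.map (algebraMap A B)).map (algebraMap B D) = I.map (algebraMap A D) := by
    rw [Ideal.map_map, ← IsScalarTower.algebraMap_eq]
  have hxB : algebraMap B D (algebraMap A B f) = algebraMap A D f :=
    (IsScalarTower.algebraMap_apply A B D f).symm
  let ψAD : Cl I f →+* Cl (I.map (algebraMap A D)) (algebraMap A D f) :=
    canMap I (I.map (algebraMap A D)) le_rfl f
  let ψAB : Cl I f →+* Cl (I.map (algebraMap A B)) (algebraMap A B f) :=
    canMap I (I.map (algebraMap A B)) le_rfl f
  let ψAC : Cl I f →+* Cl (I.map (algebraMap A C)) (algebraMap A C f) :=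
    canMap I (I.map (algebraMap A C)) le_rfl f
  have hψAB := canMap_comp_algebraMap I (I.map (algebraMap A B)) le_rfl f
  let ψBD : Cl (I.map (algebraMap A B)) (algebraMap A B f) →+*
      Cl (I.map (algebraMap A D)) (algebraMap A D f) :=
    clMap (algebraMap B D) _ _ (le_of_eq hKBD) (algebraMap A B f) (algebraMap A D f) hxB
  let ψCD : Cl (I.map (algebraMap A C)) (algebraMap A C f) →+*
      Cl (I.map (algebraMap A D)) (algebraMap A D f) :=
    clMap (algebraMap C D) _ _ (le_of_eq hKCD) (algebraMap A C f) (algebraMap A D f) hxC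
  have hcommB : ψBD.comp ψAB = ψAD :=
    clMap_comp (algebraMap A B) (algebraMap B D) (algebraMap A D)
      (IsScalarTower.algebraMap_eq A B D).symm _ _ _ _ _ _ _ _ _ _ _ _
  have hcommC : ψCD.comp ψAC = ψAD :=
    clMap_comp (algebraMap A C) (algebraMap C D) (algebraMap A D)
      (IsScalarTower.algebraMap_eq A C D).symm _ _ _ _ _ _ _ _ _ _ _ _
  -- algebra instances
  letI algAB₂ : Algebra (Cl I f) (Cl (I.map (algebraMap A B)) (algebraMap A B f)) := ψAB.toAlgebra
  letI algAC₂ : Algebra (Cl I f) (Cl (I.map (algebraMap A C)) (algebraMap A C f)) := ψAC.toAlgebra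
  letI algCD₂ : Algebra (Cl (I.map (algebraMap A C)) (algebraMap A C f))
      (Cl (I.map (algebraMap A D)) (algebraMap A D f)) := ψCD.toAlgebra
  letI algAD₂ : Algebra (Cl I f) (Cl (I.map (algebraMap A D)) (algebraMap A D f)) := ψAD.toAlgebra
  have twACD₂ : IsScalarTower (Cl I f) (Cl (I.map (algebraMap A C)) (algebraMap A C f))
      (Cl (I.map (algebraMap A D)) (algebraMap A D f)) :=
    IsScalarTower.of_algebraMap_eq (fun a => (RingHom.congr_fun hcommC a).symm)
  have H₂ : IsCPushout (clIdeal I f)
      (algebraMap (Cl I f) (Cl (I.map (algebraMap A B)) (algebraMap A B f)))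
      (algebraMap (Cl I f) (Cl (I.map (algebraMap A C)) (algebraMap A C f))) ψBD
      (algebraMap (Cl (I.map (algebraMap A C)) (algebraMap A C f))
        (Cl (I.map (algebraMap A D)) (algebraMap A D f))) :=
    H.cl_base (IsNoetherian.noetherian I) (I.map (algebraMap A B)) (I.map (algebraMap A C))
      (I.map (algebraMap A D)) rfl rfl hKCD.symm (le_of_eq hKBD) f (algebraMap A B f)
      (algebraMap A C f) (algebraMap A D f) rfl rfl hxB hxC
  have hcomplB₂ : IsAdicComplete ((clIdeal I f).map
      (algebraMap (Cl I f) (Cl (I.map (algebraMap A B)) (algebraMap A B f))))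
      (Cl (I.map (algebraMap A B)) (algebraMap A B f)) := by
    have h1 : (clIdeal I f).map (algebraMap (Cl I f)
        (Cl (I.map (algebraMap A B)) (algebraMap A B f))) =
        clIdeal (I.map (algebraMap A B)) (algebraMap A B f) :=
      map_canMap_clIdeal I (I.map (algebraMap A B)) rfl f
    rw [h1]
    exact isAdicComplete_cl _ _
  have hKD₂ : clIdeal (I.map (algebraMap A D)) (algebraMap A D f) =
      (clIdeal I f).map ((algebraMap (Cl (I.map (algebraMap A C)) (algebraMap A C f))
        (Cl (I.map (algebraMap A D)) (algebraMap A D f))).comp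
        (algebraMap (Cl I f) (Cl (I.map (algebraMap A C)) (algebraMap A C f)))) := by
    have h1 : (algebraMap (Cl (I.map (algebraMap A C)) (algebraMap A C f))
        (Cl (I.map (algebraMap A D)) (algebraMap A D f))).comp
        (algebraMap (Cl I f) (Cl (I.map (algebraMap A C)) (algebraMap A C f))) = ψAD := hcommC
    rw [h1]
    exact (map_canMap_clIdeal I (I.map (algebraMap A D)) rfl f).symm
  have hcomplD₂ : IsAdicComplete (clIdeal (I.map (algebraMap A D)) (algebraMap A D f))
      (Cl (I.map (algebraMap A D)) (algebraMap A D f)) := isAdicComplete_cl _ _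
  -- flatness of `(B₂)_Q` over `A₂`
  have hQ₂ : ¬ clIdeal (I.map (algebraMap A B)) (algebraMap A B f) ≤ q₂.comap ψBD := by
    intro h
    apply hq₂
    rw [← map_clMap_clIdeal (I.map (algebraMap A B)) (I.map (algebraMap A D)) hKBD
      (algebraMap A B f) (algebraMap A D f) hxB]
    exact Ideal.map_le_iff_le_comap.mpr h
  have hQ₂prime : (q₂.comap ψBD).IsPrime := Ideal.comap_isPrime _ _
  have h5c := ringHom_flat_atPrime_of_forall_isRigClosed ψAB
    (clIdeal (I.map (algebraMap A B)) (algebraMap A B f))
    (fun q hq => hAB f ψAB hψAB q hq) (q₂.comap ψBD) hQ₂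
  have hflatQ : Module.Flat (Cl I f) (Localization.AtPrime (q₂.comap ψBD)) := by
    rw [← RingHom.flat_algebraMap_iff, IsScalarTower.algebraMap_eq (Cl I f)
      (Cl (I.map (algebraMap A B)) (algebraMap A B f)) (Localization.AtPrime (q₂.comap ψBD))]
    exact h5c
  -- finiteness of `C₂ ⧸ (q₂ ∩ C₂)` over `A₂`
  have hfinD : Module.Finite (Cl I f) (Cl (I.map (algebraMap A D)) (algebraMap A D f) ⧸ q₂) :=
    RingHom.finite_algebraMap.mp hfin
  have hnoethD : IsNoetherian (Cl I f) (Cl (I.map (algebraMap A D)) (algebraMap A D f) ⧸ q₂) :=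
    isNoetherian_of_isNoetherianRing_of_finite _ _
  have hfinC : Module.Finite (Cl I f) (Cl (I.map (algebraMap A C)) (algebraMap A C f) ⧸
      q₂.comap (algebraMap (Cl (I.map (algebraMap A C)) (algebraMap A C f))
        (Cl (I.map (algebraMap A D)) (algebraMap A D f)))) := by
    refine Module.Finite.of_injective (Ideal.quotientMapₐ q₂ (IsScalarTower.toAlgHom (Cl I f)
      (Cl (I.map (algebraMap A C)) (algebraMap A C f))
      (Cl (I.map (algebraMap A D)) (algebraMap A D f))) le_rfl).toLinearMap ?_
    exact Ideal.quotientMap_injective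
  have hmain := flat_atPrime_of_isCPushout (clIdeal I f) ψBD H₂
    (clIdeal (I.map (algebraMap A D)) (algebraMap A D f)) hKD₂ q₂
  rw [← RingHom.flat_algebraMap_iff, IsScalarTower.algebraMap_eq
    (Cl (I.map (algebraMap A C)) (algebraMap A C f))
    (Cl (I.map (algebraMap A D)) (algebraMap A D f)) (Localization.AtPrime q₂)] at hmain
  exact hmain

/-- **Base change of rig-flatness along a completed pushout, naive form**: `D_{q'}` is flat over
`C` for every rig-closed prime `q'` of `D`. -/
theorem flat_atPrime_of_rigFlat_of_isCPushout (I : Ideal A)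
    [IsAdicComplete (I.map (algebraMap A D)) D]
    (H : IsCPushout I (algebraMap A B) (algebraMap A C) (algebraMap B D) (algebraMap C D))
    (hAB : ∀ f : A, RigFlatAt I (I.map (algebraMap A B)) f)
    (hftD : Algebra.FiniteType A (D ⧸ I.map (algebraMap A D)))
    (q' : PrimeSpectrum D) (hq' : IsRigClosed (I.map (algebraMap A D)) q') :
    ((algebraMap D (Localization.AtPrime q'.asIdeal)).comp (algebraMap C D)).Flat := by
  have hq'prime : q'.asIdeal.IsPrime := q'.2
  -- Step 1: the element `f`
  obtain ⟨f, hfunit, hf⟩ := exists_isRigClosed_comap_finite I hftD q' hq'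
  have hNCf : IsNoetherianRing (Localization.Away (algebraMap A C f)) :=
    IsLocalization.isNoetherianRing (Submonoid.powers (algebraMap A C f)) _ inferInstance
  have hNDf : IsNoetherianRing (Localization.Away (algebraMap A D f)) :=
    IsLocalization.isNoetherianRing (Submonoid.powers (algebraMap A D f)) _ inferInstance
  obtain ⟨⟨hp₂prime, hp₂rig⟩, hfin⟩ := hf (canMap I (I.map (algebraMap A D)) le_rfl f)
    (canMap_comp_algebraMap I (I.map (algebraMap A D)) le_rfl f)
  have hKCD : (I.map (algebraMap A C)).map (algebraMap C D) = I.map (algebraMap A D) := by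
    rw [Ideal.map_map, ← IsScalarTower.algebraMap_eq]
  have hxC : algebraMap C D (algebraMap A C f) = algebraMap A D f :=
    (IsScalarTower.algebraMap_apply A C D f).symm
  -- Step 3: the prime `q₂ = q' D_{f}`
  obtain ⟨v, hv⟩ := hfunit.exists_right_inv
  obtain ⟨u, rfl⟩ := Ideal.Quotient.mk_surjective v
  have hu : algebraMap A D f * u - 1 ∈ q'.asIdeal := by
    rw [← Ideal.Quotient.eq, map_mul, hv, map_one]
  have hbij := quotientMap_completedLocalization_bijective (I.map (algebraMap A D)) q'.asIdeal
    (algebraMap A D f) u hu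
  have hq₂prime : (q'.asIdeal.map (algebraMap D
      (Cl (I.map (algebraMap A D)) (algebraMap A D f)))).IsPrime := by
    rw [← Ideal.Quotient.isDomain_iff_prime]
    exact (RingEquiv.ofBijective _ hbij).toMulEquiv.symm.isDomain
  have hq₂rig0 := isRigClosed_map_of_bijective (I.map (algebraMap A D)) q' hq' hbij hq₂prime
  have hKD₂ : (I.map (algebraMap A D)).map (algebraMap D
      (Cl (I.map (algebraMap A D)) (algebraMap A D f))) =
      clIdeal (I.map (algebraMap A D)) (algebraMap A D f) :=
    (Ideal.map_map (algebraMap D (Localization.Away (algebraMap A D f)))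
      (algebraMap (Localization.Away (algebraMap A D f))
        (Cl (I.map (algebraMap A D)) (algebraMap A D f)))).symm
  rw [hKD₂] at hq₂rig0
  have hq₂comap := comap_map_eq_of_injective q'.asIdeal hbij.1
  -- the core
  have h7 := flat_atPrime_cl_of_isCPushout I H hAB f hKCD hxC
    (q'.asIdeal.map (algebraMap D (Cl (I.map (algebraMap A D)) (algebraMap A D f)))) hq₂rig0.1 hfin
  -- Step 8: pass to `C → C_{f}` and `D → D_{f}`
  have hγflat : (algebraMap C (Cl (I.map (algebraMap A C)) (algebraMap A C f))).Flat :=
    RingHom.flat_algebraMap_iff.mpr (flat_algebraMap_cl _ _)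
  have hδflat : (algebraMap D (Cl (I.map (algebraMap A D)) (algebraMap A D f))).Flat :=
    RingHom.flat_algebraMap_iff.mpr (flat_algebraMap_cl _ _)
  have hsq : (clMap (algebraMap C D) (I.map (algebraMap A C)) (I.map (algebraMap A D))
      (le_of_eq hKCD) (algebraMap A C f) (algebraMap A D f) hxC).comp
        (algebraMap C (Cl (I.map (algebraMap A C)) (algebraMap A C f))) =
      (algebraMap D (Cl (I.map (algebraMap A D)) (algebraMap A D f))).comp (algebraMap C D) := by
    refine RingHom.ext fun c => ?_
    simp only [RingHom.comp_apply]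
    rw [IsScalarTower.algebraMap_apply C (Localization.Away (algebraMap A C f))
      (Cl (I.map (algebraMap A C)) (algebraMap A C f)), clMap_algebraMap, awayMap'_algebraMap]
    rfl
  -- Step 9: descent along `D_{q'} → (D_{f})_{q₂}`
  have hlocflat : (algebraMap (Cl (I.map (algebraMap A D)) (algebraMap A D f))
      (Localization.AtPrime (q'.asIdeal.map (algebraMap D
        (Cl (I.map (algebraMap A D)) (algebraMap A D f)))))).Flat :=
    RingHom.flat_algebraMap_iff.mpr (IsLocalization.flat _ (Ideal.primeCompl
      (q'.asIdeal.map (algebraMap D (Cl (I.map (algebraMap A D)) (algebraMap A D f))))))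
  have hσflat := flat_localRingHom_of_flat_comp
    (algebraMap D (Cl (I.map (algebraMap A D)) (algebraMap A D f)))
    (q'.asIdeal.map (algebraMap D (Cl (I.map (algebraMap A D)) (algebraMap A D f))))
    q'.asIdeal hq₂comap.symm (RingHom.Flat.comp hδflat hlocflat)
  have hσff : (Localization.localRingHom q'.asIdeal
      (q'.asIdeal.map (algebraMap D (Cl (I.map (algebraMap A D)) (algebraMap A D f))))
      (algebraMap D (Cl (I.map (algebraMap A D)) (algebraMap A D f)))
      hq₂comap.symm).FaithfullyFlat := by
    letI := (Localization.localRingHom q'.asIdeal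
      (q'.asIdeal.map (algebraMap D (Cl (I.map (algebraMap A D)) (algebraMap A D f))))
      (algebraMap D (Cl (I.map (algebraMap A D)) (algebraMap A D f))) hq₂comap.symm).toAlgebra
    have hfl : Module.Flat (Localization.AtPrime q'.asIdeal)
        (Localization.AtPrime (q'.asIdeal.map (algebraMap D
          (Cl (I.map (algebraMap A D)) (algebraMap A D f))))) :=
      RingHom.flat_algebraMap_iff.mp hσflat
    have hlh : IsLocalHom (algebraMap (Localization.AtPrime q'.asIdeal)
        (Localization.AtPrime (q'.asIdeal.map (algebraMap D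
          (Cl (I.map (algebraMap A D)) (algebraMap A D f)))))) :=
      Localization.isLocalHom_localRingHom _ _ _ hq₂comap.symm
    exact RingHom.faithfullyFlat_algebraMap_iff.mpr Module.FaithfullyFlat.of_flat_of_isLocalHom
  refine Groth.Agent.H10.ringHomFlat_of_comp_of_faithfullyFlat _ _ hσff ?_
  have hfinal : (Localization.localRingHom q'.asIdeal
      (q'.asIdeal.map (algebraMap D (Cl (I.map (algebraMap A D)) (algebraMap A D f))))
      (algebraMap D (Cl (I.map (algebraMap A D)) (algebraMap A D f))) hq₂comap.symm).comp
      ((algebraMap D (Localization.AtPrime q'.asIdeal)).comp (algebraMap C D)) =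
      ((algebraMap (Cl (I.map (algebraMap A D)) (algebraMap A D f))
        (Localization.AtPrime (q'.asIdeal.map (algebraMap D
          (Cl (I.map (algebraMap A D)) (algebraMap A D f)))))).comp
        (clMap (algebraMap C D) (I.map (algebraMap A C)) (I.map (algebraMap A D))
          (le_of_eq hKCD) (algebraMap A C f) (algebraMap A D f) hxC)).comp
        (algebraMap C (Cl (I.map (algebraMap A C)) (algebraMap A C f))) := by
    refine RingHom.ext fun c => ?_
    have e1 := RingHom.congr_fun hsq c
    simp only [RingHom.comp_apply] at e1 ⊢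
    rw [Localization.localRingHom_to_map, e1]
  rw [hfinal]
  exact RingHom.Flat.comp hγflat h7

end core

end Groth.Agent.H57.CL
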