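import Mathlib
import Groth.Agent.H57.CPushoutBC
import Groth.Agent.H57.CPushoutFT

/-!
# Rig-flatness is stable under completed base change (helper57)
-/

set_option autoImplicit false
set_option linter.style.haveILetI false
universe u
open scoped TensorProduct

namespace Groth.Agent.H57.CL

open Groth.Agent.H44

section abstractMain

variable {A B C D : Type u} [CommRing A] [CommRing B] [CommRing C] [CommRing D]
  [Algebra A B] [Algebra A C] [Algebra A D] [Algebra B D] [Algebra C D]
  [IsScalarTower A B D] [IsScalarTower A C D]
  [IsNoetherianRing A] [IsNoetherianRing B] [IsNoetherianRing C] [IsNoetherianRing D]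

/-- **Base change of rig-flatness along a completed pushout.** -/
theorem rigFlatAt_of_isCPushout (I : Ideal A)
    (H : IsCPushout I (algebraMap A B) (algebraMap A C) (algebraMap B D) (algebraMap C D))
    (hAB : ∀ f : A, RigFlatAt I (I.map (algebraMap A B)) f)
    (hftD : Algebra.FiniteType A (D ⧸ I.map (algebraMap A D))) (h : C) :
    RigFlatAt (I.map (algebraMap A C)) ((I.map (algebraMap A C)).map (algebraMap C D)) h := by
  intro ψ hψ q hq
  have hNCh : IsNoetherianRing (Localization.Away h) :=
    IsLocalization.isNoetherianRing (Submonoid.powers h) _ inferInstance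
  have hNDh : IsNoetherianRing (Localization.Away (algebraMap C D h)) :=
    IsLocalization.isNoetherianRing (Submonoid.powers (algebraMap C D h)) _ inferInstance
  have hKD : (I.map (algebraMap A C)).map (algebraMap C D) = I.map (algebraMap A D) := by
    rw [Ideal.map_map, ← IsScalarTower.algebraMap_eq]
  have hcomplDh : IsAdicComplete (clIdeal ((I.map (algebraMap A C)).map (algebraMap C D))
      (algebraMap C D h)) (Cl ((I.map (algebraMap A C)).map (algebraMap C D)) (algebraMap C D h)) :=
    isAdicComplete_cl _ _
  -- identify `ψ`
  have hψeq : ψ = canMap (I.map (algebraMap A C)) ((I.map (algebraMap A C)).map (algebraMap C D))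
      le_rfl h := by
    refine ringHom_ext _ (Ideal.FG.map (IsNoetherian.noetherian _) _) ψ _
      (clIdeal ((I.map (algebraMap A C)).map (algebraMap C D)) (algebraMap C D h)) ?_
      (hψ.trans (canMap_comp_algebraMap _ _ le_rfl h).symm)
    rw [hψ, ← Ideal.map_map]
    refine Ideal.map_mono ?_
    rw [← awayMap'_eq_awayMap]
    exact map_awayMap'_le (algebraMap C D) _ _ le_rfl h _ rfl
  subst hψeq
  -- instances
  letI algCD' : Algebra (Cl (I.map (algebraMap A C)) h)
      (Cl ((I.map (algebraMap A C)).map (algebraMap C D)) (algebraMap C D h)) :=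
    (canMap (I.map (algebraMap A C)) ((I.map (algebraMap A C)).map (algebraMap C D))
      le_rfl h).toAlgebra
  have twACD' : IsScalarTower A (Cl (I.map (algebraMap A C)) h)
      (Cl ((I.map (algebraMap A C)).map (algebraMap C D)) (algebraMap C D h)) :=
    IsScalarTower.of_algebraMap_eq (fun a => by
      have h1 := RingHom.congr_fun hψ (algebraMap C (Localization.Away h) (algebraMap A C a))
      simp only [RingHom.comp_apply] at h1
      have h2 : Localization.awayMap (algebraMap C D) h
          (algebraMap C (Localization.Away h) (algebraMap A C a)) =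
          algebraMap D (Localization.Away (algebraMap C D h))
            (algebraMap C D (algebraMap A C a)) := by
        simp [Localization.awayMap, IsLocalization.Away.map]
      rw [h2, ← IsScalarTower.algebraMap_apply A C D] at h1
      exact h1.symm)
  have twABD' : IsScalarTower A B
      (Cl ((I.map (algebraMap A C)).map (algebraMap C D)) (algebraMap C D h)) :=
    IsScalarTower.of_algebraMap_eq (fun a => by
      change algebraMap D _ (algebraMap A D a) = algebraMap D _ (algebraMap B D (algebraMap A B a))
      rw [← IsScalarTower.algebraMap_apply A B D])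
  -- ideals
  have hKD' : I.map (algebraMap A
      (Cl ((I.map (algebraMap A C)).map (algebraMap C D)) (algebraMap C D h))) =
      clIdeal ((I.map (algebraMap A C)).map (algebraMap C D)) (algebraMap C D h) := by
    have : algebraMap A
        (Cl ((I.map (algebraMap A C)).map (algebraMap C D)) (algebraMap C D h)) =
        ((algebraMap (Localization.Away (algebraMap C D h))
          (Cl ((I.map (algebraMap A C)).map (algebraMap C D)) (algebraMap C D h))).comp
          (algebraMap D (Localization.Away (algebraMap C D h)))).comp (algebraMap A D) := rfl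
    rw [this, ← Ideal.map_map, ← Ideal.map_map, ← hKD]
  have hcomplD' : IsAdicComplete (I.map (algebraMap A
      (Cl ((I.map (algebraMap A C)).map (algebraMap C D)) (algebraMap C D h))))
      (Cl ((I.map (algebraMap A C)).map (algebraMap C D)) (algebraMap C D h)) := by
    rw [hKD']
    exact isAdicComplete_cl _ _
  have H' : IsCPushout I (algebraMap A B) (algebraMap A (Cl (I.map (algebraMap A C)) h))
      (algebraMap B (Cl ((I.map (algebraMap A C)).map (algebraMap C D)) (algebraMap C D h)))
      (algebraMap (Cl (I.map (algebraMap A C)) h)
        (Cl ((I.map (algebraMap A C)).map (algebraMap C D)) (algebraMap C D h))) :=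
    H.cl_right (IsNoetherian.noetherian I) (I.map (algebraMap A C))
      ((I.map (algebraMap A C)).map (algebraMap C D)) rfl rfl h (algebraMap C D h) rfl
  have hftD0 : Algebra.FiniteType A (D ⧸ (I.map (algebraMap A C)).map (algebraMap C D)) :=
    Algebra.FiniteType.equiv hftD (Ideal.quotientEquivAlgOfEq A hKD.symm)
  have hftD' : Algebra.FiniteType A
      (Cl ((I.map (algebraMap A C)).map (algebraMap C D)) (algebraMap C D h) ⧸
        I.map (algebraMap A
          (Cl ((I.map (algebraMap A C)).map (algebraMap C D)) (algebraMap C D h)))) :=
    finiteType_cl_quotient (R := A) ((I.map (algebraMap A C)).map (algebraMap C D))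
      (algebraMap C D h) hftD0 (IsNoetherian.noetherian _) _ hKD'
  have hq' : IsRigClosed (I.map (algebraMap A
      (Cl ((I.map (algebraMap A C)).map (algebraMap C D)) (algebraMap C D h)))) q := by
    rw [hKD']
    exact hq
  exact flat_atPrime_of_rigFlat_of_isCPushout I H' hAB hftD' q hq'

end abstractMain

section literalMain

variable {A : Type u} [CommRing A] [IsNoetherianRing A] {B : Type u} [CommRing B] [Algebra A B]
  [IsNoetherianRing B] {C : Type u} [CommRing C] [Algebra A C] [IsNoetherianRing C]

/-- **Rig-flatness is stable under completed base change** (literal completed tensor product). -/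
theorem rigFlatAt_completedTensor (I : Ideal A)
    (hft : Algebra.FiniteType A (B ⧸ I.map (algebraMap A B)))
    (hAB : ∀ f : A, RigFlatAt I (I.map (algebraMap A B)) f)
    (hftC : Algebra.FiniteType A (C ⧸ I.map (algebraMap A C))) (h : C) :
    RigFlatAt (I.map (algebraMap A C)) ((I.map (algebraMap A C)).map (algebraMap C
      (AdicCompletion ((I.map (algebraMap A C)).map (algebraMap C (C ⊗[A] B))) (C ⊗[A] B)))) h := by
  have hI : I.FG := IsNoetherian.noetherian I
  have hKE : ((I.map (algebraMap A C)).map (algebraMap C (C ⊗[A] B))).FG := (hI.map _).map _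
  have hftD := finiteType_quotient_completedTensor I hI hft hftC
  have hKEmap : ((I.map (algebraMap A C)).map (algebraMap C (C ⊗[A] B))).map
      (algebraMap (C ⊗[A] B) (AdicCompletion ((I.map (algebraMap A C)).map
        (algebraMap C (C ⊗[A] B))) (C ⊗[A] B))) = I.map (algebraMap A _) :=
    calc ((I.map (algebraMap A C)).map (algebraMap C (C ⊗[A] B))).map
          (algebraMap (C ⊗[A] B) (AdicCompletion ((I.map (algebraMap A C)).map
            (algebraMap C (C ⊗[A] B))) (C ⊗[A] B)))
        = (I.map ((algebraMap C (C ⊗[A] B)).comp (algebraMap A C))).map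
          (algebraMap (C ⊗[A] B) (AdicCompletion ((I.map (algebraMap A C)).map
            (algebraMap C (C ⊗[A] B))) (C ⊗[A] B))) :=
          congrArg (Ideal.map _) (Ideal.map_map _ _)
      _ = I.map ((algebraMap (C ⊗[A] B) (AdicCompletion ((I.map (algebraMap A C)).map
            (algebraMap C (C ⊗[A] B))) (C ⊗[A] B))).comp
            ((algebraMap C (C ⊗[A] B)).comp (algebraMap A C))) := Ideal.map_map _ _
      _ = I.map (algebraMap A _) := by
          congr 1
  have hcomplD : IsAdicComplete (I.map (algebraMap A (AdicCompletion
      ((I.map (algebraMap A C)).map (algebraMap C (C ⊗[A] B))) (C ⊗[A] B))))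
      (AdicCompletion ((I.map (algebraMap A C)).map (algebraMap C (C ⊗[A] B))) (C ⊗[A] B)) :=
    hKEmap ▸ AdicCompletion.isAdicComplete_self _ hKE
  have hND : IsNoetherianRing (AdicCompletion ((I.map (algebraMap A C)).map
      (algebraMap C (C ⊗[A] B))) (C ⊗[A] B)) := Groth.Agent.S8800.result A I _ hftD
  have H := isCPushout_adicCompletion_tensorProduct (B := B) (C := C) I hI
  letI algBD : Algebra B (AdicCompletion ((I.map (algebraMap A C)).map
      (algebraMap C (C ⊗[A] B))) (C ⊗[A] B)) :=
    ((algebraMap (C ⊗[A] B) (AdicCompletion ((I.map (algebraMap A C)).map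
      (algebraMap C (C ⊗[A] B))) (C ⊗[A] B))).comp
        (Algebra.TensorProduct.includeRight : B →ₐ[A] C ⊗[A] B).toRingHom).toAlgebra
  have twABD : IsScalarTower A B (AdicCompletion ((I.map (algebraMap A C)).map
      (algebraMap C (C ⊗[A] B))) (C ⊗[A] B)) :=
    IsScalarTower.of_algebraMap_eq (fun a => by
      have h1 := RingHom.congr_fun H.comm a
      simp only [RingHom.comp_apply] at h1
      rw [IsScalarTower.algebraMap_apply A C]
      exact h1.symm)
  exact rigFlatAt_of_isCPushout I H hAB hftD h

end literalMain

end Groth.Agent.H57.CL
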