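import Mathlib
import Groth.Agent.H89.ComplFinite
import Groth.Agent.H89.IdemLocal
import Groth.Agent.H89.FinProdLocal
import Groth.Agent.H44.AdicLemmas

/-!
# Complete semi-local rings

A Noetherian ring `S`, complete for an ideal `J` with `S ⧸ J` Artinian, is the product of its
localizations at its maximal ideals, and these are complete local rings.
Also: dimension of a flat local extension with Artinian closed fibre.
-/

set_option autoImplicit false
universe u

namespace Groth.Agent.H57.CTens

open IsLocalRing

/-- a ring isomorphic to a finite product of local rings maps bijectively onto the product of its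
localizations at maximal ideals -/
theorem toPiLocalization_bijective_of_equiv_pi {B : Type u} [CommRing B] {ι : Type u} [Fintype ι]
    (C : ι → Type u) [∀ j, CommRing (C j)] [∀ j, IsLocalRing (C j)] (e : B ≃+* (∀ j, C j)) :
    Function.Bijective (MaximalSpectrum.toPiLocalization B) := by
  refine ⟨MaximalSpectrum.toPiLocalization_injective B, ?_⟩
  have hsurj := Groth.Agent.H89.toPiLocalization_pi_surjective C
  have hnat := MaximalSpectrum.mapPiLocalization_naturality (e : B →+* (∀ j, C j)) e.bijective
  have hb := MaximalSpectrum.mapPiLocalization_bijective (e : B →+* (∀ j, C j)) e.bijective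
  intro x
  obtain ⟨p, hp⟩ := hsurj (MaximalSpectrum.mapPiLocalization (e : B →+* (∀ j, C j)) e.bijective x)
  refine ⟨e.symm p, ?_⟩
  apply hb.1
  have := congrArg (fun t => t (e.symm p)) hnat
  simp only [RingHom.comp_apply] at this
  refine Eq.trans this ?_
  rw [← hp]
  change (MaximalSpectrum.toPiLocalization ((j : ι) → C j)) (e (e.symm p)) = _
  rw [e.apply_symm_apply]

/-- a ring complete for an ideal with Artinian quotient is the product of its localizations at
maximal ideals -/
theorem toPiLocalization_bijective_of_complete {S : Type u} [CommRing S] (J : Ideal S)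
    [IsAdicComplete J S] [IsArtinianRing (S ⧸ J)] :
    Function.Bijective (MaximalSpectrum.toPiLocalization S) := by
  classical
  have hlift := Groth.Agent.H89.idem_lift_of_henselianRing J
  have hJ : J ≤ Ideal.jacobson (⊥ : Ideal S) := IsAdicComplete.le_jacobson_bot J
  have : Fintype (MaximalSpectrum (S ⧸ J)) := Fintype.ofFinite _
  obtain ⟨C, _, hC, ⟨hiso⟩⟩ := Groth.Agent.H89.exists_prod_local_of_lift J hJ
    (fun n : MaximalSpectrum (S ⧸ J) => Localization.AtPrime n.asIdeal)
    (MaximalSpectrum.toPiLocalizationEquiv (S ⧸ J)).toRingEquiv hlift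
  exact toPiLocalization_bijective_of_equiv_pi C hiso

/-- a ring complete for an ideal with Artinian quotient surjects onto its localizations at maximal
ideals -/
theorem localization_surjective_of_complete {S : Type u} [CommRing S]
    (J : Ideal S) [IsAdicComplete J S] [IsArtinianRing (S ⧸ J)] (M : MaximalSpectrum S) :
    Function.Surjective (algebraMap S (Localization.AtPrime M.asIdeal)) := by
  classical
  have hbij := toPiLocalization_bijective_of_complete J
  intro y
  obtain ⟨s, hs⟩ := hbij.2 (Pi.single M y)
  refine ⟨s, ?_⟩
  have := congrFun hs M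
  rw [Pi.single_eq_same] at this
  exact this

theorem isArtinianRing_localization_quotient_of_complete {S : Type u} [CommRing S]
    (J : Ideal S) [IsAdicComplete J S] [IsArtinianRing (S ⧸ J)] (M : MaximalSpectrum S) :
    IsArtinianRing ((Localization.AtPrime M.asIdeal) ⧸
      (J.map (algebraMap S (Localization.AtPrime M.asIdeal)))) := by
  have hsurj := localization_surjective_of_complete J M
  have hqsurj : Function.Surjective (Ideal.quotientMap
      (J.map (algebraMap S (Localization.AtPrime M.asIdeal)))
      (algebraMap S (Localization.AtPrime M.asIdeal)) Ideal.le_comap_map) :=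
    Ideal.quotientMap_surjective hsurj
  exact hqsurj.isArtinianRing

theorem le_asIdeal_of_complete {S : Type u} [CommRing S]
    (J : Ideal S) [IsAdicComplete J S] (M : MaximalSpectrum S) : J ≤ M.asIdeal := by
  have h1 : J ≤ Ideal.jacobson (⊥ : Ideal S) := IsAdicComplete.le_jacobson_bot _
  refine h1.trans ?_
  have hM : M.asIdeal.IsMaximal := M.isMaximal
  exact (Ideal.jacobson_mono bot_le).trans (le_of_eq Ideal.jacobson_eq_self_of_isMaximal)

/-- the localizations of a complete semi-local Noetherian ring at its maximal ideals are complete -/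
theorem isAdicComplete_localization_of_complete {S : Type u} [CommRing S] [IsNoetherianRing S]
    (J : Ideal S) [IsAdicComplete J S] [IsArtinianRing (S ⧸ J)] (M : MaximalSpectrum S) :
    IsAdicComplete (maximalIdeal (Localization.AtPrime M.asIdeal))
      (Localization.AtPrime M.asIdeal) := by
  classical
  have hLn : IsNoetherianRing (Localization.AtPrime M.asIdeal) :=
    IsLocalization.isNoetherianRing M.asIdeal.primeCompl _ inferInstance
  -- `S → S_M` is surjective
  have hsurj := localization_surjective_of_complete J M
  have hfin : Module.Finite S (Localization.AtPrime M.asIdeal) :=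
    Module.Finite.of_surjective (Algebra.linearMap S (Localization.AtPrime M.asIdeal)) hsurj
  have hLc0 : IsAdicComplete J (Localization.AtPrime M.asIdeal) :=
    Groth.Agent.H89.isAdicComplete_of_finite_noeth _ _
  have hLc : IsAdicComplete (J.map (algebraMap S (Localization.AtPrime M.asIdeal)))
      (Localization.AtPrime M.asIdeal) :=
    (IsAdicComplete.map_algebraMap_iff _ _).mpr hLc0
  -- compare the two ideals
  have hjac : J ≤ M.asIdeal := le_asIdeal_of_complete J M
  have hle : J.map (algebraMap S (Localization.AtPrime M.asIdeal)) ≤
      maximalIdeal (Localization.AtPrime M.asIdeal) := by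
    rw [← Localization.AtPrime.map_eq_maximalIdeal]
    exact Ideal.map_mono hjac
  have hartL := isArtinianRing_localization_quotient_of_complete J M
  obtain ⟨N, hN⟩ := IsArtinianRing.isNilpotent_jacobson_bot
    (R := (Localization.AtPrime M.asIdeal) ⧸
      (J.map (algebraMap S (Localization.AtPrime M.asIdeal))))
  have hmapjac : (maximalIdeal (Localization.AtPrime M.asIdeal)).map
      (Ideal.Quotient.mk (J.map (algebraMap S (Localization.AtPrime M.asIdeal)))) ≤
        Ideal.jacobson ⊥ := by
    rw [Ideal.map_le_iff_le_comap]
    intro x hx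
    rw [Ideal.mem_comap, Ideal.mem_jacobson_bot]
    intro y
    obtain ⟨y', rfl⟩ := Ideal.Quotient.mk_surjective y
    rw [← map_mul, ← map_one (Ideal.Quotient.mk _), ← map_add]
    apply IsUnit.map
    have h2 : x * y' ∈ maximalIdeal (Localization.AtPrime M.asIdeal) :=
      Ideal.mul_mem_right _ _ hx
    by_contra hnu
    have h3 : x * y' + 1 ∈ maximalIdeal (Localization.AtPrime M.asIdeal) :=
      (IsLocalRing.mem_maximalIdeal _).mpr hnu
    have h4 : (1 : Localization.AtPrime M.asIdeal) ∈
        maximalIdeal (Localization.AtPrime M.asIdeal) := by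
      have := Ideal.sub_mem _ h3 h2
      simp at this
    exact (Ideal.ne_top_iff_one _).mp (IsLocalRing.maximalIdeal.isMaximal _).ne_top h4
  have hpow : maximalIdeal (Localization.AtPrime M.asIdeal) ^ N ≤
      J.map (algebraMap S (Localization.AtPrime M.asIdeal)) := by
    have h5 : ((maximalIdeal (Localization.AtPrime M.asIdeal)) ^ N).map
        (Ideal.Quotient.mk (J.map (algebraMap S (Localization.AtPrime M.asIdeal)))) = ⊥ := by
      rw [Ideal.map_pow]
      apply le_bot_iff.mp
      calc _ ≤ (Ideal.jacobson ⊥) ^ N := Ideal.pow_right_mono hmapjac N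
        _ = ⊥ := hN
    intro x hx
    rw [← Ideal.Quotient.eq_zero_iff_mem]
    have : Ideal.Quotient.mk _ x ∈ ((maximalIdeal (Localization.AtPrime M.asIdeal)) ^ N).map
        (Ideal.Quotient.mk (J.map (algebraMap S (Localization.AtPrime M.asIdeal)))) :=
      Ideal.mem_map_of_mem _ hx
    rw [h5] at this
    exact this
  exact Groth.Agent.H44.isAdicComplete_of_pow_le _ _ hle N hpow

/-- dimension of a flat local extension with Artinian closed fibre -/
theorem ringKrullDim_eq_of_flat_of_isArtinianRing_fibre {A B : Type u} [CommRing A] [CommRing B]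
    [IsNoetherianRing A] [IsNoetherianRing B] [IsLocalRing A] [IsLocalRing B] [Algebra A B]
    [Module.Flat A B] [IsLocalHom (algebraMap A B)]
    [IsArtinianRing (B ⧸ (maximalIdeal A).map (algebraMap A B))] :
    ringKrullDim B = ringKrullDim A := by
  have : (maximalIdeal B).LiesOver (maximalIdeal A) := inferInstance
  have h := Ideal.height_eq_height_add_of_liesOver_of_hasGoingDown (maximalIdeal A) (maximalIdeal B)
  have hne : (maximalIdeal B).map (Ideal.Quotient.mk ((maximalIdeal A).map (algebraMap A B))) ≠ ⊤ := by
    intro htop
    have hle : (maximalIdeal A).map (algebraMap A B) ≤ maximalIdeal B := by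
      rw [Ideal.map_le_iff_le_comap]
      exact ((IsLocalRing.local_hom_TFAE (algebraMap A B)).out 0 3).mp ‹_›
    have h1 := Ideal.comap_map_of_surjective (Ideal.Quotient.mk ((maximalIdeal A).map (algebraMap A B)))
      Ideal.Quotient.mk_surjective (maximalIdeal B)
    rw [htop, Ideal.comap_top] at h1
    have h2 : Ideal.comap (Ideal.Quotient.mk ((maximalIdeal A).map (algebraMap A B))) ⊥ ≤ maximalIdeal B := by
      rw [← RingHom.ker_eq_comap_bot, Ideal.mk_ker]
      exact hle
    have : (⊤ : Ideal B) ≤ maximalIdeal B := by
      rw [h1]
      exact sup_le le_rfl h2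
    exact (IsLocalRing.maximalIdeal.isMaximal B).ne_top (top_le_iff.mp this)
  have h0 : ((maximalIdeal B).map
      (Ideal.Quotient.mk ((maximalIdeal A).map (algebraMap A B)))).height = 0 := by
    have h3 := Ideal.height_le_ringKrullDim_of_ne_top hne
    have h4 : ringKrullDim (B ⧸ (maximalIdeal A).map (algebraMap A B)) ≤ 0 :=
      Ring.krullDimLE_iff.mp inferInstance
    have : ((maximalIdeal B).map
      (Ideal.Quotient.mk ((maximalIdeal A).map (algebraMap A B)))).height ≤ 0 := by
      exact_mod_cast h3.trans h4
    exact le_antisymm this bot_le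
  rw [h0, add_zero] at h
  rw [← IsLocalRing.maximalIdeal_height_eq_ringKrullDim, ← IsLocalRing.maximalIdeal_height_eq_ringKrullDim, h]

end Groth.Agent.H57.CTens
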