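import Mathlib
import Groth.Prelude.Def_EGA4c
import Groth.Agent.H57.CTensG
import Groth.Agent.H57.CTensH

/-!
# Completed tensor product of a complete local ring with a field extension
-/

set_option autoImplicit false
set_option linter.style.haveILetI false
set_option linter.unusedSectionVars false
universe u

attribute [local instance] Algebra.TensorProduct.rightAlgebra

namespace Groth.Agent.H57.CTens

open IsLocalRing TensorProduct

section FieldExt

variable (k A k' : Type u) [Field k] [CommRing A] [IsNoetherianRing A] [IsLocalRing A] [Algebra k A]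
  [Field k'] [Algebra k k']

lemma cTensorIdeal_field :
    EGA4.cTensorIdeal k A k' = (maximalIdeal A).map (algebraMap A (A ⊗[k] k')) := by
  unfold EGA4.cTensorIdeal
  rw [IsLocalRing.maximalIdeal_eq_bot (R := k'), Ideal.map_bot, sup_bot_eq]
  rfl

instance isAdicComplete_field : IsAdicComplete (maximalIdeal k') k' := by
  rw [IsLocalRing.maximalIdeal_eq_bot]
  infer_instance

lemma map_cTensorIdeal_field :
    (EGA4.cTensorIdeal k A k').map (algebraMap (A ⊗[k] k') (EGA4.CTensor k A k')) =
      (maximalIdeal A).map (algebraMap A (EGA4.CTensor k A k')) := by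
  calc (EGA4.cTensorIdeal k A k').map (algebraMap (A ⊗[k] k') (EGA4.CTensor k A k'))
      = ((maximalIdeal A).map (algebraMap A (A ⊗[k] k'))).map
          (algebraMap (A ⊗[k] k') (EGA4.CTensor k A k')) :=
        congrArg (Ideal.map (algebraMap (A ⊗[k] k') (EGA4.CTensor k A k')))
          (cTensorIdeal_field k A k')
    _ = _ := by rw [Ideal.map_map, ← IsScalarTower.algebraMap_eq]

variable [IsAdicComplete (maximalIdeal A) A] [Module.Finite k (A ⧸ maximalIdeal A)]

theorem isAdicComplete_map_field :
    IsAdicComplete ((maximalIdeal A).map (algebraMap A (EGA4.CTensor k A k')))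
      (EGA4.CTensor k A k') := by
  rw [← map_cTensorIdeal_field]
  exact isAdicComplete_cTensor k A k'

theorem isArtinianRing_quot_field :
    IsArtinianRing (EGA4.CTensor k A k' ⧸
      (maximalIdeal A).map (algebraMap A (EGA4.CTensor k A k'))) := by
  haveI : Module.Finite k' ((A ⧸ maximalIdeal A) ⊗[k] k') := finite_right k k' (A ⧸ maximalIdeal A)
  haveI : IsArtinianRing ((A ⧸ maximalIdeal A) ⊗[k] k') := IsArtinianRing.of_finite k' _
  exact RingEquiv.isArtinianRing
    (quotEquiv k A k' (maximalIdeal A) 1 (pow_one _).le).toRingEquiv.symm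

theorem main_field (M : MaximalSpectrum (EGA4.CTensor k A k')) :
    IsAdicComplete (maximalIdeal (Localization.AtPrime M.asIdeal))
        (Localization.AtPrime M.asIdeal) ∧
      Module.FaithfullyFlat A (Localization.AtPrime M.asIdeal) ∧
      ringKrullDim (Localization.AtPrime M.asIdeal) = ringKrullDim A ∧
      (((Ideal.Quotient.mk M.asIdeal).comp
        (algebraMap (A ⊗[k] k') (EGA4.CTensor k A k'))).comp
          Algebra.TensorProduct.includeRight.toRingHom).Finite := by
  haveI hN := isNoetherianRing_cTensor k A k'
  haveI hc := isAdicComplete_map_field k A k'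
  haveI hart := isArtinianRing_quot_field k A k'
  set J := (maximalIdeal A).map (algebraMap A (EGA4.CTensor k A k')) with hJ
  have hJM : J ≤ M.asIdeal := le_asIdeal_of_complete J M
  haveI hLn : IsNoetherianRing (Localization.AtPrime M.asIdeal) :=
    IsLocalization.isNoetherianRing M.asIdeal.primeCompl _ inferInstance
  haveI hflat1 : Module.Flat A (EGA4.CTensor k A k') := flat_cTensor k A k'
  haveI hflat2 : Module.Flat (EGA4.CTensor k A k') (Localization.AtPrime M.asIdeal) :=
    IsLocalization.flat _ M.asIdeal.primeCompl
  haveI hflat : Module.Flat A (Localization.AtPrime M.asIdeal) :=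
    Module.Flat.trans A (EGA4.CTensor k A k') (Localization.AtPrime M.asIdeal)
  have hmap : (maximalIdeal A).map (algebraMap A (Localization.AtPrime M.asIdeal)) =
      J.map (algebraMap (EGA4.CTensor k A k') (Localization.AtPrime M.asIdeal)) := by
    rw [hJ, Ideal.map_map, ← IsScalarTower.algebraMap_eq]
  haveI hloc : IsLocalHom (algebraMap A (Localization.AtPrime M.asIdeal)) := by
    refine ((IsLocalRing.local_hom_TFAE (algebraMap A (Localization.AtPrime M.asIdeal))).out 0 2).mpr ?_
    rw [hmap, ← Localization.AtPrime.map_eq_maximalIdeal]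
    exact Ideal.map_mono hJM
  refine ⟨isAdicComplete_localization_of_complete J M,
    Module.FaithfullyFlat.of_flat_of_isLocalHom, ?_, ?_⟩
  · haveI : IsArtinianRing (Localization.AtPrime M.asIdeal ⧸
        (maximalIdeal A).map (algebraMap A (Localization.AtPrime M.asIdeal))) := by
      haveI := isArtinianRing_localization_quotient_of_complete J M
      exact RingEquiv.isArtinianRing (Ideal.quotEquivOfEq hmap.symm)
    exact ringKrullDim_eq_of_flat_of_isArtinianRing_fibre
  · haveI : M.asIdeal.IsMaximal := M.isMaximal
    have hfin : Module.Finite k' (EGA4.CTensor k A k' ⧸ M.asIdeal) :=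
      finite_quotient_maximal k A k' M.asIdeal
    have h1 : (algebraMap k' (EGA4.CTensor k A k' ⧸ M.asIdeal)).Finite :=
      RingHom.finite_algebraMap.mpr hfin
    have h2 : algebraMap k' (EGA4.CTensor k A k' ⧸ M.asIdeal) =
        (((Ideal.Quotient.mk M.asIdeal).comp
        (algebraMap (A ⊗[k] k') (EGA4.CTensor k A k'))).comp
          Algebra.TensorProduct.includeRight.toRingHom) := by
      ext x
      rfl
    rw [← h2]
    exact h1

end FieldExt

end Groth.Agent.H57.CTens
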