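import Mathlib

/-!
# Lifting algebra maps to adic completions (helper57)

`R` a ring, `I` an ideal, `S`, `B` `R`-algebras with `B` complete for `I B`.  Every `R`-algebra map
`S → B` extends to the `I S`-adic completion of `S` (`liftCompl`), uniquely when `I` is finitely
generated (`algHom_ext_of_comp_of`).
-/

set_option autoImplicit false
universe u

namespace Groth.Agent.H57.ChartLift

variable {R : Type u} [CommRing R] (I : Ideal R) {S : Type u} [CommRing S] [Algebra R S]
  {B : Type u} [CommRing B] [Algebra R B]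

lemma map_pow_le_comap (ψ₀ : S →ₐ[R] B) (n : ℕ) :
    (I.map (algebraMap R S)) ^ n ≤ ((I.map (algebraMap R B)) ^ n).comap ψ₀ := by
  rw [← Ideal.map_pow, ← Ideal.map_pow, Ideal.map_le_iff_le_comap]
  intro r hr
  rw [Ideal.mem_comap, Ideal.mem_comap, AlgHom.commutes]
  exact Ideal.mem_map_of_mem _ hr

variable [IsAdicComplete (I.map (algebraMap R B)) B]

/-- The level-`n` map `Ŝ → S/I^n S → B/I^n B`. -/
noncomputable def levelMap (ψ₀ : S →ₐ[R] B) (n : ℕ) :
    AdicCompletion (I.map (algebraMap R S)) S →ₐ[R] B ⧸ (I.map (algebraMap R B)) ^ n :=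
  (Ideal.quotientMapₐ ((I.map (algebraMap R B)) ^ n) ψ₀ (map_pow_le_comap I ψ₀ n)).comp
    ((AdicCompletion.evalₐ (I.map (algebraMap R S)) n).restrictScalars R)

lemma levelMap_mk (ψ₀ : S →ₐ[R] B) (n : ℕ)
    (c : AdicCompletion.AdicCauchySequence (I.map (algebraMap R S)) S) :
    levelMap I ψ₀ n (AdicCompletion.mk _ _ c) =
      Ideal.Quotient.mk ((I.map (algebraMap R B)) ^ n) (ψ₀ (c.val n)) := by
  simp [levelMap]

lemma levelMap_compat (ψ₀ : S →ₐ[R] B) {m n : ℕ} (hle : m ≤ n) :
    (Ideal.Quotient.factorₐ R (Ideal.pow_le_pow_right hle)).comp (levelMap I ψ₀ n) =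
      levelMap I ψ₀ m := by
  ext x
  obtain ⟨c, rfl⟩ := AdicCompletion.mk_surjective _ _ x
  rw [AlgHom.comp_apply, levelMap_mk, levelMap_mk]
  simp only [Ideal.Quotient.factorₐ_apply_mk]
  rw [Ideal.Quotient.eq, ← map_sub]
  apply map_pow_le_comap I ψ₀ m
  rw [← Ideal.Quotient.eq]
  exact AdicCompletion.Ideal.mk_eq_mk _ hle c

/-- The extension of `ψ₀ : S → B` to the completion of `S`. -/
noncomputable def liftCompl (ψ₀ : S →ₐ[R] B) :
    AdicCompletion (I.map (algebraMap R S)) S →ₐ[R] B :=
  IsAdicComplete.liftAlgHom (I.map (algebraMap R B)) (levelMap I ψ₀)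
    (fun hle => levelMap_compat I ψ₀ hle)

omit [IsAdicComplete (I.map (algebraMap R B)) B] in
lemma eq_of_forall_mk_eq [IsHausdorff (I.map (algebraMap R B)) B] {x y : B}
    (h : ∀ n, Ideal.Quotient.mk ((I.map (algebraMap R B)) ^ n) x =
      Ideal.Quotient.mk ((I.map (algebraMap R B)) ^ n) y) : x = y := by
  rw [IsHausdorff.eq_iff_smodEq (I := I.map (algebraMap R B))]
  intro n
  rw [SModEq.sub_mem, smul_eq_mul, Ideal.mul_top, ← Ideal.Quotient.eq]
  exact h n

lemma liftCompl_of (ψ₀ : S →ₐ[R] B) (s : S) :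
    liftCompl I ψ₀ (AdicCompletion.of _ _ s) = ψ₀ s := by
  apply eq_of_forall_mk_eq I
  intro n
  rw [liftCompl, IsAdicComplete.mk_liftAlgHom]
  simp [levelMap]

omit [IsAdicComplete (I.map (algebraMap R B)) B] in
/-- An `R`-algebra map out of the completion sends `I^n Ŝ` into `I^n B`. -/
lemma map_mem_of_mem_pow_smul_top (χ : AdicCompletion (I.map (algebraMap R S)) S →ₐ[R] B) (n : ℕ)
    {y : AdicCompletion (I.map (algebraMap R S)) S}
    (hy : y ∈ ((I.map (algebraMap R S)) ^ n •
      (⊤ : Submodule S (AdicCompletion (I.map (algebraMap R S)) S)))) :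
    χ y ∈ (I.map (algebraMap R B)) ^ n := by
  have key : (I.map (algebraMap R S)) ^ n ≤ ((I.map (algebraMap R B)) ^ n).comap
      (χ.toRingHom.comp (algebraMap S (AdicCompletion (I.map (algebraMap R S)) S))) := by
    rw [← Ideal.map_pow, ← Ideal.map_pow, Ideal.map_le_iff_le_comap]
    intro r hr
    rw [Ideal.mem_comap, Ideal.mem_comap]
    have : (χ.toRingHom.comp (algebraMap S (AdicCompletion (I.map (algebraMap R S)) S)))
        (algebraMap R S r) = algebraMap R B r := by
      rw [RingHom.comp_apply, ← IsScalarTower.algebraMap_apply]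
      exact χ.commutes r
    rw [this]
    exact Ideal.mem_map_of_mem _ hr
  refine Submodule.smul_induction_on hy ?_ ?_
  · intro a ha z _
    rw [Algebra.smul_def, map_mul]
    exact Ideal.mul_mem_right _ _ (key ha)
  · intro a b ha hb
    rw [map_add]
    exact Ideal.add_mem _ ha hb

omit [IsAdicComplete (I.map (algebraMap R B)) B] in
/-- Uniqueness of extensions to the completion (for finitely generated `I`). -/
theorem algHom_ext_of_comp_of (hI : I.FG) [IsHausdorff (I.map (algebraMap R B)) B]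
    (χ χ' : AdicCompletion (I.map (algebraMap R S)) S →ₐ[R] B)
    (h : ∀ s : S, χ (AdicCompletion.of _ _ s) = χ' (AdicCompletion.of _ _ s)) : χ = χ' := by
  ext x
  apply eq_of_forall_mk_eq I
  intro n
  obtain ⟨s, hs⟩ := Submodule.Quotient.mk_surjective _
    (AdicCompletion.eval (I.map (algebraMap R S)) S n x)
  have hy : x - AdicCompletion.of _ _ s ∈ ((I.map (algebraMap R S)) ^ n •
      (⊤ : Submodule S (AdicCompletion (I.map (algebraMap R S)) S))) := by
    rw [AdicCompletion.pow_smul_top_eq_ker_eval (hI.map _), LinearMap.mem_ker, map_sub,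
      AdicCompletion.eval_of, Submodule.mkQ_apply, hs, sub_self]
  have h1 := map_mem_of_mem_pow_smul_top I χ n hy
  have h2 := map_mem_of_mem_pow_smul_top I χ' n hy
  rw [Ideal.Quotient.eq]
  have : χ x - χ' x = χ (x - AdicCompletion.of _ _ s) - χ' (x - AdicCompletion.of _ _ s) := by
    rw [map_sub, map_sub, h s]; ring
  rw [this]
  exact Ideal.sub_mem _ h1 h2

end Groth.Agent.H57.ChartLift
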