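import Mathlib
import Groth.Prelude.Def_W4bk4boschfrg79

/-!
# Torsion in the chart algebras of a blowing-up
-/

set_option autoImplicit false
universe u

namespace Groth.Agent.H57.ChartTorsion

open AdicRing MvPolynomial

section Chart

variable {A : Type u} [CommRing A] {ι : Type} (f : ι → A) (i : ι)

/-- the class of the variable `ζ_j` -/
noncomputable def ζ (j : {j : ι // j ≠ i}) : chartAlg f i :=
  Ideal.Quotient.mk _ (X j)

theorem algebraMap_mul_ζ (j : {j : ι // j ≠ i}) :
    algebraMap A (chartAlg f i) (f i) * ζ f i j = algebraMap A (chartAlg f i) (f j.1) := by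
  have h : (Ideal.Quotient.mk (Ideal.span (Set.range fun j : {j : ι // j ≠ i} =>
      (C (f i) * X j - C (f j.1) : MvPolynomial {j : ι // j ≠ i} A))))
      (C (f i) * X j - C (f j.1)) = 0 :=
    Ideal.Quotient.eq_zero_iff_mem.mpr (Ideal.subset_span ⟨j, rfl⟩)
  rw [map_sub, map_mul, sub_eq_zero] at h
  exact h

/-- all the `f j` are multiples of `f i` in the chart algebra -/
theorem algebraMap_mem_span (j : ι) :
    algebraMap A (chartAlg f i) (f j) ∈
      Ideal.span {algebraMap A (chartAlg f i) (f i)} := by
  by_cases hj : j = i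
  · rw [hj]
    exact Ideal.mem_span_singleton_self _
  · rw [Ideal.mem_span_singleton]
    exact ⟨ζ f i ⟨j, hj⟩, (algebraMap_mul_ζ f i ⟨j, hj⟩).symm⟩

/-- After multiplication by a power of `f i`, every element comes from `A`. -/
theorem exists_pow_mul_eq (u : chartAlg f i) :
    ∃ (D : ℕ) (q : A), algebraMap A (chartAlg f i) (f i) ^ D * u = algebraMap A (chartAlg f i) q := by
  obtain ⟨p, rfl⟩ := Ideal.Quotient.mk_surjective u
  induction p using MvPolynomial.induction_on with
  | C a => exact ⟨0, a, by rw [pow_zero, one_mul]; rfl⟩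
  | add p p' hp hp' =>
    obtain ⟨D, q, h⟩ := hp
    obtain ⟨D', q', h'⟩ := hp'
    refine ⟨D + D', f i ^ D' * q + f i ^ D * q', ?_⟩
    rw [map_add, mul_add, pow_add, map_add, map_mul, map_mul, map_pow, map_pow, ← h, ← h']
    ring
  | mul_X p j hp =>
    obtain ⟨D, q, h⟩ := hp
    refine ⟨D + 1, q * f j.1, ?_⟩
    rw [map_mul, pow_succ, map_mul (algebraMap A (chartAlg f i)), ← h, ← algebraMap_mul_ζ f i j]
    change _ = _ * (_ * Ideal.Quotient.mk _ (X j))
    ring

/-- The canonical map from the chart algebra to the localization. -/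
noncomputable def toAway : chartAlg f i →ₐ[A] Localization.Away (f i) :=
  Ideal.Quotient.liftₐ _
    (aeval (fun j : {j : ι // j ≠ i} =>
      IsLocalization.mk' (Localization.Away (f i)) (f j.1)
        (⟨f i, Submonoid.mem_powers _⟩ : Submonoid.powers (f i))))
    (by
      intro a ha
      have hle : Ideal.span (Set.range fun j : {j : ι // j ≠ i} =>
          (C (f i) * X j - C (f j.1) : MvPolynomial {j : ι // j ≠ i} A)) ≤
          RingHom.ker (aeval (fun j : {j : ι // j ≠ i} =>
            IsLocalization.mk' (Localization.Away (f i)) (f j.1)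
              (⟨f i, Submonoid.mem_powers _⟩ : Submonoid.powers (f i)))).toRingHom := by
        rw [Ideal.span_le]
        rintro _ ⟨j, rfl⟩
        rw [SetLike.mem_coe, RingHom.mem_ker]
        change aeval _ _ = 0
        rw [map_sub, map_mul, aeval_C, aeval_C, aeval_X, sub_eq_zero]
        exact IsLocalization.mk'_spec' (Localization.Away (f i)) (f j.1)
          (⟨f i, Submonoid.mem_powers _⟩ : Submonoid.powers (f i))
      exact hle ha)

/-- Elements of `A` dying in the chart algebra are killed by a power of `f i`. -/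
theorem exists_pow_mul_eq_zero {a : A} (h : algebraMap A (chartAlg f i) a = 0) :
    ∃ e : ℕ, f i ^ e * a = 0 := by
  have h1 : algebraMap A (Localization.Away (f i)) a = 0 := by
    have := congrArg (toAway f i) h
    rwa [AlgHom.commutes, map_zero] at this
  obtain ⟨⟨_, e, rfl⟩, he⟩ := (IsLocalization.map_eq_zero_iff (Submonoid.powers (f i))
    (Localization.Away (f i)) a).mp h1
  exact ⟨e, he⟩

end Chart

section Torsion

variable {R : Type u} [CommRing R] {I : Ideal R}
  {A : Type u} [CommRing A] [Algebra R A] {ι : Type} (f : ι → A) (i : ι)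

/-- annihilation by generators implies annihilation by the ideal -/
theorem smul_eq_zero_of_span {M : Type*} [AddCommGroup M] [Module R M] {s : Set R} {J : Ideal R}
    (hs : Ideal.span s = J) {x : M} (h : ∀ b ∈ s, b • x = 0) : ∀ b ∈ J, b • x = 0 := by
  intro b hb
  rw [← hs] at hb
  induction hb using Submodule.span_induction with
  | mem b hb => exact h b hb
  | zero => rw [zero_smul]
  | add b b' _ _ hb hb' => rw [add_smul, hb, hb', add_zero]
  | smul a b _ hb => rw [smul_eq_mul, mul_smul, hb, smul_zero]

/-- `I`-power torsion in the chart algebra is `f i`-power torsion. -/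
theorem exists_pow_mul_eq_zero_of_torsion (hI : I.FG) (hA : NoPowTorsion I A)
    (u : chartAlg f i) (n : ℕ) (hu : ∀ b ∈ I ^ n, b • u = 0) :
    ∃ N : ℕ, algebraMap A (chartAlg f i) (f i) ^ N * u = 0 := by
  classical
  obtain ⟨D, q, hq⟩ := exists_pow_mul_eq f i u
  obtain ⟨G, hG⟩ := (hI.pow (n := n) : (I ^ n).FG)
  have h1 : ∀ b ∈ G, ∃ e : ℕ, f i ^ e * (algebraMap R A b * q) = 0 := by
    intro b hb
    apply exists_pow_mul_eq_zero f i
    have hbI : b ∈ I ^ n := by
      rw [← hG]
      exact Ideal.subset_span hb
    rw [map_mul, ← hq, ← IsScalarTower.algebraMap_apply R A, mul_left_comm, ← Algebra.smul_def,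
      hu b hbI, mul_zero]
  choose! ef hef using h1
  have h2 : ∀ b ∈ (G : Set R), b • (f i ^ G.sup ef * q) = 0 := by
    intro b hb
    have hle : ef b ≤ G.sup ef := Finset.le_sup hb
    obtain ⟨e', he'⟩ := Nat.exists_eq_add_of_le hle
    rw [Algebra.smul_def, he', pow_add]
    calc algebraMap R A b * (f i ^ ef b * f i ^ e' * q)
        = f i ^ e' * (f i ^ ef b * (algebraMap R A b * q)) := by ring
      _ = 0 := by rw [hef b hb, mul_zero]
  have h3 : f i ^ G.sup ef * q = 0 := hA _ n (smul_eq_zero_of_span hG h2)
  refine ⟨G.sup ef + D, ?_⟩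
  rw [pow_add, mul_assoc, hq, ← map_pow, ← map_mul, h3, map_zero]

end Torsion

section Flat

variable {C : Type u} [CommRing C] {M : Type u} [AddCommGroup M] [Module C M] [Module.Flat C M]

/-- An element of a flat module killed by finitely many scalars is a combination of elements
with coefficients killed by these scalars. -/
theorem exists_decomposition {κ : Type*} [Fintype κ] (α : κ → C) (x₀ : M)
    (h : ∀ l, α l • x₀ = 0) :
    ∃ (k : ℕ) (u : Fin k → C) (y : Fin k → M),
      x₀ = ∑ j, u j • y j ∧ ∀ l j, α l * u j = 0 := by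
  classical
  let g : (κ →₀ C) →ₗ[C] C := Finsupp.linearCombination C α
  let x : C →ₗ[C] M := LinearMap.toSpanSingleton C M x₀
  have hxg : x ∘ₗ g = 0 := by
    apply Finsupp.lhom_ext
    intro l c
    simp only [g, x, LinearMap.comp_apply, Finsupp.linearCombination_single, LinearMap.zero_apply,
      LinearMap.toSpanSingleton_apply, smul_eq_mul, mul_smul, h l, smul_zero]
  obtain ⟨k, a, y, hya, hag⟩ := Module.Flat.exists_factorization_of_comp_eq_zero_of_free hxg
  refine ⟨k, fun j => a 1 j, fun j => y (Finsupp.single j 1), ?_, ?_⟩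
  · have h1 : x₀ = x 1 := by simp [x]
    rw [h1, hya, LinearMap.comp_apply]
    conv_lhs => rw [← Finsupp.univ_sum_single (a 1)]
    rw [map_sum]
    apply Finset.sum_congr rfl
    intro j _
    rw [← map_smul, Finsupp.smul_single, smul_eq_mul, mul_one]
  · intro l j
    have h2 : a (g (Finsupp.single l 1)) = 0 := by
      rw [← LinearMap.comp_apply, hag, LinearMap.zero_apply]
    have h3 : g (Finsupp.single l 1) = α l • (1 : C) := by
      simp [g]
    rw [h3, map_smul] at h2
    have := congrArg (fun v => v j) h2
    simpa using this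

end Flat

end Groth.Agent.H57.ChartTorsion
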