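import Mathlib
import Groth.Agent.Lead.RegularFlatDescent
import Groth.Agent.H29.RegCompl

/-!
# Regularity and base change to the completion (ring level)

Let `A` be a Noetherian local ring, `A'` a Noetherian local `A`-algebra (local homomorphism) and
`Q` a prime of `A' ⊗[A] Â` lying over the maximal ideal of `A'`.  Then `Q` is generated by the
maximal ideal of `A'`, and `(A' ⊗[A] Â)_Q` is regular iff `A'` is.
-/

set_option autoImplicit false
set_option linter.style.haveILetI false

namespace Groth.Agent.H57.ComplBCReg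

universe u

open IsLocalRing TensorProduct

variable (A : Type u) [CommRing A] [IsLocalRing A] [IsNoetherianRing A]

local notation "Â" => AdicCompletion (maximalIdeal A) A

/-- Every element of the completion is congruent to an element of `A` modulo `𝔪Â`. -/
theorem exists_sub_mem_map (y : Â) :
    ∃ a : A, y - algebraMap A Â a ∈ (maximalIdeal A).map (algebraMap A Â) := by
  obtain ⟨a, ha⟩ := Submodule.mkQ_surjective _ (AdicCompletion.eval (maximalIdeal A) A 1 y)
  refine ⟨a, ?_⟩
  have hmem : y - algebraMap A Â a ∈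
      ((maximalIdeal A) ^ 1 • ⊤ : Submodule A Â) := by
    rw [AdicCompletion.pow_smul_top_eq_ker_eval (maximalIdeal A).fg_of_isNoetherianRing,
      LinearMap.mem_ker, map_sub, AdicCompletion.algebraMap_apply, Algebra.algebraMap_self,
      RingHom.id_apply, AdicCompletion.eval_of, ha, sub_self]
  rw [pow_one] at hmem
  rw [← Submodule.restrictScalars_mem A, ← Ideal.smul_top_eq_map]
  exact hmem

variable (A' : Type u) [CommRing A'] [Algebra A A']

/-- Every element of `A' ⊗[A] Â` is congruent to an element of `A'` modulo `𝔪`. -/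
theorem exists_sub_mem_map_tensor (c : A' ⊗[A] Â) :
    ∃ b : A', c - b ⊗ₜ[A] (1 : Â) ∈ (maximalIdeal A).map (algebraMap A (A' ⊗[A] Â)) := by
  induction c using TensorProduct.induction_on with
  | zero => exact ⟨0, by rw [zero_tmul, sub_zero]; exact zero_mem _⟩
  | add x y hx hy =>
    obtain ⟨b₁, h₁⟩ := hx
    obtain ⟨b₂, h₂⟩ := hy
    refine ⟨b₁ + b₂, ?_⟩
    have : x + y - (b₁ + b₂) ⊗ₜ[A] (1 : Â) = (x - b₁ ⊗ₜ[A] (1 : Â)) + (y - b₂ ⊗ₜ[A] (1 : Â)) := by
      rw [add_tmul]; ring
    rw [this]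
    exact add_mem h₁ h₂
  | tmul a' y =>
    obtain ⟨a, ha⟩ := exists_sub_mem_map A y
    refine ⟨a • a', ?_⟩
    have h1 : a' ⊗ₜ[A] y - (a • a') ⊗ₜ[A] (1 : Â) = a' ⊗ₜ[A] (y - algebraMap A Â a) := by
      rw [tmul_sub, smul_tmul, Algebra.algebraMap_eq_smul_one]
    rw [h1]
    -- `a' ⊗ z` with `z ∈ 𝔪Â`
    have key : ∀ z ∈ (maximalIdeal A).map (algebraMap A Â),
        a' ⊗ₜ[A] z ∈ (maximalIdeal A).map (algebraMap A (A' ⊗[A] Â)) := by
      intro z hz
      refine Submodule.span_induction ?_ ?_ ?_ ?_ hz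
      · rintro _ ⟨m, hm, rfl⟩
        have : a' ⊗ₜ[A] (algebraMap A Â m) = algebraMap A (A' ⊗[A] Â) m * (a' ⊗ₜ[A] (1 : Â)) := by
          rw [Algebra.algebraMap_eq_smul_one, ← Algebra.smul_def, smul_tmul', smul_tmul]
        rw [this]
        exact Ideal.mul_mem_right _ _ (Ideal.mem_map_of_mem _ hm)
      · rw [tmul_zero]; exact zero_mem _
      · intro u v _ _ hu hv
        rw [tmul_add]; exact add_mem hu hv
      · intro r u _ hu
        have : a' ⊗ₜ[A] (r • u) = ((1 : A') ⊗ₜ[A] r) * (a' ⊗ₜ[A] u) := by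
          rw [Algebra.TensorProduct.tmul_mul_tmul, one_mul, smul_eq_mul]
        rw [this]
        exact Ideal.mul_mem_left _ _ hu
    exact key _ ha

/-- A prime of `A' ⊗[A] Â` over the maximal ideal of `A'` is generated by it. -/
theorem eq_map_maximalIdeal [IsLocalRing A'] [hloc : IsLocalHom (algebraMap A A')]
    (Q : Ideal (A' ⊗[A] Â)) [Q.IsPrime]
    (hQ : Q.comap (Algebra.TensorProduct.includeLeftRingHom : A' →+* A' ⊗[A] Â) =
      maximalIdeal A') :
    Q = (maximalIdeal A').map (algebraMap A' (A' ⊗[A] Â)) := by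
  have hle : (maximalIdeal A').map (algebraMap A' (A' ⊗[A] Â)) ≤ Q := by
    rw [Ideal.map_le_iff_le_comap, ← hQ]
    exact le_rfl
  have hmA : (maximalIdeal A).map (algebraMap A (A' ⊗[A] Â)) ≤
      (maximalIdeal A').map (algebraMap A' (A' ⊗[A] Â)) := by
    rw [IsScalarTower.algebraMap_eq A A' (A' ⊗[A] Â), ← Ideal.map_map]
    apply Ideal.map_mono
    exact ((IsLocalRing.local_hom_TFAE (algebraMap A A')).out 0 2).mp hloc
  apply le_antisymm _ hle
  intro c hc
  obtain ⟨b, hb⟩ := exists_sub_mem_map_tensor A A' c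
  have hbQ : b ⊗ₜ[A] (1 : Â) ∈ Q := by
    have h1 : c - b ⊗ₜ[A] (1 : Â) ∈ Q := hle (hmA hb)
    have := sub_mem hc h1
    rwa [sub_sub_cancel] at this
  have hbm : b ∈ maximalIdeal A' := by
    rw [← hQ]
    exact hbQ
  have : c = (c - b ⊗ₜ[A] (1 : Â)) + algebraMap A' (A' ⊗[A] Â) b := by
    rw [Algebra.TensorProduct.algebraMap_apply, Algebra.algebraMap_self, RingHom.id_apply]
    ring
  rw [this]
  exact add_mem (hmA hb) (Ideal.mem_map_of_mem _ hbm)

/-- `(A' ⊗[A] Â)_Q` is regular iff `A'` is. -/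
theorem isRegularLocalRing_atPrime_iff [IsLocalRing A'] [IsNoetherianRing A']
    [IsLocalHom (algebraMap A A')] (Q : Ideal (A' ⊗[A] Â)) [Q.IsPrime]
    (hQ : Q.comap (Algebra.TensorProduct.includeLeftRingHom : A' →+* A' ⊗[A] Â) =
      maximalIdeal A')
    [IsNoetherianRing (Localization.AtPrime Q)] :
    IsRegularLocalRing (Localization.AtPrime Q) ↔ IsRegularLocalRing A' := by
  have hQeq := eq_map_maximalIdeal A A' Q hQ
  haveI : Module.Flat A Â := AdicCompletion.flat_of_isNoetherian (maximalIdeal A)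
  haveI : Module.Flat A' (A' ⊗[A] Â) := inferInstance
  haveI : Module.Flat (A' ⊗[A] Â) (Localization.AtPrime Q) :=
    IsLocalization.flat (Localization.AtPrime Q) Q.primeCompl
  haveI : Module.Flat A' (Localization.AtPrime Q) :=
    Module.Flat.trans A' (A' ⊗[A] Â) (Localization.AtPrime Q)
  have hmax : (maximalIdeal A').map (algebraMap A' (Localization.AtPrime Q)) =
      maximalIdeal (Localization.AtPrime Q) := by
    rw [IsScalarTower.algebraMap_eq A' (A' ⊗[A] Â) (Localization.AtPrime Q), ← Ideal.map_map,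
      ← hQeq, Localization.AtPrime.map_eq_maximalIdeal]
  haveI : IsLocalHom (algebraMap A' (Localization.AtPrime Q)) := by
    apply ((IsLocalRing.local_hom_TFAE (algebraMap A' (Localization.AtPrime Q))).out 0 2).mpr
    exact hmax.le
  constructor
  · intro h
    haveI := h
    exact Groth.Agent.Lead.RLR.isRegularLocalRing_of_flat A' (Localization.AtPrime Q)
  · intro h
    haveI := h
    exact Groth.Agent.H29.RegCompl.isRegularLocalRing_of_flat_of_map_maximalIdeal A'
      (Localization.AtPrime Q) hmax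

end Groth.Agent.H57.ComplBCReg
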