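import Mathlib
import Groth.Prelude.Def_Curv2
import Groth.Agent.H57.ComplBCRegA
import Groth.Agent.H25.StalkBC

set_option autoImplicit false
set_option linter.style.haveILetI false
universe u
open CategoryTheory CategoryTheory.Limits AlgebraicGeometry

namespace Groth.Agent.H57.ComplBCReg

open IsLocalRing TensorProduct

/-- If `f x` is the closed point then `A → O_{X,x}` is local. -/
theorem comap_stalkHom_eq (A : Type u) [CommRing A] [IsLocalRing A]
    (X : Scheme.{u}) (f : X ⟶ Spec (CommRingCat.of A)) (x : X)
    (hx : f.base x = IsLocalRing.closedPoint A) :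
    (maximalIdeal (X.presheaf.stalk x)).comap (Groth.Agent.H25.StalkBC.stalkHom f x) =
      maximalIdeal A := by
  have h1 := Groth.Agent.H25.StalkBC.fromSpecStalk_comp f x
  have h2 : (X.fromSpecStalk x ≫ f).base (IsLocalRing.closedPoint (X.presheaf.stalk x)) =
      IsLocalRing.closedPoint A := by
    rw [Scheme.Hom.comp_base, TopCat.comp_app, Scheme.fromSpecStalk_closedPoint, hx]
  rw [h1] at h2
  have h3 := congrArg PrimeSpectrum.asIdeal h2
  exact h3

/-- The image in `X` of a point of the closed fibre of the base change to the completion lies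
over the closed point. -/
theorem base_fst_eq_closedPoint (A : Type u) [CommRing A] [IsLocalRing A] [IsNoetherianRing A]
    (X : Scheme.{u}) (f : X ⟶ Spec (CommRingCat.of A))
    (y : Curv2.bcCpl A f)
    (hy : (Curv2.bcCplSnd A f).base y = IsLocalRing.closedPoint (Curv2.cpl A)) :
    f.base ((Curv2.bcCplFst A f).base y) = IsLocalRing.closedPoint A := by
  have h1 : (Curv2.bcCplFst A f ≫ f).base y =
      (Curv2.bcCplSnd A f ≫ Spec.map (CommRingCat.ofHom (algebraMap A (Curv2.cpl A)))).base y := by
    rw [pullback.condition]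
  rw [Scheme.Hom.comp_base, TopCat.comp_app, Scheme.Hom.comp_base, TopCat.comp_app, hy] at h1
  rw [h1]
  exact IsLocalRing.comap_closedPoint (algebraMap A (Curv2.cpl A))

theorem regular_iff (A : Type u) [CommRing A] [IsLocalRing A] [IsNoetherianRing A]
    (X : Scheme.{u}) (f : X ⟶ Spec (CommRingCat.of A)) [LocallyOfFiniteType f]
    (y : Curv2.bcCpl A f) (hy : (Curv2.bcCplSnd A f).base y = IsLocalRing.closedPoint (Curv2.cpl A)) :
    IsRegularLocalRing ((Curv2.bcCpl A f).presheaf.stalk y) ↔
      IsRegularLocalRing (X.presheaf.stalk ((Curv2.bcCplFst A f).base y)) := by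
  set x := (Curv2.bcCplFst A f).base y with hx
  letI : Algebra A (X.presheaf.stalk x) := (Groth.Agent.H25.StalkBC.stalkHom f x).toAlgebra
  obtain ⟨Q, hQp, hQm, ⟨e⟩⟩ := Groth.Agent.H25.StalkBC.exists_prime_of_point_stalk f x rfl
    (Curv2.cpl A) y rfl
  haveI := hQp
  have hfx := base_fst_eq_closedPoint A X f y hy
  haveI hloc : IsLocalHom (algebraMap A (X.presheaf.stalk x)) := by
    apply ((IsLocalRing.local_hom_TFAE (algebraMap A (X.presheaf.stalk x))).out 0 4).mpr
    exact comap_stalkHom_eq A X f x hfx
  haveI : IsLocallyNoetherian X := LocallyOfFiniteType.isLocallyNoetherian f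
  haveI : IsNoetherianRing (X.presheaf.stalk x) := inferInstance
  haveI : IsLocallyNoetherian (Curv2.bcCpl A f) :=
    LocallyOfFiniteType.isLocallyNoetherian (Curv2.bcCplSnd A f)
  haveI : IsNoetherianRing ((Curv2.bcCpl A f).presheaf.stalk y) := inferInstance
  haveI : IsNoetherianRing (Localization.AtPrime Q) := isNoetherianRing_of_ringEquiv _ e
  rw [← isRegularLocalRing_atPrime_iff A (X.presheaf.stalk x) Q hQm]
  constructor
  · intro h
    exact IsRegularLocalRing.of_ringEquiv e
  · intro h
    exact IsRegularLocalRing.of_ringEquiv e.symm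

end Groth.Agent.H57.ComplBCReg
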