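import Mathlib
import Groth.Prelude.Def_Curv2
import Groth.Agent.H57.ComplBCRegB
import Groth.Agent.H15.StalkLoc
import Groth.Agent.Lead.RegularLocalization

/-!
# Regularity of a proper scheme over a Noetherian local ring and of its base change to the completion
-/

set_option autoImplicit false
set_option linter.style.haveILetI false
universe u
open CategoryTheory CategoryTheory.Limits AlgebraicGeometry

namespace Groth.Agent.H57.ComplBCReg

open IsLocalRing TensorProduct

/-- Regularity passes to generizations. -/
theorem isRegularLocalRing_stalk_of_specializes {X : Scheme.{u}} {x x' : X} (h : x' ⤳ x)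
    [IsRegularLocalRing (X.presheaf.stalk x)] : IsRegularLocalRing (X.presheaf.stalk x') := by
  letI := (X.presheaf.stalkSpecializes h).hom.toAlgebra
  haveI := Groth.Agent.H15.StalkLoc.isLocalization_stalkSpecializes h
  haveI := Groth.Agent.Lead.RLR.isRegularLocalRing_localization (X.presheaf.stalk x)
    (Groth.Agent.H15.StalkLoc.genPrime h)
  exact IsRegularLocalRing.of_ringEquiv
    (IsLocalization.algEquiv (Groth.Agent.H15.StalkLoc.genPrime h).primeCompl
      (Localization.AtPrime (Groth.Agent.H15.StalkLoc.genPrime h))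
      (X.presheaf.stalk x')).toRingEquiv

/-- For a closed map to the spectrum of a local ring, every point specializes to a point of the
closed fibre. -/
theorem exists_specializes_closedFibre {B : Type u} [CommRing B] [IsLocalRing B]
    {Z : Scheme.{u}} (g : Z ⟶ Spec (CommRingCat.of B)) (hg : IsClosedMap g.base) (z : Z) :
    ∃ z₀ : Z, z ⤳ z₀ ∧ g.base z₀ = IsLocalRing.closedPoint B := by
  have hcl : IsClosed (g.base '' closure {z}) := hg _ isClosed_closure
  have hmem : g.base z ∈ g.base '' closure {z} := ⟨z, subset_closure rfl, rfl⟩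
  have h2 : IsLocalRing.closedPoint B ∈ g.base '' closure {z} :=
    (IsLocalRing.specializes_closedPoint (R := B) (g.base z)).mem_closed hcl hmem
  obtain ⟨z₀, hz₀, hgz₀⟩ := h2
  exact ⟨z₀, specializes_iff_mem_closure.mpr hz₀, hgz₀⟩

theorem regular_iff_of_proper (A : Type u) [CommRing A] [IsLocalRing A] [IsNoetherianRing A]
    (X : Scheme.{u}) (f : X ⟶ Spec (CommRingCat.of A)) [IsProper f] :
    (∀ x : X, IsRegularLocalRing (X.presheaf.stalk x)) ↔
      ∀ y : Curv2.bcCpl A f, IsRegularLocalRing ((Curv2.bcCpl A f).presheaf.stalk y) := by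
  constructor
  · intro h y
    obtain ⟨y₀, hy, hy₀⟩ := exists_specializes_closedFibre (Curv2.bcCplSnd A f)
      (Curv2.bcCplSnd A f).isClosedMap y
    haveI : IsRegularLocalRing ((Curv2.bcCpl A f).presheaf.stalk y₀) :=
      (regular_iff A X f y₀ hy₀).mpr (h _)
    exact isRegularLocalRing_stalk_of_specializes hy
  · intro h x
    obtain ⟨x₀, hx, hx₀⟩ := exists_specializes_closedFibre f f.isClosedMap x
    have hcp : (Spec.map (CommRingCat.ofHom (algebraMap A (Curv2.cpl A)))).base
        (IsLocalRing.closedPoint (Curv2.cpl A)) = IsLocalRing.closedPoint A :=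
      IsLocalRing.comap_closedPoint (algebraMap A (Curv2.cpl A))
    obtain ⟨y₀, hy1, hy2⟩ := Scheme.Pullback.exists_preimage_pullback (f := f)
      (g := Spec.map (CommRingCat.ofHom (algebraMap A (Curv2.cpl A)))) x₀
      (IsLocalRing.closedPoint (Curv2.cpl A)) (hx₀.trans hcp.symm)
    have h1 := (regular_iff A X f y₀ hy2).mp (h y₀)
    have hy1' : (Curv2.bcCplFst A f).base y₀ = x₀ := hy1
    rw [hy1'] at h1
    haveI := h1
    exact isRegularLocalRing_stalk_of_specializes hx

end Groth.Agent.H57.ComplBCReg
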