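import Mathlib
import Groth.Prelude.Def_W4bk4boschfrg79
import Groth.Agent.H57.Tft2
import Groth.Agent.H57.ComplFT
import Groth.Agent.H57.CLoc
import Groth.Agent.H44.AdicLemmas

/-!
# Admissible local domains of dimension one over a complete valuation ring of height one

`finite_of_rigPoint`: such an algebra is a finite module over the base.
-/

set_option autoImplicit false
universe u

namespace Groth.Agent.H57.RigPoint

open AdicRing IsLocalRing

section Base

variable {R : Type u} [CommRing R] [IsDomain R] [ValuationRing R] [Ring.KrullDimLE 1 R]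
  (t : R) (ht : t ≠ 0) [IsAdicComplete (Ideal.span {t}) R]

include ht in
theorem isBase : IsBase R (Ideal.span {t}) :=
  ⟨inferInstance, Or.inr ⟨inferInstance, inferInstance, inferInstance, t, ht, rfl⟩⟩

include ht in
theorem span_le_maximalIdeal : Ideal.span {t} ≤ maximalIdeal R := by
  rw [Ideal.span_le, Set.singleton_subset_iff]
  exact RPow.t_mem_maximalIdeal t ht

variable {B : Type u} [CommRing B] [Algebra R B]

/-- no `t`-torsion means `R`-torsion free. -/
theorem eq_zero_of_algebraMap_mul_eq_zero (hB : NoPowTorsion (Ideal.span {t}) B) {c : R}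
    (hc : c ≠ 0) {x : B} (h : algebraMap R B c * x = 0) : x = 0 := by
  obtain ⟨m, s, hs⟩ := RPow.exists_pow_eq_mul t hc
  apply hB x m
  intro a ha
  rw [Ideal.span_singleton_pow, Ideal.mem_span_singleton] at ha
  obtain ⟨a', rfl⟩ := ha
  rw [hs, Algebra.smul_def, map_mul, map_mul, mul_assoc, mul_assoc, mul_comm (algebraMap R B a'),
    mul_comm (algebraMap R B s), ← mul_assoc, ← mul_assoc, h, zero_mul, zero_mul]

include ht in
theorem algebraMap_injective [Nontrivial B] (hB : NoPowTorsion (Ideal.span {t}) B) :
    Function.Injective (algebraMap R B) := by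
  rw [injective_iff_map_eq_zero]
  intro c hc
  by_contra hne
  have : (1 : B) = 0 := eq_zero_of_algebraMap_mul_eq_zero t hB hne (by rw [hc, zero_mul])
  exact one_ne_zero this

include ht in
/-- the extension of the maximal ideal lies in the radical of `t B`. -/
theorem map_maximalIdeal_le_radical :
    (maximalIdeal R).map (algebraMap R B) ≤
      ((Ideal.span {t}).map (algebraMap R B)).radical := by
  rw [Ideal.map_le_iff_le_comap]
  intro c hc
  rw [Ideal.mem_comap]
  obtain ⟨d, -, hd⟩ := RPow.exists_pow_mem_span t ht ((mem_maximalIdeal c).mp hc)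
  refine ⟨d, ?_⟩
  rw [← map_pow]
  exact Ideal.mem_map_of_mem _ hd

end Base

section Finite

variable {R : Type u} [CommRing R] [IsDomain R] [ValuationRing R] [Ring.KrullDimLE 1 R]
  (t : R) (ht : t ≠ 0) [IsAdicComplete (Ideal.span {t}) R]
  {B : Type u} [CommRing B] [Algebra R B] [IsDomain B]

include ht in
/-- the special fibre is finite over the residue field. -/
theorem finite_fibre (hB : Admissible R (Ideal.span {t}) B) (hdim : ringKrullDim B ≤ 1) :
    Module.Finite (R ⧸ maximalIdeal R) (B ⧸ (maximalIdeal R).map (algebraMap R B)) := by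
  have hI : (Ideal.span {t}).FG := ⟨{t}, by simp⟩
  have htft : TopFiniteType R (Ideal.span {t}) B := by
    obtain ⟨n, φ, hφ, -⟩ := hB.1
    exact ⟨n, φ, hφ⟩
  have hft0 : Algebra.FiniteType R (B ⧸ (Ideal.span {t}).map (algebraMap R B)) :=
    ComplFT.finiteType_quotient_of_tft hI htft
  have hle : (Ideal.span {t}).map (algebraMap R B) ≤ (maximalIdeal R).map (algebraMap R B) :=
    Ideal.map_mono (span_le_maximalIdeal t ht)
  have hft1 : Algebra.FiniteType R (B ⧸ (maximalIdeal R).map (algebraMap R B)) :=
    Algebra.FiniteType.of_surjective (Ideal.Quotient.factorₐ R hle)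
      (Ideal.Quotient.factor_surjective hle)
  have hft2 : Algebra.FiniteType (R ⧸ maximalIdeal R)
      (B ⧸ (maximalIdeal R).map (algebraMap R B)) :=
    Algebra.FiniteType.of_restrictScalars_finiteType R _ _
  have : Ring.KrullDimLE 1 B := by
    rw [Ring.krullDimLE_iff]
    exact hdim
  have htB : algebraMap R B t ≠ 0 := fun h =>
    ht (algebraMap_injective t ht hB.2 (h.trans (map_zero _).symm))
  have hdim0 : Ring.KrullDimLE 0 (B ⧸ (maximalIdeal R).map (algebraMap R B)) := by
    rw [Ring.krullDimLE_zero_iff]
    intro q hq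
    have hP : (q.comap (Ideal.Quotient.mk ((maximalIdeal R).map (algebraMap R B)))).IsPrime :=
      Ideal.comap_isPrime _ _
    have hne : q.comap (Ideal.Quotient.mk ((maximalIdeal R).map (algebraMap R B))) ≠ ⊥ := by
      intro hbot
      apply htB
      have : algebraMap R B t ∈
          q.comap (Ideal.Quotient.mk ((maximalIdeal R).map (algebraMap R B))) := by
        rw [Ideal.mem_comap]
        have : Ideal.Quotient.mk ((maximalIdeal R).map (algebraMap R B)) (algebraMap R B t) = 0 := by
          rw [Ideal.Quotient.eq_zero_iff_mem]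
          exact Ideal.mem_map_of_mem _ (RPow.t_mem_maximalIdeal t ht)
        rw [this]
        exact zero_mem _
      rwa [hbot, Ideal.mem_bot] at this
    have hmax := hP.isMaximal_of_ne_bot hne
    have hq' : q = (q.comap (Ideal.Quotient.mk ((maximalIdeal R).map (algebraMap R B)))).map
        (Ideal.Quotient.mk ((maximalIdeal R).map (algebraMap R B))) :=
      (Ideal.map_comap_of_surjective _ Ideal.Quotient.mk_surjective q).symm
    rcases Ideal.map_eq_top_or_isMaximal_of_surjective
      (Ideal.Quotient.mk ((maximalIdeal R).map (algebraMap R B))) Ideal.Quotient.mk_surjective hmax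
      with h | h
    · exact absurd (hq'.trans h) hq.ne_top
    · rw [hq']
      exact h
  have : IsArtinianRing (R ⧸ maximalIdeal R) := (inferInstance : IsArtinianRing (ResidueField R))
  exact (Module.finite_iff_krullDimLE_zero _ _).mpr hdim0

include ht in
/-- every element is integral over `R` modulo `t`. -/
theorem isIntegral_quotient (hB : Admissible R (Ideal.span {t}) B) (hdim : ringKrullDim B ≤ 1) :
    Algebra.IsIntegral R (B ⧸ (Ideal.span {t}).map (algebraMap R B)) := by
  have hfin := finite_fibre t ht hB hdim
  have hint : Algebra.IsIntegral (R ⧸ maximalIdeal R)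
      (B ⧸ (maximalIdeal R).map (algebraMap R B)) := Algebra.IsIntegral.of_finite _ _
  refine ⟨fun y => ?_⟩
  obtain ⟨x, rfl⟩ := Ideal.Quotient.mk_surjective y
  obtain ⟨p, hp, hpx⟩ := hint.isIntegral
    (Ideal.Quotient.mk ((maximalIdeal R).map (algebraMap R B)) x)
  obtain ⟨P, hPp, -, hP⟩ := Polynomial.lifts_and_natDegree_eq_and_monic
    (f := Ideal.Quotient.mk (maximalIdeal R))
    ((Polynomial.mem_lifts _).mpr (Polynomial.map_surjective _ Ideal.Quotient.mk_surjective p)) hp
  have hmem : Polynomial.aeval x P ∈ (maximalIdeal R).map (algebraMap R B) := by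
    rw [← Ideal.Quotient.eq_zero_iff_mem, ← Ideal.Quotient.mkₐ_eq_mk R, ← Polynomial.aeval_algHom_apply,
      Ideal.Quotient.mkₐ_eq_mk, Polynomial.aeval_def]
    rw [← hPp, Polynomial.eval₂_map] at hpx
    rw [IsScalarTower.algebraMap_eq R (R ⧸ maximalIdeal R)
      (B ⧸ (maximalIdeal R).map (algebraMap R B))]
    exact hpx
  obtain ⟨d, hd⟩ := map_maximalIdeal_le_radical t ht hmem
  refine ⟨P ^ d, hP.pow d, ?_⟩
  rw [← Polynomial.aeval_def, ← Ideal.Quotient.mkₐ_eq_mk R, Polynomial.aeval_algHom_apply,
    Ideal.Quotient.mkₐ_eq_mk, map_pow, Ideal.Quotient.eq_zero_iff_mem]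
  exact hd

include ht in
/-- An admissible `R`-algebra which is a domain of dimension at most one is finite over `R`. -/
theorem finite_of_rigPoint (hB : Admissible R (Ideal.span {t}) B) (hdim : ringKrullDim B ≤ 1) :
    Module.Finite R B := by
  have hI : (Ideal.span {t}).FG := ⟨{t}, by simp⟩
  have htft : TopFiniteType R (Ideal.span {t}) B := by
    obtain ⟨n, φ, hφ, -⟩ := hB.1
    exact ⟨n, φ, hφ⟩
  have hft0 : Algebra.FiniteType R (B ⧸ (Ideal.span {t}).map (algebraMap R B)) :=
    ComplFT.finiteType_quotient_of_tft hI htft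
  have hint := isIntegral_quotient t ht hB hdim
  have hfin : Module.Finite R (B ⧸ (Ideal.span {t}).map (algebraMap R B)) :=
    Algebra.IsIntegral.finite
  have hcomp : IsAdicComplete (Ideal.span {t}) B :=
    RPow.tft_isAdicComplete (isBase t ht) htft
  apply Groth.Agent.H44.finite_of_finite_quotient (Ideal.span {t}) B
  have e1 : (B ⧸ (Ideal.span {t} • ⊤ : Submodule R B)) ≃ₗ[R]
      (B ⧸ ((Ideal.span {t}).map (algebraMap R B)).restrictScalars R) :=
    Submodule.quotEquivOfEq _ _ (Ideal.smul_top_eq_map _)
  have e2 : (B ⧸ ((Ideal.span {t}).map (algebraMap R B)).restrictScalars R) ≃ₗ[R]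
      (B ⧸ (Ideal.span {t}).map (algebraMap R B)) :=
    Submodule.Quotient.restrictScalarsEquiv R _
  exact Module.Finite.equiv (e1.trans e2).symm

end Finite

section Surj

/-- If `x w = 1` with `x` in a subalgebra and `w` integral over the base, then `w` lies in the
subalgebra. -/
theorem mem_of_mul_eq_one_of_isIntegral {R B : Type*} [CommRing R] [CommRing B] [Algebra R B]
    (S : Subalgebra R B) {x w : B} (hx : x ∈ S) (hxw : x * w = 1) (hw : IsIntegral R w) :
    w ∈ S := by
  obtain ⟨p, hp, hpw⟩ := hw
  rw [← Polynomial.aeval_def] at hpw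
  rcases Nat.eq_zero_or_pos p.natDegree with h0 | hpos
  · have : p = 1 := Polynomial.eq_one_of_monic_natDegree_zero hp h0
    rw [this, map_one] at hpw
    have : w = 0 := by rw [← mul_one w, hpw, mul_zero]
    rw [this]
    exact zero_mem _
  · obtain ⟨m, hm⟩ := Nat.exists_eq_succ_of_ne_zero hpos.ne'
    have hsum := hp.as_sum
    rw [hm] at hsum
    have h1 : 0 = w ^ (m + 1) +
        ∑ i ∈ Finset.range (m + 1), algebraMap R B (p.coeff i) * w ^ i := by
      have := congrArg (Polynomial.aeval w) hsum
      rw [hpw, map_add, map_pow, Polynomial.aeval_X, map_sum] at this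
      simp only [map_mul, Polynomial.aeval_C, map_pow, Polynomial.aeval_X] at this
      exact this
    have h2 : w = - ∑ i ∈ Finset.range (m + 1), algebraMap R B (p.coeff i) * x ^ (m - i) := by
      have h3 : x ^ m * (w ^ (m + 1) +
          ∑ i ∈ Finset.range (m + 1), algebraMap R B (p.coeff i) * w ^ i) = 0 := by
        rw [← h1, mul_zero]
      rw [mul_add, Finset.mul_sum] at h3
      have h4 : x ^ m * w ^ (m + 1) = w := by
        rw [pow_succ, ← mul_assoc, ← mul_pow, hxw, one_pow, one_mul]
      have h5 : ∀ i ∈ Finset.range (m + 1), x ^ m * (algebraMap R B (p.coeff i) * w ^ i) =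
          algebraMap R B (p.coeff i) * x ^ (m - i) := by
        intro i hi
        have hi' : i ≤ m := Nat.lt_succ_iff.mp (Finset.mem_range.mp hi)
        have hx' : x ^ m = x ^ (m - i) * x ^ i := by rw [← pow_add, Nat.sub_add_cancel hi']
        rw [hx']
        calc x ^ (m - i) * x ^ i * (algebraMap R B (p.coeff i) * w ^ i)
            = algebraMap R B (p.coeff i) * x ^ (m - i) * (x * w) ^ i := by rw [mul_pow]; ring
          _ = _ := by rw [hxw, one_pow, mul_one]
      rw [h4, Finset.sum_congr rfl h5] at h3
      exact eq_neg_of_add_eq_zero_left h3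
    rw [h2]
    apply neg_mem
    apply sum_mem
    intro i _
    exact mul_mem (S.algebraMap_mem _) (pow_mem hx _)

variable {R : Type u} [CommRing R] [IsLocalRing R] {I : Ideal R}
  {A : Type u} [CommRing A] [Algebra R A] (f : A)
  {B : Type u} [CommRing B] [Algebra R B] [Module.Finite R B]

/-- A surjection from a complete localization `A⟨f⁻¹⟩` onto a finite `R`-algebra restricts to a
surjection on `A`. -/
theorem surjective_comp_algebraMap_cloc (hI : I.FG) (hIm : I ≤ maximalIdeal R)
    (u : CLoc I f →ₐ[R] B) (hu : Function.Surjective u) :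
    Function.Surjective (u.toRingHom.comp (algebraMap A (CLoc I f))) := by
  let g : A →ₐ[R] B := u.comp (IsScalarTower.toAlgHom R A (CLoc I f))
  have hg : ∀ a, g a = u (algebraMap A (CLoc I f) a) := fun a => rfl
  suffices hsuff : Function.Surjective g from hsuff
  -- `g f` is a unit
  have hfu : IsUnit (g f) := by
    rw [hg, IsScalarTower.algebraMap_apply A (Localization.Away f) (CLoc I f)]
    exact ((IsLocalization.Away.algebraMap_isUnit f).map _).map u
  obtain ⟨v, hv⟩ := hfu
  have hw : (↑v⁻¹ : B) ∈ g.range := by
    apply mem_of_mul_eq_one_of_isIntegral g.range (x := g f) ⟨f, rfl⟩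
    · rw [← hv, Units.mul_inv]
    · exact Algebra.IsIntegral.isIntegral _
  -- the image of the localization lies in the range
  have hloc : ∀ l : Localization.Away f,
      u (algebraMap (Localization.Away f) (CLoc I f) l) ∈ g.range := by
    intro l
    obtain ⟨n, a, ha⟩ := IsLocalization.Away.surj f l
    have h1 : u (algebraMap (Localization.Away f) (CLoc I f) l) * (g f) ^ n = g a := by
      rw [hg, hg, IsScalarTower.algebraMap_apply A (Localization.Away f) (CLoc I f),
        IsScalarTower.algebraMap_apply A (Localization.Away f) (CLoc I f), ← map_pow, ← map_pow,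
        ← map_mul, ← map_mul, ha]
    have h2 : u (algebraMap (Localization.Away f) (CLoc I f) l) = g a * (↑v⁻¹ : B) ^ n := by
      rw [← h1, mul_assoc, ← mul_pow, ← hv, Units.mul_inv, one_pow, mul_one]
    rw [h2]
    exact mul_mem ⟨a, rfl⟩ (pow_mem hw n)
  have hJ : (I.map (algebraMap R (Localization.Away f))).FG := hI.map _
  have htop : (⊤ : Submodule R B) ≤ Subalgebra.toSubmodule g.range := by
    apply Submodule.le_of_le_smul_of_le_jacobson_bot (I := I) Module.Finite.fg_top
    · rw [IsLocalRing.jacobson_eq_maximalIdeal ⊥ bot_ne_top]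
      exact hIm
    · intro b _
      obtain ⟨c, rfl⟩ := hu b
      obtain ⟨l, hl⟩ := CLoc.exists_sub_algebraMap_mem
        (I.map (algebraMap R (Localization.Away f))) hJ 1 c
      have hc : c = algebraMap (Localization.Away f) (CLoc I f) l +
          (c - algebraMap (Localization.Away f) (CLoc I f) l) := by ring
      rw [hc, map_add]
      apply Submodule.add_mem_sup
      · exact hloc l
      · rw [pow_one, Ideal.map_map, ← IsScalarTower.algebraMap_eq] at hl
        rw [Ideal.smul_top_eq_map]
        change u _ ∈ I.map (algebraMap R B)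
        have h1 : (I.map (algebraMap R (CLoc I f))).map u.toRingHom = I.map (algebraMap R B) := by
          rw [Ideal.map_map]
          congr 1
          exact u.comp_algebraMap
        rw [← h1]
        exact Ideal.mem_map_of_mem _ hl
  intro b
  obtain ⟨a, ha⟩ := htop (Submodule.mem_top : b ∈ ⊤)
  exact ⟨a, ha⟩

end Surj

end Groth.Agent.H57.RigPoint
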