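import Mathlib

/-!
# Counit of a fully faithful exact functor from a finite-length category (helper57)
-/

set_option autoImplicit false
universe v u v' u'
open CategoryTheory CategoryTheory.Limits

namespace Groth.Agent.H57.CounitMono

variable {A : Type u} [Category.{v} A] [Abelian A] {B : Type u'} [Category.{v'} B] [Abelian B]
  (F : A ⥤ B) [PreservesFiniteLimits F] [PreservesFiniteColimits F]

/-- `Q X`: a subobject of `F X` receiving no nonzero map from an object `F S` is zero. -/
def Q (X : A) : Prop :=
  ∀ (K : B) (κ : K ⟶ F.obj X) [Mono κ], (∀ (S : A) (g : F.obj S ⟶ K), g = 0) → IsZero K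

lemma Q_of_isZero {Z : A} (hZ : IsZero Z) : Q F Z := by
  intro K κ _ _
  exact IsZero.of_mono κ (F.map_isZero hZ)

lemma Q_of_simple_sub (hsimple : ∀ S : A, Simple S → Simple (F.obj S)) {Z S : A} (i : S ⟶ Z)
    [Mono i] [Simple S] (hW : Q F (cokernel i)) : Q F Z := by
  intro K κ _ hK
  have : Simple (F.obj S) := hsimple S inferInstance
  -- the short exact sequence
  let T : ShortComplex A := ShortComplex.mk i (cokernel.π i) (cokernel.condition i)
  have hT : T.ShortExact :=
    { exact := ShortComplex.exact_cokernel i
      mono_f := inferInstanceAs (Mono i)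
      epi_g := inferInstanceAs (Epi (cokernel.π i)) }
  have hFT : (T.map F).ShortExact := hT.map_of_exact F
  have : Mono (F.map i) := hFT.mono_f
  -- the intersection of `K` and `F S`
  have hP : IsZero (pullback κ (F.map i)) := by
    by_cases h0 : pullback.snd κ (F.map i) = 0
    · exact IsZero.of_mono_eq_zero _ h0
    · exfalso
      have : IsIso (pullback.snd κ (F.map i)) := isIso_of_mono_of_nonzero h0
      have hg := hK S (inv (pullback.snd κ (F.map i)) ≫ pullback.fst κ (F.map i))
      have : F.map i = 0 := by
        have h1 : (inv (pullback.snd κ (F.map i)) ≫ pullback.fst κ (F.map i)) ≫ κ = F.map i := by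
          rw [Category.assoc, pullback.condition, IsIso.inv_hom_id_assoc]
        rw [← h1, hg, zero_comp]
      exact Simple.not_isZero (F.obj S) (IsZero.of_mono_eq_zero _ this)
  have : Mono (κ ≫ F.map (cokernel.π i)) := by
    apply Preadditive.mono_of_cancel_zero
    intro T' g hg
    have hg' : (g ≫ κ) ≫ (T.map F).g = 0 := by
      rw [Category.assoc]; exact hg
    have : Mono (T.map F).f := hFT.mono_f
    let l : T' ⟶ F.obj S := hFT.exact.lift (g ≫ κ) hg'
    have hl : l ≫ F.map i = g ≫ κ := hFT.exact.lift_f (g ≫ κ) hg'
    have : g = pullback.lift g l hl.symm ≫ pullback.fst κ (F.map i) :=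
      (pullback.lift_fst _ _ _).symm
    rw [this, hP.eq_of_tgt (pullback.lift g l hl.symm) 0, zero_comp]
  exact hW K (κ ≫ F.map (cokernel.π i)) hK

lemma Q_all (hlen : ∀ X : A, IsArtinianObject X ∧ IsNoetherianObject X)
    (hsimple : ∀ S : A, Simple S → Simple (F.obj S)) (X₀ : A) : Q F X₀ := by
  have := (hlen X₀).2
  have key : ∀ X' : Subobject X₀, ∀ (Z : A) (π : X₀ ⟶ Z) [Epi π],
      kernelSubobject π = X' → Q F Z := by
    intro X'
    induction X' using WellFoundedGT.induction with
    | _ X' ih =>
      intro Z π _ hker
      by_cases hZ : IsZero Z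
      · exact Q_of_isZero F hZ
      · have := (hlen Z).1
        obtain ⟨S, hS⟩ := exists_simple_subobject hZ
        have hlt : X' < kernelSubobject (π ≫ cokernel.π S.arrow) := by
          rw [← hker]
          refine lt_of_le_of_ne (kernelSubobject_comp_le π _) ?_
          intro h
          have e : (kernelSubobject (π ≫ cokernel.π S.arrow)).arrow ≫ π = 0 := by
            rw [← h]; exact kernelSubobject_arrow_comp π
          have w : pullback.fst π S.arrow ≫ π ≫ cokernel.π S.arrow = 0 := by
            rw [← Category.assoc, pullback.condition, Category.assoc, cokernel.condition,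
              comp_zero]
          have h1 : pullback.fst π S.arrow ≫ π = 0 := by
            rw [← factorThruKernelSubobject_comp_arrow (π ≫ cokernel.π S.arrow) _ w,
              Category.assoc, e, comp_zero]
          rw [pullback.condition] at h1
          have : Epi (pullback.snd π S.arrow) := Abelian.epi_pullback_of_epi_f π S.arrow
          have h2 : S.arrow = 0 := by
            rw [← cancel_epi (pullback.snd π S.arrow), h1, comp_zero]
          exact Simple.not_isZero (S : A) (IsZero.of_mono_eq_zero _ h2)
        have hW := ih _ hlt (cokernel S.arrow) (π ≫ cokernel.π S.arrow) rfl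
        exact Q_of_simple_sub F hsimple S.arrow hW
  have := key (kernelSubobject (𝟙 X₀)) X₀ (𝟙 X₀) rfl
  exact this

theorem mono_counit [F.Full] [F.Faithful] (G : B ⥤ A) (adj : F ⊣ G)
    (hlen : ∀ X : A, IsArtinianObject X ∧ IsNoetherianObject X)
    (hsimple : ∀ X : A, Simple X → Simple (F.obj X)) (Y : B) :
    Mono (adj.counit.app Y) := by
  apply Preadditive.mono_of_isZero_kernel
  refine Q_all F hlen hsimple (G.obj Y) (kernel (adj.counit.app Y)) (kernel.ι _) ?_
  intro S g
  obtain ⟨f, hf⟩ := F.map_surjective (g ≫ kernel.ι (adj.counit.app Y))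
  have h0 : F.map f ≫ adj.counit.app Y = 0 := by
    rw [hf, Category.assoc, kernel.condition, comp_zero]
  have hf0 : f = 0 := by
    apply (adj.homEquiv S Y).symm.injective
    rw [Adjunction.homEquiv_counit, Adjunction.homEquiv_counit, h0, F.map_zero, zero_comp]
  rw [hf0, F.map_zero] at hf
  rw [← cancel_mono (kernel.ι (adj.counit.app Y)), ← hf, zero_comp]

end Groth.Agent.H57.CounitMono
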