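import Mathlib

/-!
# Connectedness of `D(a) ∪ D(b)` when `a, b` behaves like a regular sequence of length two

If `a, b` are nonzerodivisors of `S` with `b ^ m * x ∈ a ^ n S → x ∈ a ^ n S`, and `S` has only
trivial idempotents, then `D(a) ∪ D(b) ⊆ Spec S` is preconnected.
-/

set_option autoImplicit false
set_option linter.style.haveILetI false
set_option linter.unusedSectionVars false
universe u

namespace Groth.Agent.H57.DepthTwoConn

open PrimeSpectrum

/-- Gluing elements of `S_a` and `S_b` agreeing in `S_{ab}`. -/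
theorem exists_glue {S : Type*} [CommRing S] (a b : S) (ha : a ∈ nonZeroDivisors S)
    (hb : b ∈ nonZeroDivisors S)
    (hreg : ∀ (n m : ℕ) (x y : S), b ^ m * x = a ^ n * y → ∃ z, x = a ^ n * z)
    (Sa Sb Sab : Type*) [CommRing Sa] [CommRing Sb] [CommRing Sab] [Algebra S Sa] [Algebra S Sb]
    [Algebra S Sab] [IsLocalization.Away a Sa] [IsLocalization.Away b Sb]
    [IsLocalization.Away (a * b) Sab] (ψa : Sa →+* Sab) (ψb : Sb →+* Sab)
    (hψa : ∀ s, ψa (algebraMap S Sa s) = algebraMap S Sab s)
    (hψb : ∀ s, ψb (algebraMap S Sb s) = algebraMap S Sab s)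
    (xa : Sa) (xb : Sb) (hx : ψa xa = ψb xb) :
    ∃ u : S, algebraMap S Sa u = xa ∧ algebraMap S Sb u = xb := by
  obtain ⟨n, s, hs⟩ := IsLocalization.Away.surj a xa
  obtain ⟨m, t, ht⟩ := IsLocalization.Away.surj b xb
  have hinj : Function.Injective (algebraMap S Sab) :=
    IsLocalization.injective Sab (Submonoid.powers_le.mpr (mul_mem ha hb))
  have hua : IsUnit (algebraMap S Sa a) := IsLocalization.Away.algebraMap_isUnit a
  have hub : IsUnit (algebraMap S Sb b) := IsLocalization.Away.algebraMap_isUnit b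
  have h1 : b ^ m * s = a ^ n * t := by
    apply hinj
    have e1 := congrArg ψa hs
    have e2 := congrArg ψb ht
    rw [map_mul, map_pow, hψa, hψa] at e1
    rw [map_mul, map_pow, hψb, hψb] at e2
    rw [map_mul, map_mul, map_pow, map_pow, ← e1, ← e2, hx]
    ring
  obtain ⟨z, hz⟩ := hreg n m s t h1
  have han : a ^ n ∈ nonZeroDivisors S := pow_mem ha n
  have h2 : t = z * b ^ m := by
    have : a ^ n * t = a ^ n * (z * b ^ m) := by rw [← h1, hz]; ring
    exact (mul_cancel_left_mem_nonZeroDivisors han).mp this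
  refine ⟨z, ?_, ?_⟩
  · have : algebraMap S Sa z * algebraMap S Sa a ^ n = xa * algebraMap S Sa a ^ n := by
      rw [hs, hz, map_mul, map_pow]; ring
    exact (hua.pow n).mul_left_injective this
  · have : algebraMap S Sb z * algebraMap S Sb b ^ m = xb * algebraMap S Sb b ^ m := by
      rw [ht, h2, map_mul, map_pow]
    exact (hub.pow m).mul_left_injective this

/-- A clopen decomposition pulled back along `Spec R → Spec S` is cut out by an idempotent. -/
theorem exists_idempotent_preimage {S R : Type*} [CommRing S] [CommRing R] (φ : S →+* R)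
    (V₁ V₂ : Set (PrimeSpectrum S)) (hV₁ : IsOpen V₁) (hV₂ : IsOpen V₂)
    (hcov : ∀ p : PrimeSpectrum R, comap φ p ∈ V₁ ∪ V₂)
    (hdisj : ∀ p : PrimeSpectrum R, comap φ p ∈ V₁ → comap φ p ∈ V₂ → False) :
    ∃ e : R, IsIdempotentElem e ∧ comap φ ⁻¹' V₁ = (basicOpen e : Set (PrimeSpectrum R)) := by
  apply PrimeSpectrum.isClopen_iff.mp
  refine ⟨?_, hV₁.preimage (continuous_comap φ)⟩
  have : (comap φ ⁻¹' V₁)ᶜ = comap φ ⁻¹' V₂ := by
    ext p
    simp only [Set.mem_compl_iff, Set.mem_preimage]
    constructor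
    · intro h; exact (hcov p).resolve_left h
    · intro h2 h1; exact hdisj p h1 h2
  rw [← isOpen_compl_iff, this]
  exact hV₂.preimage (continuous_comap φ)

/-- `D(a) ∪ D(b)` is preconnected if `a, b` is "regular of length two" and `S` has only trivial
idempotents. -/
theorem isPreconnected_basicOpen_union {S : Type u} [CommRing S] (a b : S)
    (ha : a ∈ nonZeroDivisors S) (hb : b ∈ nonZeroDivisors S)
    (hreg : ∀ (n m : ℕ) (x y : S), b ^ m * x = a ^ n * y → ∃ z, x = a ^ n * z)
    (hidem : ∀ e : S, IsIdempotentElem e → e = 0 ∨ e = 1) :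
    IsPreconnected ((basicOpen a : Set (PrimeSpectrum S)) ∪ basicOpen b) := by
  intro V₁ V₂ hV₁ hV₂ hsub hne1 hne2
  by_contra hcon
  rw [Set.not_nonempty_iff_eq_empty] at hcon
  let Sa := Localization.Away a
  let Sb := Localization.Away b
  let Sab := Localization.Away (a * b)
  let ψa : Sa →+* Sab := IsLocalization.Away.awayToAwayRight a b
  let ψb : Sb →+* Sab := IsLocalization.Away.awayToAwayLeft b a
  have hψa : ∀ s, ψa (algebraMap S Sa s) = algebraMap S Sab s :=
    IsLocalization.Away.awayToAwayRight_eq a b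
  have hψb : ∀ s, ψb (algebraMap S Sb s) = algebraMap S Sab s :=
    IsLocalization.Away.awayToAwayLeft_eq b a
  have hra : ∀ p : PrimeSpectrum Sa, comap (algebraMap S Sa) p ∈
      (basicOpen a : Set (PrimeSpectrum S)) := fun p => by
    rw [← localization_away_comap_range Sa a]; exact ⟨p, rfl⟩
  have hrb : ∀ p : PrimeSpectrum Sb, comap (algebraMap S Sb) p ∈
      (basicOpen b : Set (PrimeSpectrum S)) := fun p => by
    rw [← localization_away_comap_range Sb b]; exact ⟨p, rfl⟩
  have hdisjU : ∀ q ∈ (basicOpen a : Set (PrimeSpectrum S)) ∪ basicOpen b,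
      q ∈ V₁ → q ∈ V₂ → False := fun q hq h1 h2 => by
    have : q ∈ ((basicOpen a : Set (PrimeSpectrum S)) ∪ basicOpen b) ∩ (V₁ ∩ V₂) := ⟨hq, h1, h2⟩
    rw [hcon] at this; exact this
  obtain ⟨ea, hea, hWa⟩ := exists_idempotent_preimage (algebraMap S Sa) V₁ V₂ hV₁ hV₂
    (fun p => hsub (Or.inl (hra p))) (fun p => hdisjU _ (Or.inl (hra p)))
  obtain ⟨eb, heb, hWb⟩ := exists_idempotent_preimage (algebraMap S Sb) V₁ V₂ hV₁ hV₂
    (fun p => hsub (Or.inr (hrb p))) (fun p => hdisjU _ (Or.inr (hrb p)))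
  have hcompat : ψa ea = ψb eb := by
    apply basicOpen_injOn_isIdempotentElem (hea.map ψa) (heb.map ψb)
    apply TopologicalSpace.Opens.ext
    ext p
    have e1 : comap (algebraMap S Sa) (comap ψa p) = comap (algebraMap S Sab) p := by
      apply PrimeSpectrum.ext
      ext s
      simp only [comap_asIdeal, Ideal.mem_comap, hψa]
    have e2 : comap (algebraMap S Sb) (comap ψb p) = comap (algebraMap S Sab) p := by
      apply PrimeSpectrum.ext
      ext s
      simp only [comap_asIdeal, Ideal.mem_comap, hψb]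
    have m1 : p ∈ (basicOpen (ψa ea) : Set (PrimeSpectrum Sab)) ↔
        comap (algebraMap S Sab) p ∈ V₁ := by
      rw [← e1]
      have : comap ψa p ∈ comap (algebraMap S Sa) ⁻¹' V₁ ↔
          comap ψa p ∈ (basicOpen ea : Set (PrimeSpectrum Sa)) := by rw [hWa]
      exact this.symm
    have m2 : p ∈ (basicOpen (ψb eb) : Set (PrimeSpectrum Sab)) ↔
        comap (algebraMap S Sab) p ∈ V₁ := by
      rw [← e2]
      have : comap ψb p ∈ comap (algebraMap S Sb) ⁻¹' V₁ ↔
          comap ψb p ∈ (basicOpen eb : Set (PrimeSpectrum Sb)) := by rw [hWb]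
      exact this.symm
    exact m1.trans m2.symm
  obtain ⟨u, hua, hub⟩ := exists_glue a b ha hb hreg Sa Sb Sab ψa ψb hψa hψb ea eb hcompat
  have hinja : Function.Injective (algebraMap S Sa) :=
    IsLocalization.injective Sa (Submonoid.powers_le.mpr ha)
  have hu : IsIdempotentElem u := by
    apply hinja
    rw [map_mul, hua]
    exact hea.eq
  rcases hidem u hu with rfl | rfl
  · obtain ⟨q, hqU, hq1⟩ := hne1
    rcases hqU with hqa | hqb
    · rw [← localization_away_comap_range Sa a] at hqa
      obtain ⟨p, rfl⟩ := hqa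
      have : p ∈ comap (algebraMap S Sa) ⁻¹' V₁ := hq1
      rw [hWa, ← hua, map_zero] at this
      simp at this
    · rw [← localization_away_comap_range Sb b] at hqb
      obtain ⟨p, rfl⟩ := hqb
      have : p ∈ comap (algebraMap S Sb) ⁻¹' V₁ := hq1
      rw [hWb, ← hub, map_zero] at this
      simp at this
  · obtain ⟨q, hqU, hq2⟩ := hne2
    rcases hqU with hqa | hqb
    · have hqU' : q ∈ (basicOpen a : Set (PrimeSpectrum S)) ∪ basicOpen b := Or.inl hqa
      rw [← localization_away_comap_range Sa a] at hqa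
      obtain ⟨p, rfl⟩ := hqa
      have : p ∈ comap (algebraMap S Sa) ⁻¹' V₁ := by
        rw [hWa, ← hua, map_one]
        simp
      exact hdisjU _ hqU' this hq2
    · have hqU' : q ∈ (basicOpen a : Set (PrimeSpectrum S)) ∪ basicOpen b := Or.inr hqb
      rw [← localization_away_comap_range Sb b] at hqb
      obtain ⟨p, rfl⟩ := hqb
      have : p ∈ comap (algebraMap S Sb) ⁻¹' V₁ := by
        rw [hWb, ← hub, map_one]
        simp
      exact hdisjU _ hqU' this hq2

end Groth.Agent.H57.DepthTwoConn
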