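import Mathlib

set_option autoImplicit false

namespace Groth.Agent.H57
open TensorProduct

universe u v w

section
variable {A : Type u} [CommRing A] {M : Type v} [AddCommGroup M] [Module A M]

/-- If `B ⊗[A] M` is `B`-flat then `- ⊗[A] M` preserves injective `B`-linear maps. -/
lemma rTensor_injective_of_flat_baseChange (B : Type w) [CommRing B] [Algebra A B]
    [Module.Flat B (B ⊗[A] M)]
    {X Y : Type*} [AddCommGroup X] [AddCommGroup Y] [Module A X] [Module B X] [IsScalarTower A B X]
    [Module A Y] [Module B Y] [IsScalarTower A B Y] (f : X →ₗ[B] Y) (hf : Function.Injective f) :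
    Function.Injective ((f.restrictScalars A).rTensor M) := by
  have h1 : Function.Injective (f.rTensor (B ⊗[A] M)) :=
    Module.Flat.rTensor_preserves_injective_linearMap f hf
  let eX := AlgebraTensorModule.cancelBaseChange A B B X M
  let eY := AlgebraTensorModule.cancelBaseChange A B B Y M
  have key : ∀ t : X ⊗[B] (B ⊗[A] M),
      ((f.restrictScalars A).rTensor M) (eX t) = eY ((f.rTensor (B ⊗[A] M)) t) := by
    intro t
    induction t using TensorProduct.induction_on with
    | zero => simp
    | tmul x y =>
      induction y using TensorProduct.induction_on with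
      | zero => simp
      | tmul b m => simp [eX, eY]
      | add y1 y2 h1 h2 => simp only [tmul_add, map_add, h1, h2]
    | add t1 t2 h1 h2 => simp only [map_add, h1, h2]
  intro a b hab
  have ha := key (eX.symm a)
  have hb := key (eX.symm b)
  simp only [LinearEquiv.apply_symm_apply] at ha hb
  rw [ha, hb] at hab
  have := h1 (eY.injective hab)
  exact eX.symm.injective this

end

section
variable {A : Type u} [CommRing A] {M : Type v} [AddCommGroup M] [Module A M]

lemma mk_quot_eq_zero_iff (π : A) {K : Type*} [AddCommGroup K] [Module A K] (k : K) :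
    TensorProduct.mk A (A ⧸ Ideal.span {π}) K 1 k = 0 ↔ ∃ b : K, π • b = k := by
  have h1 : TensorProduct.mk A (A ⧸ Ideal.span {π}) K 1 k = 0 ↔
      (Submodule.Quotient.mk k : K ⧸ (Ideal.span {π} • (⊤ : Submodule A K))) = 0 := by
    rw [← quotTensorEquivQuotSMul_mk_one_tmul (Ideal.span {π}) k]
    exact (LinearEquiv.map_eq_zero_iff _).symm
  rw [h1, Submodule.Quotient.mk_eq_zero, Submodule.ideal_span_singleton_smul,
    Submodule.mem_smul_pointwise_iff_exists]
  simp

/-- Auxiliary form of `smul_regular_tensor` with a chosen flat presentation. -/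
lemma smul_regular_tensor_aux (π : A)
    [Module.Flat (A ⧸ Ideal.span {π}) ((A ⧸ Ideal.span {π}) ⊗[A] M)]
    (hM : ∀ x : M, π • x = 0 → x = 0)
    {N : Type*} [AddCommGroup N] [Module A N] (hN : ∀ x : N, π • x = 0 → x = 0)
    {K F : Type*} [AddCommGroup K] [Module A K] [AddCommGroup F] [Module A F] [Module.Flat A F]
    (u : K →ₗ[A] F) (p : F →ₗ[A] N) (hu : Function.Injective u) (hex : Function.Exact u p)
    (hp : Function.Surjective p)
    (w : N ⊗[A] M) (hw : π • w = 0) : w = 0 := by
  classical
  have hex' : Function.Exact (u.rTensor M) (p.rTensor M) := rTensor_exact M hex hp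
  obtain ⟨w', rfl⟩ := LinearMap.rTensor_surjective M hp w
  have h1 : (p.rTensor M) (π • w') = 0 := by rw [map_smul]; exact hw
  obtain ⟨v, hv⟩ := (hex' (π • w')).1 h1
  have hsurjK : Function.Surjective (TensorProduct.mk A (A ⧸ Ideal.span {π}) K 1) :=
    TensorProduct.mk_surjective A K _ Ideal.Quotient.mk_surjective
  have huB : Function.Injective (u.baseChange (A ⧸ Ideal.span {π})) := by
    rw [injective_iff_map_eq_zero]
    intro x hx
    obtain ⟨k, rfl⟩ := hsurjK x
    have h2 : (u.baseChange (A ⧸ Ideal.span {π})) (TensorProduct.mk A (A ⧸ Ideal.span {π}) K 1 k) =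
        TensorProduct.mk A (A ⧸ Ideal.span {π}) F 1 (u k) := by simp
    rw [h2] at hx
    obtain ⟨f, hf⟩ := (mk_quot_eq_zero_iff π (u k)).1 hx
    have hfK : p f = 0 := by
      apply hN
      rw [← map_smul, hf]
      exact hex.apply_apply_eq_zero k
    obtain ⟨k', rfl⟩ := (hex f).1 hfK
    have hk : π • k' = k := by
      apply hu
      rw [map_smul, hf]
    exact (mk_quot_eq_zero_iff π k).2 ⟨k', hk⟩
  have hinj := rTensor_injective_of_flat_baseChange (A := A) (M := M) (A ⧸ Ideal.span {π})
    (u.baseChange (A ⧸ Ideal.span {π})) huB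
  have hsq : ∀ t : K ⊗[A] M,
      ((u.baseChange (A ⧸ Ideal.span {π})).restrictScalars A).rTensor M
        ((TensorProduct.mk A (A ⧸ Ideal.span {π}) K 1).rTensor M t) =
      (TensorProduct.mk A (A ⧸ Ideal.span {π}) F 1).rTensor M (u.rTensor M t) := by
    intro t
    induction t using TensorProduct.induction_on with
    | zero => simp
    | tmul k m => simp
    | add t1 t2 h1 h2 => simp only [map_add, h1, h2]
  have hkill : ∀ t : ((A ⧸ Ideal.span {π}) ⊗[A] F) ⊗[A] M, π • t = 0 := by
    intro t
    induction t using TensorProduct.induction_on with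
    | zero => simp
    | tmul x m =>
      induction x using TensorProduct.induction_on with
      | zero => simp
      | tmul b f =>
        rw [TensorProduct.smul_tmul', TensorProduct.smul_tmul']
        have : π • b = 0 := by
          obtain ⟨a, rfl⟩ := Ideal.Quotient.mk_surjective b
          rw [Algebra.smul_def]
          change Ideal.Quotient.mk _ π * Ideal.Quotient.mk _ a = 0
          rw [← map_mul]
          exact Ideal.Quotient.eq_zero_iff_mem.2
            (Ideal.mul_mem_right _ _ (Ideal.mem_span_singleton_self π))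
        rw [this]; simp
      | add x1 x2 h1 h2 => rw [add_tmul, smul_add, h1, h2, add_zero]
    | add t1 t2 h1 h2 => rw [smul_add, h1, h2, add_zero]
  have h3 : (TensorProduct.mk A (A ⧸ Ideal.span {π}) K 1).rTensor M v = 0 := by
    apply hinj
    rw [hsq, hv, map_smul, hkill, map_zero]
  have hexK : Function.Exact (π • LinearMap.id : K →ₗ[A] K)
      (TensorProduct.mk A (A ⧸ Ideal.span {π}) K 1) := by
    intro k
    rw [mk_quot_eq_zero_iff]
    simp [eq_comm]
  obtain ⟨v', hv'⟩ := (rTensor_exact M hexK hsurjK v).1 h3
  have hv2 : v = π • v' := by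
    rw [← hv', LinearMap.rTensor_smul]; simp
  have hFM : ∀ y : F ⊗[A] M, π • y = 0 → y = 0 := by
    intro y hy
    have hi : Function.Injective ((π • LinearMap.id : M →ₗ[A] M).lTensor F) :=
      Module.Flat.lTensor_preserves_injective_linearMap _ (by
        intro a b hab
        have : π • (a - b) = 0 := by simpa [smul_sub, sub_eq_zero] using hab
        exact sub_eq_zero.1 (hM _ this))
    apply hi
    rw [LinearMap.lTensor_smul]; simpa using hy
  have hw' : w' = u.rTensor M v' := by
    have : π • (w' - u.rTensor M v') = 0 := by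
      rw [smul_sub, ← map_smul, ← hv2, hv, sub_self]
    exact sub_eq_zero.1 (hFM _ this)
  rw [hw']
  exact hex'.apply_apply_eq_zero v'

/-- If `π` is regular on `N` and on `M`, and `M/πM` is flat over `A/π`, then `π` is regular on
`N ⊗ M`. -/
lemma smul_regular_tensor (π : A)
    [Module.Flat (A ⧸ Ideal.span {π}) ((A ⧸ Ideal.span {π}) ⊗[A] M)]
    (hM : ∀ x : M, π • x = 0 → x = 0)
    {N : Type w} [AddCommGroup N] [Module A N] (hN : ∀ x : N, π • x = 0 → x = 0)
    (w : N ⊗[A] M) (hw : π • w = 0) : w = 0 :=
  smul_regular_tensor_aux π hM hN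
    (K := LinearMap.ker (Finsupp.linearCombination A (id : N → N))) (F := N →₀ A)
    (u := (LinearMap.ker (Finsupp.linearCombination A (id : N → N))).subtype)
    (p := Finsupp.linearCombination A (id : N → N)) (Submodule.subtype_injective _)
    (LinearMap.exact_subtype_ker_map _)
    (Finsupp.linearCombination_surjective A Function.surjective_id) w hw

end

end Groth.Agent.H57
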