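import Mathlib
import Groth.Agent.H2.Tor1

/-!
# Flat lifts of ideals along a square-zero extension of the base (helper57)

`C'` a ring, `J` an ideal, `A'` a `C'`-algebra.  `mu J M : M ⊗[C'] J → M` is the multiplication
map.  If `N` is flat then `mu J N` is injective, which gives the basic tool
`rTensor_eq_zero_of_map_mu_eq_zero`.
-/

set_option autoImplicit false
universe u
open scoped TensorProduct

namespace Groth.Agent.H57.FlatLift

section basic

variable {C' : Type u} [CommRing C'] (J : Ideal C')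

/-- The multiplication map `M ⊗ J → M`. -/
noncomputable def mu (M : Type u) [AddCommGroup M] [Module C' M] : M ⊗[C'] ↥J →ₗ[C'] M :=
  (TensorProduct.rid C' M).toLinearMap ∘ₗ LinearMap.lTensor M (Submodule.subtype J)

variable {J}
variable {M N P : Type u} [AddCommGroup M] [Module C' M] [AddCommGroup N] [Module C' N]
  [AddCommGroup P] [Module C' P]

@[simp] lemma mu_tmul (m : M) (j : ↥J) : mu J M (m ⊗ₜ[C'] j) = (j : C') • m := by
  simp [mu]

lemma mu_natural (g : M →ₗ[C'] N) (z : M ⊗[C'] ↥J) :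
    mu J N (LinearMap.rTensor ↥J g z) = g (mu J M z) := by
  induction z using TensorProduct.induction_on with
  | zero => simp
  | tmul m j => simp
  | add x y hx hy => simp only [map_add, hx, hy]

lemma mu_injective_of_flat [Module.Flat C' N] : Function.Injective (mu J N) := by
  unfold mu
  rw [LinearMap.coe_comp]
  exact (TensorProduct.rid C' N).injective.comp
    (Module.Flat.lTensor_preserves_injective_linearMap (M := N) (Submodule.subtype J)
      (Submodule.injective_subtype J))

/-- If `N` is flat, `g : M → N`, and `g (mu z) = 0`, then `(g ⊗ J) z = 0`. -/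
lemma rTensor_eq_zero_of_map_mu_eq_zero [Module.Flat C' N] (g : M →ₗ[C'] N) (z : M ⊗[C'] ↥J)
    (h : g (mu J M z) = 0) : LinearMap.rTensor ↥J g z = 0 :=
  mu_injective_of_flat (J := J) (N := N) (by rw [mu_natural, h, map_zero])

lemma rTensor_comp_eq_zero_of_map_mu_eq_zero [Module.Flat C' N] (g : M →ₗ[C'] N) (ρ : N →ₗ[C'] P)
    (z : M ⊗[C'] ↥J) (h : g (mu J M z) = 0) : LinearMap.rTensor ↥J (ρ ∘ₗ g) z = 0 := by
  rw [LinearMap.rTensor_comp, LinearMap.comp_apply, rTensor_eq_zero_of_map_mu_eq_zero g z h,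
    map_zero]

end basic

section algebra

variable {C' : Type u} [CommRing C'] {J : Ideal C'} {A' : Type u} [CommRing A'] [Algebra C' A']

lemma mu_smul (a : A') (z : A' ⊗[C'] ↥J) : mu J A' (a • z) = a * mu J A' z := by
  induction z using TensorProduct.induction_on with
  | zero => simp
  | tmul m j => simp [TensorProduct.smul_tmul']
  | add x y hx hy => simp only [smul_add, map_add, hx, hy, mul_add]

lemma mu_mem_map (z : A' ⊗[C'] ↥J) : mu J A' z ∈ J.map (algebraMap C' A') := by
  induction z using TensorProduct.induction_on with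
  | zero => simp
  | tmul m j =>
    rw [mu_tmul, Algebra.smul_def]
    exact Ideal.mul_mem_right _ _ (Ideal.mem_map_of_mem _ j.2)
  | add x y hx hy => rw [map_add]; exact Ideal.add_mem _ hx hy

lemma exists_mu_eq_of_mem_map {y : A'} (hy : y ∈ J.map (algebraMap C' A')) :
    ∃ z : A' ⊗[C'] ↥J, mu J A' z = y := by
  refine Submodule.span_induction ?_ ?_ ?_ ?_ hy
  · rintro _ ⟨j, hj, rfl⟩
    exact ⟨1 ⊗ₜ ⟨j, hj⟩, by simp [Algebra.smul_def]⟩
  · exact ⟨0, map_zero _⟩
  · rintro _ _ _ _ ⟨z, rfl⟩ ⟨w, rfl⟩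
    exact ⟨z + w, map_add _ _ _⟩
  · rintro a _ _ ⟨z, rfl⟩
    exact ⟨a • z, by rw [mu_smul, smul_eq_mul]⟩

variable {B : Type u} [CommRing B] [Algebra A' B] [Algebra C' B] [IsScalarTower C' A' B]

lemma rTensor_toLinearMap_smul (a : A') (z : A' ⊗[C'] ↥J) :
    LinearMap.rTensor ↥J (IsScalarTower.toAlgHom C' A' B).toLinearMap (a • z) =
      a • LinearMap.rTensor ↥J (IsScalarTower.toAlgHom C' A' B).toLinearMap z := by
  induction z using TensorProduct.induction_on with
  | zero => simp
  | tmul m j =>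
    simp only [TensorProduct.smul_tmul', LinearMap.rTensor_tmul, AlgHom.toLinearMap_apply,
      IsScalarTower.coe_toAlgHom', smul_eq_mul, map_mul]
    rw [Algebra.smul_def]
  | add x y hx hy => simp only [smul_add, map_add, hx, hy]

/-- If `A'/I'` is flat over `C'`, `I'` maps to zero in `B`, and `mu z ∈ I'`, then `z` dies in
`B ⊗ J`. -/
lemma rTensor_eq_zero_of_mu_mem (I' : Ideal A') [Module.Flat C' (A' ⧸ I')]
    (hI' : ∀ x ∈ I', algebraMap A' B x = 0) (z : A' ⊗[C'] ↥J) (hz : mu J A' z ∈ I') :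
    LinearMap.rTensor ↥J (IsScalarTower.toAlgHom C' A' B).toLinearMap z = 0 := by
  let q : A' →ₗ[C'] A' ⧸ I' := (Submodule.mkQ I').restrictScalars C'
  let ρ : (A' ⧸ I') →ₗ[C'] B :=
    (Submodule.liftQ I' (Algebra.linearMap A' B) (fun x hx => hI' x hx)).restrictScalars C'
  have h : (IsScalarTower.toAlgHom C' A' B).toLinearMap = ρ ∘ₗ q := by
    ext x
    simp only [AlgHom.toLinearMap_apply, IsScalarTower.coe_toAlgHom', LinearMap.coe_comp,
      LinearMap.coe_restrictScalars, Function.comp_apply, q, ρ]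
    exact (Submodule.liftQ_apply I' (Algebra.linearMap A' B) x).symm
  rw [h]
  refine rTensor_comp_eq_zero_of_map_mu_eq_zero q ρ z ?_
  simpa [q] using (Submodule.Quotient.mk_eq_zero I').2 hz

/-- If `A'/I'` is flat over `C'` then `I' ∩ J A' = J I'`. -/
lemma mem_mul_of_mem_of_mem_map (I' : Ideal A') [Module.Flat C' (A' ⧸ I')] {y : A'}
    (hy : y ∈ J.map (algebraMap C' A')) (hy' : y ∈ I') : y ∈ J.map (algebraMap C' A') * I' := by
  obtain ⟨z, rfl⟩ := exists_mu_eq_of_mem_map hy
  let q : A' →ₗ[C'] A' ⧸ I' := (Submodule.mkQ I').restrictScalars C'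
  let ι : ↥I' →ₗ[C'] A' := (Submodule.subtype I').restrictScalars C'
  have hq : LinearMap.rTensor ↥J q z = 0 :=
    rTensor_eq_zero_of_map_mu_eq_zero q z
      (by simpa [q] using (Submodule.Quotient.mk_eq_zero I').2 hy')
  have hex : Function.Exact ι q := by
    intro a
    simp only [q, ι, LinearMap.coe_restrictScalars, Submodule.mkQ_apply,
      Submodule.Quotient.mk_eq_zero, Submodule.coe_subtype, Set.mem_range, Subtype.exists,
      exists_prop, exists_eq_right]
  have hsurj : Function.Surjective q := Submodule.mkQ_surjective I'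
  obtain ⟨w, rfl⟩ := (rTensor_exact ↥J hex hsurj z).1 hq
  clear hq hy hy'
  induction w using TensorProduct.induction_on with
  | zero => simp
  | tmul x j =>
    rw [LinearMap.rTensor_tmul, mu_tmul, Algebra.smul_def]
    exact Ideal.mul_mem_mul (Ideal.mem_map_of_mem _ j.2) x.2
  | add x y hx hy => rw [map_add, map_add]; exact Ideal.add_mem _ hx hy

/-- If `J * J = ⊥` then `q y ⊗ j = 0` for `y ∈ J A'`, `j ∈ J` and `q` a `C'`-linear map. -/
lemma tmul_eq_zero_of_mem_map (hJJ : J * J = ⊥) {N : Type u} [AddCommGroup N] [Module C' N]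
    (q : A' →ₗ[C'] N) {y : A'} (hy : y ∈ J.map (algebraMap C' A')) (j : ↥J) :
    q y ⊗ₜ[C'] j = 0 := by
  obtain ⟨v, rfl⟩ := exists_mu_eq_of_mem_map hy
  clear hy
  induction v using TensorProduct.induction_on with
  | zero => simp
  | tmul a j' =>
    rw [mu_tmul, map_smul, TensorProduct.smul_tmul]
    have : (j' : C') • j = 0 := by
      ext
      have h : (j' : C') * (j : C') ∈ J * J := Ideal.mul_mem_mul j'.2 j.2
      rw [hJJ] at h
      simpa using h
    rw [this, TensorProduct.tmul_zero]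
  | add x y hx hy => rw [map_add, map_add, TensorProduct.add_tmul, hx, hy, add_zero]

end algebra

section lift

variable {C' : Type u} [CommRing C'] {J : Ideal C'} {A' : Type u} [CommRing A'] [Algebra C' A']
  (I : Ideal (A' ⧸ J.map (algebraMap C' A')))

/-- (K): if `J² = 0` and `K` is an ideal of `A'` whose image in `A'/JA'` contains `I`, then the
kernel of `A' ⊗ J → (A/I) ⊗ J` dies in `(A'/K) ⊗ J`. -/
lemma rTensor_mkQ_eq_zero_of_rTensor_eq_zero (hJJ : J * J = ⊥) (K : Ideal A')
    (hK : I ≤ K.map (Ideal.Quotient.mk (J.map (algebraMap C' A')))) (z : A' ⊗[C'] ↥J)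
    (hz : LinearMap.rTensor ↥J (IsScalarTower.toAlgHom C' A'
      ((A' ⧸ J.map (algebraMap C' A')) ⧸ I)).toLinearMap z = 0) :
    LinearMap.rTensor ↥J ((Submodule.mkQ K).restrictScalars C') z = 0 := by
  set π : A' →ₗ[C'] ((A' ⧸ J.map (algebraMap C' A')) ⧸ I) :=
    (IsScalarTower.toAlgHom C' A' ((A' ⧸ J.map (algebraMap C' A')) ⧸ I)).toLinearMap with hπ
  have hsurj : Function.Surjective π := by
    intro b
    obtain ⟨a, rfl⟩ := Ideal.Quotient.mk_surjective b
    obtain ⟨a, rfl⟩ := Ideal.Quotient.mk_surjective a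
    exact ⟨a, rfl⟩
  obtain ⟨w, rfl⟩ := (rTensor_exact ↥J (LinearMap.exact_subtype_ker_map π) hsurj z).1 hz
  clear hz
  induction w using TensorProduct.induction_on with
  | zero => simp
  | tmul k j =>
    rw [LinearMap.rTensor_tmul, LinearMap.rTensor_tmul]
    obtain ⟨k, hk⟩ := k
    have hk' : Ideal.Quotient.mk (J.map (algebraMap C' A')) k ∈ I := by
      rw [← Ideal.Quotient.eq_zero_iff_mem]
      exact hk
    obtain ⟨x, hx, hxk⟩ :=
      (Ideal.mem_map_iff_of_surjective _ Ideal.Quotient.mk_surjective).1 (hK hk')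
    have hmem : k - x ∈ J.map (algebraMap C' A') := by
      rw [← Ideal.Quotient.eq_zero_iff_mem, map_sub, hxk, sub_self]
    have h0 := tmul_eq_zero_of_mem_map hJJ ((Submodule.mkQ K).restrictScalars C') hmem j
    have hx0 : ((Submodule.mkQ K).restrictScalars C') x = 0 := by
      simpa using (Submodule.Quotient.mk_eq_zero K).2 hx
    rw [map_sub, hx0, sub_zero] at h0
    exact h0
  | add x y hx hy => rw [map_add, map_add, hx, hy, add_zero]

/-- The map `A'/K → (A'/JA')/I` for an ideal `K` mapping into `I`. -/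
noncomputable def piBar (K : Ideal A')
    (hK : K.map (Ideal.Quotient.mk (J.map (algebraMap C' A'))) ≤ I) :
    (A' ⧸ K) →ₗ[C'] ((A' ⧸ J.map (algebraMap C' A')) ⧸ I) :=
  (Submodule.liftQ K (Algebra.linearMap A' ((A' ⧸ J.map (algebraMap C' A')) ⧸ I)) (by
    intro x hx
    change Ideal.Quotient.mk I (Ideal.Quotient.mk (J.map (algebraMap C' A')) x) = 0
    rw [Ideal.Quotient.eq_zero_iff_mem]
    exact hK (Ideal.mem_map_of_mem _ hx))).restrictScalars C'

lemma piBar_mk (K : Ideal A')
    (hK : K.map (Ideal.Quotient.mk (J.map (algebraMap C' A'))) ≤ I) (a : A') :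
    piBar I K hK (Ideal.Quotient.mk K a) =
      Ideal.Quotient.mk I (Ideal.Quotient.mk (J.map (algebraMap C' A')) a) := rfl

lemma piBar_surjective (K : Ideal A')
    (hK : K.map (Ideal.Quotient.mk (J.map (algebraMap C' A'))) ≤ I) :
    Function.Surjective (piBar I K hK) := by
  intro b
  obtain ⟨a, rfl⟩ := Ideal.Quotient.mk_surjective b
  obtain ⟨a, rfl⟩ := Ideal.Quotient.mk_surjective a
  exact ⟨Ideal.Quotient.mk K a, rfl⟩

lemma ker_piBar (K : Ideal A')
    (hK : K.map (Ideal.Quotient.mk (J.map (algebraMap C' A'))) = I) :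
    LinearMap.ker (piBar I K hK.le) = J • (⊤ : Submodule C' (A' ⧸ K)) := by
  apply le_antisymm
  · intro m hm
    obtain ⟨a, rfl⟩ := Ideal.Quotient.mk_surjective m
    rw [LinearMap.mem_ker, piBar_mk, Ideal.Quotient.eq_zero_iff_mem, ← hK] at hm
    obtain ⟨k, hk, hka⟩ :=
      (Ideal.mem_map_iff_of_surjective _ Ideal.Quotient.mk_surjective).1 hm
    have hmem : a - k ∈ J.map (algebraMap C' A') := by
      rw [← Ideal.Quotient.eq_zero_iff_mem, map_sub, hka, sub_self]
    have h1 : Ideal.Quotient.mk K a = Ideal.Quotient.mk K (a - k) := by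
      rw [map_sub, Ideal.Quotient.eq_zero_iff_mem.2 hk, sub_zero]
    rw [h1]
    obtain ⟨v, hv⟩ := exists_mu_eq_of_mem_map hmem
    rw [← hv]
    clear hv h1 hmem hka hm
    induction v using TensorProduct.induction_on with
    | zero => simp
    | tmul b j =>
      rw [mu_tmul]
      have : Ideal.Quotient.mk K ((j : C') • b) = (j : C') • Ideal.Quotient.mk K b := rfl
      rw [this]
      exact Submodule.smul_mem_smul j.2 trivial
    | add x y hx hy => rw [map_add, map_add]; exact Submodule.add_mem _ hx hy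
  · rw [Submodule.smul_le]
    intro j hj m _
    rw [LinearMap.mem_ker, map_smul]
    have : (j • (piBar I K hK.le m) : (A' ⧸ J.map (algebraMap C' A')) ⧸ I) =
        (Ideal.Quotient.mk J j) • (piBar I K hK.le m) := rfl
    rw [this, Ideal.Quotient.eq_zero_iff_mem.2 hj, zero_smul]

/-- `(C'/J) ⊗ (A'/K) ≃ (A'/JA')/I` for an ideal `K` lifting `I`. -/
noncomputable def baseChangeQuotEquiv (K : Ideal A')
    (hK : K.map (Ideal.Quotient.mk (J.map (algebraMap C' A'))) = I) :
    ((C' ⧸ J) ⊗[C'] (A' ⧸ K)) ≃ₗ[C'] ((A' ⧸ J.map (algebraMap C' A')) ⧸ I) :=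
  (TensorProduct.quotTensorEquivQuotSMul (A' ⧸ K) J).trans
    ((Submodule.quotEquivOfEq _ _ (ker_piBar I K hK).symm).trans
      (LinearMap.quotKerEquivOfSurjective _ (piBar_surjective I K hK.le)))

lemma flat_baseChange_quot (K : Ideal A')
    (hK : K.map (Ideal.Quotient.mk (J.map (algebraMap C' A'))) = I)
    [Module.Flat (C' ⧸ J) ((A' ⧸ J.map (algebraMap C' A')) ⧸ I)] :
    Module.Flat (C' ⧸ J) ((C' ⧸ J) ⊗[C'] (A' ⧸ K)) :=
  Module.Flat.of_linearEquiv
    ((baseChangeQuotEquiv I K hK).extendScalarsOfSurjective Ideal.Quotient.mk_surjective)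

/-- Local flatness criterion for a square-zero ideal, in the form we need. -/
lemma flat_quot_of_mu_injective (hJJ : J * J = ⊥) (K : Ideal A')
    (hK : K.map (Ideal.Quotient.mk (J.map (algebraMap C' A'))) = I)
    [Module.Flat (C' ⧸ J) ((A' ⧸ J.map (algebraMap C' A')) ⧸ I)]
    (hinj : Function.Injective (mu J (A' ⧸ K))) : Module.Flat C' (A' ⧸ K) := by
  haveI := flat_baseChange_quot I K hK
  refine Groth.Agent.H2.flat_of_isNilpotent_of_tor1Zero J ⟨2, by rw [pow_two, hJJ]; rfl⟩ ?_
  rw [Groth.Agent.H2.tor1Zero_quotient_iff, ← LinearMap.lTensor_inj_iff_rTensor_inj]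
  intro a b hab
  apply hinj
  simp only [mu, LinearMap.coe_comp, Function.comp_apply, hab]

end lift

end Groth.Agent.H57.FlatLift
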