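import Mathlib
import Groth.Prelude.Def_Found
import Groth.Prelude.Def_EGA4b
import Groth.Agent.H57.FormalNormalB
import Groth.Agent.H13.NagataDescent

/-!
# The fraction field of the completion of a henselian local domain with geometrically normal
formal fibres
-/

set_option autoImplicit false
set_option linter.style.haveILetI false
set_option linter.unusedSectionVars false
universe u

open TensorProduct IsLocalRing

namespace Groth.Agent.H57.FormalNormal

section

variable (A : Type u) [CommRing A] [HenselianLocalRing A] [IsNoetherianRing A] [IsDomain A]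
  (hA : EGA4.HasGeomNormalFormalFibres A)
  (K : Type u) [Field K] [Algebra A K] [IsFractionRing A K]

include hA in
/-- For a finite extension `K'` of `K = Frac A`, the ring `K' ⊗_A Â` is a domain. -/
theorem isDomain_finite_ext_tensor_cpl (K' : Type u) [Field K'] [Algebra K K'] [Algebra A K']
    [IsScalarTower A K K'] [FiniteDimensional K K'] : IsDomain (K' ⊗[A] EGA4.Cpl A) := by
  have hNag := isNagata_of_hasGeomNormalFormalFibres A hA
  haveI : Algebra.EssFiniteType A K := Algebra.EssFiniteType.of_isLocalization K (nonZeroDivisors A)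
  haveI : Algebra.EssFiniteType A K' := Algebra.EssFiniteType.comp A K K'
  haveI : Module.Finite A (integralClosure A K') :=
    Groth.Agent.H13.NagataDescent.finite_integralClosure_of_essFiniteType A hNag K'
  haveI : IsIntegrallyClosed (integralClosure A K') :=
    integralClosure.isIntegrallyClosedOfFiniteExtension K
  haveI : IsFractionRing (integralClosure A K') K' :=
    integralClosure.isFractionRing_of_finite_extension K K'
  haveI : IsLocalRing (integralClosure A K') := isLocalRing_of_finite_of_henselian A _
  have hC : EGA4.IsNormalRing (integralClosure A K') :=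
    Groth.Agent.H47.SN.isNormalRing_of_isIntegrallyClosed _
  exact isDomain_fractionField_tensor_cpl A hA (integralClosure A K') hC K'

variable [IsDomain (EGA4.Cpl A)]
  (L : Type u) [Field L] [Algebra (EGA4.Cpl A) L] [IsFractionRing (EGA4.Cpl A) L] [Algebra K L]
  [Algebra A L] [IsScalarTower A K L] [IsScalarTower A (EGA4.Cpl A) L]

include hA in
/-- For a finite extension `K'` of `K = Frac A`, the ring `K' ⊗_K Frac Â` is a domain. -/
theorem isDomain_finite_ext_tensor_fractionField_cpl (K' : Type u) [Field K'] [Algebra K K']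
    [FiniteDimensional K K'] : IsDomain (K' ⊗[K] L) := by
  letI : Algebra A K' := ((algebraMap K K').comp (algebraMap A K)).toAlgebra
  haveI : IsScalarTower A K K' := IsScalarTower.of_algebraMap_eq (fun _ => rfl)
  haveI h0 : IsDomain (K' ⊗[A] EGA4.Cpl A) := isDomain_finite_ext_tensor_cpl A hA K K'
  haveI h1 : IsDomain (EGA4.Cpl A ⊗[A] K') :=
    (Algebra.TensorProduct.comm A (EGA4.Cpl A) K').toMulEquiv.isDomain _
  -- localise
  haveI hloc : IsLocalization
      (Algebra.algebraMapSubmonoid (EGA4.Cpl A ⊗[A] K') (nonZeroDivisors (EGA4.Cpl A)))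
      ((EGA4.Cpl A ⊗[A] K') ⊗[EGA4.Cpl A] L) :=
    IsLocalization.tensor L (nonZeroDivisors (EGA4.Cpl A))
  have hinjAK : Function.Injective (algebraMap A K') := by
    rw [IsScalarTower.algebraMap_eq A K K']
    exact (algebraMap K K').injective.comp (IsFractionRing.injective A K)
  have hinj : Function.Injective (algebraMap (EGA4.Cpl A) (EGA4.Cpl A ⊗[A] K')) :=
    Algebra.TensorProduct.includeLeft_injective (S := EGA4.Cpl A) hinjAK
  have hle : Algebra.algebraMapSubmonoid (EGA4.Cpl A ⊗[A] K') (nonZeroDivisors (EGA4.Cpl A)) ≤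
      nonZeroDivisors (EGA4.Cpl A ⊗[A] K') := by
    rintro _ ⟨c, hc, rfl⟩
    rw [mem_nonZeroDivisors_iff_ne_zero]
    intro h0
    exact (mem_nonZeroDivisors_iff_ne_zero.1 hc) (hinj (h0.trans (map_zero _).symm))
  haveI h2 : IsDomain ((EGA4.Cpl A ⊗[A] K') ⊗[EGA4.Cpl A] L) :=
    IsLocalization.isDomain_of_le_nonZeroDivisors ((EGA4.Cpl A ⊗[A] K') ⊗[EGA4.Cpl A] L) hle
  haveI h3 : IsDomain (L ⊗[EGA4.Cpl A] (EGA4.Cpl A ⊗[A] K')) :=
    (Algebra.TensorProduct.comm (EGA4.Cpl A) L (EGA4.Cpl A ⊗[A] K')).toMulEquiv.isDomain _
  haveI h4 : IsDomain (L ⊗[A] K') :=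
    (Algebra.TensorProduct.cancelBaseChange A (EGA4.Cpl A) (EGA4.Cpl A) L K').symm.toMulEquiv.isDomain _
  haveI h5 : IsDomain (K' ⊗[A] L) :=
    (Algebra.TensorProduct.comm A K' L).toMulEquiv.isDomain _
  exact (IsLocalization.algebraTensorEquiv (nonZeroDivisors A) K K' L).toMulEquiv.isDomain _

include hA in
/-- **EGA IV 18.9.3-type statement**: `Frac Â` is geometrically reduced over `Frac A` and `Frac A`
is algebraically closed in it. -/
theorem geomReduced_and_algClosed :
    Algebra.IsGeometricallyReduced K L ∧
      ∀ x : L, IsAlgebraic K x → x ∈ Set.range (algebraMap K L) := by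
  have hfin : ∀ (K' : Type u) [Field K'] [Algebra K K'] [Module.Finite K K'],
      IsDomain (K' ⊗[K] L) := fun K' _ _ _ =>
    isDomain_finite_ext_tensor_fractionField_cpl A hA K L K'
  refine ⟨?_, fun x hx => ?_⟩
  · haveI : IsDomain (AlgebraicClosure K ⊗[K] L) :=
      isDomain_tensor_of_isAlgebraic K L hfin (AlgebraicClosure K)
    rw [Algebra.isGeometricallyReduced_field_iff]
    infer_instance
  · -- the subfield generated by `x`
    have hxi : IsIntegral K x := hx.isIntegral
    let K' : IntermediateField K L := IntermediateField.adjoin K {x}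
    haveI : FiniteDimensional K K' := IntermediateField.adjoin.finiteDimensional hxi
    haveI hD : IsDomain (K' ⊗[K] L) := hfin K'
    haveI hD' : IsDomain (L ⊗[K] K') :=
      (Algebra.TensorProduct.comm K L K').toMulEquiv.isDomain _
    -- the multiplication map
    let μ : L ⊗[K] K' →ₐ[L] L :=
      Algebra.TensorProduct.lift (AlgHom.id L L) K'.val (fun _ _ => Commute.all _ _)
    haveI : Algebra.IsIntegral L (L ⊗[K] K') := Algebra.IsIntegral.of_finite L _
    have hfield : IsField (L ⊗[K] K') :=
      isField_of_isIntegral_of_isField' (R := L) (S := L ⊗[K] K') (Field.toIsField L)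
    have hμ : Function.Injective μ := by
      rw [injective_iff_map_eq_zero]
      intro z hz
      by_contra hne
      obtain ⟨w, hw⟩ := hfield.mul_inv_cancel hne
      have hw' : (z * w : L ⊗[K] K') = 1 := hw
      have h1 : μ (z * w) = μ 1 := congrArg μ hw'
      have h2 : μ 1 = 1 := μ.toRingHom.map_one
      rw [map_mul, hz, zero_mul, h2] at h1
      exact zero_ne_one h1
    have hrank : Module.finrank L (L ⊗[K] K') ≤ Module.finrank L L :=
      LinearMap.finrank_le_finrank_of_injective (f := μ.toLinearMap) hμ
    rw [Module.finrank_baseChange, Module.finrank_self] at hrank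
    have hpos : 0 < Module.finrank K K' := Module.finrank_pos
    have hone : Module.finrank K K' = 1 := le_antisymm hrank hpos
    have hbot : K' = ⊥ := IntermediateField.finrank_eq_one_iff.1 hone
    have hxK' : x ∈ K' := IntermediateField.mem_adjoin_simple_self K x
    rw [hbot, IntermediateField.mem_bot] at hxK'
    exact hxK'

end

end Groth.Agent.H57.FormalNormal
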