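import Mathlib
import Groth.Agent.H57.GRingMax
import Groth.Agent.H24.LocClosedPts

/-!
# G-schemes and closed points

* `isRegularHom_cpl_of_le` : for primes `p ≤ m` of a Noetherian ring, regularity of the completion
  map of `R_m` implies that of `R_p`.
* `exists_isClosed_specializes` : every point of a locally Noetherian scheme specializes to a
  closed point.
* `isRegularHom_cpl_stalk_of_specializes`.
* `gScheme_iff`.
-/

set_option autoImplicit false
set_option linter.style.haveILetI false
set_option linter.unusedSectionVars false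
universe u

namespace Groth.Agent.H57.GRingMax

open IsLocalRing TensorProduct AlgebraicGeometry CategoryTheory

/-- For primes `p ≤ m` of a Noetherian ring, regularity of the completion map of `R_m` implies
that of `R_p`. -/
theorem isRegularHom_cpl_of_le {R : Type u} [CommRing R] [IsNoetherianRing R] (p m : Ideal R)
    [hp : p.IsPrime] [hm : m.IsPrime] (hpm : p ≤ m)
    (h : CAlg.IsRegularHom (Localization.AtPrime m)
        (AdicCompletion (maximalIdeal (Localization.AtPrime m)) (Localization.AtPrime m))) :
    CAlg.IsRegularHom (Localization.AtPrime p)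
        (AdicCompletion (maximalIdeal (Localization.AtPrime p)) (Localization.AtPrime p)) := by
  set A := Localization.AtPrime m with hA
  haveI : IsNoetherianRing A := IsLocalization.isNoetherianRing m.primeCompl A inferInstance
  have hG : CAlg.IsGRing A := isGRing_of_isRegularHom_cpl A h
  have hdisj : Disjoint (m.primeCompl : Set R) (p : Set R) := by
    rw [Set.disjoint_left]
    intro x hx hxp
    exact hx (hpm hxp)
  set P : Ideal A := p.map (algebraMap R A) with hP
  haveI hPprime : P.IsPrime := IsLocalization.isPrime_of_isPrime_disjoint m.primeCompl A p hp hdisj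
  have hcomap : P.comap (algebraMap R A) = p :=
    IsLocalization.under_map_of_isPrime_disjoint m.primeCompl A hp hdisj
  have key : ∀ (p' : Ideal R) [p'.IsPrime], p' = P.comap (algebraMap R A) →
      CAlg.IsRegularHom (Localization.AtPrime p')
        (AdicCompletion (maximalIdeal (Localization.AtPrime p')) (Localization.AtPrime p')) := by
    rintro p' hp' rfl
    have hloc : IsLocalization.AtPrime (Localization.AtPrime P) (P.comap (algebraMap R A)) :=
      IsLocalization.isLocalization_isLocalization_atPrime_isLocalization m.primeCompl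
        (Localization.AtPrime P) P
    let e : Localization.AtPrime P ≃+* Localization.AtPrime (P.comap (algebraMap R A)) :=
      (IsLocalization.algEquiv (P.comap (algebraMap R A)).primeCompl
        (Localization.AtPrime P) (Localization.AtPrime (P.comap (algebraMap R A)))).toRingEquiv
    haveI hN1 : IsNoetherianRing (Localization.AtPrime (P.comap (algebraMap R A))) :=
      IsLocalization.isNoetherianRing (P.comap (algebraMap R A)).primeCompl _ inferInstance
    haveI hN2 : IsNoetherianRing (Localization.AtPrime P) :=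
      IsLocalization.isNoetherianRing P.primeCompl _ inferInstance
    exact Groth.Agent.H72.ExcellentLoc.isRegularHom_compl_of_ringEquiv e (hG.2 P)
  exact key p hcomap.symm

/-- Every point of a locally Noetherian scheme specializes to a closed point. -/
theorem exists_isClosed_specializes (X : Scheme.{u}) [IsLocallyNoetherian X] (y : X) :
    ∃ z : X, IsClosed ({z} : Set X) ∧ y ⤳ z := by
  obtain ⟨U, hU, hyU⟩ : ∃ U : X.Opens, IsAffineOpen U ∧ y ∈ U := by
    obtain ⟨_, ⟨U, hU, rfl⟩, hyU, -⟩ :=
      X.isBasis_affineOpens.exists_subset_of_mem_open (Set.mem_univ y) isOpen_univ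
    exact ⟨U, hU, hyU⟩
  have hind : Topology.IsInducing hU.fromSpec := hU.fromSpec.isOpenEmbedding.isInducing
  set a : PrimeSpectrum Γ(X, U) := hU.primeIdealOf ⟨y, hyU⟩ with ha
  have hay : hU.fromSpec a = y := hU.fromSpec_primeIdealOf ⟨y, hyU⟩
  obtain ⟨m, hm, ham⟩ := Ideal.exists_le_maximal a.asIdeal a.isPrime.ne_top
  set b : PrimeSpectrum Γ(X, U) := ⟨m, hm.isPrime⟩ with hb
  set x : X := hU.fromSpec b with hx
  have hab : a ⤳ b := (PrimeSpectrum.le_iff_specializes a b).mp ham
  have hyx : y ⤳ x := by
    rw [← hay, hx]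
    exact hab.map hU.fromSpec.continuous
  -- `{x}` is locally closed
  have hlc : IsLocallyClosed ({x} : Set X) := by
    refine ⟨U, closure {x}, U.isOpen, isClosed_closure, ?_⟩
    apply Set.Subset.antisymm
    · rintro _ rfl
      refine ⟨?_, subset_closure (Set.mem_singleton _)⟩
      have : hU.fromSpec b ∈ Set.range hU.fromSpec := ⟨b, rfl⟩
      rw [hU.range_fromSpec] at this
      exact this
    · rintro w ⟨hwU, hwx⟩
      have hxw : x ⤳ w := specializes_iff_mem_closure.mpr hwx
      set c : PrimeSpectrum Γ(X, U) := hU.primeIdealOf ⟨w, hwU⟩ with hc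
      have hcw : hU.fromSpec c = w := hU.fromSpec_primeIdealOf ⟨w, hwU⟩
      have hbc : b ⤳ c := by
        refine hind.specializes_iff.mp ?_
        rw [hcw]
        exact hxw
      have hle : b.asIdeal ≤ c.asIdeal := (PrimeSpectrum.le_iff_specializes b c).mpr hbc
      have heq : b.asIdeal = c.asIdeal := hm.eq_of_le c.isPrime.ne_top hle
      have : b = c := PrimeSpectrum.ext heq
      rw [Set.mem_singleton_iff, ← hcw, ← this]
  by_cases hcl : IsClosed ({x} : Set X)
  · exact ⟨x, hcl, hyx⟩
  · have : ∃ z ∈ closure ({x} : Set X), z ≠ x := by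
      by_contra hcon
      push Not at hcon
      apply hcl
      apply isClosed_of_closure_subset
      intro z hz
      exact hcon z hz
    obtain ⟨z, hz, hzx⟩ := this
    have hxz : x ⤳ z := specializes_iff_mem_closure.mpr hz
    exact ⟨z, Groth.Agent.H24.isClosed_singleton_of_specializes X x z hlc hxz hzx,
      hyx.trans hxz⟩

set_option backward.isDefEq.respectTransparency false in
/-- Regularity of the completion map of the stalks generizes on a locally Noetherian scheme. -/
theorem isRegularHom_cpl_stalk_of_specializes (X : Scheme.{u}) [IsLocallyNoetherian X] (y z : X)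
    (hyz : y ⤳ z)
    (hz : CAlg.IsRegularHom (X.presheaf.stalk z)
      (AdicCompletion (maximalIdeal (X.presheaf.stalk z)) (X.presheaf.stalk z))) :
    CAlg.IsRegularHom (X.presheaf.stalk y)
      (AdicCompletion (maximalIdeal (X.presheaf.stalk y)) (X.presheaf.stalk y)) := by
  obtain ⟨W, hW, hzW⟩ : ∃ W : X.Opens, IsAffineOpen W ∧ z ∈ W := by
    obtain ⟨_, ⟨W, hW, rfl⟩, hzW, -⟩ :=
      X.isBasis_affineOpens.exists_subset_of_mem_open (Set.mem_univ z) isOpen_univ
    exact ⟨W, hW, hzW⟩
  have hyW : y ∈ W := hyz.mem_open W.isOpen hzW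
  haveI hN : IsNoetherianRing Γ(X, W) := IsLocallyNoetherian.component_noetherian ⟨W, hW⟩
  have hind : Topology.IsInducing hW.fromSpec := hW.fromSpec.isOpenEmbedding.isInducing
  set a : PrimeSpectrum Γ(X, W) := hW.primeIdealOf ⟨y, hyW⟩ with ha
  set b : PrimeSpectrum Γ(X, W) := hW.primeIdealOf ⟨z, hzW⟩ with hb
  have hay : hW.fromSpec a = y := hW.fromSpec_primeIdealOf ⟨y, hyW⟩
  have hbz : hW.fromSpec b = z := hW.fromSpec_primeIdealOf ⟨z, hzW⟩
  have hab : a ⤳ b := by
    refine hind.specializes_iff.mp ?_
    rw [hay, hbz]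
    exact hyz
  have hle : a.asIdeal ≤ b.asIdeal := (PrimeSpectrum.le_iff_specializes a b).mpr hab
  letI algy : Algebra Γ(X, W) (X.presheaf.stalk y) :=
    TopCat.Presheaf.algebra_section_stalk X.presheaf ⟨y, hyW⟩
  letI algz : Algebra Γ(X, W) (X.presheaf.stalk z) :=
    TopCat.Presheaf.algebra_section_stalk X.presheaf ⟨z, hzW⟩
  have h1 : IsLocalization.AtPrime (X.presheaf.stalk y) a.asIdeal :=
    hW.isLocalization_stalk ⟨y, hyW⟩
  have h2 : IsLocalization.AtPrime (X.presheaf.stalk z) b.asIdeal :=
    hW.isLocalization_stalk ⟨z, hzW⟩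
  let e1 : Localization.AtPrime a.asIdeal ≃+* X.presheaf.stalk y :=
    (IsLocalization.algEquiv a.asIdeal.primeCompl (Localization.AtPrime a.asIdeal)
      (X.presheaf.stalk y)).toRingEquiv
  let e2 : Localization.AtPrime b.asIdeal ≃+* X.presheaf.stalk z :=
    (IsLocalization.algEquiv b.asIdeal.primeCompl (Localization.AtPrime b.asIdeal)
      (X.presheaf.stalk z)).toRingEquiv
  haveI : IsNoetherianRing (Localization.AtPrime a.asIdeal) :=
    IsLocalization.isNoetherianRing a.asIdeal.primeCompl _ hN
  haveI : IsNoetherianRing (Localization.AtPrime b.asIdeal) :=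
    IsLocalization.isNoetherianRing b.asIdeal.primeCompl _ hN
  have hb' : CAlg.IsRegularHom (Localization.AtPrime b.asIdeal)
      (AdicCompletion (maximalIdeal (Localization.AtPrime b.asIdeal))
        (Localization.AtPrime b.asIdeal)) :=
    Groth.Agent.H72.ExcellentLoc.isRegularHom_compl_of_ringEquiv e2.symm hz
  have ha' := isRegularHom_cpl_of_le a.asIdeal b.asIdeal hle hb'
  exact Groth.Agent.H72.ExcellentLoc.isRegularHom_compl_of_ringEquiv e1 ha'

set_option backward.isDefEq.respectTransparency false in
/-- A scheme is a G-scheme iff it is locally Noetherian and the completion maps of the local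
rings at closed points are regular. -/
theorem gScheme_iff (X : Scheme.{u}) :
    (∀ x : X, ∃ U : X.Opens, x ∈ U ∧ IsAffineOpen U ∧ CAlg.IsGRing Γ(X, U)) ↔
      IsLocallyNoetherian X ∧ ∀ x : X, IsClosed ({x} : Set X) →
        CAlg.IsRegularHom (X.presheaf.stalk x)
          (AdicCompletion (maximalIdeal (X.presheaf.stalk x)) (X.presheaf.stalk x)) := by
  constructor
  · intro h
    have hLN : IsLocallyNoetherian X := by
      choose V hxV hV hG using h
      refine isLocallyNoetherian_of_affine_cover (S := fun x : X => (⟨V x, hV x⟩ : X.affineOpens))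
        ?_ (fun x => (hG x).1)
      refine top_le_iff.mp ?_
      intro x _
      exact TopologicalSpace.Opens.mem_iSup.mpr ⟨x, hxV x⟩
    refine ⟨hLN, fun x _ => ?_⟩
    obtain ⟨U, hxU, hU, hG⟩ := h x
    haveI hN : IsNoetherianRing Γ(X, U) := hG.1
    letI algU : Algebra Γ(X, U) (X.presheaf.stalk x) :=
      TopCat.Presheaf.algebra_section_stalk X.presheaf ⟨x, hxU⟩
    have h2 : IsLocalization.AtPrime (X.presheaf.stalk x)
        (hU.primeIdealOf ⟨x, hxU⟩).asIdeal := hU.isLocalization_stalk ⟨x, hxU⟩
    let e2 : Localization.AtPrime (hU.primeIdealOf ⟨x, hxU⟩).asIdeal ≃+* X.presheaf.stalk x :=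
      (IsLocalization.algEquiv (hU.primeIdealOf ⟨x, hxU⟩).asIdeal.primeCompl
        (Localization.AtPrime (hU.primeIdealOf ⟨x, hxU⟩).asIdeal)
        (X.presheaf.stalk x)).toRingEquiv
    haveI : IsNoetherianRing (Localization.AtPrime (hU.primeIdealOf ⟨x, hxU⟩).asIdeal) :=
      IsLocalization.isNoetherianRing (hU.primeIdealOf ⟨x, hxU⟩).asIdeal.primeCompl _ hN
    exact Groth.Agent.H72.ExcellentLoc.isRegularHom_compl_of_ringEquiv e2
      (hG.2 (hU.primeIdealOf ⟨x, hxU⟩).asIdeal)
  · rintro ⟨hLN, hcl⟩ x
    haveI := hLN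
    obtain ⟨U, hU, hxU⟩ : ∃ U : X.Opens, IsAffineOpen U ∧ x ∈ U := by
      obtain ⟨_, ⟨U, hU, rfl⟩, hxU, -⟩ :=
        X.isBasis_affineOpens.exists_subset_of_mem_open (Set.mem_univ x) isOpen_univ
      exact ⟨U, hU, hxU⟩
    refine ⟨U, hxU, hU, ?_⟩
    haveI hN : IsNoetherianRing Γ(X, U) := IsLocallyNoetherian.component_noetherian ⟨U, hU⟩
    refine ⟨hN, fun p hp => ?_⟩
    let y' : PrimeSpectrum Γ(X, U) := ⟨p, hp⟩
    have hyU : hU.fromSpec y' ∈ U := by
      have : hU.fromSpec y' ∈ Set.range hU.fromSpec := ⟨y', rfl⟩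
      rw [hU.range_fromSpec] at this
      exact this
    obtain ⟨y, hy⟩ : ∃ y : X, y = hU.fromSpec y' := ⟨_, rfl⟩
    have hyU' : y ∈ U := hy ▸ hyU
    obtain ⟨z, hzcl, hyz⟩ := exists_isClosed_specializes X y
    have hreg := isRegularHom_cpl_stalk_of_specializes X y z hyz (hcl z hzcl)
    letI algU : Algebra Γ(X, U) (X.presheaf.stalk y) :=
      TopCat.Presheaf.algebra_section_stalk X.presheaf ⟨y, hyU'⟩
    have h1 : IsLocalization.AtPrime (X.presheaf.stalk y) p := by
      subst hy
      exact hU.isLocalization_stalk' y' hyU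
    let e1 : Localization.AtPrime p ≃+* X.presheaf.stalk y :=
      (IsLocalization.algEquiv p.primeCompl (Localization.AtPrime p)
        (X.presheaf.stalk y)).toRingEquiv
    haveI : IsNoetherianRing (Localization.AtPrime p) :=
      IsLocalization.isNoetherianRing p.primeCompl _ hN
    exact Groth.Agent.H72.ExcellentLoc.isRegularHom_compl_of_ringEquiv e1.symm hreg

end Groth.Agent.H57.GRingMax
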