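import Mathlib
import Groth.Agent.H57.RigPoint

/-!
# The generic fibre `A ⊗_R K` of a torsion free algebra over a domain, and extension of
homomorphisms to subalgebras generated by integral elements `g / c`.
-/

set_option autoImplicit false
universe u

namespace Groth.Agent.H57.GenFibre

open TensorProduct

section Basic

variable {R : Type u} [CommRing R] [IsDomain R] (A : Type u) [CommRing A] [Algebra R A]

theorem isUnit_algebraMap {r : R} (hr : r ≠ 0) :
    IsUnit (algebraMap R (A ⊗[R] FractionRing R) r) := by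
  have h3 : algebraMap R (A ⊗[R] FractionRing R) r =
      (Algebra.TensorProduct.includeRight : FractionRing R →ₐ[R] A ⊗[R] FractionRing R)
        (algebraMap R (FractionRing R) r) := by
    rw [AlgHom.commutes]
  rw [h3]
  apply IsUnit.map
  rw [isUnit_iff_ne_zero]
  intro h0
  exact hr (IsFractionRing.injective R (FractionRing R) (h0.trans (map_zero _).symm))

variable {A}

theorem eq_zero_of_smul_eq_zero {r : R} (hr : r ≠ 0) {x : A ⊗[R] FractionRing R}
    (h : r • x = 0) : x = 0 := by
  have h2 : algebraMap R (A ⊗[R] FractionRing R) r * x = 0 :=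
    (Algebra.smul_def _ _).symm.trans h
  exact ((isUnit_algebraMap A hr).mul_right_eq_zero).mp h2

theorem smul_left_cancel {r : R} (hr : r ≠ 0) {x y : A ⊗[R] FractionRing R}
    (h : r • x = r • y) : x = y := by
  rw [← sub_eq_zero]
  apply eq_zero_of_smul_eq_zero hr
  rw [smul_sub, h, sub_self]

/-- Every element of the generic fibre has a nonzero multiple in `A`. -/
theorem exists_smul_eq (x : A ⊗[R] FractionRing R) :
    ∃ (r : R) (a : A), r ≠ 0 ∧ r • x = algebraMap A (A ⊗[R] FractionRing R) a := by
  induction x using TensorProduct.induction_on with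
  | zero => exact ⟨1, 0, one_ne_zero, by rw [smul_zero, map_zero]⟩
  | tmul a k =>
    obtain ⟨⟨r', s⟩, hk⟩ := IsLocalization.surj (nonZeroDivisors R) k
    refine ⟨s, r' • a, nonZeroDivisors.ne_zero s.2, ?_⟩
    rw [Algebra.TensorProduct.algebraMap_apply, Algebra.algebraMap_self, RingHom.id_apply,
      TensorProduct.smul_tmul', TensorProduct.smul_tmul, TensorProduct.smul_tmul]
    congr 1
    rw [Algebra.smul_def, mul_comm, hk, Algebra.smul_def, mul_one]
  | add x y hx hy =>
    obtain ⟨r, a, hr, hx⟩ := hx
    obtain ⟨r', a', hr', hy⟩ := hy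
    refine ⟨r * r', r' • a + r • a', mul_ne_zero hr hr', ?_⟩
    have hsm : ∀ (s : R) (b : A), algebraMap A (A ⊗[R] FractionRing R) (s • b) =
        s • algebraMap A (A ⊗[R] FractionRing R) b := fun s b => by
      rw [Algebra.smul_def, map_mul, ← IsScalarTower.algebraMap_apply R A, ← Algebra.smul_def]
    have h1 : (r * r') • x = algebraMap A (A ⊗[R] FractionRing R) (r' • a) := by
      rw [mul_comm, mul_smul, hx, hsm]
    have h2 : (r * r') • y = algebraMap A (A ⊗[R] FractionRing R) (r • a') := by
      rw [mul_smul, hy, hsm]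
    rw [smul_add, h1, h2, map_add]

/-- For torsion free `A`, the map to the generic fibre is injective. -/
theorem algebraMap_injective
    (htf : ∀ (r : R) (a : A), r ≠ 0 → algebraMap R A r * a = 0 → a = 0) :
    Function.Injective (algebraMap A (A ⊗[R] FractionRing R)) := by
  have hloc : IsLocalization (Algebra.algebraMapSubmonoid A (nonZeroDivisors R))
      (A ⊗[R] FractionRing R) := inferInstance
  apply IsLocalization.injective (A ⊗[R] FractionRing R)
    (M := Algebra.algebraMapSubmonoid A (nonZeroDivisors R))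
  rintro m ⟨r, hr, rfl⟩
  rw [mem_nonZeroDivisors_iff_left]
  intro x hx
  exact htf r x (nonZeroDivisors.ne_zero hr) hx

end Basic

section Extend

variable {R : Type u} [CommRing R] [IsDomain R]
  {A : Type u} [CommRing A] [Algebra R A]
  {D : Type u} [CommRing D] [Algebra R D]
  (φ : A →ₐ[R] D)

/-- The induced map on generic fibres. -/
noncomputable def mapK : A ⊗[R] FractionRing R →ₐ[R] D ⊗[R] FractionRing R :=
  Algebra.TensorProduct.map φ (AlgHom.id R (FractionRing R))

theorem mapK_algebraMap (a : A) :
    mapK φ (algebraMap A (A ⊗[R] FractionRing R) a) =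
      algebraMap D (D ⊗[R] FractionRing R) (φ a) := by
  rw [Algebra.TensorProduct.algebraMap_apply, Algebra.TensorProduct.algebraMap_apply, mapK,
    Algebra.TensorProduct.map_tmul]
  rfl

theorem isIntegral_mapK {x : A ⊗[R] FractionRing R} (hx : IsIntegral A x) :
    IsIntegral D (mapK φ x) := by
  obtain ⟨p, hp, hpx⟩ := hx
  refine ⟨p.map φ.toRingHom, hp.map _, ?_⟩
  rw [Polynomial.eval₂_map]
  have := congrArg (mapK φ).toRingHom hpx
  rw [Polynomial.hom_eval₂, map_zero] at this
  have hcomp : (algebraMap D (D ⊗[R] FractionRing R)).comp φ.toRingHom =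
      (mapK φ).toRingHom.comp (algebraMap A (A ⊗[R] FractionRing R)) :=
    RingHom.ext fun a => (mapK_algebraMap φ a).symm
  rw [hcomp]
  exact this

theorem mapK_mem_range_of_mem_adjoin {s : Set (A ⊗[R] FractionRing R)}
    (hs : ∀ x ∈ s, mapK φ x ∈ (algebraMap D (D ⊗[R] FractionRing R)).range)
    {x : A ⊗[R] FractionRing R} (hx : x ∈ Algebra.adjoin A s) :
    mapK φ x ∈ (algebraMap D (D ⊗[R] FractionRing R)).range := by
  induction hx using Algebra.adjoin_induction with
  | mem x hx => exact hs x hx
  | algebraMap a => exact ⟨φ a, (mapK_algebraMap φ a).symm⟩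
  | add x y _ _ hx hy =>
    rw [map_add]
    exact add_mem hx hy
  | mul x y _ _ hx hy =>
    rw [map_mul]
    exact mul_mem hx hy

variable (htfD : ∀ (r : R) (d : D), r ≠ 0 → algebraMap R D r * d = 0 → d = 0)

/-- Extension of `φ` to a subalgebra of the generic fibre whose generators are mapped into `D`. -/
noncomputable def extend {s : Set (A ⊗[R] FractionRing R)}
    (hs : ∀ x ∈ s, mapK φ x ∈ (algebraMap D (D ⊗[R] FractionRing R)).range) :
    Algebra.adjoin A s →ₐ[R] D :=
  (AlgEquiv.ofInjective (IsScalarTower.toAlgHom R D (D ⊗[R] FractionRing R))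
    (algebraMap_injective htfD)).symm.toAlgHom.comp
    (AlgHom.codRestrict ((mapK φ).comp ((Algebra.adjoin A s).val.restrictScalars R))
      (IsScalarTower.toAlgHom R D (D ⊗[R] FractionRing R)).range (fun x => by
        obtain ⟨d, hd⟩ := mapK_mem_range_of_mem_adjoin φ hs x.2
        exact ⟨d, hd⟩))

theorem algebraMap_extend {s : Set (A ⊗[R] FractionRing R)}
    (hs : ∀ x ∈ s, mapK φ x ∈ (algebraMap D (D ⊗[R] FractionRing R)).range)
    (x : Algebra.adjoin A s) :
    algebraMap D (D ⊗[R] FractionRing R) (extend φ htfD hs x) = mapK φ (x : A ⊗[R] FractionRing R) := by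
  have := (AlgEquiv.ofInjective (IsScalarTower.toAlgHom R D (D ⊗[R] FractionRing R))
    (algebraMap_injective htfD)).apply_symm_apply
    (AlgHom.codRestrict ((mapK φ).comp ((Algebra.adjoin A s).val.restrictScalars R))
      (IsScalarTower.toAlgHom R D (D ⊗[R] FractionRing R)).range (fun x => by
        obtain ⟨d, hd⟩ := mapK_mem_range_of_mem_adjoin φ hs x.2
        exact ⟨d, hd⟩) x)
  exact congrArg Subtype.val this

theorem extend_comp {s : Set (A ⊗[R] FractionRing R)}
    (hs : ∀ x ∈ s, mapK φ x ∈ (algebraMap D (D ⊗[R] FractionRing R)).range) :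
    (extend φ htfD hs).comp (IsScalarTower.toAlgHom R A (Algebra.adjoin A s)) = φ := by
  ext a
  apply algebraMap_injective htfD
  rw [AlgHom.comp_apply, algebraMap_extend, ← mapK_algebraMap]
  rfl

include htfD in
/-- Uniqueness of extensions to subalgebras of the generic fibre. -/
theorem ext_of_comp_eq {S : Subalgebra A (A ⊗[R] FractionRing R)} (ψ₁ ψ₂ : S →ₐ[R] D)
    (h : ψ₁.comp (IsScalarTower.toAlgHom R A S) = ψ₂.comp (IsScalarTower.toAlgHom R A S)) :
    ψ₁ = ψ₂ := by
  ext x
  obtain ⟨r, a, hr, hra⟩ := exists_smul_eq (x : A ⊗[R] FractionRing R)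
  have hx : r • x = algebraMap A S a := Subtype.ext hra
  have h1 : r • ψ₁ x = r • ψ₂ x := by
    rw [← map_smul, ← map_smul, hx]
    exact congrArg (fun f => f a) h
  rw [← sub_eq_zero]
  apply htfD r _ hr
  rw [← Algebra.smul_def, smul_sub, h1, sub_self]

end Extend

end Groth.Agent.H57.GenFibre
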