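import Mathlib

/-!
# Unramified extensions of valuation rings realizing finite residue field extensions

For a valuation domain `R` and a monic `f : R[X]` whose reduction modulo the maximal ideal is
irreducible, `AdjoinRoot f` is again a valuation domain.  Iterating, every finitely generated
integral extension of the residue field is realized by a finite injective extension of valuation
domains.
-/

set_option autoImplicit false
universe u

namespace Groth.Agent.H57.UnramExt

open Polynomial IsLocalRing

theorem exists_dvd_all {R ι : Type*} [CommRing R] [IsDomain R] [ValuationRing R] (f : ι → R)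
    (s : Finset ι) (hs : s.Nonempty) : ∃ j ∈ s, ∀ i ∈ s, f j ∣ f i := by
  classical
  induction hs using Finset.Nonempty.cons_induction with
  | singleton a => exact ⟨a, Finset.mem_singleton_self a, fun i hi => by
      rw [Finset.mem_singleton.mp hi]⟩
  | cons a s ha hs ih =>
    obtain ⟨j, hj, hjs⟩ := ih
    rcases ValuationRing.dvd_total (f a) (f j) with h | h
    · refine ⟨a, Finset.mem_cons_self a s, fun i hi => ?_⟩
      rcases Finset.mem_cons.mp hi with rfl | hi
      · exact dvd_rfl
      · exact h.trans (hjs i hi)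
    · refine ⟨j, Finset.mem_cons.mpr (Or.inr hj), fun i hi => ?_⟩
      rcases Finset.mem_cons.mp hi with rfl | hi
      · exact h
      · exact hjs i hi

section Step

variable {R : Type u} [CommRing R] [IsDomain R] [ValuationRing R]
  {f : R[X]} (hf : f.Monic)
  (hirr : Irreducible (f.map (Ideal.Quotient.mk (maximalIdeal R))))

include hirr in
/-- The extension of the maximal ideal is maximal. -/
theorem isMaximal_map : ((maximalIdeal R).map (AdjoinRoot.of f)).IsMaximal := by
  have h1 : (Ideal.span {f.map (Ideal.Quotient.mk (maximalIdeal R))} :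
      Ideal (R ⧸ maximalIdeal R)[X]).IsMaximal := by
    have : IsPrincipalIdealRing (R ⧸ maximalIdeal R)[X] :=
      (inferInstance : IsPrincipalIdealRing (ResidueField R)[X])
    exact PrincipalIdealRing.isMaximal_of_irreducible hirr
  rw [Ideal.Quotient.maximal_ideal_iff_isField_quotient] at h1 ⊢
  exact (AdjoinRoot.quotAdjoinRootEquivQuotPolynomialQuot (maximalIdeal R) f).toMulEquiv.isField h1

include hf hirr in
theorem isLocalRing : IsLocalRing (AdjoinRoot f) := by
  have hmax := isMaximal_map hirr
  have : Module.Finite R (AdjoinRoot f) := hf.finite_adjoinRoot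
  have : Algebra.IsIntegral R (AdjoinRoot f) := Algebra.IsIntegral.of_finite R _
  apply IsLocalRing.of_unique_max_ideal
  refine ⟨_, hmax, fun M hM => ?_⟩
  have h1 : (M.comap (algebraMap R (AdjoinRoot f))).IsMaximal :=
    Ideal.isMaximal_comap_of_isIntegral_of_isMaximal M
  have h2 : maximalIdeal R ≤ M.comap (AdjoinRoot.of f) := by
    rw [← AdjoinRoot.algebraMap_eq, IsLocalRing.eq_maximalIdeal h1]
  have h3 : (maximalIdeal R).map (AdjoinRoot.of f) ≤ M := Ideal.map_le_iff_le_comap.mpr h2
  exact (hmax.eq_of_le hM.ne_top h3).symm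

include hf hirr in
/-- Every element is an element of `R` times a unit. -/
theorem exists_eq_mul_unit (x : AdjoinRoot f) :
    ∃ (c : R) (g : AdjoinRoot f), IsUnit g ∧ x = AdjoinRoot.of f c * g := by
  have hloc := isLocalRing hf hirr
  have hmaxeq : maximalIdeal (AdjoinRoot f) = (maximalIdeal R).map (AdjoinRoot.of f) :=
    (IsLocalRing.eq_maximalIdeal (isMaximal_map hirr)).symm
  obtain ⟨G₀, rfl⟩ := AdjoinRoot.mk_surjective x
  set G := G₀ %ₘ f with hG
  have hxG : AdjoinRoot.mk f G₀ = AdjoinRoot.mk f G := by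
    have := AdjoinRoot.mk_leftInverse hf (AdjoinRoot.mk f G₀)
    rw [AdjoinRoot.modByMonicHom_mk] at this
    exact this.symm
  by_cases hG0 : G = 0
  · refine ⟨0, 1, isUnit_one, ?_⟩
    rw [hxG, hG0, map_zero, map_zero, zero_mul]
  have hnt : Nontrivial R := inferInstance
  have hdeg : G.degree < f.degree := degree_modByMonic_lt _ hf
  have hsupp : G.support.Nonempty := by
    rwa [Finset.nonempty_iff_ne_empty, Ne, support_eq_empty]
  obtain ⟨j, hj, hjs⟩ := exists_dvd_all (fun i => G.coeff i) G.support hsupp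
  have hc0 : G.coeff j ≠ 0 := mem_support_iff.mp hj
  have hdvd : C (G.coeff j) ∣ G := by
    rw [C_dvd_iff_dvd_coeff]
    intro i
    by_cases hi : i ∈ G.support
    · exact hjs i hi
    · rw [notMem_support_iff.mp hi]
      exact dvd_zero _
  obtain ⟨G', hG'⟩ := hdvd
  have hcoeff : G'.coeff j = 1 := by
    have h1 : G.coeff j = G.coeff j * G'.coeff j := by
      conv_lhs => rw [hG', coeff_C_mul]
    exact mul_left_cancel₀ hc0 (h1.symm.trans (mul_one _).symm)
  have hdeg' : G'.degree < f.degree := by
    have : G.degree = G'.degree := by rw [hG', degree_C_mul hc0]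
    rw [← this]
    exact hdeg
  refine ⟨G.coeff j, AdjoinRoot.mk f G', ?_, ?_⟩
  · rw [← IsLocalRing.notMem_maximalIdeal, hmaxeq]
    intro hmem
    have h1 : Ideal.Quotient.mk ((maximalIdeal R).map (AdjoinRoot.of f)) (AdjoinRoot.mk f G') = 0 :=
      Ideal.Quotient.eq_zero_iff_mem.mpr hmem
    have h2 := congrArg (AdjoinRoot.quotAdjoinRootEquivQuotPolynomialQuot (maximalIdeal R) f) h1
    rw [AdjoinRoot.quotAdjoinRootEquivQuotPolynomialQuot_mk_of, map_zero,
      Ideal.Quotient.eq_zero_iff_mem, Ideal.mem_span_singleton] at h2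
    have hntk : Nontrivial (R ⧸ maximalIdeal R) := Ideal.Quotient.nontrivial_iff.mpr
      (maximalIdeal.isMaximal R).ne_top
    have hmonic : (f.map (Ideal.Quotient.mk (maximalIdeal R))).Monic := hf.map _
    have hne : G'.map (Ideal.Quotient.mk (maximalIdeal R)) ≠ 0 := by
      intro h
      have := congrArg (fun p => p.coeff j) h
      simp only [coeff_map, hcoeff, map_one, coeff_zero] at this
      exact one_ne_zero this
    have hlt : (G'.map (Ideal.Quotient.mk (maximalIdeal R))).degree <
        (f.map (Ideal.Quotient.mk (maximalIdeal R))).degree := by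
      rw [hf.degree_map]
      exact lt_of_le_of_lt degree_map_le hdeg'
    exact hmonic.not_dvd_of_degree_lt hne hlt h2
  · rw [hxG]
    conv_lhs => rw [hG', map_mul, AdjoinRoot.mk_C]

include hf hirr in
theorem of_injective : Function.Injective (AdjoinRoot.of f) := by
  apply AdjoinRoot.of.injective_of_degree_ne_zero
  intro h0
  have h1 : f = 1 := by
    apply eq_one_of_monic_natDegree_zero hf
    exact natDegree_eq_of_degree_eq_some h0
  rw [h1, Polynomial.map_one] at hirr
  exact hirr.not_isUnit isUnit_one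

include hf hirr in
theorem isDomain : IsDomain (AdjoinRoot f) := by
  have hloc := isLocalRing hf hirr
  have : NoZeroDivisors (AdjoinRoot f) := by
    refine ⟨fun {x y} hxy => ?_⟩
    obtain ⟨c, g, hg, rfl⟩ := exists_eq_mul_unit hf hirr x
    obtain ⟨c', g', hg', rfl⟩ := exists_eq_mul_unit hf hirr y
    have h1 : AdjoinRoot.of f (c * c') * (g * g') = 0 := by
      rw [map_mul, ← hxy]
      ring
    have h2 : AdjoinRoot.of f (c * c') = 0 := (hg.mul hg').mul_left_eq_zero.mp h1
    have h3 : c * c' = 0 := of_injective hf hirr (h2.trans (map_zero _).symm)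
    rcases mul_eq_zero.mp h3 with h | h
    · left
      rw [h, map_zero, zero_mul]
    · right
      rw [h, map_zero, zero_mul]
  exact NoZeroDivisors.to_isDomain _

include hf hirr in
theorem preValuationRing : PreValuationRing (AdjoinRoot f) := by
  refine ⟨fun x y => ?_⟩
  obtain ⟨c, g, hg, rfl⟩ := exists_eq_mul_unit hf hirr x
  obtain ⟨c', g', hg', rfl⟩ := exists_eq_mul_unit hf hirr y
  obtain ⟨u, rfl⟩ := hg
  obtain ⟨u', rfl⟩ := hg'
  rcases ValuationRing.dvd_total c c' with ⟨d, rfl⟩ | ⟨d, rfl⟩
  · refine ⟨(↑u⁻¹ : AdjoinRoot f) * AdjoinRoot.of f d * u', Or.inl ?_⟩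
    rw [map_mul]
    calc AdjoinRoot.of f c * ↑u * (↑u⁻¹ * AdjoinRoot.of f d * ↑u')
        = AdjoinRoot.of f c * AdjoinRoot.of f d * ↑u' * (↑u * ↑u⁻¹) := by ring
      _ = _ := by rw [Units.mul_inv, mul_one]
  · refine ⟨(↑u'⁻¹ : AdjoinRoot f) * AdjoinRoot.of f d * u, Or.inr ?_⟩
    rw [map_mul]
    calc AdjoinRoot.of f c' * ↑u' * (↑u'⁻¹ * AdjoinRoot.of f d * ↑u)
        = AdjoinRoot.of f c' * AdjoinRoot.of f d * ↑u * (↑u' * ↑u'⁻¹) := by ring
      _ = _ := by rw [Units.mul_inv, mul_one]

end Step

section Tower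

/-- An integral ring homomorphism from a local ring to a field kills exactly the maximal ideal. -/
theorem ker_eq_maximalIdeal {R : Type u} [CommRing R] [IsLocalRing R] {k' : Type u} [Field k']
    (ρ : R →+* k') (hρ : ρ.IsIntegral) : RingHom.ker ρ = maximalIdeal R := by
  have : (Ideal.comap ρ ⊥).IsMaximal :=
    Ideal.isMaximal_comap_of_isIntegral_of_isMaximal' ρ hρ ⊥
  rw [RingHom.ker_eq_comap_bot]
  exact IsLocalRing.eq_maximalIdeal this

/-- One step: adjoin a lift of one residue element. -/
theorem exists_step {R : Type u} [CommRing R] [IsDomain R] [ValuationRing R] {k' : Type u}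
    [Field k'] (ρ : R →+* k') (hρ : ρ.IsIntegral) (a : k') :
    ∃ (R' : Type u) (_ : CommRing R') (_ : IsDomain R') (_ : ValuationRing R') (j : R →+* R')
      (π : R' →+* k'), π.comp j = ρ ∧ Function.Injective j ∧ j.Finite ∧ a ∈ Set.range π := by
  have hker := ker_eq_maximalIdeal ρ hρ
  let ρ' : R ⧸ maximalIdeal R →+* k' := Ideal.Quotient.lift (maximalIdeal R) ρ (fun x hx => by
    rw [← hker] at hx
    exact hx)
  have hρ' : ρ'.comp (Ideal.Quotient.mk (maximalIdeal R)) = ρ := RingHom.ext fun x => rfl
  let _ : Algebra (R ⧸ maximalIdeal R) k' := ρ'.toAlgebra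
  have halg : algebraMap (R ⧸ maximalIdeal R) k' = ρ' := rfl
  have hint : IsIntegral (R ⧸ maximalIdeal R) a := by
    obtain ⟨p, hp, hpa⟩ := hρ a
    refine ⟨p.map (Ideal.Quotient.mk _), hp.map _, ?_⟩
    rw [eval₂_map, halg, hρ']
    exact hpa
  obtain ⟨f, hfmap, -, hf⟩ := lifts_and_natDegree_eq_and_monic
    (f := Ideal.Quotient.mk (maximalIdeal R))
    ((mem_lifts _).mpr (map_surjective _ Ideal.Quotient.mk_surjective
      (minpoly (R ⧸ maximalIdeal R) a))) (minpoly.monic hint)
  have hirr : Irreducible (f.map (Ideal.Quotient.mk (maximalIdeal R))) := by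
    rw [hfmap]
    exact minpoly.irreducible hint
  have hroot : f.eval₂ ρ a = 0 := by
    rw [← hρ', ← eval₂_map, hfmap, ← halg, ← aeval_def]
    exact minpoly.aeval _ a
  refine ⟨AdjoinRoot f, inferInstance, isDomain hf hirr, ?_, AdjoinRoot.of f,
    AdjoinRoot.lift ρ a hroot, AdjoinRoot.lift_comp_of hroot, of_injective hf hirr, ?_,
    ⟨AdjoinRoot.root f, AdjoinRoot.lift_root hroot⟩⟩
  · exact @ValuationRing.mk _ _ (isDomain hf hirr) (preValuationRing hf hirr)
  · rw [← AdjoinRoot.algebraMap_eq, RingHom.finite_algebraMap]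
    exact hf.finite_adjoinRoot

/-- Iterating: lift a finite set of residue elements. -/
theorem exists_tower {k' : Type u} [Field k'] (s : Finset k') :
    ∀ (R : Type u) [CommRing R] [IsDomain R] [ValuationRing R] (ρ : R →+* k') (_ : ρ.IsIntegral),
    ∃ (R' : Type u) (_ : CommRing R') (_ : IsDomain R') (_ : ValuationRing R') (j : R →+* R')
      (π : R' →+* k'), π.comp j = ρ ∧ Function.Injective j ∧ j.Finite ∧
        (↑s : Set k') ⊆ Set.range π := by
  classical
  induction s using Finset.induction_on with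
  | empty =>
    intro R _ _ _ ρ hρ
    exact ⟨R, inferInstance, inferInstance, inferInstance, RingHom.id R, ρ, RingHom.comp_id ρ,
      Function.injective_id, RingHom.Finite.id R, by simp⟩
  | insert a s ha ih =>
    intro R _ _ _ ρ hρ
    obtain ⟨R₁, _, _, _, j₁, π₁, h1, h2, h3, h4⟩ := ih R ρ hρ
    have hπ₁ : π₁.IsIntegral := by
      rw [← h1] at hρ
      exact RingHom.IsIntegral.tower_top j₁ π₁ hρ
    obtain ⟨R₂, _, _, _, j₂, π₂, g1, g2, g3, g4⟩ := exists_step π₁ hπ₁ a
    refine ⟨R₂, inferInstance, inferInstance, inferInstance, j₂.comp j₁, π₂, ?_, g2.comp h2,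
      g3.comp h3, ?_⟩
    · rw [← RingHom.comp_assoc, g1, h1]
    · intro x hx
      rw [Finset.coe_insert] at hx
      rcases hx with rfl | hx
      · exact g4
      · obtain ⟨y, hy⟩ := h4 hx
        refine ⟨j₂ y, ?_⟩
        rw [← hy, ← g1]
        rfl

end Tower

end Groth.Agent.H57.UnramExt
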