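import Mathlib
import Groth.Prelude.Def_W4bk4boschfrg79
import Groth.Agent.H57.RigPoint
import Groth.Agent.H57.UnramExt
import Groth.Agent.H54.Dim

/-!
# Closed points of the special fibre of `R⟨ζ⟩` lift to rig-points
-/

set_option autoImplicit false
universe u

namespace Groth.Agent.H57.RigPoint

open AdicRing IsLocalRing

section Self

variable {R : Type u} [CommRing R] (I : Ideal R) [IsAdicComplete I R]

/-- A complete ring is topologically of finite type over itself. -/
theorem tft_self : TopFiniteType R I R := by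
  have : IsAdicComplete (I.map (algebraMap R R)) R := by
    rw [Algebra.algebraMap_self, Ideal.map_id]
    infer_instance
  refine ⟨0, RPow.lift I (fun i => Fin.elim0 i), fun r => ⟨algebraMap R _ r, ?_⟩⟩
  rw [AlgHom.commutes]
  rfl

end Self

section V

variable {R : Type u} [CommRing R] [IsDomain R] [ValuationRing R] [Ring.KrullDimLE 1 R]
  (t : R) (ht : t ≠ 0) [IsAdicComplete (Ideal.span {t}) R]

include ht in
theorem ringKrullDim_eq_one : ringKrullDim R = 1 := by
  have h1 : ringKrullDim R ≤ 1 := Ring.krullDimLE_iff.mp inferInstance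
  have h0 : ¬ ringKrullDim R ≤ 0 := fun h => by
    have : Ring.KrullDimLE 0 R := Ring.krullDimLE_iff.mpr h
    have hF : IsField R := Ring.KrullDimLE.isField_of_isDomain
    exact RPow.not_isUnit_t t ht (isUnit_iff_exists_inv.mpr (hF.mul_inv_cancel ht))
  exact le_antisymm h1 (Order.succ_le_of_lt (lt_of_not_ge h0))

include ht in
theorem maximalIdeal_le_comap {P : Type*} [CommRing P] [Algebra R P] (m : Ideal P) [hmp : m.IsPrime]
    (hm : algebraMap R P t ∈ m) : maximalIdeal R ≤ m.comap (algebraMap R P) := by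
  intro c hc
  obtain ⟨d, -, hd⟩ := RPow.exists_pow_mem_span t ht ((mem_maximalIdeal c).mp hc)
  rw [Ideal.mem_comap]
  apply hmp.mem_of_pow_mem d
  rw [← map_pow]
  obtain ⟨s, hs⟩ := Ideal.mem_span_singleton.mp hd
  rw [hs, map_mul]
  exact Ideal.mul_mem_right _ _ hm

include ht in
/-- Finite algebras over `R` are complete. -/
theorem isAdicComplete_of_finite {R' : Type u} [CommRing R'] [Algebra R R'] [Module.Finite R R'] :
    IsAdicComplete ((Ideal.span {t}).map (algebraMap R R')) R' :=
  (IsAdicComplete.map_algebraMap_iff (S := R') (Ideal.span {t}) R').mpr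
    (RPow.tft_isAdicComplete (isBase t ht) (tft_self _))

include ht in
/-- A maximal ideal of `R⟨ζ⟩` containing `t` contains a prime not containing `t` with
one-dimensional quotient. -/
theorem exists_prime_le_maximal (n : ℕ) (m : Ideal (RPow R (Ideal.span {t}) n)) [m.IsMaximal]
    (hm : algebraMap R (RPow R (Ideal.span {t}) n) t ∈ m) :
    ∃ p : Ideal (RPow R (Ideal.span {t}) n), p.IsPrime ∧ p ≤ m ∧
      algebraMap R (RPow R (Ideal.span {t}) n) t ∉ p ∧
      ringKrullDim (RPow R (Ideal.span {t}) n ⧸ p) = 1 := by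
  classical
  have hI : (Ideal.span {t}).FG := ⟨{t}, by simp⟩
  have hle := maximalIdeal_le_comap t ht m hm
  let _ : Field (RPow R (Ideal.span {t}) n ⧸ m) := Ideal.Quotient.field m
  have hIm : (Ideal.span {t}).map (algebraMap R (RPow R (Ideal.span {t}) n)) ≤ m := by
    rw [Ideal.map_le_iff_le_comap, Ideal.span_le, Set.singleton_subset_iff]
    exact hm
  have hft : Algebra.FiniteType R (RPow R (Ideal.span {t}) n ⧸ m) := by
    have h0 : Algebra.FiniteType R (RPow R (Ideal.span {t}) n ⧸
        (Ideal.span {t}).map (algebraMap R (RPow R (Ideal.span {t}) n))) :=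
      ComplFT.finiteType_quotient_of_tft hI ⟨n, AlgHom.id R _, Function.surjective_id⟩
    exact Algebra.FiniteType.of_surjective (Ideal.Quotient.factorₐ R hIm)
      (Ideal.Quotient.factor_surjective hIm)
  have hfin : Module.Finite R (RPow R (Ideal.span {t}) n ⧸ m) := by
    let _ : Algebra (ResidueField R) (RPow R (Ideal.span {t}) n ⧸ m) :=
      Ideal.Quotient.algebraQuotientOfLEComap hle
    have : IsScalarTower R (ResidueField R) (RPow R (Ideal.span {t}) n ⧸ m) :=
      IsScalarTower.of_algebraMap_eq (fun x => rfl)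
    have : Algebra.FiniteType (ResidueField R) (RPow R (Ideal.span {t}) n ⧸ m) :=
      Algebra.FiniteType.of_restrictScalars_finiteType R _ _
    have := finite_of_finite_type_of_isJacobsonRing (ResidueField R)
      (RPow R (Ideal.span {t}) n ⧸ m)
    exact Module.Finite.trans (ResidueField R) (RPow R (Ideal.span {t}) n ⧸ m)
  have hρ : (algebraMap R (RPow R (Ideal.span {t}) n ⧸ m)).IsIntegral := fun x =>
    (Algebra.IsIntegral.of_finite R _).isIntegral x
  obtain ⟨R', _, _, _, j, π, hπj, hjinj, hjfin, hs⟩ := UnramExt.exists_tower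
    (Finset.univ.image (fun i : Fin n =>
      Ideal.Quotient.mk m (RPow.ι (Ideal.span {t}) n (MvPolynomial.X i)))) R
    (algebraMap R (RPow R (Ideal.span {t}) n ⧸ m)) hρ
  let _ : Algebra R R' := j.toAlgebra
  have : Module.Finite R R' := hjfin
  have hc := isAdicComplete_of_finite t ht (R' := R')
  have hb : ∀ i : Fin n, ∃ b : R',
      π b = Ideal.Quotient.mk m (RPow.ι (Ideal.span {t}) n (MvPolynomial.X i)) := fun i =>
    hs (by simp)
  choose b hb using hb
  let Φ : RPow R (Ideal.span {t}) n →ₐ[R] R' := RPow.lift (Ideal.span {t}) b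
  have hcomm : ∀ r : R, π (algebraMap R R' r) =
      algebraMap R (RPow R (Ideal.span {t}) n ⧸ m) r := fun r => by
    change π (j r) = _
    rw [← RingHom.comp_apply, hπj]
  let πₐ : R' →ₐ[R] RPow R (Ideal.span {t}) n ⧸ m := { π with commutes' := hcomm }
  have hπₐ : ∀ x, πₐ x = π x := fun x => rfl
  have hcomp : πₐ.comp Φ = Ideal.Quotient.mkₐ R m := by
    have hbot : (Ideal.span {t}).map (algebraMap R (RPow R (Ideal.span {t}) n ⧸ m)) = ⊥ := by
      rw [eq_bot_iff, Ideal.map_le_iff_le_comap, Ideal.span_le, Set.singleton_subset_iff]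
      change algebraMap R (RPow R (Ideal.span {t}) n ⧸ m) t ∈ (⊥ : Ideal _)
      rw [Ideal.mem_bot, IsScalarTower.algebraMap_apply R (RPow R (Ideal.span {t}) n)
        (RPow R (Ideal.span {t}) n ⧸ m), Ideal.Quotient.algebraMap_eq,
        Ideal.Quotient.eq_zero_iff_mem]
      exact hm
    have : IsHausdorff ((Ideal.span {t}).map (algebraMap R (RPow R (Ideal.span {t}) n ⧸ m)))
        (RPow R (Ideal.span {t}) n ⧸ m) := by
      rw [hbot]
      refine ⟨fun x hx => ?_⟩
      have := hx 1
      rw [SModEq.zero, pow_one, Submodule.bot_smul] at this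
      exact this
    apply RPow.hom_ext hI
    intro i
    rw [AlgHom.comp_apply, RPow.lift_X, hπₐ]
    exact hb i
  have hkerm : ∀ x, Φ x = 0 → x ∈ m := by
    intro x hx
    have h1 : (Ideal.Quotient.mkₐ R m) x = 0 := by
      rw [← hcomp, AlgHom.comp_apply, hx, map_zero]
    rwa [Ideal.Quotient.mkₐ_eq_mk, Ideal.Quotient.eq_zero_iff_mem] at h1
  have halg : ∀ r : R, Φ (algebraMap R _ r) = j r := fun r => by
    rw [AlgHom.commutes]
    rfl
  refine ⟨RingHom.ker Φ.toRingHom, RingHom.ker_isPrime _, fun x hx => hkerm x hx, ?_, ?_⟩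
  · intro h
    have h1 : j t = 0 := by rw [← halg]; exact h
    exact ht (hjinj (h1.trans (map_zero j).symm))
  · -- dimension
    let Ψ : (RPow R (Ideal.span {t}) n ⧸ RingHom.ker Φ.toRingHom) →ₐ[R] R' :=
      Ideal.Quotient.liftₐ (RingHom.ker Φ.toRingHom) Φ (fun a ha => ha)
    have hΨinj : Function.Injective Ψ := by
      rw [injective_iff_map_eq_zero]
      intro y hy
      obtain ⟨x, rfl⟩ := Ideal.Quotient.mk_surjective y
      rw [Ideal.Quotient.eq_zero_iff_mem]
      exact hy
    have hint : Algebra.IsIntegral R (RPow R (Ideal.span {t}) n ⧸ RingHom.ker Φ.toRingHom) := by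
      have hR' : Algebra.IsIntegral R R' := Algebra.IsIntegral.of_finite R R'
      refine ⟨fun y => ?_⟩
      exact (isIntegral_algHom_iff Ψ hΨinj).mp (hR'.isIntegral _)
    have hinj : Function.Injective
        (algebraMap R (RPow R (Ideal.span {t}) n ⧸ RingHom.ker Φ.toRingHom)) := by
      intro r r' hrr'
      apply hjinj
      have := congrArg Ψ hrr'
      rwa [AlgHom.commutes, AlgHom.commutes] at this
    rw [← Groth.Agent.H54.ringKrullDim_eq_of_isIntegral_of_injective hinj]
    exact ringKrullDim_eq_one t ht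

end V

end Groth.Agent.H57.RigPoint
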