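import Mathlib
import Groth.Prelude.Def_W4bk4boschfrg79
import Groth.Agent.H57.RigPoint2

/-!
# Noether normalization for torsion free algebras topologically of finite type over a complete
valuation ring of height one
-/

set_option autoImplicit false
universe u

namespace Groth.Agent.H57.NoetherNorm

open AdicRing IsLocalRing Polynomial

section Integral

variable {R : Type u} [CommRing R] [IsDomain R] [ValuationRing R] [Ring.KrullDimLE 1 R]
  (t : R) (ht : t ≠ 0) [IsAdicComplete (Ideal.span {t}) R]
  {T B : Type u} [CommRing T] [CommRing B] [Algebra R T] [Algebra R B] [Algebra T B]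
  [IsScalarTower R T B]

include ht in
/-- Integrality modulo the maximal ideal of `R` implies integrality modulo `t`. -/
theorem isIntegral_quotient_of_fibre
    (h : ∀ x : B, ∃ p : T[X], p.Monic ∧ aeval x p ∈ (maximalIdeal R).map (algebraMap R B)) :
    Algebra.IsIntegral T (B ⧸ (Ideal.span {t}).map (algebraMap R B)) := by
  refine ⟨fun y => ?_⟩
  obtain ⟨x, rfl⟩ := Ideal.Quotient.mk_surjective y
  obtain ⟨p, hp, hmem⟩ := h x
  obtain ⟨d, hd⟩ := RigPoint.map_maximalIdeal_le_radical t ht hmem
  refine ⟨p ^ d, hp.pow d, ?_⟩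
  rw [← aeval_def, ← Ideal.Quotient.mkₐ_eq_mk T, aeval_algHom_apply,
    Ideal.Quotient.mkₐ_eq_mk, map_pow, Ideal.Quotient.eq_zero_iff_mem]
  exact hd

/-- Complete Nakayama over a complete base `T`. -/
theorem finite_of_isIntegral_quotient
    (hft : Algebra.FiniteType R (B ⧸ (Ideal.span {t}).map (algebraMap R B)))
    (hint : Algebra.IsIntegral T (B ⧸ (Ideal.span {t}).map (algebraMap R B)))
    [IsPrecomplete ((Ideal.span {t}).map (algebraMap R T)) T] [IsHausdorff (Ideal.span {t}) B] :
    Module.Finite T B := by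
  have hft' : Algebra.FiniteType T (B ⧸ (Ideal.span {t}).map (algebraMap R B)) :=
    Algebra.FiniteType.of_restrictScalars_finiteType R T _
  have hfin : Module.Finite T (B ⧸ (Ideal.span {t}).map (algebraMap R B)) :=
    Algebra.IsIntegral.finite
  have hH : IsHausdorff ((Ideal.span {t}).map (algebraMap R T)) B :=
    IsHausdorff.map_algebraMap_iff.mpr inferInstance
  apply Groth.Agent.H44.finite_of_finite_quotient ((Ideal.span {t}).map (algebraMap R T)) B
  have heq : ((Ideal.span {t}).map (algebraMap R T) • ⊤ : Submodule T B) =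
      ((Ideal.span {t}).map (algebraMap R B)).restrictScalars T := by
    rw [Ideal.smul_top_eq_map, Ideal.map_map, ← IsScalarTower.algebraMap_eq]
  have e1 : (B ⧸ ((Ideal.span {t}).map (algebraMap R T) • ⊤ : Submodule T B)) ≃ₗ[T]
      (B ⧸ ((Ideal.span {t}).map (algebraMap R B)).restrictScalars T) :=
    Submodule.quotEquivOfEq _ _ heq
  have e2 : (B ⧸ ((Ideal.span {t}).map (algebraMap R B)).restrictScalars T) ≃ₗ[T]
      (B ⧸ (Ideal.span {t}).map (algebraMap R B)) :=
    Submodule.Quotient.restrictScalarsEquiv T _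
  exact Module.Finite.equiv (e1.trans e2).symm

end Integral

section NN

variable {R : Type u} [CommRing R] [IsDomain R] [ValuationRing R] [Ring.KrullDimLE 1 R]
  (t : R) (ht : t ≠ 0) [IsAdicComplete (Ideal.span {t}) R]

theorem isHausdorff_bot {S : Type*} [CommRing S] : IsHausdorff (⊥ : Ideal S) S := by
  refine ⟨fun x hx => ?_⟩
  have := hx 1
  rw [SModEq.zero, pow_one, Submodule.bot_smul] at this
  exact this

include ht in
theorem map_quotient_eq_bot {B : Type u} [CommRing B] [Algebra R B] :
    (Ideal.span {t}).map (algebraMap R (B ⧸ (maximalIdeal R).map (algebraMap R B))) = ⊥ := by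
  rw [eq_bot_iff, Ideal.map_le_iff_le_comap, Ideal.span_le, Set.singleton_subset_iff]
  change algebraMap R (B ⧸ (maximalIdeal R).map (algebraMap R B)) t ∈ (⊥ : Ideal _)
  rw [Ideal.mem_bot, IsScalarTower.algebraMap_apply R B, Ideal.Quotient.algebraMap_eq,
    Ideal.Quotient.eq_zero_iff_mem]
  exact Ideal.mem_map_of_mem _ (RPow.t_mem_maximalIdeal t ht)

include ht in
/-- `R⟨⟩` (no variables) is finite over `R`. -/
theorem finite_rpow_zero : Module.Finite R (RPow R (Ideal.span {t}) 0) := by
  have hI : (Ideal.span {t}).FG := ⟨{t}, by simp⟩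
  have htft : TopFiniteType R (Ideal.span {t}) (RPow R (Ideal.span {t}) 0) :=
    ⟨0, AlgHom.id R _, Function.surjective_id⟩
  have hft := ComplFT.finiteType_quotient_of_tft hI htft
  have hc : IsAdicComplete (Ideal.span {t}) (RPow R (Ideal.span {t}) 0) :=
    RPow.tft_isAdicComplete (RigPoint.isBase t ht) htft
  have hp : IsPrecomplete ((Ideal.span {t}).map (algebraMap R R)) R := by
    rw [Algebra.algebraMap_self, Ideal.map_id]
    infer_instance
  apply finite_of_isIntegral_quotient t hft
  apply isIntegral_quotient_of_fibre t ht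
  intro x
  obtain ⟨p, hp⟩ := RPow.exists_sub_ι_mem hI x 1
  refine ⟨X - C (MvPolynomial.coeff 0 p), monic_X_sub_C _, ?_⟩
  have h1 : RPow.ι (Ideal.span {t}) 0 p =
      algebraMap R (RPow R (Ideal.span {t}) 0) (MvPolynomial.coeff 0 p) := by
    conv_lhs => rw [MvPolynomial.eq_C_of_isEmpty p]
    exact (RPow.ι (Ideal.span {t}) 0).commutes _
  rw [map_sub, aeval_X, aeval_C, ← h1]
  rw [pow_one] at hp
  exact Ideal.map_mono (RigPoint.span_le_maximalIdeal t ht) hp

include ht in
/-- **Noether normalization**: a nontrivial torsion free algebra topologically of finite type is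
finite over an injective image of some `R⟨Y₁, …, Y_s⟩`. -/
theorem exists_finite_injective {B : Type u} [CommRing B] [Algebra R B] [Nontrivial B]
    (hB : TopFiniteType R (Ideal.span {t}) B) (hnt : NoPowTorsion (Ideal.span {t}) B) :
    ∃ (s : ℕ) (Ψ : RPow R (Ideal.span {t}) s →ₐ[R] B),
      Function.Injective Ψ ∧ Ψ.toRingHom.Finite := by
  have hI : (Ideal.span {t}).FG := ⟨{t}, by simp⟩
  have hc : IsAdicComplete (Ideal.span {t}) B :=
    RPow.tft_isAdicComplete (RigPoint.isBase t ht) hB
  have hc' : IsAdicComplete ((Ideal.span {t}).map (algebraMap R B)) B :=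
    (IsAdicComplete.map_algebraMap_iff (S := B) (Ideal.span {t}) B).mpr hc
  let _ : Field (R ⧸ maximalIdeal R) := Ideal.Quotient.field _
  have hft0 : Algebra.FiniteType R (B ⧸ (Ideal.span {t}).map (algebraMap R B)) :=
    ComplFT.finiteType_quotient_of_tft hI hB
  have hle : (Ideal.span {t}).map (algebraMap R B) ≤ (maximalIdeal R).map (algebraMap R B) :=
    Ideal.map_mono (RigPoint.span_le_maximalIdeal t ht)
  have hft1 : Algebra.FiniteType R (B ⧸ (maximalIdeal R).map (algebraMap R B)) :=
    Algebra.FiniteType.of_surjective (Ideal.Quotient.factorₐ R hle)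
      (Ideal.Quotient.factor_surjective hle)
  have hft2 : Algebra.FiniteType (R ⧸ maximalIdeal R)
      (B ⧸ (maximalIdeal R).map (algebraMap R B)) :=
    Algebra.FiniteType.of_restrictScalars_finiteType R _ _
  have hntB : Nontrivial (B ⧸ (maximalIdeal R).map (algebraMap R B)) := by
    rw [Ideal.Quotient.nontrivial_iff]
    intro htop
    have h1 : (1 : B) ∈ ((Ideal.span {t}).map (algebraMap R B)).radical := by
      apply RigPoint.map_maximalIdeal_le_radical t ht
      rw [htop]
      trivial
    have h2 : (Ideal.span {t}).map (algebraMap R B) = ⊤ := by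
      rw [Ideal.eq_top_iff_one]
      obtain ⟨d, hd⟩ := h1
      rwa [one_pow] at hd
    have h3 := IsAdicComplete.le_jacobson_bot ((Ideal.span {t}).map (algebraMap R B))
    rw [h2, top_le_iff, Ideal.jacobson_eq_top_iff] at h3
    exact bot_ne_top h3
  obtain ⟨s, g, hginj, hgint⟩ := exists_integral_inj_algHom_of_fg (R ⧸ maximalIdeal R)
    (B ⧸ (maximalIdeal R).map (algebraMap R B))
  choose y hy using fun i => Ideal.Quotient.mk_surjective (g (MvPolynomial.X i))
  have hcompat : ∀ a : RPow R (Ideal.span {t}) s,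
      Ideal.Quotient.mk ((maximalIdeal R).map (algebraMap R B)) (RPow.lift (Ideal.span {t}) y a) =
        g (RPow.redm t ht a) := by
    have hH : IsHausdorff ((Ideal.span {t}).map
        (algebraMap R (B ⧸ (maximalIdeal R).map (algebraMap R B))))
        (B ⧸ (maximalIdeal R).map (algebraMap R B)) := by
      rw [map_quotient_eq_bot t ht]
      exact isHausdorff_bot
    have key : (Ideal.Quotient.mkₐ R ((maximalIdeal R).map (algebraMap R B))).comp
        (RPow.lift (Ideal.span {t}) y) = (g.restrictScalars R).comp (RPow.redm t ht) := by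
      apply RPow.hom_ext hI
      intro i
      rw [AlgHom.comp_apply, AlgHom.comp_apply, RPow.lift_X, Ideal.Quotient.mkₐ_eq_mk, hy,
        RPow.redm_ι, MvPolynomial.map_X]
      rfl
    intro a
    exact congrArg (fun f => f a) key
  refine ⟨s, RPow.lift (Ideal.span {t}) y, ?_, ?_⟩
  · rw [injective_iff_map_eq_zero]
    intro x hx
    by_contra hne
    obtain ⟨c, x', hc0, rfl, hx'⟩ := RPow.exists_content t ht hne
    rw [map_smul, Algebra.smul_def] at hx
    have h0 : RPow.lift (Ideal.span {t}) y x' = 0 :=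
      RigPoint.eq_zero_of_algebraMap_mul_eq_zero t hnt hc0 hx
    apply hx'
    apply hginj
    rw [← hcompat, h0, map_zero, map_zero]
  · let _ : Algebra (RPow R (Ideal.span {t}) s) B := (RPow.lift (Ideal.span {t}) y).toRingHom.toAlgebra
    have hst : IsScalarTower R (RPow R (Ideal.span {t}) s) B :=
      IsScalarTower.of_algebraMap_eq (fun r => ((RPow.lift (Ideal.span {t}) y).commutes r).symm)
    have halg : ∀ a, algebraMap (RPow R (Ideal.span {t}) s) B a = RPow.lift (Ideal.span {t}) y a :=
      fun a => rfl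
    have hpc : IsPrecomplete ((Ideal.span {t}).map (algebraMap R (RPow R (Ideal.span {t}) s)))
        (RPow R (Ideal.span {t}) s) := (RPow.isAdicComplete t ht).toIsPrecomplete
    change Module.Finite (RPow R (Ideal.span {t}) s) B
    apply finite_of_isIntegral_quotient t hft0
    apply isIntegral_quotient_of_fibre t ht
    intro x
    obtain ⟨pbar, hpbar, hpx⟩ := hgint (Ideal.Quotient.mk _ x)
    obtain ⟨p, hpmap, -, hp⟩ := lifts_and_natDegree_eq_and_monic
      (f := (RPow.redm t ht (n := s)).toRingHom)
      ((mem_lifts _).mpr (map_surjective _ (RPow.red_surjective _) pbar)) hpbar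
    refine ⟨p, hp, ?_⟩
    rw [← Ideal.Quotient.eq_zero_iff_mem, aeval_def, hom_eval₂]
    have hcomp : (Ideal.Quotient.mk ((maximalIdeal R).map (algebraMap R B))).comp
        (algebraMap (RPow R (Ideal.span {t}) s) B) =
        g.toRingHom.comp (RPow.redm t ht (n := s)).toRingHom :=
      RingHom.ext fun a => hcompat a
    rw [hcomp, ← eval₂_map, hpmap]
    exact hpx

include ht in
/-- If every nonzero element of `B` divides a nonzero element of `R` (the generic fibre is a
field), then `B` is finite over `R`. -/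
theorem finite_of_forall_dvd {B : Type u} [CommRing B] [Algebra R B] [Nontrivial B]
    (hB : TopFiniteType R (Ideal.span {t}) B) (hnt : NoPowTorsion (Ideal.span {t}) B)
    (hfield : ∀ b : B, b ≠ 0 → ∃ (b' : B) (r : R), r ≠ 0 ∧ b * b' = algebraMap R B r) :
    Module.Finite R B := by
  obtain ⟨s, Ψ, hinj, hfin⟩ := exists_finite_injective t ht hB hnt
  rcases Nat.eq_zero_or_pos s with rfl | hs
  · have h0 := finite_rpow_zero t ht
    let _ : Algebra (RPow R (Ideal.span {t}) 0) B := Ψ.toRingHom.toAlgebra
    have hst : IsScalarTower R (RPow R (Ideal.span {t}) 0) B :=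
      IsScalarTower.of_algebraMap_eq (fun r => (Ψ.commutes r).symm)
    have h1 : Module.Finite (RPow R (Ideal.span {t}) 0) B := hfin
    exact Module.Finite.trans (RPow R (Ideal.span {t}) 0) B
  · exfalso
    obtain ⟨s', rfl⟩ := Nat.exists_eq_succ_of_ne_zero hs.ne'
    have hR : IsAdicComplete ((Ideal.span {t}).map (algebraMap R R)) R := by
      rw [Algebra.algebraMap_self, Ideal.map_id]
      infer_instance
    have hY0 : RPow.lift (Ideal.span {t}) (fun _ : Fin (s' + 1) => (0 : R))
        (RPow.ι (Ideal.span {t}) (s' + 1) (MvPolynomial.X 0)) = 0 := RPow.lift_X _ _ _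
    have hY1 : RPow.lift (Ideal.span {t}) (fun _ : Fin (s' + 1) => (1 : R))
        (RPow.ι (Ideal.span {t}) (s' + 1) (MvPolynomial.X 0)) = 1 := RPow.lift_X _ _ _
    have hYne : RPow.ι (Ideal.span {t}) (s' + 1) (MvPolynomial.X 0) ≠ 0 := fun h => by
      rw [h, map_zero] at hY1
      exact zero_ne_one hY1
    have hΨY : Ψ (RPow.ι (Ideal.span {t}) (s' + 1) (MvPolynomial.X 0)) ≠ 0 := fun h =>
      hYne (hinj (h.trans (map_zero Ψ).symm))
    obtain ⟨b', r, hr, hb'⟩ := hfield _ hΨY
    obtain ⟨p, hp, hpb⟩ := hfin.to_isIntegral b'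
    have h1 := scaleRoots_eval₂_eq_zero Ψ.toRingHom
      (s := RPow.ι (Ideal.span {t}) (s' + 1) (MvPolynomial.X 0)) hpb
    have h1' : eval₂ Ψ.toRingHom (Ψ.toRingHom (algebraMap R _ r))
        (scaleRoots p (RPow.ι (Ideal.span {t}) (s' + 1) (MvPolynomial.X 0))) = 0 := by
      have hcoe : Ψ.toRingHom (algebraMap R _ r) = algebraMap R B r := Ψ.commutes r
      rw [hcoe, ← hb']
      exact h1
    rw [eval₂_hom] at h1'
    have h3 : (scaleRoots p (RPow.ι (Ideal.span {t}) (s' + 1) (MvPolynomial.X 0))).eval
        (algebraMap R _ r) = 0 := hinj (h1'.trans (map_zero Ψ).symm)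
    have h4 := congrArg (RPow.lift (Ideal.span {t}) (fun _ : Fin (s' + 1) => (0 : R))).toRingHom h3
    rw [map_zero, ← eval₂_hom, ← eval_map, map_scaleRoots _ _ _ (by
      rw [hp.leadingCoeff, map_one]; exact one_ne_zero)] at h4
    have h5 : (RPow.lift (Ideal.span {t}) (fun _ : Fin (s' + 1) => (0 : R))).toRingHom
        (RPow.ι (Ideal.span {t}) (s' + 1) (MvPolynomial.X 0)) = 0 := hY0
    have h6 : (RPow.lift (Ideal.span {t}) (fun _ : Fin (s' + 1) => (0 : R))).toRingHom
        (algebraMap R _ r) = r := AlgHom.commutes _ r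
    rw [h5, h6, scaleRoots_zero, (hp.map _).leadingCoeff, one_smul, eval_pow, eval_X] at h4
    exact hr (pow_eq_zero_iff'.mp h4).1

end NN

end Groth.Agent.H57.NoetherNorm
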