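import Mathlib
import Groth.Prelude.Def_W4bk4boschfrg79
import Groth.Agent.H57.NoetherNorm
import Groth.Agent.H57.GenFibre

/-!
# Non-open primes of dimension one and maximal ideals of the generic fibre
-/

set_option autoImplicit false
universe u

namespace Groth.Agent.H57.GenFibrePrime

open AdicRing IsLocalRing TensorProduct

variable {R : Type u} [CommRing R] [IsDomain R] [ValuationRing R] [Ring.KrullDimLE 1 R]
  (t : R) (ht : t ≠ 0) [IsAdicComplete (Ideal.span {t}) R]
  {A : Type u} [CommRing A] [Algebra R A]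

/-- Primes not containing `t` are disjoint from the nonzero scalars. -/
theorem disjoint_of_not_mem (p : Ideal A) [hp : p.IsPrime] (htp : algebraMap R A t ∉ p) :
    Disjoint (Algebra.algebraMapSubmonoid A (nonZeroDivisors R) : Set A) (p : Set A) := by
  rw [Set.disjoint_left]
  rintro x ⟨r, hr, rfl⟩ hxp
  obtain ⟨d, s, hs⟩ := RPow.exists_pow_eq_mul t (nonZeroDivisors.ne_zero hr)
  apply htp
  apply hp.mem_of_pow_mem d
  rw [← map_pow, hs, map_mul]
  exact Ideal.mul_mem_right _ _ hxp

include ht in
theorem algebraMap_t_not_mem (m : Ideal (A ⊗[R] FractionRing R)) (hm : m ≠ ⊤) :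
    algebraMap R A t ∉ m.comap (algebraMap A (A ⊗[R] FractionRing R)) := by
  intro h
  rw [Ideal.mem_comap, ← IsScalarTower.algebraMap_apply R A] at h
  exact hm (Ideal.eq_top_of_isUnit_mem _ h (GenFibre.isUnit_algebraMap A ht))

include ht in
/-- Extension of a non-open prime of dimension one is maximal in the generic fibre. -/
theorem isMaximal_map (hA : TopFiniteType R (Ideal.span {t}) A) (p : Ideal A) [hp : p.IsPrime]
    (htp : algebraMap R A t ∉ p) (hdim : ringKrullDim (A ⧸ p) = 1) :
    (p.map (algebraMap A (A ⊗[R] FractionRing R))).IsMaximal ∧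
      (p.map (algebraMap A (A ⊗[R] FractionRing R))).comap
        (algebraMap A (A ⊗[R] FractionRing R)) = p := by
  have hdisj := disjoint_of_not_mem t p htp
  have hcm : (p.map (algebraMap A (A ⊗[R] FractionRing R))).comap
        (algebraMap A (A ⊗[R] FractionRing R)) = p :=
    IsLocalization.under_map_of_isPrime_disjoint
      (Algebra.algebraMapSubmonoid A (nonZeroDivisors R)) (A ⊗[R] FractionRing R) hp hdisj
  refine ⟨?_, hcm⟩
  have hprime : (p.map (algebraMap A (A ⊗[R] FractionRing R))).IsPrime :=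
    IsLocalization.isPrime_of_isPrime_disjoint
      (Algebra.algebraMapSubmonoid A (nonZeroDivisors R)) (A ⊗[R] FractionRing R) p hp hdisj
  obtain ⟨M', hM', hle⟩ := Ideal.exists_le_maximal _ hprime.ne_top
  have hq : (M'.comap (algebraMap A (A ⊗[R] FractionRing R))).IsPrime := Ideal.comap_isPrime _ _
  have hpq : p ≤ M'.comap (algebraMap A (A ⊗[R] FractionRing R)) := by
    rw [← hcm]
    exact Ideal.comap_mono hle
  have htq := algebraMap_t_not_mem t ht M' hM'.ne_top
  suffices hqp : M'.comap (algebraMap A (A ⊗[R] FractionRing R)) = p by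
    have h1 : M' = p.map (algebraMap A (A ⊗[R] FractionRing R)) := by
      rw [← hqp]
      exact (IsLocalization.map_under
        (Algebra.algebraMapSubmonoid A (nonZeroDivisors R)) (A ⊗[R] FractionRing R) M').symm
    rw [← h1]
    exact hM'
  by_contra hne
  -- the image of `q` in `A ⧸ p` is a nonzero prime, hence maximal, hence contains `t`
  have hdimle : Ring.KrullDimLE 1 (A ⧸ p) := by
    rw [Ring.krullDimLE_iff, hdim]
    rfl
  have hker : RingHom.ker (Ideal.Quotient.mk p) ≤
      M'.comap (algebraMap A (A ⊗[R] FractionRing R)) := by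
    rw [Ideal.mk_ker]
    exact hpq
  have hqprime : ((M'.comap (algebraMap A (A ⊗[R] FractionRing R))).map
      (Ideal.Quotient.mk p)).IsPrime :=
    Ideal.map_isPrime_of_surjective Ideal.Quotient.mk_surjective hker
  have hqne : (M'.comap (algebraMap A (A ⊗[R] FractionRing R))).map (Ideal.Quotient.mk p) ≠ ⊥ := by
    intro hbot
    rw [Ideal.map_eq_bot_iff_le_ker, Ideal.mk_ker] at hbot
    exact hne (le_antisymm hbot hpq)
  have hqmax := hqprime.isMaximal_of_ne_bot hqne
  have hc : IsAdicComplete (Ideal.span {t}) (A ⧸ p) :=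
    RPow.tft_isAdicComplete (RigPoint.isBase t ht) hA
  have hc' : IsAdicComplete ((Ideal.span {t}).map (algebraMap R (A ⧸ p))) (A ⧸ p) :=
    (IsAdicComplete.map_algebraMap_iff (S := A ⧸ p) (Ideal.span {t}) (A ⧸ p)).mpr hc
  have hjac : (Ideal.span {t}).map (algebraMap R (A ⧸ p)) ≤
      (M'.comap (algebraMap A (A ⊗[R] FractionRing R))).map (Ideal.Quotient.mk p) :=
    (IsAdicComplete.le_jacobson_bot _).trans (sInf_le ⟨bot_le, hqmax⟩)
  have h1 : Ideal.Quotient.mk p (algebraMap R A t) ∈
      (M'.comap (algebraMap A (A ⊗[R] FractionRing R))).map (Ideal.Quotient.mk p) := by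
    apply hjac
    have : Ideal.Quotient.mk p (algebraMap R A t) = algebraMap R (A ⧸ p) t := rfl
    rw [this]
    exact Ideal.mem_map_of_mem _ (Ideal.mem_span_singleton_self t)
  have h2 : algebraMap R A t ∈ ((M'.comap (algebraMap A (A ⊗[R] FractionRing R))).map
      (Ideal.Quotient.mk p)).comap (Ideal.Quotient.mk p) := h1
  rw [Ideal.comap_map_of_surjective _ Ideal.Quotient.mk_surjective, ← RingHom.ker_eq_comap_bot,
    Ideal.mk_ker, sup_eq_left.mpr hpq] at h2
  exact htq h2

include ht in
/-- The contraction of a maximal ideal of the generic fibre is a non-open prime of dimension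
one. -/
theorem ringKrullDim_quotient_comap (hA : TopFiniteType R (Ideal.span {t}) A)
    (m : Ideal (A ⊗[R] FractionRing R)) [hm : m.IsMaximal] :
    ringKrullDim (A ⧸ m.comap (algebraMap A (A ⊗[R] FractionRing R))) = 1 := by
  have hq : (m.comap (algebraMap A (A ⊗[R] FractionRing R))).IsPrime := Ideal.comap_isPrime _ _
  -- `B = A ⧸ q` is topologically of finite type
  have hB : TopFiniteType R (Ideal.span {t})
      (A ⧸ m.comap (algebraMap A (A ⊗[R] FractionRing R))) := by
    obtain ⟨n, Φ, hΦ⟩ := hA
    exact ⟨n, (Ideal.Quotient.mkₐ R _).comp Φ, (Ideal.Quotient.mkₐ_surjective R _).comp hΦ⟩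
  -- no torsion
  have hmem : ∀ (r : R) (a : A), r ≠ 0 →
      algebraMap R A r * a ∈ m.comap (algebraMap A (A ⊗[R] FractionRing R)) →
      a ∈ m.comap (algebraMap A (A ⊗[R] FractionRing R)) := by
    intro r a hr h
    rw [Ideal.mem_comap, map_mul, ← IsScalarTower.algebraMap_apply R A] at h
    rw [Ideal.mem_comap]
    exact (hm.isPrime.mem_or_mem h).resolve_left (fun h' =>
      hm.ne_top (Ideal.eq_top_of_isUnit_mem _ h' (GenFibre.isUnit_algebraMap A hr)))
  have hnt : NoPowTorsion (Ideal.span {t})
      (A ⧸ m.comap (algebraMap A (A ⊗[R] FractionRing R))) := by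
    intro x k hx
    obtain ⟨a, rfl⟩ := Ideal.Quotient.mk_surjective x
    have h1 := hx (t ^ k) (Ideal.pow_mem_pow (Ideal.mem_span_singleton_self t) k)
    rw [Algebra.smul_def, IsScalarTower.algebraMap_apply R A, Ideal.Quotient.algebraMap_eq,
      ← map_mul, Ideal.Quotient.eq_zero_iff_mem] at h1
    rw [Ideal.Quotient.eq_zero_iff_mem]
    exact hmem _ a (pow_ne_zero k ht) h1
  -- generic fibre is a field
  have hfield : ∀ b : A ⧸ m.comap (algebraMap A (A ⊗[R] FractionRing R)), b ≠ 0 →
      ∃ (b' : A ⧸ m.comap (algebraMap A (A ⊗[R] FractionRing R))) (r : R), r ≠ 0 ∧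
        b * b' = algebraMap R _ r := by
    intro b hb
    obtain ⟨a, rfl⟩ := Ideal.Quotient.mk_surjective b
    have ha : algebraMap A (A ⊗[R] FractionRing R) a ∉ m := by
      intro h
      apply hb
      rw [Ideal.Quotient.eq_zero_iff_mem]
      exact h
    obtain ⟨x, y, hy, hxy⟩ := hm.exists_inv ha
    obtain ⟨r, a', hr, hra'⟩ := GenFibre.exists_smul_eq x
    refine ⟨Ideal.Quotient.mk _ a', r, hr, ?_⟩
    rw [IsScalarTower.algebraMap_apply R A, Ideal.Quotient.algebraMap_eq, ← map_mul,
      Ideal.Quotient.eq, Ideal.mem_comap, map_sub, map_mul, ← hra',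
      ← IsScalarTower.algebraMap_apply R A]
    have h2 : algebraMap A (A ⊗[R] FractionRing R) a * r • x -
        algebraMap R (A ⊗[R] FractionRing R) r = - (r • y) := by
      have h3 : r • (x * algebraMap A (A ⊗[R] FractionRing R) a + y) = r • (1 : A ⊗[R] FractionRing R) := by
        rw [hxy]
      rw [smul_add, Algebra.smul_def r (1 : A ⊗[R] FractionRing R), mul_one] at h3
      rw [← h3, mul_smul_comm, mul_comm]
      ring
    rw [h2]
    exact m.neg_mem (Submodule.smul_of_tower_mem m r hy)
  have hfin : Module.Finite R (A ⧸ m.comap (algebraMap A (A ⊗[R] FractionRing R))) :=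
    NoetherNorm.finite_of_forall_dvd t ht hB hnt hfield
  have hint : Algebra.IsIntegral R (A ⧸ m.comap (algebraMap A (A ⊗[R] FractionRing R))) :=
    Algebra.IsIntegral.of_finite R _
  have hinj := RigPoint.algebraMap_injective t ht hnt
  rw [← Groth.Agent.H54.ringKrullDim_eq_of_isIntegral_of_injective hinj]
  exact RigPoint.ringKrullDim_eq_one t ht

end Groth.Agent.H57.GenFibrePrime
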