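import Mathlib
import Groth.Agent.H57.HBCore
import Groth.Agent.H57.FlatLift
import Groth.Agent.H57.ArtinNZD
import Groth.Agent.H57.ArtinReg

/-!
# Hilbert–Burch over an Artinian local base: the core lifting theorem (helper57)
-/

set_option autoImplicit false
set_option linter.style.haveILetI false
set_option linter.unusedSectionVars false
universe u
open scoped Pointwise
open Function (Injective Surjective Exact)
open IsLocalRing

namespace Groth.Agent.H57.HBCore

open Groth.Agent.H57.ArtinPoly Groth.Agent.H57.HBLift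

section mainGen

variable {C' : Type u} [CommRing C'] [IsLocalRing C'] [IsArtinianRing C'] (J : Ideal C')
  (hJne : J ≠ ⊤) {A' : Type u} [CommRing A'] [Algebra C' A'] [Module.Flat C' A']

include hJne in
/-- Variant of `HBLift.main` for an arbitrary row vector `g'` killed by the columns of `φ'`. -/
theorem main_gen (r : ℕ) (φ' : Matrix (Fin (r + 1)) (Fin r) A') (g' : Fin (r + 1) → A')
    (hrel : ∀ j, ∑ i, g' i * φ' i j = 0)
    (hinj : Injective (φ'.map (Ideal.Quotient.mk (J.map (algebraMap C' A')))).mulVecLin)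
    (hex : LinearMap.range (φ'.map (Ideal.Quotient.mk (J.map (algebraMap C' A')))).mulVecLin =
      LinearMap.ker (Fintype.linearCombination (A' ⧸ J.map (algebraMap C' A'))
        (fun i => Ideal.Quotient.mk (J.map (algebraMap C' A')) (g' i)))) :
    Injective φ'.mulVecLin ∧
      LinearMap.range φ'.mulVecLin = LinearMap.ker (Fintype.linearCombination A' g') := by
  classical
  set mk := Ideal.Quotient.mk (J.map (algebraMap C' A')) with hmk
  have hmulVec : ∀ x : Fin r → A', (fun i => mk (φ'.mulVecLin x i)) =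
      (φ'.map mk).mulVecLin (fun j => mk (x j)) := by
    intro x
    funext i
    exact RingHom.map_mulVec mk φ' x i
  have hlc : ∀ y : Fin (r + 1) → A', mk (Fintype.linearCombination A' g' y) =
      Fintype.linearCombination (A' ⧸ J.map (algebraMap C' A')) (fun i => mk (g' i))
        (fun i => mk (y i)) := by
    intro y
    rw [Fintype.linearCombination_apply, Fintype.linearCombination_apply, map_sum]
    refine Finset.sum_congr rfl fun i _ => ?_
    rw [smul_eq_mul, smul_eq_mul, map_mul]
  have hlcmul : ∀ x : Fin r → A', Fintype.linearCombination A' g' (φ'.mulVecLin x) = 0 := by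
    intro x
    rw [Fintype.linearCombination_apply]
    simp only [Matrix.mulVecLin_apply, Matrix.mulVec, dotProduct, smul_eq_mul, Finset.sum_mul]
    rw [Finset.sum_comm]
    refine Finset.sum_eq_zero fun j _ => ?_
    have := hrel j
    calc ∑ i, φ' i j * x j * g' i = x j * ∑ i, g' i * φ' i j := by
          rw [Finset.mul_sum]; refine Finset.sum_congr rfl fun i _ => by ring
      _ = 0 := by rw [this, mul_zero]
  -- step 1
  let u₁ : (Fin r → A') →ₗ[C'] (Fin (r + 1) → A') := φ'.mulVecLin.restrictScalars C'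
  let g₁ : (Fin (r + 1) → A') →ₗ[C'] ((Fin (r + 1) → A') ⧸ LinearMap.range φ'.mulVecLin) :=
    (LinearMap.range φ'.mulVecLin).mkQ.restrictScalars C'
  have hex₁ : Exact u₁ g₁ := LinearMap.exact_map_mkQ_range φ'.mulVecLin
  have hg₁ : Surjective g₁ := Submodule.mkQ_surjective _
  have h₁ : ∀ x : Fin r → A', u₁ x ∈ J • (⊤ : Submodule C' (Fin (r + 1) → A')) →
      x ∈ J • (⊤ : Submodule C' (Fin r → A')) := by
    intro x hx
    rw [mem_smul_top_pi_iff] at hx ⊢
    have h0 : (φ'.map mk).mulVecLin (fun j => mk (x j)) = 0 := by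
      rw [← hmulVec]
      funext i
      exact Ideal.Quotient.eq_zero_iff_mem.2 (hx i)
    have h1 : (fun j => mk (x j)) = 0 := hinj (by rw [h0, map_zero])
    intro j
    exact Ideal.Quotient.eq_zero_iff_mem.1 (congrFun h1 j)
  obtain ⟨hinj₁, hflat₁⟩ := injective_and_flat_of_residue u₁ g₁ hex₁ hg₁
    (residue_of_mod J hJne u₁ h₁)
  -- step 2
  have hle : LinearMap.range φ'.mulVecLin ≤
      LinearMap.ker (Fintype.linearCombination A' g') := by
    rintro _ ⟨x, rfl⟩
    exact hlcmul x
  let ft : ((Fin (r + 1) → A') ⧸ LinearMap.range φ'.mulVecLin) →ₗ[A'] A' :=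
    (LinearMap.range φ'.mulVecLin).liftQ (Fintype.linearCombination A' g') hle
  let u₂ : ((Fin (r + 1) → A') ⧸ LinearMap.range φ'.mulVecLin) →ₗ[C'] A' :=
    ft.restrictScalars C'
  let g₂ : A' →ₗ[C'] (A' ⧸ Ideal.span (Set.range g')) :=
    (Ideal.Quotient.mkₐ C' (Ideal.span (Set.range g'))).toLinearMap
  have hg₂ : Surjective g₂ := Ideal.Quotient.mk_surjective
  have hex₂ : Exact u₂ g₂ := by
    intro y
    change Ideal.Quotient.mk _ y = 0 ↔ y ∈ Set.range ft
    rw [Ideal.Quotient.eq_zero_iff_mem]
    have : Set.range ft = (LinearMap.range ft : Set A') := rfl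
    rw [this, Submodule.range_liftQ, Fintype.range_linearCombination]
    rfl
  have h₂ : ∀ q : (Fin (r + 1) → A') ⧸ LinearMap.range φ'.mulVecLin,
      u₂ q ∈ J • (⊤ : Submodule C' A') →
      q ∈ J • (⊤ : Submodule C' ((Fin (r + 1) → A') ⧸ LinearMap.range φ'.mulVecLin)) := by
    intro q hq
    obtain ⟨y, rfl⟩ := Submodule.mkQ_surjective _ q
    have hq' : Fintype.linearCombination A' g' y ∈ J.map (algebraMap C' A') := by
      rw [Ideal.smul_top_eq_map] at hq
      exact hq
    have h0 : (fun i => mk (y i)) ∈ LinearMap.ker (Fintype.linearCombination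
        (A' ⧸ J.map (algebraMap C' A')) (fun i => mk (g' i))) := by
      rw [LinearMap.mem_ker, ← hlc]
      exact Ideal.Quotient.eq_zero_iff_mem.2 hq'
    rw [← hex] at h0
    obtain ⟨xb, hxb⟩ := h0
    choose x hx using fun j => Ideal.Quotient.mk_surjective (xb j)
    have hxb' : (fun j => mk (x j)) = xb := funext hx
    have hdiff : y - φ'.mulVecLin x ∈ J • (⊤ : Submodule C' (Fin (r + 1) → A')) := by
      rw [mem_smul_top_pi_iff]
      intro i
      rw [← Ideal.Quotient.eq_zero_iff_mem, Pi.sub_apply, map_sub]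
      have e1 := congrFun (hmulVec x) i
      have e2 := congrFun hxb i
      rw [hxb'] at e1
      change mk (y i) - mk (φ'.mulVecLin x i) = 0
      rw [e1, e2, sub_self]
    have hq2 : (LinearMap.range φ'.mulVecLin).mkQ y =
        g₁ (y - φ'.mulVecLin x) := by
      change _ = (LinearMap.range φ'.mulVecLin).mkQ (y - φ'.mulVecLin x)
      rw [map_sub]
      have hz : (LinearMap.range φ'.mulVecLin).mkQ (φ'.mulVecLin x) = 0 :=
        (Submodule.Quotient.mk_eq_zero _).2 ⟨x, rfl⟩
      rw [hz, sub_zero]
    rw [hq2]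
    have h3 := Submodule.mem_map_of_mem (f := g₁) hdiff
    rw [Submodule.map_smul''] at h3
    exact Submodule.smul_mono le_rfl le_top h3
  have := hflat₁
  obtain ⟨hinj₂, -⟩ := injective_and_flat_of_residue u₂ g₂ hex₂ hg₂
    (residue_of_mod J hJne u₂ h₂)
  refine ⟨hinj₁, le_antisymm hle ?_⟩
  intro y hy
  have h0 : ft ((LinearMap.range φ'.mulVecLin).mkQ y) = 0 := hy
  have h1 : (LinearMap.range φ'.mulVecLin).mkQ y = 0 := hinj₂ (by rw [map_zero]; exact h0)
  exact (Submodule.Quotient.mk_eq_zero _).1 h1

end mainGen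

section core

variable {C' : Type u} [CommRing C'] [IsLocalRing C'] [IsArtinianRing C'] (J : Ideal C')
  (hJne : J ≠ ⊤) {A' : Type u} [CommRing A'] [Algebra C' A'] [Module.Flat C' A']

local notation "JA" => Ideal.map (algebraMap C' A') J
local notation "mk" => Ideal.Quotient.mk (Ideal.map (algebraMap C' A') J)

include hJne in
/-- The core Hilbert–Burch lifting statement: given a Hilbert–Burch resolution over `A'/JA'`, a
flat lift `I'` of its ideal, and a regular sequence of length two in `I'`, there is a matrix over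
`A'` lifting the given one whose signed maximal minors generate `I'` and give a resolution. -/
theorem core (r : ℕ) (φ : Matrix (Fin (r + 1)) (Fin r) (A' ⧸ J.map (algebraMap C' A')))
    (hinj : Injective φ.mulVecLin)
    (hex : LinearMap.range φ.mulVecLin =
      LinearMap.ker (Fintype.linearCombination (A' ⧸ J.map (algebraMap C' A')) (minors φ)))
    (I' : Ideal A') [Module.Flat C' (A' ⧸ I')]
    (hI' : I'.map (Ideal.Quotient.mk (J.map (algebraMap C' A'))) =
      Ideal.span (Set.range (minors φ)))
    (x y : A') (hxI : x ∈ I') (hyI : y ∈ I') (hx : x ∈ nonZeroDivisors A')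
    (hy : ∀ z : A', y * z ∈ Ideal.span {x} → z ∈ Ideal.span {x}) :
    ∃ φ' : Matrix (Fin (r + 1)) (Fin r) A',
      φ'.map (Ideal.Quotient.mk (J.map (algebraMap C' A'))) = φ ∧
      I' = Ideal.span (Set.range (minors φ')) ∧ Injective φ'.mulVecLin ∧
      LinearMap.range φ'.mulVecLin =
        LinearMap.ker (Fintype.linearCombination A' (minors φ')) := by
  classical
  have hJA : JA = J.map (algebraMap C' A') := rfl
  have hJnil : IsNilpotent JA := by
    obtain ⟨n, hn⟩ := exists_pow_maximalIdeal_eq_bot (R := C')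
    refine ⟨n, ?_⟩
    rw [hJA, ← Ideal.map_pow]
    have h2 : J ^ n ≤ ⊥ := hn ▸ Ideal.pow_right_mono (IsLocalRing.le_maximalIdeal hJne) n
    rw [le_bot_iff] at h2
    rw [h2, Ideal.map_bot]
    rfl
  -- (1) lifts of the minors
  have h1 : ∀ i, ∃ a ∈ I', mk a = minors φ i := by
    intro i
    have : minors φ i ∈ I'.map mk := by rw [hI']; exact Ideal.subset_span ⟨i, rfl⟩
    exact (Ideal.mem_map_iff_of_surjective mk Ideal.Quotient.mk_surjective).1 this
  choose f' hf'I hf' using h1
  set K := Ideal.span (Set.range f') with hK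
  have hKI : K ≤ I' := Ideal.span_le.2 (by rintro _ ⟨i, rfl⟩; exact hf'I i)
  have hmkf : (fun i => mk (f' i)) = minors φ := funext hf'
  -- (2) `I' = K`
  have hIK : I' ≤ K := by
    apply le_of_le_sup_smul JA hJnil I' K
    intro a ha
    have hmem : mk a ∈ K.map mk := by
      rw [hK, Ideal.map_span, ← Set.range_comp]
      have h2 : mk a ∈ I'.map mk := Ideal.mem_map_of_mem _ ha
      rw [hI', ← hmkf] at h2
      exact h2
    obtain ⟨b, hbK, hb⟩ :=
      (Ideal.mem_map_iff_of_surjective mk Ideal.Quotient.mk_surjective).1 hmem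
    have hab : a - b ∈ JA := by
      rw [← Ideal.Quotient.eq]; exact hb.symm
    have hab' : a - b ∈ I' := I'.sub_mem ha (hKI hbK)
    have h3 := FlatLift.mem_mul_of_mem_of_mem_map I' hab hab'
    have : a = b + (a - b) := by ring
    rw [this]
    exact Submodule.add_mem_sup hbK (by rwa [smul_eq_mul])
  have hKeq : I' = K := le_antisymm hIK hKI
  -- (3) lift the relations
  choose u hu using fun (i : Fin (r + 1)) (j : Fin r) =>
    Ideal.Quotient.mk_surjective (I := JA) (φ i j)
  have hs : ∀ j, ∑ i, f' i * u i j ∈ JA • Submodule.span A' (Set.range f') := by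
    intro j
    have h1 : ∑ i, f' i * u i j ∈ JA := by
      rw [← Ideal.Quotient.eq_zero_iff_mem, map_sum]
      have : ∀ i, (Ideal.Quotient.mk JA) (f' i * u i j) = minors φ i * φ i j := by
        intro i
        rw [map_mul]
        rw [hf', hu]
      simp only [this]
      exact laplace φ j
    have h2 : ∑ i, f' i * u i j ∈ I' := I'.sum_mem fun i _ => I'.mul_mem_right _ (hf'I i)
    have := FlatLift.mem_mul_of_mem_of_mem_map I' h1 h2
    rw [hKeq] at this
    rwa [smul_eq_mul]
  have hdec : ∀ j, ∃ t : Fin (r + 1) → A', (∀ i, t i ∈ JA) ∧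
      ∑ i, f' i * u i j = ∑ i, t i * f' i := by
    intro j
    obtain ⟨a, ha, hsum⟩ := (Submodule.mem_ideal_smul_span_iff_exists_sum JA f' _).1 (hs j)
    refine ⟨fun i => a i, ha, ?_⟩
    rw [← hsum, Finsupp.sum_fintype _ _ (fun i => by simp)]
    simp only [smul_eq_mul]
  choose t ht hts using hdec
  let φ' : Matrix (Fin (r + 1)) (Fin r) A' := Matrix.of fun i j => u i j - t j i
  have hφ'map : φ'.map mk = φ := by
    ext i j
    change mk (u i j - t j i) = φ i j
    rw [map_sub, hu, Ideal.Quotient.eq_zero_iff_mem.2 (ht j i), sub_zero]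
  have hrel : ∀ j, ∑ i, f' i * φ' i j = 0 := by
    intro j
    have : ∑ i, f' i * φ' i j = ∑ i, f' i * u i j - ∑ i, t j i * f' i := by
      rw [← Finset.sum_sub_distrib]
      refine Finset.sum_congr rfl fun i _ => ?_
      change f' i * (u i j - t j i) = _
      ring
    rw [this, hts j, sub_self]
  -- (4) exactness upstairs
  obtain ⟨hinj', hex'⟩ := main_gen J hJne r φ' f' hrel (by rw [hφ'map]; exact hinj)
    (by rw [hφ'map]; change _ = LinearMap.ker (Fintype.linearCombination _ (fun i => mk (f' i)))
        rw [hmkf]; exact hex)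
  -- (5) the row kernel lemma
  obtain ⟨c, hc⟩ := (Ideal.mem_span_range_iff_exists_fun).1 (hK ▸ hKeq ▸ hxI : x ∈ Ideal.span (Set.range f'))
  obtain ⟨e, he⟩ := (Ideal.mem_span_range_iff_exists_fun).1 (hK ▸ hKeq ▸ hyI : y ∈ Ideal.span (Set.range f'))
  have hv : ∀ w : Fin (r + 1) → A', ∑ i, w i * f' i = 0 → ∑ i, w i * minors φ' i = 0 := by
    intro w hw
    have hwker : w ∈ LinearMap.ker (Fintype.linearCombination A' f') := by
      rw [LinearMap.mem_ker, Fintype.linearCombination_apply]
      simpa only [smul_eq_mul] using hw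
    rw [← hex'] at hwker
    obtain ⟨z, rfl⟩ := hwker
    have := linearCombination_mulVec φ' z
    rw [Fintype.linearCombination_apply] at this
    simpa only [smul_eq_mul] using this
  obtain ⟨a, ha⟩ := rowKer f' (minors φ') hv c e (by rw [hc]; exact hx)
    (by rw [hc, he]; exact hy)
  -- (6) `a` is a unit
  have hxbar : mk x ∈ nonZeroDivisors (A' ⧸ JA) :=
    ((Groth.Agent.H57.ArtinNZD.nzd_main J hJne x).1).1 hx
  have hmka : mk a = 1 := by
    have h1 : ∀ i, (mk a - 1) * minors φ i = 0 := by
      intro i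
      have e1 : mk (minors φ' i) = minors φ i := by
        rw [← minors_map, hφ'map]
      have e2 : mk (minors φ' i) = mk a * minors φ i := by
        rw [ha i, map_mul, hf']
      rw [sub_mul, one_mul, ← e2, e1, sub_self]
    have h2 : (mk a - 1) * mk x = 0 := by
      rw [← hc, map_sum, Finset.mul_sum]
      refine Finset.sum_eq_zero fun i _ => ?_
      rw [map_mul, hf']
      calc (mk a - 1) * (mk (c i) * minors φ i) = mk (c i) * ((mk a - 1) * minors φ i) := by ring
        _ = 0 := by rw [h1 i, mul_zero]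
    exact sub_eq_zero.1 (hxbar.2 _ h2)
  have haunit : IsUnit a := by
    have h1 : a - 1 ∈ JA := by
      rw [← Ideal.Quotient.eq_zero_iff_mem, map_sub, map_one]
      exact sub_eq_zero.2 hmka
    have h2 : IsNilpotent (a - 1) := Groth.Agent.H57.ArtinReg.isNilpotent_of_mem_map J hJne h1
    have := h2.isUnit_add_one
    rwa [sub_add_cancel] at this
  obtain ⟨a', rfl⟩ := haunit
  -- (7), (8)
  have hspan : Ideal.span (Set.range (minors φ')) = K := by
    apply le_antisymm
    · rw [Ideal.span_le]
      rintro _ ⟨i, rfl⟩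
      rw [ha i]
      exact Ideal.mul_mem_left _ _ (Ideal.subset_span ⟨i, rfl⟩)
    · rw [hK, Ideal.span_le]
      rintro _ ⟨i, rfl⟩
      have : f' i = ↑a'⁻¹ * minors φ' i := by
        rw [ha i, ← mul_assoc, Units.inv_mul, one_mul]
      rw [this]
      exact Ideal.mul_mem_left _ _ (Ideal.subset_span ⟨i, rfl⟩)
  refine ⟨φ', hφ'map, by rw [hspan, hKeq], hinj', ?_⟩
  rw [hex']
  ext w
  simp only [LinearMap.mem_ker, Fintype.linearCombination_apply, smul_eq_mul]
  have : ∑ i, w i * minors φ' i = ↑a' * ∑ i, w i * f' i := by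
    rw [Finset.mul_sum]
    refine Finset.sum_congr rfl fun i _ => ?_
    rw [ha i]; ring
  rw [this]
  constructor
  · intro h; rw [h, mul_zero]
  · intro h
    have := congrArg (fun z => (↑a'⁻¹ : A') * z) h
    simpa [← mul_assoc] using this

end core

end Groth.Agent.H57.HBCore
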