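import Mathlib
import Groth.Agent.H57.HBCore2
import Groth.Agent.H47.SmoothRegular

/-!
# Hilbert–Burch over an Artinian local base: regular pairs from the special fibre (helper57)
-/

set_option autoImplicit false
set_option linter.style.haveILetI false
set_option linter.unusedSectionVars false
universe u
open scoped Pointwise
open Function (Injective Surjective Exact)
open IsLocalRing

namespace Groth.Agent.H57.HBCore

open Groth.Agent.H57.ArtinPoly Groth.Agent.H57.HBLift

section liftPair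

variable {C' : Type u} [CommRing C'] [IsLocalRing C'] [IsArtinianRing C']
  {A' : Type u} [CommRing A'] [Algebra C' A'] [Module.Flat C' A']

local notation "mA" => Ideal.map (algebraMap C' A') (maximalIdeal C')
local notation "mk₀" => Ideal.Quotient.mk (Ideal.map (algebraMap C' A') (maximalIdeal C'))

omit [IsLocalRing C'] [IsArtinianRing C'] [Module.Flat C' A'] in
theorem mem_span_mk_iff (N : Ideal A') (x a : A') :
    Ideal.Quotient.mk N a ∈ Ideal.span {Ideal.Quotient.mk N x} ↔ a ∈ Ideal.span {x} ⊔ N := by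
  have : Ideal.span {Ideal.Quotient.mk N x} = (Ideal.span {x}).map (Ideal.Quotient.mk N) := by
    rw [Ideal.map_span, Set.image_singleton]
  rw [this, Ideal.mem_quotient_iff_mem_sup]

/-- A regular pair in the special fibre of a flat algebra over an Artinian local ring lifts to a
regular pair. -/
theorem lift_regular_pair (I' : Ideal A') (x₀ y₀ : A' ⧸ mA)
    (hx₀I : x₀ ∈ I'.map mk₀) (hy₀I : y₀ ∈ I'.map mk₀)
    (hx₀ : x₀ ∈ nonZeroDivisors (A' ⧸ mA))
    (hy₀ : ∀ z₀ : A' ⧸ mA, y₀ * z₀ ∈ Ideal.span {x₀} → z₀ ∈ Ideal.span {x₀}) :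
    ∃ x ∈ I', ∃ y ∈ I', x ∈ nonZeroDivisors A' ∧
      ∀ z : A', y * z ∈ Ideal.span {x} → z ∈ Ideal.span {x} := by
  have hm : maximalIdeal C' ≠ ⊤ := (maximalIdeal.isMaximal C').ne_top
  obtain ⟨x, hxI, rfl⟩ :=
    (Ideal.mem_map_iff_of_surjective mk₀ Ideal.Quotient.mk_surjective).1 hx₀I
  obtain ⟨y, hyI, rfl⟩ :=
    (Ideal.mem_map_iff_of_surjective mk₀ Ideal.Quotient.mk_surjective).1 hy₀I
  have hx : x ∈ nonZeroDivisors A' :=
    ((Groth.Agent.H57.ArtinNZD.nzd_main (maximalIdeal C') hm x).1).2 hx₀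
  refine ⟨x, hxI, y, hyI, hx, ?_⟩
  haveI hflat : Module.Flat C' (A' ⧸ Ideal.span {x}) :=
    (Groth.Agent.H57.ArtinNZD.nzd_main (maximalIdeal C') hm x).2 hx
  -- `ȳ` is a nonzerodivisor on `A'/(x)`
  have hybar : Ideal.Quotient.mk (Ideal.span {x}) y ∈ nonZeroDivisors (A' ⧸ Ideal.span {x}) := by
    refine ((Groth.Agent.H57.ArtinNZD.nzd_main (A' := C') (S' := A' ⧸ Ideal.span {x})
      (maximalIdeal C') hm _).1).2 ?_
    rw [mem_nonZeroDivisors_iff_right]
    intro w hw
    obtain ⟨w', rfl⟩ := Ideal.Quotient.mk_surjective w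
    obtain ⟨z, rfl⟩ := Ideal.Quotient.mk_surjective w'
    have hmap : (maximalIdeal C').map (algebraMap C' (A' ⧸ Ideal.span {x})) =
        (mA).map (Ideal.Quotient.mk (Ideal.span {x})) := by
      rw [Ideal.map_map]; rfl
    have key : ∀ a : A', Ideal.Quotient.mk ((maximalIdeal C').map
        (algebraMap C' (A' ⧸ Ideal.span {x}))) (Ideal.Quotient.mk (Ideal.span {x}) a) = 0 ↔
        mk₀ a ∈ Ideal.span {mk₀ x} := by
      intro a
      rw [Ideal.Quotient.eq_zero_iff_mem, hmap, Ideal.mem_quotient_iff_mem_sup, mem_span_mk_iff,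
        sup_comm]
    rw [← map_mul, ← map_mul, key] at hw
    rw [key]
    apply hy₀
    rw [← map_mul, mul_comm]
    exact hw
  intro z hz
  have h1 : Ideal.Quotient.mk (Ideal.span {x}) z * Ideal.Quotient.mk (Ideal.span {x}) y = 0 := by
    rw [← map_mul, Ideal.Quotient.eq_zero_iff_mem, mul_comm]
    exact hz
  have h2 := hybar.2 _ h1
  exact Ideal.Quotient.eq_zero_iff_mem.1 h2

end liftPair

section assembly

variable {C' : Type u} [CommRing C'] [IsLocalRing C'] [IsArtinianRing C']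
  {A' : Type u} [CommRing A'] [Algebra C' A'] [Module.Flat C' A']

local notation "mA" => Ideal.map (algebraMap C' A') (maximalIdeal C')
local notation "mk₀" => Ideal.Quotient.mk (Ideal.map (algebraMap C' A') (maximalIdeal C'))

/-- A regular pair in `I'` from smoothness of the special fibre and codimension two there. -/
theorem exists_pair_of_smooth
    [Algebra.Smooth (C' ⧸ maximalIdeal C') (A' ⧸ mA)] (I' : Ideal A')
    (hcodim : ∀ p : Ideal (A' ⧸ mA), p.IsPrime → I'.map mk₀ ≤ p → (2 : ℕ∞) ≤ p.height) :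
    ∃ x ∈ I', ∃ y ∈ I', x ∈ nonZeroDivisors A' ∧
      ∀ z : A', y * z ∈ Ideal.span {x} → z ∈ Ideal.span {x} := by
  haveI : IsRegularRing (C' ⧸ maximalIdeal C') := by
    letI := Ideal.Quotient.field (maximalIdeal C')
    infer_instance
  haveI : IsRegularRing (A' ⧸ mA) :=
    Groth.Agent.H47.isRegularRing_of_smooth (C' ⧸ maximalIdeal C') (A' ⧸ mA)
  obtain ⟨x₀, hx₀I, y₀, hy₀I, hx₀, hy₀⟩ := exists_regular_pair (I'.map mk₀) hcodim
  exact lift_regular_pair I' x₀ y₀ hx₀I hy₀I hx₀ hy₀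

/-- Transfer of the codimension-two condition from `A'/JA'` to the special fibre. -/
theorem codim_transfer (J : Ideal C') (hJne : J ≠ ⊤) (I' : Ideal A')
    (hcodim : ∀ p : Ideal (A' ⧸ J.map (algebraMap C' A')), p.IsPrime →
      I'.map (Ideal.Quotient.mk (J.map (algebraMap C' A'))) ≤ p → (2 : ℕ∞) ≤ p.height) :
    ∀ p₀ : Ideal (A' ⧸ mA), p₀.IsPrime → I'.map mk₀ ≤ p₀ → (2 : ℕ∞) ≤ p₀.height := by
  intro p₀ hp₀ hle
  haveI := hp₀
  have hJm : J.map (algebraMap C' A') ≤ mA := Ideal.map_mono (IsLocalRing.le_maximalIdeal hJne)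
  let π : (A' ⧸ J.map (algebraMap C' A')) →+* (A' ⧸ mA) := Ideal.Quotient.factor hJm
  have hπ : Function.Surjective π := Ideal.Quotient.factor_surjective hJm
  have hm : maximalIdeal C' ≠ ⊤ := (maximalIdeal.isMaximal C').ne_top
  have hker : RingHom.ker π ≤ nilradical (A' ⧸ J.map (algebraMap C' A')) := by
    intro a ha
    obtain ⟨a', rfl⟩ := Ideal.Quotient.mk_surjective a
    rw [RingHom.mem_ker] at ha
    have h1 : mk₀ a' = 0 := ha
    rw [Ideal.Quotient.eq_zero_iff_mem] at h1
    have h2 : IsNilpotent a' := Groth.Agent.H57.ArtinReg.isNilpotent_of_mem_map _ hm h1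
    rw [mem_nilradical]
    exact h2.map _
  apply two_le_height_of_comap π hπ hker p₀
  apply hcodim (p₀.comap π) inferInstance
  rw [Ideal.map_le_iff_le_comap]
  intro a ha
  rw [Ideal.mem_comap, Ideal.mem_comap]
  have : π (Ideal.Quotient.mk (J.map (algebraMap C' A')) a) = mk₀ a := rfl
  rw [this]
  exact hle (Ideal.mem_map_of_mem _ ha)

end assembly

end Groth.Agent.H57.HBCore
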