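import Mathlib

set_option autoImplicit false

namespace Groth.Agent.H57

universe v u v' u'
open CategoryTheory CategoryTheory.Limits CategoryTheory.Pretriangulated CategoryTheory.Triangulated
open scoped ZeroObject

variable {C : Type u} [Category.{v} C] [Preadditive C] [HasZeroObject C] [HasShift C ℤ]
  [∀ n : ℤ, (shiftFunctor C n).Additive] [Pretriangulated C]
  (t : TStructure C) {H : Type u'} [Category.{v'} H] [Preadditive H] [t.Heart H]

/-- Every object of `C` lying in the heart is isomorphic to the image of an object of `H`. -/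
lemma exists_heart_obj (X : C) [t.IsLE X 0] [t.IsGE X 0] :
    ∃ (Y : H), Nonempty (t.ιHeart.obj Y ≅ X) := by
  have hX : t.heart X := (t.mem_heart_iff X).2 ⟨inferInstance, inferInstance⟩
  rw [← t.essImage_ιHeart H] at hX
  obtain ⟨Y, ⟨e⟩⟩ := hX
  exact ⟨Y, ⟨e⟩⟩

/-- There is no nonzero morphism from the heart to negative shifts of the heart. -/
lemma heart_hom_shift_neg ⦃X Y : H⦄ ⦃n : ℤ⦄ (f : t.ιHeart.obj X ⟶ (t.ιHeart.obj Y)⟦n⟧)
    (hn : n < 0) : f = 0 := by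
  have : t.IsGE ((t.ιHeart.obj Y)⟦n⟧) (-n) := t.isGE_shift (t.ιHeart.obj Y) 0 n (-n) (by lia)
  exact t.zero_of_isLE_of_isGE f 0 (-n) (by lia) inferInstance this

/-- All morphisms in the heart are admissible. -/
lemma heart_admissible [IsTriangulated C] :
    AbelianSubcategory.admissibleMorphism (t.ιHeart (H := H)) = ⊤ := by
  ext X₁ X₂ f₁
  simp only [MorphismProperty.top_apply, iff_true]
  intro X₃ f₂ f₃ hT
  have hT' := rot_of_distTriang _ hT
  have hLE : t.IsLE X₃ 0 := t.isLE₂ _ hT' 0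
    (show t.IsLE (t.ιHeart.obj X₂) 0 from inferInstance)
    (show t.IsLE ((t.ιHeart.obj X₁)⟦(1 : ℤ)⟧) 0 from
      have := t.isLE_shift (t.ιHeart.obj X₁) 0 1 (-1) (by lia)
      t.isLE_of_le _ (-1) 0 (by lia))
  have hGE : t.IsGE X₃ (-1) := t.isGE₂ _ hT' (-1)
    (show t.IsGE (t.ιHeart.obj X₂) (-1) from t.isGE_of_ge _ (-1) 0 (by lia))
    (show t.IsGE ((t.ιHeart.obj X₁)⟦(1 : ℤ)⟧) (-1) from
      t.isGE_shift (t.ιHeart.obj X₁) 0 1 (-1) (by lia))
  have h1LE : t.IsLE ((t.truncLT 0).obj X₃) (-1) := t.isLE_truncLT_obj X₃ 0 (-1) (by lia)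
  have h1GE : t.IsGE ((t.truncLT 0).obj X₃) (-1) := inferInstance
  have h3LE : t.IsLE ((t.truncGE 0).obj X₃) 0 := inferInstance
  have h3GE : t.IsGE ((t.truncGE 0).obj X₃) 0 := inferInstance
  have hK1 : t.IsLE (((t.truncLT 0).obj X₃)⟦(-1 : ℤ)⟧) 0 := t.isLE_shift _ (-1) (-1) 0 (by lia)
  have hK2 : t.IsGE (((t.truncLT 0).obj X₃)⟦(-1 : ℤ)⟧) 0 := t.isGE_shift _ (-1) (-1) 0 (by lia)
  obtain ⟨K, ⟨eK⟩⟩ := exists_heart_obj t (H := H) (((t.truncLT 0).obj X₃)⟦(-1 : ℤ)⟧)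
  obtain ⟨Q, ⟨eQ⟩⟩ := exists_heart_obj t (H := H) ((t.truncGE 0).obj X₃)
  let e1 : (t.ιHeart.obj K)⟦(1 : ℤ)⟧ ≅ (t.truncLT 0).obj X₃ :=
    (shiftFunctor C (1 : ℤ)).mapIso eK ≪≫ (shiftEquiv C (1 : ℤ)).counitIso.app _
  refine ⟨K, Q, e1.hom ≫ (t.truncLTι 0).app X₃, (t.truncGEπ 0).app X₃ ≫ eQ.inv,
    eQ.hom ≫ (t.truncGEδLT 0).app X₃ ≫ e1.inv⟦(1 : ℤ)⟧', ?_⟩
  refine isomorphic_distinguished _ (t.triangleLTGE_distinguished 0 X₃) _ ?_
  refine Triangle.isoMk _ _ e1 (Iso.refl _) eQ ?_ ?_ ?_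
  · exact Category.comp_id _
  · change ((t.truncGEπ 0).app X₃ ≫ eQ.inv) ≫ eQ.hom = 𝟙 X₃ ≫ (t.truncGEπ 0).app X₃
    rw [Category.assoc, Iso.inv_hom_id, Category.comp_id, Category.id_comp]
  · change (eQ.hom ≫ (t.truncGEδLT 0).app X₃ ≫ e1.inv⟦(1 : ℤ)⟧') ≫ e1.hom⟦(1 : ℤ)⟧' =
      eQ.hom ≫ (t.truncGEδLT 0).app X₃
    rw [Category.assoc, Category.assoc, ← Functor.map_comp, Iso.inv_hom_id,
      CategoryTheory.Functor.map_id]
    erw [Category.comp_id]

include t in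
lemma heart_hasZeroObject : HasZeroObject H := by
  obtain ⟨Z, ⟨e⟩⟩ := exists_heart_obj t (H := H) (0 : C)
  refine ⟨⟨Z, ?_⟩⟩
  rw [IsZero.iff_id_eq_zero]
  apply t.ιHeart.map_injective
  rw [CategoryTheory.Functor.map_id, Functor.map_zero]
  exact (IsZero.of_iso (isZero_zero C) e).eq_of_src _ _

include t in
lemma heart_hasBinaryBiproducts : HasBinaryBiproducts H := by
  refine ⟨fun X Y => ?_⟩
  have hT := binaryBiproductTriangle_distinguished (t.ιHeart.obj X) (t.ιHeart.obj Y)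
  have hLE : t.IsLE (t.ιHeart.obj X ⊞ t.ιHeart.obj Y) 0 := t.isLE₂ _ hT 0
    (show t.IsLE (t.ιHeart.obj X) 0 from inferInstance)
    (show t.IsLE (t.ιHeart.obj Y) 0 from inferInstance)
  have hGE : t.IsGE (t.ιHeart.obj X ⊞ t.ιHeart.obj Y) 0 := t.isGE₂ _ hT 0
    (show t.IsGE (t.ιHeart.obj X) 0 from inferInstance)
    (show t.IsGE (t.ιHeart.obj Y) 0 from inferInstance)
  obtain ⟨Z, ⟨e⟩⟩ := exists_heart_obj t (H := H) (t.ιHeart.obj X ⊞ t.ιHeart.obj Y)
  refine hasBinaryBiproduct_of_total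
    { pt := Z
      fst := t.ιHeart.preimage (e.hom ≫ biprod.fst)
      snd := t.ιHeart.preimage (e.hom ≫ biprod.snd)
      inl := t.ιHeart.preimage (biprod.inl ≫ e.inv)
      inr := t.ιHeart.preimage (biprod.inr ≫ e.inv)
      inl_fst := t.ιHeart.map_injective (by simp)
      inl_snd := t.ιHeart.map_injective (by simp)
      inr_fst := t.ιHeart.map_injective (by simp)
      inr_snd := t.ιHeart.map_injective (by simp) } ?_
  apply t.ιHeart.map_injective
  simp only [Functor.map_add, Functor.map_comp, Functor.map_preimage, Category.assoc,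
    CategoryTheory.Functor.map_id]
  rw [← Category.assoc biprod.fst, ← Category.assoc biprod.snd, ← Preadditive.comp_add,
    ← Preadditive.add_comp, biprod.total, Category.id_comp, Iso.hom_inv_id]

include t in
lemma heart_hasFiniteProducts : HasFiniteProducts H := by
  have := heart_hasZeroObject t (H := H)
  have := heart_hasBinaryBiproducts t (H := H)
  exact hasFiniteProducts_of_has_binary_and_terminal

end Groth.Agent.H57
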