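import Mathlib
import Groth.Agent.S12125
import Groth.Agent.H13.QENagata
import Groth.Agent.H13.LocalNagata

/-!
# J-2 + geometrically reduced formal fibres at maximal ideals ⇒ Nagata (EGA IV 7.7.2)
-/

set_option autoImplicit false
set_option linter.style.haveILetI false
set_option linter.unusedSectionVars false
universe u

open TensorProduct IsLocalRing

namespace Groth.Agent.H57.J2NagataLoc

theorem isNagata_of_geomReducedFormalFibres_of_isJ2 (A : Type u) [CommRing A] [IsNoetherianRing A]
    (h1 : ∀ (m : Ideal A) [m.IsMaximal],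
      EGA4.HasGeomReducedFormalFibres (Localization.AtPrime m))
    (h2 : EGA4.IsJ2 A) : CAlg.IsNagata A := by
  rw [Groth.Agent.S12125.result A]
  refine ⟨?_, ?_⟩
  · intro m hm P hP
    have hN : CAlg.IsNagata (Localization.AtPrime m) :=
      Groth.Agent.H13.LocalNagata.isNagata_of_hasGeomReducedFormalFibres _ (h1 m)
    exact hN.2 P
  · intro p hp K' _ _ _ _ _ _ B' hfin hfrac
    haveI := hfin
    letI : Algebra A B' := ((algebraMap (A ⧸ p) B').comp (algebraMap A (A ⧸ p))).toAlgebra
    haveI : IsScalarTower A (A ⧸ p) B' := IsScalarTower.of_algebraMap_eq (fun _ => rfl)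
    haveI : Module.Finite A B' := Module.Finite.trans (A ⧸ p) B'
    have hopen : IsOpen (EGA4.regLocus B') := h2 B' inferInstance
    exact Groth.Agent.H13.QENagata.exists_away_isIntegrallyClosed_of_isOpen_regLocus B' hopen

end Groth.Agent.H57.J2NagataLoc
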