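import Mathlib
import Groth.Prelude.Def_CAlg2
import Groth.Agent.H57.UnibranchA

/-!
# Finite birational extensions of a geometrically unibranch local domain
-/

set_option autoImplicit false
set_option linter.style.haveILetI false
set_option linter.unusedSectionVars false
universe u
open scoped TensorProduct
open IsLocalRing

namespace Groth.Agent.H57.Unibranch

/-- Domain version of `finite_birational`. -/
theorem finite_birational_of_isDomain (A : Type u) [CommRing A] [IsDomain A] [IsLocalRing A]
    (hA : CAlg2.IsGeomUnibranch A)
    (K : Type u) [Field K] [Algebra A K] [IsFractionRing A K]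
    (D : Type u) [CommRing D] [Algebra A D] [Module.Finite A D]
    (f : D →ₐ[A] K) (hf : Function.Injective f) :
    ∃ (_ : IsLocalRing D) (_ : IsLocalHom (algebraMap A D)),
      IsPurelyInseparable (ResidueField A) (ResidueField D) := by
  have hnil : nilradical A = ⊥ := nilradical_eq_zero A
  let e : CAlg2.red A ≃+* A := (Ideal.quotEquivOfEq hnil).trans (RingEquiv.quotientBot A)
  have he : ∀ a : A, e (Ideal.Quotient.mk _ a) = a := fun a => rfl
  letI : Algebra (CAlg2.red A) D := ((algebraMap A D).comp e.toRingHom).toAlgebra
  haveI : IsScalarTower A (CAlg2.red A) D := IsScalarTower.of_algebraMap_eq (fun a => by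
    show _ = algebraMap A D (e (Ideal.Quotient.mk _ a))
    rw [he])
  letI : Algebra (CAlg2.red A) K := ((algebraMap A K).comp e.toRingHom).toAlgebra
  haveI : IsScalarTower A (CAlg2.red A) K := IsScalarTower.of_algebraMap_eq (fun a => by
    show _ = algebraMap A K (e (Ideal.Quotient.mk _ a))
    rw [he])
  haveI : Module.Finite (CAlg2.red A) D := Module.Finite.of_restrictScalars_finite A _ D
  have hinjK : Function.Injective (algebraMap (CAlg2.red A) K) :=
    (IsFractionRing.injective A K).comp e.injective
  haveI : FaithfulSMul (CAlg2.red A) K := (faithfulSMul_iff_algebraMap_injective _ _).mpr hinjK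
  haveI : IsFractionRing (CAlg2.red A) K := by
    apply IsFractionRing.of_field
    intro z
    obtain ⟨x, y, hy, rfl⟩ := IsFractionRing.div_surjective (A := A) z
    refine ⟨Ideal.Quotient.mk _ x, Ideal.Quotient.mk _ y, ?_⟩
    show _ = algebraMap A K (e (Ideal.Quotient.mk _ x)) / algebraMap A K (e (Ideal.Quotient.mk _ y))
    rw [he, he]
  let f' : D →ₐ[CAlg2.red A] K :=
    { f.toRingHom with
      commutes' := fun c => by
        show f (algebraMap A D (e c)) = algebraMap A K (e c)
        exact f.commutes _ }
  exact finite_birational A hA K D f' hf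

end Groth.Agent.H57.Unibranch
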