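import Mathlib
import Groth.Prelude.Def_CAlg2
import Groth.Agent.H57.UnibranchE
import Groth.Agent.H13.MoriNagataMain
import Groth.Agent.H13.CompleteNagata
import Groth.Agent.H72.FormalEquidim
import Groth.Agent.H54.Dim

/-!
# A length-two regular sequence on the normalization of a geometrically unibranch local domain
of dimension at least two
-/

set_option autoImplicit false
set_option linter.style.haveILetI false
set_option linter.unusedSectionVars false
universe u
open scoped TensorProduct
open IsLocalRing

namespace Groth.Agent.H57.Unibranch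

set_option maxHeartbeats 1600000 in
/-- If `A` is a geometrically unibranch Noetherian local domain of dimension `≥ 2`, there are
nonzero `a, b ∈ m_A` such that `b ^ m x ∈ a ^ n A'` implies `x ∈ a ^ n A'` in the integral closure
`A'` of `A`. -/
theorem exists_regular_pair (A : Type u) [CommRing A] [IsDomain A] [IsNoetherianRing A]
    [IsLocalRing A] (hA : CAlg2.IsGeomUnibranch A) (hdim : 2 ≤ ringKrullDim A)
    (K : Type u) [Field K] [Algebra A K] [IsFractionRing A K] :
    ∃ a b : A, a ∈ maximalIdeal A ∧ b ∈ maximalIdeal A ∧ a ≠ 0 ∧ b ≠ 0 ∧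
      ∀ (n m : ℕ) (x y : integralClosure A K),
        algebraMap A (integralClosure A K) b ^ m * x = algebraMap A (integralClosure A K) a ^ n * y →
        ∃ z : integralClosure A K, x = algebraMap A (integralClosure A K) a ^ n * z := by
  classical
  haveI := Groth.Agent.H72.FormalEquidim.isLocalRing_compl A
  haveI := Groth.Agent.H72.FormalEquidim.isNoetherianRing_compl A
  haveI := Groth.Agent.H72.FormalEquidim.isLocalHom_compl A
  haveI : IsAdicComplete (IsLocalRing.maximalIdeal (AdicCompletion (IsLocalRing.maximalIdeal A) A))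
      (AdicCompletion (IsLocalRing.maximalIdeal A) A) :=
    AdicCompletion.isAdicComplete_of_fg (IsLocalRing.maximalIdeal A).fg_of_isNoetherianRing
  haveI : Module.FaithfullyFlat A (AdicCompletion (IsLocalRing.maximalIdeal A) A) :=
    Module.FaithfullyFlat.of_flat_of_isLocalHom
  have hC : CAlg.IsNagata (AdicCompletion (IsLocalRing.maximalIdeal A) A) :=
    Groth.Agent.H13.CompleteNagata.isNagata_of_complete_local _
  have hN1 : ∀ P : Groth.Agent.H13.MoriNagataCompl.MinP
      (AdicCompletion (IsLocalRing.maximalIdeal A) A),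
      Module.Finite (AdicCompletion (IsLocalRing.maximalIdeal A) A ⧸ P.1)
        (Groth.Agent.H13.MoriNagataCompl.Sn (AdicCompletion (IsLocalRing.maximalIdeal A) A) P) := by
    intro P
    exact hC.2 P.1 (FractionRing (AdicCompletion (IsLocalRing.maximalIdeal A) A ⧸ P.1)) inferInstance
  obtain ⟨F, hFfin, hdvr, hint, hfc⟩ :=
    Groth.Agent.H13.MoriNagataMain.main (A := A)
      (AdicCompletion (IsLocalRing.maximalIdeal A) A) hN1 K
  haveI := hFfin
  -- `F` is local of dimension `≥ 2`
  obtain ⟨hFloc, hAFloc, -⟩ := finite_birational_of_isDomain A hA K F F.val Subtype.val_injective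
  haveI := hFloc
  haveI : Algebra.IsIntegral A F := Algebra.IsIntegral.of_finite A F
  have hinjF : Function.Injective (algebraMap A F) := by
    intro x y hxy
    apply IsFractionRing.injective A K
    exact congrArg (fun d : F => (d : K)) hxy
  have hdimF : 2 ≤ ringKrullDim F :=
    hdim.trans (Groth.Agent.H54.ringKrullDim_le_of_isIntegral_of_injective hinjF)
  have hne_max : ∀ p : Ideal F, p.IsPrime → p.height = 1 →
      p.comap (algebraMap A F) ≠ maximalIdeal A := by
    intro p hp hht hcomap
    have hpmax : p.IsMaximal := by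
      refine Ideal.isMaximal_of_isIntegral_of_isMaximal_comap (R := A) p ?_
      rw [hcomap]; exact maximalIdeal.isMaximal A
    have hpeq : p = maximalIdeal F := IsLocalRing.eq_maximalIdeal hpmax
    have h1 : ((maximalIdeal F).height : WithBot ℕ∞) = ringKrullDim F :=
      IsLocalRing.maximalIdeal_height_eq_ringKrullDim
    rw [← hpeq, hht] at h1
    rw [← h1] at hdimF
    exact absurd hdimF (by decide)
  -- a nonzero element of the maximal ideal
  have hmne : maximalIdeal A ≠ ⊥ := by
    intro h
    have hfield : IsField A := IsLocalRing.isField_iff_maximalIdeal_eq.mpr h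
    rw [ringKrullDim_eq_zero_of_isField hfield] at hdim
    exact absurd hdim (by decide)
  obtain ⟨a, ham, ha0⟩ := Submodule.exists_mem_ne_zero_of_ne_bot hmne
  have haK : algebraMap A K a ≠ 0 := by
    rwa [Ne, map_eq_zero_iff _ (IsFractionRing.injective A K)]
  -- the bad primes
  have hbadfin := hfc (algebraMap A K a)⁻¹
  set Bad : Set (Ideal F) := {p : Ideal F | p.IsPrime ∧ p.height = 1 ∧
        ¬ ∃ s : F, s ∉ p ∧ IsIntegral F ((s : K) * (algebraMap A K a)⁻¹)} with hBad
  let s : Finset (Ideal F) := insert ⊥ hbadfin.toFinset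
  have hprime : ∀ p ∈ s, (p.comap (algebraMap A F)).IsPrime := by
    intro p hp
    rcases Finset.mem_insert.mp hp with rfl | hp
    · exact Ideal.comap_isPrime _ _
    · haveI : p.IsPrime := ((Set.Finite.mem_toFinset hbadfin).mp hp).1
      exact Ideal.comap_isPrime _ _
  have havoid : ¬ ((maximalIdeal A : Set A) ⊆ ⋃ p ∈ (↑s : Set (Ideal F)),
      (p.comap (algebraMap A F) : Set A)) := by
    intro hsub
    rw [Ideal.subset_union_prime (f := fun p : Ideal F => p.comap (algebraMap A F)) ⊥ ⊥
      (fun p hp _ _ => hprime p hp)] at hsub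
    obtain ⟨p, hp, hle⟩ := hsub
    rcases Finset.mem_insert.mp hp with rfl | hp
    · apply hmne
      rw [eq_bot_iff]
      intro x hx
      have : algebraMap A F x = 0 := hle hx
      rw [Ideal.mem_bot]
      exact hinjF (this.trans (map_zero _).symm)
    · have hpB := (Set.Finite.mem_toFinset hbadfin).mp hp
      haveI : p.IsPrime := hpB.1
      have : maximalIdeal A = p.comap (algebraMap A F) :=
        (maximalIdeal.isMaximal A).eq_of_le (Ideal.comap_ne_top _ (Ideal.IsPrime.ne_top')) hle
      exact hne_max p hpB.1 hpB.2.1 this.symm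
  rw [Set.not_subset] at havoid
  obtain ⟨b, hbm, hbnot⟩ := havoid
  have hbnot' : ∀ p ∈ s, algebraMap A F b ∉ p := by
    intro p hp hbp
    apply hbnot
    simp only [Set.mem_iUnion]
    exact ⟨p, hp, hbp⟩
  have hb0 : b ≠ 0 := by
    intro h
    apply hbnot' ⊥ (Finset.mem_insert_self _ _)
    rw [h, map_zero]; exact Ideal.zero_mem _
  have hbK : algebraMap A K b ≠ 0 := by
    rwa [Ne, map_eq_zero_iff _ (IsFractionRing.injective A K)]
  refine ⟨a, b, ham, hbm, ha0, hb0, ?_⟩
  intro n m x y hxy
  have hxyK : algebraMap A K b ^ m * (x : K) = algebraMap A K a ^ n * (y : K) := by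
    have := congrArg (fun d : integralClosure A K => (d : K)) hxy
    simpa using this
  set w : K := (x : K) * (algebraMap A K a ^ n)⁻¹ with hw
  have hw' : w = (y : K) * (algebraMap A K b ^ m)⁻¹ := by
    rw [hw]
    field_simp
    rw [mul_comm (x : K), hxyK]
  have hwint : w ∈ integralClosure A K := by
    rw [hint]
    intro p hp hht
    obtain ⟨V, -, hV⟩ := @hdvr p hp hht
    rw [← hV]
    have hxV : (x : K) ∈ V := by
      rw [hV]; exact (hint (x : K)).mp x.2 p hht
    have hyV : (y : K) ∈ V := by
      rw [hV]; exact (hint (y : K)).mp y.2 p hht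
    by_cases hcase : (algebraMap A K a)⁻¹ ∈ V
    · rw [hw, ← inv_pow]
      exact V.mul_mem _ _ hxV (V.pow_mem hcase n)
    · have hpBad : p ∈ Bad := by
        refine ⟨hp, hht, fun h => hcase ?_⟩
        rw [hV]; exact h
      have hbp : algebraMap A F b ∉ p :=
        hbnot' p (Finset.mem_insert_of_mem ((Set.Finite.mem_toFinset hbadfin).mpr hpBad))
      have hbinv : (algebraMap A K b)⁻¹ ∈ V := by
        rw [hV]
        refine ⟨algebraMap A F b, hbp, ?_⟩
        have : ((algebraMap A F b : F) : K) = algebraMap A K b := rfl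
        rw [this, mul_inv_cancel₀ hbK]
        exact isIntegral_one
      rw [hw', ← inv_pow]
      exact V.mul_mem _ _ hyV (V.pow_mem hbinv m)
  refine ⟨⟨w, hwint⟩, ?_⟩
  apply Subtype.ext
  show (x : K) = _
  have : ((algebraMap A (integralClosure A K) a ^ n * ⟨w, hwint⟩ : integralClosure A K) : K) =
      algebraMap A K a ^ n * w := by
    simp
  rw [this, hw]
  field_simp

end Groth.Agent.H57.Unibranch
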