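import Mathlib

/-!
# Invariants of `k[λ, 1/λ, 1/(λ-1)]` under the anharmonic group (helper57)
-/

set_option autoImplicit false
universe u
open Polynomial

namespace Groth.Agent.H57.LambdaInv

variable {k : Type u} [Field k]

/-- `D = λ (λ - 1)` as a polynomial. -/
noncomputable def Dp : k[X] := X * (X - 1)

lemma natDegree_Dp : (Dp : k[X]).natDegree = 2 := by
  unfold Dp
  rw [show (X - 1 : k[X]) = X - C 1 by simp,
    natDegree_mul X_ne_zero (X_sub_C_ne_zero (1 : k)), natDegree_X, natDegree_X_sub_C]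

lemma Dp_ne_zero : (Dp : k[X]) ≠ 0 := by
  intro h
  have := natDegree_Dp (k := k)
  rw [h, natDegree_zero] at this
  omega

lemma algebraMap_Dp :
    algebraMap k[X] (RatFunc k) Dp = RatFunc.X * (RatFunc.X - 1) := by
  simp [Dp, RatFunc.algebraMap_X]

lemma D_ne_zero : (RatFunc.X * (RatFunc.X - 1) : RatFunc k) ≠ 0 := by
  rw [← algebraMap_Dp]
  exact (map_ne_zero_iff _ (RatFunc.algebraMap_injective k)).2 Dp_ne_zero

lemma X_sub_one_ne_zero : (RatFunc.X - 1 : RatFunc k) ≠ 0 := right_ne_zero_of_mul D_ne_zero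

/-- `b` has poles of order at most `N` at `0, 1, ∞` and nowhere else. -/
def InV (N : ℕ) (b : RatFunc k) : Prop :=
  ∃ P : k[X], P.natDegree ≤ 3 * N ∧
    b * (RatFunc.X * (RatFunc.X - 1)) ^ N = algebraMap k[X] (RatFunc k) P

lemma InV.succ {N : ℕ} {b : RatFunc k} (h : InV N b) : InV (N + 1) b := by
  obtain ⟨P, hP, hb⟩ := h
  refine ⟨P * Dp, ?_, ?_⟩
  · refine (natDegree_mul_le).trans ?_
    rw [natDegree_Dp]; omega
  · rw [pow_succ, ← mul_assoc, hb, map_mul, algebraMap_Dp]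

lemma InV.mono {N M : ℕ} {b : RatFunc k} (h : InV N b) (hNM : N ≤ M) : InV M b := by
  induction M, hNM using Nat.le_induction with
  | base => exact h
  | succ M _ ih => exact ih.succ

lemma InV.add {N M : ℕ} {b b' : RatFunc k} (h : InV N b) (h' : InV M b') :
    InV (max N M) (b + b') := by
  obtain ⟨P, hP, hb⟩ := h.mono (le_max_left N M)
  obtain ⟨Q, hQ, hb'⟩ := h'.mono (le_max_right N M)
  refine ⟨P + Q, (natDegree_add_le _ _).trans (max_le hP hQ), ?_⟩
  rw [add_mul, hb, hb', map_add]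

lemma InV.mul {N M : ℕ} {b b' : RatFunc k} (h : InV N b) (h' : InV M b') :
    InV (N + M) (b * b') := by
  obtain ⟨P, hP, hb⟩ := h
  obtain ⟨Q, hQ, hb'⟩ := h'
  refine ⟨P * Q, natDegree_mul_le.trans (by omega), ?_⟩
  rw [map_mul, ← hb, ← hb', pow_add]; ring

lemma InV.algebraMap (c : k) : InV 0 (algebraMap k (RatFunc k) c) :=
  ⟨C c, by simp, by simp [RatFunc.algebraMap_C]⟩

lemma exists_InV_of_mem {b : RatFunc k}
    (hb : b ∈ Algebra.adjoin k ({RatFunc.X, (RatFunc.X : RatFunc k)⁻¹,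
      ((RatFunc.X : RatFunc k) - 1)⁻¹} : Set (RatFunc k))) : ∃ N, InV N b := by
  induction hb using Algebra.adjoin_induction with
  | mem x hx =>
    rcases hx with rfl | rfl | rfl
    · refine ⟨1, X ^ 2 * (X - 1), ?_, ?_⟩
      · refine natDegree_mul_le.trans ?_
        rw [natDegree_X_pow, show (X - 1 : k[X]) = X - C 1 by simp, natDegree_X_sub_C]
      · simp [RatFunc.algebraMap_X]; ring
    · refine ⟨1, X - 1, ?_, ?_⟩
      · rw [show (X - 1 : k[X]) = X - C 1 by simp, natDegree_X_sub_C]; omega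
      · simp only [pow_one, map_sub, RatFunc.algebraMap_X, map_one]
        rw [← mul_assoc, inv_mul_cancel₀ RatFunc.X_ne_zero, one_mul]
    · refine ⟨1, X, ?_, ?_⟩
      · rw [natDegree_X]; omega
      · simp only [pow_one, RatFunc.algebraMap_X]
        rw [mul_comm RatFunc.X, ← mul_assoc, inv_mul_cancel₀ X_sub_one_ne_zero, one_mul]
  | algebraMap c => exact ⟨0, InV.algebraMap c⟩
  | add x y _ _ hx hy =>
    obtain ⟨N, hN⟩ := hx
    obtain ⟨M, hM⟩ := hy
    exact ⟨_, hN.add hM⟩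
  | mul x y _ _ hx hy =>
    obtain ⟨N, hN⟩ := hx
    obtain ⟨M, hM⟩ := hy
    exact ⟨_, hN.mul hM⟩

lemma algHom_algebraMap (φ : RatFunc k →ₐ[k] RatFunc k) (P : k[X]) :
    φ (algebraMap k[X] (RatFunc k) P) = aeval (φ RatFunc.X) P := by
  rw [← RatFunc.aeval_X_left_eq_algebraMap, aeval_algHom_apply]

lemma tau_algebraMap (τ : RatFunc k ≃ₐ[k] RatFunc k) (hτ : τ RatFunc.X = 1 - RatFunc.X)
    (P : k[X]) :
    τ (algebraMap k[X] (RatFunc k) P) = algebraMap k[X] (RatFunc k) (P.comp (1 - X)) := by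
  have h := algHom_algebraMap (τ : RatFunc k →ₐ[k] RatFunc k) P
  rw [AlgEquiv.coe_algHom, hτ] at h
  rw [h, ← RatFunc.aeval_X_left_eq_algebraMap (P.comp (1 - X)), aeval_comp]
  congr 1
  simp [RatFunc.algebraMap_X]

lemma sigma_algebraMap (σ : RatFunc k ≃ₐ[k] RatFunc k)
    (hσ : σ RatFunc.X = (RatFunc.X : RatFunc k)⁻¹) (M : ℕ) (P : k[X]) (hP : P.natDegree ≤ M) :
    σ (algebraMap k[X] (RatFunc k) P) * RatFunc.X ^ M =
      algebraMap k[X] (RatFunc k) (reflect M P) := by
  have h := algHom_algebraMap (σ : RatFunc k →ₐ[k] RatFunc k) P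
  rw [AlgEquiv.coe_algHom, hσ] at h
  letI : Invertible ((RatFunc.X : RatFunc k)⁻¹) :=
    invertibleOfNonzero (inv_ne_zero RatFunc.X_ne_zero)
  have h2 := eval₂_reflect_mul_pow (algebraMap k (RatFunc k)) ((RatFunc.X : RatFunc k)⁻¹) M P hP
  rw [invOf_eq_inv, inv_inv] at h2
  rw [h, aeval_def, ← h2, ← aeval_def, RatFunc.aeval_X_left_eq_algebraMap, mul_assoc, ← mul_pow,
    inv_mul_cancel₀ RatFunc.X_ne_zero, one_pow, mul_one]

/-- The polynomial identities expressing invariance. -/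
lemma inv_identities (σ τ : RatFunc k ≃ₐ[k] RatFunc k)
    (hσ : σ RatFunc.X = (RatFunc.X : RatFunc k)⁻¹) (hτ : τ RatFunc.X = 1 - RatFunc.X)
    {b : RatFunc k} (hσb : σ b = b) (hτb : τ b = b) {M : ℕ} {P : k[X]}
    (hP : P.natDegree ≤ 3 * M)
    (hb : b * (RatFunc.X * (RatFunc.X - 1)) ^ M = algebraMap k[X] (RatFunc k) P) :
    P.comp (1 - X) = P ∧ reflect (3 * M) P = C ((-1) ^ M) * P := by
  constructor
  · apply RatFunc.algebraMap_injective k
    rw [← tau_algebraMap τ hτ, ← hb, map_mul, map_pow, map_mul, map_sub, map_one, hτ, hτb]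
    congr 2
    ring
  · apply RatFunc.algebraMap_injective k
    rw [← sigma_algebraMap σ hσ (3 * M) P hP, ← hb, map_mul, map_pow, map_mul, map_sub, map_one,
      hσ, hσb, map_mul, ← hb, RatFunc.algebraMap_C]
    have hX : (RatFunc.X : RatFunc k) ≠ 0 := RatFunc.X_ne_zero
    have h1 : ((RatFunc.X : RatFunc k)⁻¹ * ((RatFunc.X : RatFunc k)⁻¹ - 1)) ^ M * RatFunc.X ^ (3 * M)
        = (-1) ^ M * (RatFunc.X * (RatFunc.X - 1)) ^ M := by
      rw [pow_mul, ← mul_pow, ← mul_pow]
      congr 1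
      field_simp
      ring
    rw [mul_assoc, h1, map_pow, map_neg, map_one]
    ring

/-- Dropping the pole order when the constant coefficient vanishes. -/
lemma drop (σ τ : RatFunc k ≃ₐ[k] RatFunc k)
    (hσ : σ RatFunc.X = (RatFunc.X : RatFunc k)⁻¹) (hτ : τ RatFunc.X = 1 - RatFunc.X)
    {b : RatFunc k} (hσb : σ b = b) (hτb : τ b = b) {N : ℕ} {P : k[X]}
    (hP : P.natDegree ≤ 3 * (N + 1))
    (hb : b * (RatFunc.X * (RatFunc.X - 1)) ^ (N + 1) = algebraMap k[X] (RatFunc k) P)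
    (h0 : P.coeff 0 = 0) : InV N b := by
  obtain ⟨hcomp, hrefl⟩ := inv_identities σ τ hσ hτ hσb hτb hP hb
  -- P(0) = 0 and P(1) = 0
  have e0 : P.eval 0 = 0 := by rw [← coeff_zero_eq_eval_zero]; exact h0
  have e1 : P.eval 1 = 0 := by
    have : (P.comp (1 - X)).eval 1 = P.eval 1 := by rw [hcomp]
    rw [eval_comp] at this
    simpa [e0] using this.symm
  -- top coefficient vanishes
  have htop : P.coeff (3 * (N + 1)) = 0 := by
    have := congrArg (fun Q : k[X] => Q.coeff (3 * (N + 1))) hrefl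
    simp only [coeff_reflect, coeff_C_mul, revAt_le le_rfl, Nat.sub_self, h0] at this
    have hu : ((-1 : k) ^ (N + 1)) ≠ 0 := pow_ne_zero _ (neg_ne_zero.2 one_ne_zero)
    exact (mul_eq_zero.1 this.symm).resolve_left hu
  have hdeg : P.natDegree ≤ 3 * N + 2 := by
    by_contra hlt
    push_neg at hlt
    have : P.natDegree = 3 * (N + 1) := by omega
    have hP0 : P ≠ 0 := by
      rintro rfl
      simp at this
    have := this ▸ htop
    exact hP0 (leadingCoeff_eq_zero.1 this)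
  -- divisibility
  have d0 : (X : k[X]) ∣ P := by
    rw [← sub_zero (X : k[X]), ← C_0, dvd_iff_isRoot]; exact e0
  have d1 : (X - 1 : k[X]) ∣ P := by
    rw [← C_1, dvd_iff_isRoot]; exact e1
  have hcop : IsCoprime (X : k[X]) (X - 1) := by
    refine ⟨1, -1, ?_⟩
    ring
  obtain ⟨P₂, rfl⟩ : Dp ∣ P := hcop.mul_dvd d0 d1
  by_cases hP2 : P₂ = 0
  · subst hP2
    refine ⟨0, by simp, ?_⟩
    rw [mul_zero, map_zero] at hb
    rw [map_zero]
    rcases mul_eq_zero.1 hb with h | h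
    · rw [h, zero_mul]
    · exact absurd h (pow_ne_zero _ D_ne_zero)
  · refine ⟨P₂, ?_, ?_⟩
    · rw [natDegree_mul Dp_ne_zero hP2, natDegree_Dp] at hdeg
      omega
    · rw [map_mul, algebraMap_Dp, pow_succ, ← mul_assoc, mul_comm _ (algebraMap k[X] (RatFunc k) P₂)] at hb
      exact mul_right_cancel₀ D_ne_zero hb

/-- The `j`-function of the Legendre family. -/
noncomputable def jF : RatFunc k :=
  256 * ((RatFunc.X : RatFunc k) ^ 2 - RatFunc.X + 1) ^ 3 /
    ((RatFunc.X : RatFunc k) ^ 2 * ((RatFunc.X : RatFunc k) - 1) ^ 2)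

/-- Numerator of `j`. -/
noncomputable def Pj : k[X] := C 256 * (X ^ 2 - X + 1) ^ 3

lemma jF_mul : (jF : RatFunc k) * (RatFunc.X * (RatFunc.X - 1)) ^ 2 =
    algebraMap k[X] (RatFunc k) Pj := by
  have hX : (RatFunc.X : RatFunc k) ≠ 0 := RatFunc.X_ne_zero
  have hX1 : (RatFunc.X - 1 : RatFunc k) ≠ 0 := X_sub_one_ne_zero
  have h256 : algebraMap k[X] (RatFunc k) (C (256 : k)) = 256 := by
    rw [RatFunc.algebraMap_C, map_ofNat]
  unfold jF Pj
  rw [map_mul, h256, map_pow, map_add, map_sub, map_pow, RatFunc.algebraMap_X, map_one]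
  field_simp

lemma natDegree_Pj_le : (Pj : k[X]).natDegree ≤ 6 := by
  unfold Pj
  compute_degree

lemma Pj_coeff_zero : (Pj : k[X]).coeff 0 = 256 := by
  rw [coeff_zero_eq_eval_zero]
  simp [Pj]

lemma sigma_jF (σ : RatFunc k ≃ₐ[k] RatFunc k)
    (hσ : σ RatFunc.X = (RatFunc.X : RatFunc k)⁻¹) : σ jF = jF := by
  have hX : (RatFunc.X : RatFunc k) ≠ 0 := RatFunc.X_ne_zero
  have hX1 : (RatFunc.X - 1 : RatFunc k) ≠ 0 := X_sub_one_ne_zero
  have hX1' : (1 - RatFunc.X : RatFunc k) ≠ 0 := by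
    intro h; apply hX1; rw [← neg_sub, h, neg_zero]
  unfold jF
  simp only [map_div₀, map_mul, map_pow, map_add, map_sub, map_one, map_ofNat, hσ]
  field_simp
  ring

lemma tau_jF (τ : RatFunc k ≃ₐ[k] RatFunc k)
    (hτ : τ RatFunc.X = 1 - RatFunc.X) : τ jF = jF := by
  have hX : (RatFunc.X : RatFunc k) ≠ 0 := RatFunc.X_ne_zero
  have hX1 : (RatFunc.X - 1 : RatFunc k) ≠ 0 := X_sub_one_ne_zero
  have hX1' : (1 - RatFunc.X : RatFunc k) ≠ 0 := by
    intro h; apply hX1; rw [← neg_sub, h, neg_zero]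
  unfold jF
  simp only [map_div₀, map_mul, map_pow, map_add, map_sub, map_one, map_ofNat, hτ]
  have e1 : ((1 - RatFunc.X : RatFunc k)) ^ 2 - (1 - RatFunc.X) + 1 =
      RatFunc.X ^ 2 - RatFunc.X + 1 := by ring
  have e2 : ((1 - RatFunc.X : RatFunc k)) ^ 2 * (1 - RatFunc.X - 1) ^ 2 =
      RatFunc.X ^ 2 * (RatFunc.X - 1) ^ 2 := by ring
  rw [e1, e2]

lemma jF_mem : (jF : RatFunc k) ∈ Algebra.adjoin k ({RatFunc.X, (RatFunc.X : RatFunc k)⁻¹,
      ((RatFunc.X : RatFunc k) - 1)⁻¹} : Set (RatFunc k)) := by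
  have hXm : (RatFunc.X : RatFunc k) ∈ Algebra.adjoin k ({RatFunc.X, (RatFunc.X : RatFunc k)⁻¹,
      ((RatFunc.X : RatFunc k) - 1)⁻¹} : Set (RatFunc k)) := Algebra.subset_adjoin (by simp)
  have hXi : (RatFunc.X : RatFunc k)⁻¹ ∈ Algebra.adjoin k ({RatFunc.X, (RatFunc.X : RatFunc k)⁻¹,
      ((RatFunc.X : RatFunc k) - 1)⁻¹} : Set (RatFunc k)) := Algebra.subset_adjoin (by simp)
  have hX1i : ((RatFunc.X : RatFunc k) - 1)⁻¹ ∈ Algebra.adjoin k ({RatFunc.X, (RatFunc.X : RatFunc k)⁻¹,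
      ((RatFunc.X : RatFunc k) - 1)⁻¹} : Set (RatFunc k)) := Algebra.subset_adjoin (by simp)
  have : (jF : RatFunc k) = 256 * ((RatFunc.X : RatFunc k) ^ 2 - RatFunc.X + 1) ^ 3 *
      ((RatFunc.X : RatFunc k)⁻¹) ^ 2 * (((RatFunc.X : RatFunc k) - 1)⁻¹) ^ 2 := by
    unfold jF
    rw [div_eq_mul_inv, mul_inv, ← inv_pow, ← inv_pow, ← mul_assoc]
  rw [this]
  have h256 : (256 : RatFunc k) ∈ Algebra.adjoin k ({RatFunc.X, (RatFunc.X : RatFunc k)⁻¹,
      ((RatFunc.X : RatFunc k) - 1)⁻¹} : Set (RatFunc k)) := by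
    have := Subalgebra.algebraMap_mem (Algebra.adjoin k ({RatFunc.X, (RatFunc.X : RatFunc k)⁻¹,
      ((RatFunc.X : RatFunc k) - 1)⁻¹} : Set (RatFunc k))) (256 : k)
    rwa [map_ofNat] at this
  refine Subalgebra.mul_mem _ (Subalgebra.mul_mem _ (Subalgebra.mul_mem _ h256 ?_) ?_) ?_
  · exact Subalgebra.pow_mem _ (Subalgebra.add_mem _ (Subalgebra.sub_mem _
      (Subalgebra.pow_mem _ hXm _) hXm) (Subalgebra.one_mem _)) _
  · exact Subalgebra.pow_mem _ hXi _
  · exact Subalgebra.pow_mem _ hX1i _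

/-- Key induction: an invariant element with poles of order `≤ N` is a polynomial in `j`. -/
lemma mem_adjoin_jF_of_InV (h2 : (2 : k) ≠ 0) (σ τ : RatFunc k ≃ₐ[k] RatFunc k)
    (hσ : σ RatFunc.X = (RatFunc.X : RatFunc k)⁻¹) (hτ : τ RatFunc.X = 1 - RatFunc.X)
    (N : ℕ) : ∀ b : RatFunc k, σ b = b → τ b = b → InV N b →
      b ∈ Algebra.adjoin k ({jF} : Set (RatFunc k)) := by
  induction N with
  | zero =>
    intro b _ _ hb
    obtain ⟨P, hP, hb⟩ := hb
    rw [Nat.mul_zero, Nat.le_zero] at hP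
    rw [pow_zero, mul_one] at hb
    rw [eq_C_of_natDegree_eq_zero hP, RatFunc.algebraMap_C] at hb
    rw [hb]
    exact Subalgebra.algebraMap_mem _ _
  | succ N ih =>
    -- first the case of vanishing constant coefficient
    have keyA : ∀ b : RatFunc k, σ b = b → τ b = b → ∀ P : k[X], P.natDegree ≤ 3 * (N + 1) →
        b * (RatFunc.X * (RatFunc.X - 1)) ^ (N + 1) = algebraMap k[X] (RatFunc k) P →
        P.coeff 0 = 0 → b ∈ Algebra.adjoin k ({jF} : Set (RatFunc k)) := by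
      intro b hσb hτb P hP hb h0
      exact ih b hσb hτb (drop σ τ hσ hτ hσb hτb hP hb h0)
    intro b hσb hτb hInV
    obtain ⟨P, hP, hb⟩ := hInV
    by_cases h0 : P.coeff 0 = 0
    · exact keyA b hσb hτb P hP hb h0
    · obtain ⟨hcomp, hrefl⟩ := inv_identities σ τ hσ hτ hσb hτb hP hb
      -- top coefficient is nonzero
      have htop : P.coeff (3 * (N + 1)) = (-1) ^ (N + 1) * P.coeff 0 := by
        have := congrArg (fun Q : k[X] => Q.coeff (3 * (N + 1))) hrefl
        simp only [coeff_reflect, coeff_C_mul, revAt_le le_rfl, Nat.sub_self] at this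
        rw [this, ← mul_assoc, ← mul_pow]
        simp
      have hu : ((-1 : k) ^ (N + 1)) ≠ 0 := pow_ne_zero _ (neg_ne_zero.2 one_ne_zero)
      have htop0 : P.coeff (3 * (N + 1)) ≠ 0 := by
        rw [htop]; exact mul_ne_zero hu h0
      have hnd : P.natDegree = 3 * (N + 1) :=
        le_antisymm hP (le_natDegree_of_ne_zero htop0)
      -- parity
      have hlc := congrArg leadingCoeff hcomp
      have hq : (1 - X : k[X]).natDegree = 1 := by
        rw [show (1 - X : k[X]) = C (-1) * X + C 1 by simp; ring]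
        exact natDegree_linear (by simp)
      have hqlc : (1 - X : k[X]).leadingCoeff = -1 := by
        rw [show (1 - X : k[X]) = C (-1) * X + C 1 by simp; ring]
        exact leadingCoeff_linear (by simp)
      rw [leadingCoeff_comp (by rw [hq]; exact one_ne_zero), hqlc, hnd] at hlc
      have hP0 : P.leadingCoeff ≠ 0 := by
        rw [leadingCoeff, hnd]; exact htop0
      have hpar : ((-1 : k)) ^ (3 * (N + 1)) = 1 := by
        have := mul_left_cancel₀ hP0 (hlc.trans (mul_one _).symm)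
        exact this
      have hne : (-1 : k) ≠ 1 := by
        intro h
        apply h2
        have : (1 : k) + 1 = 0 := by nth_rewrite 1 [← h]; ring
        rw [← this]; norm_num
      have heven : Even (3 * (N + 1)) := (neg_one_pow_eq_one_iff_even hne).1 hpar
      have heven' : Even (N + 1) := by
        rcases Nat.even_mul.1 heven with h | h
        · exact absurd h (by decide)
        · exact h
      obtain ⟨m, hm⟩ := heven'
      -- subtract a multiple of j^m
      have h256 : (256 : k) ≠ 0 := by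
        have : (256 : k) = 2 ^ 8 := by norm_num
        rw [this]; exact pow_ne_zero _ h2
      set c : k := P.coeff 0 / 256 ^ m with hc
      have hjm : (jF : RatFunc k) ^ m * (RatFunc.X * (RatFunc.X - 1)) ^ (N + 1) =
          algebraMap k[X] (RatFunc k) (Pj ^ m) := by
        rw [hm, ← two_mul, pow_mul, ← mul_pow, jF_mul, map_pow]
      have hb' : (b - algebraMap k (RatFunc k) c * jF ^ m) *
          (RatFunc.X * (RatFunc.X - 1)) ^ (N + 1) =
          algebraMap k[X] (RatFunc k) (P - C c * Pj ^ m) := by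
        rw [sub_mul, mul_assoc, hjm, hb, map_sub, map_mul, RatFunc.algebraMap_C,
          RatFunc.algebraMap_eq_C]
      have hP' : (P - C c * Pj ^ m).natDegree ≤ 3 * (N + 1) := by
        refine (natDegree_sub_le _ _).trans (max_le hP ?_)
        refine (natDegree_C_mul_le _ _).trans ?_
        refine natDegree_pow_le.trans ?_
        have := natDegree_Pj_le (k := k)
        calc m * (Pj : k[X]).natDegree ≤ m * 6 := Nat.mul_le_mul_left _ this
          _ = 3 * (N + 1) := by omega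
      have h0' : (P - C c * Pj ^ m).coeff 0 = 0 := by
        rw [coeff_sub, coeff_C_mul, coeff_zero_eq_eval_zero (Pj ^ m), eval_pow,
          ← coeff_zero_eq_eval_zero, Pj_coeff_zero, hc, div_mul_cancel₀ _ (pow_ne_zero _ h256),
          sub_self]
      have hσb' : σ (b - algebraMap k (RatFunc k) c * jF ^ m) =
          b - algebraMap k (RatFunc k) c * jF ^ m := by
        rw [map_sub, map_mul, map_pow, sigma_jF σ hσ, hσb, AlgEquiv.commutes]
      have hτb' : τ (b - algebraMap k (RatFunc k) c * jF ^ m) =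
          b - algebraMap k (RatFunc k) c * jF ^ m := by
        rw [map_sub, map_mul, map_pow, tau_jF τ hτ, hτb, AlgEquiv.commutes]
      have hmem := keyA _ hσb' hτb' _ hP' hb' h0'
      have : b = (b - algebraMap k (RatFunc k) c * jF ^ m) + algebraMap k (RatFunc k) c * jF ^ m := by
        ring
      rw [this]
      refine Subalgebra.add_mem _ hmem (Subalgebra.mul_mem _ (Subalgebra.algebraMap_mem _ _) ?_)
      exact Subalgebra.pow_mem _ (Algebra.subset_adjoin (Set.mem_singleton _)) _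

/-- The invariant ring of the `λ`-line minus `0, 1` is `k[j]`. -/
theorem invariants_iff (h2 : (2 : k) ≠ 0) (σ τ : RatFunc k ≃ₐ[k] RatFunc k)
    (hσ : σ RatFunc.X = (RatFunc.X : RatFunc k)⁻¹) (hτ : τ RatFunc.X = 1 - RatFunc.X)
    (b : RatFunc k) :
    (b ∈ Algebra.adjoin k ({RatFunc.X, (RatFunc.X : RatFunc k)⁻¹,
        ((RatFunc.X : RatFunc k) - 1)⁻¹} : Set (RatFunc k)) ∧ σ b = b ∧ τ b = b) ↔
      b ∈ Algebra.adjoin k ({jF} : Set (RatFunc k)) := by
  constructor
  · rintro ⟨hb, hσb, hτb⟩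
    obtain ⟨N, hN⟩ := exists_InV_of_mem hb
    exact mem_adjoin_jF_of_InV h2 σ τ hσ hτ N b hσb hτb hN
  · intro hb
    induction hb using Algebra.adjoin_induction with
    | mem x hx =>
      rw [Set.mem_singleton_iff] at hx
      subst hx
      exact ⟨jF_mem, sigma_jF σ hσ, tau_jF τ hτ⟩
    | algebraMap c =>
      exact ⟨Subalgebra.algebraMap_mem _ _, AlgEquiv.commutes _ _, AlgEquiv.commutes _ _⟩
    | add x y _ _ hx hy =>
      exact ⟨Subalgebra.add_mem _ hx.1 hy.1, by rw [map_add, hx.2.1, hy.2.1],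
        by rw [map_add, hx.2.2, hy.2.2]⟩
    | mul x y _ _ hx hy =>
      exact ⟨Subalgebra.mul_mem _ hx.1 hy.1, by rw [map_mul, hx.2.1, hy.2.1],
        by rw [map_mul, hx.2.2, hy.2.2]⟩

end Groth.Agent.H57.LambdaInv
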