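import Mathlib

/-!
# Generizations in locally Noetherian schemes

Every point `x` of a locally Noetherian scheme has an open neighbourhood all of whose points are
specializations of generizations of `x`.
-/

set_option autoImplicit false
set_option linter.style.haveILetI false
set_option linter.unusedSectionVars false
universe u
open CategoryTheory AlgebraicGeometry

namespace Groth.Agent.H57.LocNoethTop

/-- Ring-level form. -/
theorem exists_open_nhd_generizations (R : Type*) [CommRing R] [IsNoetherianRing R]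
    (q : PrimeSpectrum R) :
    ∃ N : Set (PrimeSpectrum R), IsOpen N ∧ q ∈ N ∧
      ∀ z ∈ N, ∃ ξ : PrimeSpectrum R, ξ ⤳ q ∧ ξ ⤳ z := by
  classical
  let S : Set (Ideal R) := {p ∈ minimalPrimes R | ¬ p ≤ q.asIdeal}
  have hSfin : S.Finite := (minimalPrimes.finite_of_isNoetherianRing R).subset (fun p hp => hp.1)
  let C : Set (PrimeSpectrum R) := ⋃ p ∈ S, PrimeSpectrum.zeroLocus (p : Set R)
  have hC : IsClosed C := hSfin.isClosed_biUnion (fun p _ => PrimeSpectrum.isClosed_zeroLocus _)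
  refine ⟨Cᶜ, hC.isOpen_compl, ?_, ?_⟩
  · intro hq
    simp only [C, Set.mem_iUnion] at hq
    obtain ⟨p, hp, hqp⟩ := hq
    exact hp.2 ((PrimeSpectrum.mem_zeroLocus _ _).mp hqp)
  · intro z hz
    obtain ⟨p, hp, hpz⟩ := Ideal.exists_minimalPrimes_le (bot_le : (⊥ : Ideal R) ≤ z.asIdeal)
    have hpq : p ≤ q.asIdeal := by
      by_contra hcon
      apply hz
      simp only [C, Set.mem_iUnion]
      exact ⟨p, ⟨hp, hcon⟩, (PrimeSpectrum.mem_zeroLocus _ _).mpr hpz⟩
    refine ⟨⟨p, hp.1.1⟩, ?_, ?_⟩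
    · rw [← PrimeSpectrum.le_iff_specializes]; exact hpq
    · rw [← PrimeSpectrum.le_iff_specializes]; exact hpz

/-- Scheme-level form. -/
theorem exists_open_nhd_generizations_scheme (X : Scheme.{u}) [IsLocallyNoetherian X] (x : X) :
    ∃ N : Set X, IsOpen N ∧ x ∈ N ∧ ∀ z ∈ N, ∃ ξ : X, ξ ⤳ x ∧ ξ ⤳ z := by
  obtain ⟨_, ⟨U, hU, rfl⟩, hxU, -⟩ := X.isBasis_affineOpens.exists_subset_of_mem_open
    (Set.mem_univ x) isOpen_univ
  haveI : IsNoetherianRing Γ(X, U) := IsLocallyNoetherian.component_noetherian ⟨U, hU⟩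
  have hrange : Set.range hU.fromSpec = U := hU.range_fromSpec
  obtain ⟨q, rfl⟩ : x ∈ Set.range hU.fromSpec := by rw [hrange]; exact hxU
  obtain ⟨N, hNo, hqN, hN⟩ := exists_open_nhd_generizations Γ(X, U) q
  refine ⟨hU.fromSpec '' N, hU.fromSpec.isOpenEmbedding.isOpenMap N hNo, ⟨q, hqN, rfl⟩, ?_⟩
  rintro _ ⟨z, hz, rfl⟩
  obtain ⟨ξ, h1, h2⟩ := hN z hz
  exact ⟨hU.fromSpec ξ, h1.map hU.fromSpec.continuous, h2.map hU.fromSpec.continuous⟩

/-- A point without proper generizations lies in the interior of its closure. -/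
theorem mem_interior_closure_of_maximal (X : Scheme.{u}) [IsLocallyNoetherian X] (η : X)
    (hη : ∀ ξ : X, ξ ⤳ η → ξ = η) : η ∈ interior (closure ({η} : Set X)) := by
  obtain ⟨N, hNo, hηN, hN⟩ := exists_open_nhd_generizations_scheme X η
  refine mem_interior.mpr ⟨N, ?_, hNo, hηN⟩
  intro z hz
  obtain ⟨ξ, h1, h2⟩ := hN z hz
  rw [hη ξ h1] at h2
  exact specializes_iff_mem_closure.mp h2

/-- A point in the closure of an open set has a generization in the open set. -/
theorem exists_specializes_of_mem_closure (X : Scheme.{u}) [IsLocallyNoetherian X] (x : X)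
    (V : Set X) (hV : IsOpen V) (hx : x ∈ closure V) : ∃ x' ∈ V, x' ⤳ x := by
  obtain ⟨N, hNo, hxN, hN⟩ := exists_open_nhd_generizations_scheme X x
  obtain ⟨z, hzN, hzV⟩ := mem_closure_iff.mp hx N hNo hxN
  obtain ⟨ξ, h1, h2⟩ := hN z hzN
  exact ⟨ξ, h2.mem_open hV hzV, h1⟩

end Groth.Agent.H57.LocNoethTop
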