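import Mathlib
import Groth.Prelude.Def_Found
import Groth.Prelude.Def_EGA4b
import Groth.Agent.S0600
import Groth.Agent.S2617
import Groth.Agent.S2622
import Groth.Agent.H26.RegHomBaseChange
import Groth.Agent.H26.GorRegHom
import Groth.Agent.H72.RegLocusDescent
import Groth.Agent.Lead.CompletionIAdic

/-!
# A Noetherian local G-ring is J-2 (Matsumura, Theorem 76)

* `isJ2_of_isLocalRing_of_isGRing`
-/

set_option autoImplicit false
set_option linter.style.haveILetI false
set_option linter.unusedSectionVars false
universe u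

namespace Groth.Agent.H57.LocalGRingJ2

open IsLocalRing TensorProduct

/-- The generic point of a domain lies in the regular locus. -/
theorem bot_mem_regLocus (B : Type u) [CommRing B] [IsDomain B] :
    (⟨⊥, Ideal.isPrime_bot⟩ : PrimeSpectrum B) ∈ EGA4.regLocus B := by
  show IsRegularLocalRing (Localization.AtPrime (⊥ : Ideal B))
  let : Field (Localization.AtPrime (⊥ : Ideal B)) := IsField.toField <| by
    simp [IsLocalRing.isField_iff_maximalIdeal_eq, ← Localization.AtPrime.map_eq_maximalIdeal]
  infer_instance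

/-- A Noetherian local G-ring is J-2. -/
theorem isJ2_of_isLocalRing_of_isGRing (A : Type u) [CommRing A] [IsLocalRing A]
    (hA : CAlg.IsGRing A) : EGA4.IsJ2 A := by
  haveI : IsNoetherianRing A := hA.1
  rw [Groth.Agent.S2617.result A]
  intro A' _ _ _ hfin
  have hne : maximalIdeal A ≠ ⊤ := Ideal.IsPrime.ne_top inferInstance
  have hfg : (maximalIdeal A).FG := Ideal.fg_of_isNoetherianRing _
  haveI hRloc : IsLocalRing (AdicCompletion (maximalIdeal A) A) :=
    Groth.Agent.Lead.RLR.isLocalRing_adicCompletion A _ hne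
  haveI hRnoeth : IsNoetherianRing (AdicCompletion (maximalIdeal A) A) :=
    Groth.Agent.Lead.RLR.isNoetherianRing_adicCompletion' A _
  haveI hRlh : IsLocalHom (algebraMap A (AdicCompletion (maximalIdeal A) A)) :=
    Groth.Agent.Lead.RLR.isLocalHom_algebraMap_adicCompletion A _ hne
  have hmax : maximalIdeal (AdicCompletion (maximalIdeal A) A) =
      (maximalIdeal A).map (algebraMap A (AdicCompletion (maximalIdeal A) A)) :=
    Groth.Agent.Lead.RLR.maximalIdeal_adicCompletion_eq_map A _ hne
  haveI hRff : Module.FaithfullyFlat A (AdicCompletion (maximalIdeal A) A) :=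
    Module.FaithfullyFlat.of_flat_of_isLocalHom
  haveI hRc : IsAdicComplete (maximalIdeal (AdicCompletion (maximalIdeal A) A))
      (AdicCompletion (maximalIdeal A) A) := by
    rw [hmax]
    exact AdicCompletion.isAdicComplete_self _ hfg
  have hreg : CAlg.IsRegularHom A (AdicCompletion (maximalIdeal A) A) :=
    Groth.Agent.S0600.result A hA _
  set R := AdicCompletion (maximalIdeal A) A with hR
  haveI : Module.Finite A A' := hfin
  have h1 : CAlg.IsRegularHom A' (A' ⊗[A] R) :=
    Groth.Agent.H26.RegHomBaseChange.isRegularHom_baseChange_of_essFiniteType A R A' hreg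
  haveI : IsNoetherianRing A' := IsNoetherianRing.of_finite A A'
  -- `A' ⊗ R` is finite over `R`
  letI : Algebra R (A' ⊗[A] R) := Algebra.TensorProduct.rightAlgebra
  haveI hfinR : Module.Finite R (A' ⊗[A] R) :=
    Module.Finite.of_surjective
      (Algebra.TensorProduct.commRight A R A').toLinearEquiv.toLinearMap
      (Algebra.TensorProduct.commRight A R A').surjective
  haveI : IsNoetherianRing (A' ⊗[A] R) := IsNoetherianRing.of_finite R (A' ⊗[A] R)
  have hJ2 : EGA4.IsJ2 R := Groth.Agent.S2622.result R
  have hopen : IsOpen (EGA4.regLocus (A' ⊗[A] R)) := hJ2 (A' ⊗[A] R) inferInstance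
  haveI : Module.FaithfullyFlat A' (A' ⊗[A] R) := inferInstance
  have hopen' : IsOpen (EGA4.regLocus A') :=
    Groth.Agent.H72.RegLocusDescent.isOpen_regLocus_of_faithfullyFlat A' (A' ⊗[A] R)
      (fun p _ => Groth.Agent.H26.GorRegHom.isRegularRing_fiber_of_isRegularHom _ _ h1 p) hopen
  exact ⟨EGA4.regLocus A', hopen', ⟨_, bot_mem_regLocus A'⟩, subset_rfl⟩

end Groth.Agent.H57.LocalGRingJ2
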