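import Mathlib

set_option autoImplicit false

namespace Groth.Agent.H57

universe w v u
open CategoryTheory Abelian Limits

variable {C : Type u} [Category.{v} C] [Abelian C] [HasExt.{w} C]

omit [HasExt.{w} C] in
/-- `0 → Z(M) → M.X₂ → M.X₃ → 0` for a short complex with `g` epi. -/
lemma cycles_shortExact (M : ShortComplex C) [Epi M.g] :
    (ShortComplex.mk M.iCycles M.g M.iCycles_g).ShortExact :=
  ShortComplex.ShortExact.mk'
    (ShortComplex.exact_of_f_is_kernel _ M.cyclesIsKernel) inferInstance inferInstance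

omit [HasExt.{w} C] in
/-- `0 → M.X₁ → Z(M) → H(M) → 0` for a short complex with `f` mono. -/
lemma homology_shortExact (M : ShortComplex C) [Mono M.f] :
    (ShortComplex.mk M.toCycles M.homologyπ M.toCycles_comp_homologyπ).ShortExact := by
  have : Mono M.toCycles := mono_of_mono_fac M.toCycles_i
  exact ShortComplex.ShortExact.mk'
    (ShortComplex.exact_of_g_is_cokernel _ M.homologyIsCokernel) inferInstance inferInstance

/-- Extension along a mono with vanishing `Ext¹` of the cokernel. -/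
lemma exists_extension {S : ShortComplex C} (hS : S.ShortExact) {Y : C}
    (h : Subsingleton (Ext S.X₃ Y 1)) (a : S.X₁ ⟶ Y) : ∃ b : S.X₂ ⟶ Y, S.f ≫ b = a := by
  obtain ⟨x₂, hx₂⟩ := Ext.contravariant_sequence_exact₁ hS Y (Ext.mk₀ a) (n₁ := 1) (by lia)
    (Subsingleton.elim _ _)
  obtain ⟨b, rfl⟩ := (Ext.mk₀_bijective S.X₂ Y).2 x₂
  refine ⟨b, ?_⟩
  rw [Ext.mk₀_comp_mk₀] at hx₂
  exact (Ext.mk₀_bijective S.X₁ Y).1 hx₂

/-- Lifting along an epi with vanishing `Ext¹` into the kernel. -/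
lemma exists_lifting {S : ShortComplex C} (hS : S.ShortExact) {X : C}
    (h : Subsingleton (Ext X S.X₁ 1)) (a : X ⟶ S.X₃) : ∃ b : X ⟶ S.X₂, b ≫ S.g = a := by
  obtain ⟨x₂, hx₂⟩ := Ext.covariant_sequence_exact₃ X hS (Ext.mk₀ a) (n₁ := 1) (by lia)
    (Subsingleton.elim _ _)
  obtain ⟨b, rfl⟩ := (Ext.mk₀_bijective X S.X₂).2 x₂
  refine ⟨b, ?_⟩
  rw [Ext.mk₀_comp_mk₀] at hx₂
  exact (Ext.mk₀_bijective X S.X₃).1 hx₂

/-- Vanishing of `Ext¹(S.X₁, Y)` from `Ext¹(S.X₂, Y) = 0` and `Ext²(S.X₃, Y) = 0`. -/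
lemma subsingleton_ext_one_left {S : ShortComplex C} (hS : S.ShortExact) {Y : C}
    (h₂ : Subsingleton (Ext S.X₂ Y 1)) (h₃ : Subsingleton (Ext S.X₃ Y 2)) :
    Subsingleton (Ext S.X₁ Y 1) := by
  refine ⟨fun x y => ?_⟩
  have key : ∀ z : Ext S.X₁ Y 1, z = 0 := by
    intro z
    obtain ⟨x₂, hx₂⟩ := Ext.contravariant_sequence_exact₁ hS Y z (n₁ := 2) (by lia)
      (Subsingleton.elim _ _)
    rw [← hx₂, Subsingleton.elim x₂ 0, Ext.comp_zero]
  rw [key x, key y]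

/-- Vanishing of `Hom(S.X₁, Y)` from `Hom(S.X₂, Y) = 0` and `Ext¹(S.X₃, Y) = 0`. -/
lemma hom_left_eq_zero {S : ShortComplex C} (hS : S.ShortExact) {Y : C}
    (h₂ : ∀ f : S.X₂ ⟶ Y, f = 0) (h₃ : Subsingleton (Ext S.X₃ Y 1)) (a : S.X₁ ⟶ Y) : a = 0 := by
  obtain ⟨b, hb⟩ := exists_extension hS h₃ a
  rw [← hb, h₂ b, comp_zero]

end Groth.Agent.H57
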