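import Mathlib
import Groth.Prelude.Def_W4bk4hartshdef114Obs

set_option autoImplicit false

namespace Groth.Agent.H57
open W4bk4hartshdef114

universe u

section
variable (k : Type u) [Field k]

lemma smallExt_mem_nonunits {C' : Type u} [CommRing C'] [Algebra k C'] {J : Ideal C'}
    (h : IsSmallExt k C' J) {j : C'} (hj : j ∈ J) : j ∈ nonunits C' := by
  intro hu
  exact h.2.2.2.2 (Ideal.eq_top_of_isUnit_mem J hj hu)

/-- A quotient of a small extension by a sub-ideal of `J` is a small extension. -/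
lemma isSmallExt_quot {C' : Type u} [CommRing C'] [Algebra k C'] {J K : Ideal C'}
    (h : IsSmallExt k C' J) (hK : K ≤ J) :
    IsSmallExt k (C' ⧸ K) (J.map (Ideal.Quotient.mkₐ k K)) := by
  obtain ⟨hloc, hart, hres, hann, hne⟩ := h
  have hKne : K ≠ ⊤ := fun hKt => hne (top_le_iff.1 (hKt ▸ hK))
  have hnt : Nontrivial (C' ⧸ K) := Ideal.Quotient.nontrivial_iff.2 hKne
  have hloc' : IsLocalRing (C' ⧸ K) :=
    IsLocalRing.of_surjective' (Ideal.Quotient.mk K) Ideal.Quotient.mk_surjective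
  -- nonunits lift to nonunits
  have hnonunit : ∀ x : C', Ideal.Quotient.mk K x ∈ nonunits (C' ⧸ K) → x ∈ nonunits C' := by
    intro x hx hu
    exact hx (hu.map (Ideal.Quotient.mk K))
  have hnonunit' : ∀ x : C', x ∈ nonunits C' → Ideal.Quotient.mk K x ∈ nonunits (C' ⧸ K) := by
    intro x hx hu
    obtain ⟨y, hy⟩ := hu.exists_right_inv
    obtain ⟨y', rfl⟩ := Ideal.Quotient.mk_surjective y
    rw [← map_mul, ← map_one (Ideal.Quotient.mk K), Ideal.Quotient.eq] at hy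
    have h1 : x * y' - 1 ∈ nonunits C' :=
      smallExt_mem_nonunits k ⟨hloc, hart, hres, hann, hne⟩ (hK hy)
    have h2 : x * y' ∈ nonunits C' := by
      intro hu'
      exact hx (isUnit_of_mul_isUnit_left hu')
    have h3 : (1 : C') ∈ nonunits C' := by
      have := (IsLocalRing.maximalIdeal C').sub_mem
        ((IsLocalRing.mem_maximalIdeal _).2 h2) ((IsLocalRing.mem_maximalIdeal _).2 h1)
      rw [sub_sub_cancel] at this
      exact (IsLocalRing.mem_maximalIdeal _).1 this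
    exact h3 isUnit_one
  refine ⟨hloc', inferInstance, ?_, ?_, ?_⟩
  · intro x
    obtain ⟨x', rfl⟩ := Ideal.Quotient.mk_surjective x
    obtain ⟨c, hc⟩ := hres x'
    refine ⟨c, ?_⟩
    have := hnonunit' _ hc
    rwa [map_sub] at this
  · intro x j hx hj
    obtain ⟨x', rfl⟩ := Ideal.Quotient.mk_surjective x
    have hj' : j ∈ J.map (Ideal.Quotient.mk K) := hj
    rw [Ideal.mem_map_iff_of_surjective _ Ideal.Quotient.mk_surjective] at hj'
    obtain ⟨j', hj'J, rfl⟩ := hj'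
    rw [← map_mul, hann x' j' (hnonunit x' hx) hj'J, map_zero]
  · intro htop
    have h1 : (1 : C' ⧸ K) ∈ J.map (Ideal.Quotient.mk K) := by
      have : (1 : C' ⧸ K) ∈ J.map (Ideal.Quotient.mkₐ k K) := htop ▸ Submodule.mem_top
      exact this
    rw [Ideal.mem_map_iff_of_surjective _ Ideal.Quotient.mk_surjective] at h1
    obtain ⟨j, hjJ, hj1⟩ := h1
    rw [← map_one (Ideal.Quotient.mk K), Ideal.Quotient.eq] at hj1
    apply hne
    rw [Ideal.eq_top_iff_one]
    have := J.sub_mem hjJ (hK hj1)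
    rwa [sub_sub_cancel] at this

end

section
variable (k : Type u) [Field k]
open IsLocalRing

lemma isSmallExt_of_local (P : Type u) [CommRing P] [IsLocalRing P] [IsNoetherianRing P]
    [Algebra k P]
    (hres : Function.Surjective (algebraMap k (IsLocalRing.ResidueField P)))
    (𝔟 𝔠 : Ideal P) (n : ℕ) (hn : maximalIdeal P ^ n ≤ 𝔟) (h𝔟 : 𝔟 ≤ maximalIdeal P)
    (h𝔠 : 𝔠 ≤ maximalIdeal P) (hmul : maximalIdeal P * 𝔠 ≤ 𝔟) :
    IsSmallExt k (P ⧸ 𝔟) (𝔠.map (Ideal.Quotient.mk 𝔟)) := by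
  have h𝔟ne : 𝔟 ≠ ⊤ := fun h => (maximalIdeal.isMaximal P).ne_top (top_le_iff.1 (h ▸ h𝔟))
  have hnt : Nontrivial (P ⧸ 𝔟) := Ideal.Quotient.nontrivial_iff.2 h𝔟ne
  have hloc : IsLocalRing (P ⧸ 𝔟) :=
    IsLocalRing.of_surjective' (Ideal.Quotient.mk 𝔟) Ideal.Quotient.mk_surjective
  -- nonunits of the quotient are exactly images of the maximal ideal
  have hnonunit : ∀ x : P, Ideal.Quotient.mk 𝔟 x ∈ nonunits (P ⧸ 𝔟) → x ∈ maximalIdeal P := by
    intro x hx
    rw [mem_maximalIdeal]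
    intro hu
    exact hx (hu.map (Ideal.Quotient.mk 𝔟))
  have hnonunit' : ∀ x : P, x ∈ maximalIdeal P → Ideal.Quotient.mk 𝔟 x ∈ nonunits (P ⧸ 𝔟) := by
    intro x hx hu
    obtain ⟨y, hy⟩ := hu.exists_right_inv
    obtain ⟨y', rfl⟩ := Ideal.Quotient.mk_surjective y
    rw [← map_mul, ← map_one (Ideal.Quotient.mk 𝔟), Ideal.Quotient.eq] at hy
    have h1 : x * y' - 1 ∈ maximalIdeal P := h𝔟 hy
    have h2 : x * y' ∈ maximalIdeal P := Ideal.mul_mem_right _ _ hx
    have h3 := (maximalIdeal P).sub_mem h2 h1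
    rw [sub_sub_cancel] at h3
    exact (mem_maximalIdeal _).1 h3 isUnit_one
  have hart : IsArtinianRing (P ⧸ 𝔟) := by
    rw [isArtinianRing_iff_isNilpotent_maximalIdeal]
    refine ⟨n, ?_⟩
    rw [Ideal.zero_eq_bot, eq_bot_iff]
    have hle : maximalIdeal (P ⧸ 𝔟) ≤ (maximalIdeal P).map (Ideal.Quotient.mk 𝔟) := by
      intro x hx
      obtain ⟨x', rfl⟩ := Ideal.Quotient.mk_surjective x
      exact Ideal.mem_map_of_mem _ (hnonunit x' ((mem_maximalIdeal _).1 hx))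
    calc maximalIdeal (P ⧸ 𝔟) ^ n ≤ ((maximalIdeal P).map (Ideal.Quotient.mk 𝔟)) ^ n :=
          Ideal.pow_right_mono hle n
      _ = (maximalIdeal P ^ n).map (Ideal.Quotient.mk 𝔟) := (Ideal.map_pow _ _ _).symm
      _ ≤ 𝔟.map (Ideal.Quotient.mk 𝔟) := Ideal.map_mono hn
      _ = ⊥ := Ideal.map_quotient_self 𝔟
  refine ⟨hloc, hart, ?_, ?_, ?_⟩
  · intro x
    obtain ⟨x', rfl⟩ := Ideal.Quotient.mk_surjective x
    obtain ⟨c, hc⟩ := hres (residue P x')
    refine ⟨c, ?_⟩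
    have h1 : x' - algebraMap k P c ∈ maximalIdeal P := by
      rw [← Ideal.Quotient.eq_zero_iff_mem]
      have h2 : residue P (x' - algebraMap k P c) = 0 := by
        rw [map_sub, ← hc, IsScalarTower.algebraMap_apply k P (ResidueField P),
          ResidueField.algebraMap_eq, sub_self]
      exact h2
    have := hnonunit' _ h1
    rw [map_sub] at this
    exact this
  · intro x j hx hj
    obtain ⟨x', rfl⟩ := Ideal.Quotient.mk_surjective x
    rw [Ideal.mem_map_iff_of_surjective _ Ideal.Quotient.mk_surjective] at hj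
    obtain ⟨j', hj', rfl⟩ := hj
    rw [← map_mul, Ideal.Quotient.eq_zero_iff_mem]
    exact hmul (Ideal.mul_mem_mul (hnonunit x' hx) hj')
  · intro htop
    have h1 : (1 : P ⧸ 𝔟) ∈ 𝔠.map (Ideal.Quotient.mk 𝔟) := htop ▸ Submodule.mem_top
    rw [Ideal.mem_map_iff_of_surjective _ Ideal.Quotient.mk_surjective] at h1
    obtain ⟨j, hj, hj1⟩ := h1
    rw [← map_one (Ideal.Quotient.mk 𝔟), Ideal.Quotient.eq] at hj1
    have := (maximalIdeal P).sub_mem (h𝔠 hj) (h𝔟 hj1)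
    rw [sub_sub_cancel] at this
    exact (mem_maximalIdeal _).1 this isUnit_one

end

section
variable (k : Type u) [Field k]
open IsLocalRing

/-- Two algebra maps into a small extension that agree modulo `J` agree on `m²`. -/
lemma eq_on_sq_of_smallExt {R' : Type u} [CommRing R'] [Algebra k R'] {J' : Ideal R'}
    (h : IsSmallExt k R' J') (P : Type u) [CommRing P] [IsLocalRing P] [Algebra k P]
    (φ π : P →ₐ[k] R') (hπ : ∀ x ∈ maximalIdeal P, π x ∈ nonunits R')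
    (hdiff : ∀ p, φ p - π p ∈ J') :
    ∀ x ∈ maximalIdeal P ^ 2, φ x = π x := by
  obtain ⟨hloc, hart, hres, hann, hne⟩ := h
  have hJnon : ∀ j ∈ J', j ∈ nonunits R' := fun j hj =>
    smallExt_mem_nonunits k ⟨hloc, hart, hres, hann, hne⟩ hj
  have hφ : ∀ x ∈ maximalIdeal P, φ x ∈ nonunits R' := by
    intro x hx
    have h1 := (maximalIdeal R').add_mem ((mem_maximalIdeal _).2 (hπ x hx))
      ((mem_maximalIdeal _).2 (hJnon _ (hdiff x)))
    rw [add_sub_cancel] at h1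
    exact (mem_maximalIdeal _).1 h1
  intro x hx
  rw [pow_two] at hx
  refine Submodule.mul_induction_on hx ?_ ?_
  · intro a ha b hb
    have h1 : φ (a * b) - π (a * b) = φ a * (φ b - π b) + π b * (φ a - π a) := by
      rw [map_mul, map_mul]; ring
    have h2 : φ a * (φ b - π b) = 0 := hann _ _ (hφ a ha) (hdiff b)
    have h3 : π b * (φ a - π a) = 0 := hann _ _ (hπ b hb) (hdiff a)
    rw [h2, h3, add_zero] at h1
    exact sub_eq_zero.1 h1
  · intro a b ha hb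
    rw [map_add, map_add, ha, hb]

end

section
variable (k : Type u) [Field k]
open IsLocalRing TensorProduct

lemma exists_generators_of_obs (P : Type u) [CommRing P] [IsLocalRing P] [IsNoetherianRing P]
    [Algebra k P]
    (hres : Function.Surjective (algebraMap k (IsLocalRing.ResidueField P)))
    (I : Ideal P) (hI : I ≤ maximalIdeal P ^ 2)
    (V : Type u) [AddCommGroup V] [Module k V] [Module.Finite k V]
    (T : ObsTheory k (P ⧸ I) V)
    (𝔟 : Ideal P) (n : ℕ) (hn : maximalIdeal P ^ n ≤ 𝔟) (h𝔟 : 𝔟 ≤ maximalIdeal P)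
    (hmul : maximalIdeal P * I ≤ 𝔟) :
    ∃ g : Fin (Module.finrank k V) → P, (∀ i, g i ∈ I) ∧ I ≤ Ideal.span (Set.range g) ⊔ 𝔟 := by
  classical
  have hIm : I ≤ maximalIdeal P := hI.trans (Ideal.pow_le_self two_ne_zero)
  have hsmall : IsSmallExt k (P ⧸ 𝔟) (I.map (Ideal.Quotient.mk 𝔟)) :=
    isSmallExt_of_local k P hres 𝔟 I n hn h𝔟 hIm hmul
  -- the map u
  let u : (P ⧸ I) →ₐ[k] (P ⧸ 𝔟) ⧸ (I.map (Ideal.Quotient.mk 𝔟)) :=
    Ideal.Quotient.liftₐ I ((Ideal.Quotient.mkₐ k (I.map (Ideal.Quotient.mk 𝔟))).comp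
      (Ideal.Quotient.mkₐ k 𝔟)) (by
        intro a ha
        change Ideal.Quotient.mk _ (Ideal.Quotient.mk 𝔟 a) = 0
        rw [Ideal.Quotient.eq_zero_iff_mem]
        exact Ideal.mem_map_of_mem _ ha)
  have hu : ∀ p : P, u (Ideal.Quotient.mk I p) =
      Ideal.Quotient.mk _ (Ideal.Quotient.mk 𝔟 p) := fun p => rfl
  let b := Module.finBasis k V
  obtain ⟨c, hc⟩ := TensorProduct.eq_repr_basis_left b
    (T.obs (P ⧸ 𝔟) (I.map (Ideal.Quotient.mk 𝔟)) u)
  let K : Ideal (P ⧸ 𝔟) := Ideal.span (Set.range fun i => ((c i : I.map (Ideal.Quotient.mk 𝔟)) : P ⧸ 𝔟))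
  have hK : K ≤ I.map (Ideal.Quotient.mk 𝔟) := by
    rw [Ideal.span_le]
    rintro _ ⟨i, rfl⟩
    exact (c i).2
  have hcK : ∀ i, ((c i : I.map (Ideal.Quotient.mk 𝔟)) : P ⧸ 𝔟) ∈ K := fun i =>
    Ideal.subset_span ⟨i, rfl⟩
  have h0 : LinearMap.lTensor V (idealToQuot k (I.map (Ideal.Quotient.mk 𝔟)) K)
      (T.obs (P ⧸ 𝔟) (I.map (Ideal.Quotient.mk 𝔟)) u) = 0 := by
    rw [← hc, Finsupp.sum, map_sum]
    apply Finset.sum_eq_zero
    intro i _
    rw [LinearMap.lTensor_tmul]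
    have : idealToQuot k (I.map (Ideal.Quotient.mk 𝔟)) K (c i) = 0 := by
      apply Subtype.ext
      change Ideal.Quotient.mk K _ = 0
      rw [Ideal.Quotient.eq_zero_iff_mem]
      exact hcK i
    rw [this, tmul_zero]
  have hsmall' := isSmallExt_quot k hsmall hK
  have hobs := T.obs_quot (P ⧸ 𝔟) (I.map (Ideal.Quotient.mk 𝔟)) K hsmall hK u
  rw [h0] at hobs
  obtain ⟨u', hu'⟩ := (T.obs_eq_zero_iff ((P ⧸ 𝔟) ⧸ K) _ hsmall' _).1 hobs
  -- the two maps
  let φ : P →ₐ[k] (P ⧸ 𝔟) ⧸ K := u'.comp (Ideal.Quotient.mkₐ k I)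
  let π : P →ₐ[k] (P ⧸ 𝔟) ⧸ K := (Ideal.Quotient.mkₐ k K).comp (Ideal.Quotient.mkₐ k 𝔟)
  have hπ : ∀ x ∈ maximalIdeal P, π x ∈ nonunits ((P ⧸ 𝔟) ⧸ K) := by
    intro x hx hunit
    -- a unit in the double quotient lifts to a unit
    have hloc := hsmall.1
    have hKne : K ≠ ⊤ := fun hKt => hsmall.2.2.2.2 (top_le_iff.1 (hKt ▸ hK))
    have h𝔟ne : 𝔟 ≠ ⊤ := fun h => (maximalIdeal.isMaximal P).ne_top (top_le_iff.1 (h ▸ h𝔟))
    have h1 : IsUnit (Ideal.Quotient.mk 𝔟 x) := by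
      by_contra hnu
      have hmem : Ideal.Quotient.mk 𝔟 x ∈ maximalIdeal (P ⧸ 𝔟) := (mem_maximalIdeal _).2 hnu
      obtain ⟨y, hy⟩ := hunit.exists_right_inv
      obtain ⟨y', rfl⟩ := Ideal.Quotient.mk_surjective y
      change Ideal.Quotient.mk K (Ideal.Quotient.mk 𝔟 x) * Ideal.Quotient.mk K y' = 1 at hy
      rw [← map_mul, ← map_one (Ideal.Quotient.mk K), Ideal.Quotient.eq] at hy
      have hKm : K ≤ maximalIdeal (P ⧸ 𝔟) := le_maximalIdeal hKne
      have h2 := (maximalIdeal (P ⧸ 𝔟)).sub_mem (Ideal.mul_mem_right y' _ hmem) (hKm hy)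
      rw [sub_sub_cancel] at h2
      exact (mem_maximalIdeal _).1 h2 isUnit_one
    obtain ⟨y, hy⟩ := h1.exists_right_inv
    obtain ⟨y', rfl⟩ := Ideal.Quotient.mk_surjective y
    rw [← map_mul, ← map_one (Ideal.Quotient.mk 𝔟), Ideal.Quotient.eq] at hy
    have h2 := (maximalIdeal P).sub_mem (Ideal.mul_mem_right y' _ hx) (h𝔟 hy)
    rw [sub_sub_cancel] at h2
    exact (mem_maximalIdeal _).1 h2 isUnit_one
  have hdiff : ∀ p, φ p - π p ∈ (I.map (Ideal.Quotient.mk 𝔟)).map (Ideal.Quotient.mkₐ k K) := by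
    intro p
    rw [← Ideal.Quotient.eq]
    have h1 := AlgHom.congr_fun hu' (Ideal.Quotient.mk I p)
    simp only [AlgHom.comp_apply] at h1
    change Ideal.Quotient.mk _ (u' (Ideal.Quotient.mk I p)) = _
    change Ideal.Quotient.mk _ (u' (Ideal.Quotient.mk I p)) = _ at h1
    rw [h1, hu]
    rfl
  have heq := eq_on_sq_of_smallExt k hsmall' P φ π hπ hdiff
  have hIK : ∀ x ∈ I, Ideal.Quotient.mk 𝔟 x ∈ K := by
    intro x hx
    have h1 := heq x (hI hx)
    have h2 : φ x = 0 := by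
      change u' (Ideal.Quotient.mk I x) = 0
      rw [Ideal.Quotient.eq_zero_iff_mem.2 hx, map_zero]
    rw [h2] at h1
    have h3 : Ideal.Quotient.mk K (Ideal.Quotient.mk 𝔟 x) = 0 := h1.symm
    exact Ideal.Quotient.eq_zero_iff_mem.1 h3
  -- choose generators
  have hex : ∀ i, ∃ g ∈ I, Ideal.Quotient.mk 𝔟 g = ((c i : I.map (Ideal.Quotient.mk 𝔟)) : P ⧸ 𝔟) :=
    fun i => (Ideal.mem_map_iff_of_surjective _ Ideal.Quotient.mk_surjective).1 (c i).2
  choose g hgI hg using hex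
  refine ⟨g, hgI, ?_⟩
  intro x hx
  have h1 := hIK x hx
  have hKmap : K = (Ideal.span (Set.range g)).map (Ideal.Quotient.mk 𝔟) := by
    rw [Ideal.map_span, ← Set.range_comp]
    have hfun : (fun i => ((c i : I.map (Ideal.Quotient.mk 𝔟)) : P ⧸ 𝔟)) =
        (Ideal.Quotient.mk 𝔟) ∘ g := funext fun i => (hg i).symm
    change Ideal.span (Set.range fun i => ((c i : I.map (Ideal.Quotient.mk 𝔟)) : P ⧸ 𝔟)) = _
    rw [hfun]
  rw [hKmap] at h1
  have h2 : x ∈ ((Ideal.span (Set.range g)).map (Ideal.Quotient.mk 𝔟)).comap (Ideal.Quotient.mk 𝔟) :=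
    h1
  rw [Ideal.comap_map_of_surjective _ Ideal.Quotient.mk_surjective, ← RingHom.ker_eq_comap_bot,
    Ideal.mk_ker] at h2
  exact h2

end

end Groth.Agent.H57
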