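import Mathlib.CategoryTheory.Monoidal.Braided.Basic
import Mathlib.CategoryTheory.Monoidal.NaturalTransformation
import Mathlib.CategoryTheory.Groupoid
import Mathlib.CategoryTheory.Equivalence
import Mathlib.CategoryTheory.Whiskering

/-!
# The free commutative Picard groupoid on a symmetric monoidal groupoid (generators and relations)

Objects: formal expressions in objects of `A`, a unit, tensor products and formal inverses.
Morphisms: formal composites of structural maps, images of morphisms of `A`, the comparison maps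
making `A → V` monoidal and the contraction maps `X ⊗ X⁻¹ ≅ 𝟙`, modulo the relations of a symmetric
monoidal category and of a braided monoidal functor.
-/

set_option autoImplicit false

universe v u

namespace Groth.Agent.H57.Pic

open CategoryTheory MonoidalCategory

section Defs

variable (A : Type u)

set_option genSizeOfSpec false in
set_option genInjectivity false in
/-- Objects of the free Picard groupoid. -/
inductive FObj : Type u
  | of : A → FObj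
  | unit : FObj
  | tensor : FObj → FObj → FObj
  | inv : FObj → FObj

variable {A}
variable [Category.{v} A] [MonoidalCategory A]

/-- Formal morphisms. -/
inductive FHom : FObj A → FObj A → Type (max u v)
  | id (X : FObj A) : FHom X X
  | of {a b : A} (f : a ⟶ b) : FHom (.of a) (.of b)
  | α_hom (X Y Z : FObj A) : FHom ((X.tensor Y).tensor Z) (X.tensor (Y.tensor Z))
  | α_inv (X Y Z : FObj A) : FHom (X.tensor (Y.tensor Z)) ((X.tensor Y).tensor Z)
  | l_hom (X : FObj A) : FHom (FObj.unit.tensor X) X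
  | l_inv (X : FObj A) : FHom X (FObj.unit.tensor X)
  | ρ_hom (X : FObj A) : FHom (X.tensor .unit) X
  | ρ_inv (X : FObj A) : FHom X (X.tensor .unit)
  | β (X Y : FObj A) : FHom (X.tensor Y) (Y.tensor X)
  | ε_hom : FHom .unit (.of (𝟙_ A))
  | ε_inv : FHom (.of (𝟙_ A)) .unit
  | μ_hom (a b : A) : FHom ((FObj.of a).tensor (.of b)) (.of (a ⊗ b))
  | μ_inv (a b : A) : FHom (.of (a ⊗ b)) ((FObj.of a).tensor (.of b))
  | η_hom (X : FObj A) : FHom (X.tensor X.inv) .unit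
  | η_inv (X : FObj A) : FHom .unit (X.tensor X.inv)
  | comp {X Y Z : FObj A} (f : FHom X Y) (g : FHom Y Z) : FHom X Z
  | whiskerLeft (X : FObj A) {Y₁ Y₂ : FObj A} (f : FHom Y₁ Y₂) : FHom (X.tensor Y₁) (X.tensor Y₂)
  | whiskerRight {X₁ X₂ : FObj A} (f : FHom X₁ X₂) (Y : FObj A) : FHom (X₁.tensor Y) (X₂.tensor Y)
  | tensor {W X Y Z : FObj A} (f : FHom W Y) (g : FHom X Z) : FHom (W.tensor X) (Y.tensor Z)

local infixr:10 " ⟶ᶠ " => FHom

variable [BraidedCategory A]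

/-- The relations. -/
inductive HomEquiv : ∀ {X Y : FObj A}, (X ⟶ᶠ Y) → (X ⟶ᶠ Y) → Prop
  | refl {X Y} (f : X ⟶ᶠ Y) : HomEquiv f f
  | symm {X Y} (f g : X ⟶ᶠ Y) : HomEquiv f g → HomEquiv g f
  | trans {X Y} {f g h : X ⟶ᶠ Y} : HomEquiv f g → HomEquiv g h → HomEquiv f h
  | comp {X Y Z} {f f' : X ⟶ᶠ Y} {g g' : Y ⟶ᶠ Z} :
      HomEquiv f f' → HomEquiv g g' → HomEquiv (f.comp g) (f'.comp g')
  | whiskerLeft (X) {Y Z} (f f' : Y ⟶ᶠ Z) :
      HomEquiv f f' → HomEquiv (f.whiskerLeft X) (f'.whiskerLeft X)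
  | whiskerRight {Y Z} (f f' : Y ⟶ᶠ Z) (X) :
      HomEquiv f f' → HomEquiv (f.whiskerRight X) (f'.whiskerRight X)
  | tensor {W X Y Z} {f f' : W ⟶ᶠ X} {g g' : Y ⟶ᶠ Z} :
      HomEquiv f f' → HomEquiv g g' → HomEquiv (f.tensor g) (f'.tensor g')
  | tensorHom_def {X₁ Y₁ X₂ Y₂} (f : X₁ ⟶ᶠ Y₁) (g : X₂ ⟶ᶠ Y₂) :
      HomEquiv (f.tensor g) ((f.whiskerRight X₂).comp (g.whiskerLeft Y₁))
  | comp_id {X Y} (f : X ⟶ᶠ Y) : HomEquiv (f.comp (FHom.id _)) f
  | id_comp {X Y} (f : X ⟶ᶠ Y) : HomEquiv ((FHom.id _).comp f) f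
  | assoc {X Y U V : FObj A} (f : X ⟶ᶠ U) (g : U ⟶ᶠ V) (h : V ⟶ᶠ Y) :
      HomEquiv ((f.comp g).comp h) (f.comp (g.comp h))
  | id_tensorHom_id {X Y} : HomEquiv ((FHom.id X).tensor (FHom.id Y)) (FHom.id _)
  | tensorHom_comp_tensorHom {X₁ Y₁ Z₁ X₂ Y₂ Z₂ : FObj A} (f₁ : X₁ ⟶ᶠ Y₁) (f₂ : X₂ ⟶ᶠ Y₂)
      (g₁ : Y₁ ⟶ᶠ Z₁) (g₂ : Y₂ ⟶ᶠ Z₂) :
    HomEquiv ((f₁.tensor f₂).comp (g₁.tensor g₂)) ((f₁.comp g₁).tensor (f₂.comp g₂))
  | whiskerLeft_id (X Y) : HomEquiv ((FHom.id Y).whiskerLeft X) (FHom.id (X.tensor Y))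
  | id_whiskerRight (X Y) : HomEquiv ((FHom.id X).whiskerRight Y) (FHom.id (X.tensor Y))
  | α_hom_inv {X Y Z} : HomEquiv ((FHom.α_hom X Y Z).comp (FHom.α_inv X Y Z)) (FHom.id _)
  | α_inv_hom {X Y Z} : HomEquiv ((FHom.α_inv X Y Z).comp (FHom.α_hom X Y Z)) (FHom.id _)
  | associator_naturality {X₁ X₂ X₃ Y₁ Y₂ Y₃} (f₁ : X₁ ⟶ᶠ Y₁) (f₂ : X₂ ⟶ᶠ Y₂) (f₃ : X₃ ⟶ᶠ Y₃) :
      HomEquiv (((f₁.tensor f₂).tensor f₃).comp (FHom.α_hom Y₁ Y₂ Y₃))
        ((FHom.α_hom X₁ X₂ X₃).comp (f₁.tensor (f₂.tensor f₃)))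
  | ρ_hom_inv {X} : HomEquiv ((FHom.ρ_hom X).comp (FHom.ρ_inv X)) (FHom.id _)
  | ρ_inv_hom {X} : HomEquiv ((FHom.ρ_inv X).comp (FHom.ρ_hom X)) (FHom.id _)
  | ρ_naturality {X Y} (f : X ⟶ᶠ Y) :
      HomEquiv ((f.whiskerRight .unit).comp (FHom.ρ_hom Y)) ((FHom.ρ_hom X).comp f)
  | l_hom_inv {X} : HomEquiv ((FHom.l_hom X).comp (FHom.l_inv X)) (FHom.id _)
  | l_inv_hom {X} : HomEquiv ((FHom.l_inv X).comp (FHom.l_hom X)) (FHom.id _)
  | l_naturality {X Y} (f : X ⟶ᶠ Y) :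
      HomEquiv ((f.whiskerLeft .unit).comp (FHom.l_hom Y)) ((FHom.l_hom X).comp f)
  | pentagon {W X Y Z} :
      HomEquiv
        (((FHom.α_hom W X Y).whiskerRight Z).comp
          ((FHom.α_hom W (X.tensor Y) Z).comp ((FHom.α_hom X Y Z).whiskerLeft W)))
        ((FHom.α_hom (W.tensor X) Y Z).comp (FHom.α_hom W X (Y.tensor Z)))
  | triangle {X Y} :
      HomEquiv ((FHom.α_hom X .unit Y).comp ((FHom.l_hom Y).whiskerLeft X))
        ((FHom.ρ_hom X).whiskerRight Y)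
  -- braiding
  | β_β (X Y) : HomEquiv ((FHom.β X Y).comp (FHom.β Y X)) (FHom.id _)
  | β_naturality_right (X) {Y Z} (f : Y ⟶ᶠ Z) :
      HomEquiv ((f.whiskerLeft X).comp (FHom.β X Z)) ((FHom.β X Y).comp (f.whiskerRight X))
  | β_naturality_left {X Y} (f : X ⟶ᶠ Y) (Z) :
      HomEquiv ((f.whiskerRight Z).comp (FHom.β Y Z)) ((FHom.β X Z).comp (f.whiskerLeft Z))
  | hexagon_forward (X Y Z) :
      HomEquiv ((FHom.α_hom X Y Z).comp ((FHom.β X (Y.tensor Z)).comp (FHom.α_hom Y Z X)))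
        (((FHom.β X Y).whiskerRight Z).comp ((FHom.α_hom Y X Z).comp ((FHom.β X Z).whiskerLeft Y)))
  | hexagon_reverse (X Y Z) :
      HomEquiv ((FHom.α_inv X Y Z).comp ((FHom.β (X.tensor Y) Z).comp (FHom.α_inv Z X Y)))
        (((FHom.β Y Z).whiskerLeft X).comp ((FHom.α_inv X Z Y).comp ((FHom.β X Z).whiskerRight Y)))
  -- the functor `of`
  | of_id (a : A) : HomEquiv (FHom.of (𝟙 a)) (FHom.id _)
  | of_comp {a b c : A} (f : a ⟶ b) (g : b ⟶ c) :
      HomEquiv (FHom.of (f ≫ g)) ((FHom.of f).comp (FHom.of g))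
  | ε_hom_inv : HomEquiv ((FHom.ε_hom (A := A)).comp FHom.ε_inv) (FHom.id _)
  | ε_inv_hom : HomEquiv ((FHom.ε_inv (A := A)).comp FHom.ε_hom) (FHom.id _)
  | μ_hom_inv (a b : A) : HomEquiv ((FHom.μ_hom a b).comp (FHom.μ_inv a b)) (FHom.id _)
  | μ_inv_hom (a b : A) : HomEquiv ((FHom.μ_inv a b).comp (FHom.μ_hom a b)) (FHom.id _)
  | μ_natural_left {a b : A} (f : a ⟶ b) (c : A) :
      HomEquiv (((FHom.of f).whiskerRight (.of c)).comp (FHom.μ_hom b c))
        ((FHom.μ_hom a c).comp (FHom.of (f ▷ c)))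
  | μ_natural_right {a b : A} (c : A) (f : a ⟶ b) :
      HomEquiv (((FHom.of f).whiskerLeft (.of c)).comp (FHom.μ_hom c b))
        ((FHom.μ_hom c a).comp (FHom.of (c ◁ f)))
  | μ_associativity (a b c : A) :
      HomEquiv (((FHom.μ_hom a b).whiskerRight (.of c)).comp
          ((FHom.μ_hom (a ⊗ b) c).comp (FHom.of (α_ a b c).hom)))
        ((FHom.α_hom (.of a) (.of b) (.of c)).comp
          (((FHom.μ_hom b c).whiskerLeft (.of a)).comp (FHom.μ_hom a (b ⊗ c))))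
  | left_unitality (a : A) :
      HomEquiv (FHom.l_hom (.of a))
        (((FHom.ε_hom).whiskerRight (.of a)).comp
          ((FHom.μ_hom (𝟙_ A) a).comp (FHom.of (λ_ a).hom)))
  | right_unitality (a : A) :
      HomEquiv (FHom.ρ_hom (.of a))
        (((FHom.ε_hom).whiskerLeft (.of a)).comp
          ((FHom.μ_hom a (𝟙_ A)).comp (FHom.of (ρ_ a).hom)))
  | μ_braided (a b : A) :
      HomEquiv ((FHom.μ_hom a b).comp (FHom.of (β_ a b).hom))
        ((FHom.β (.of a) (.of b)).comp (FHom.μ_hom b a))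
  -- contractions
  | η_hom_inv (X) : HomEquiv ((FHom.η_hom X).comp (FHom.η_inv X)) (FHom.id _)
  | η_inv_hom (X) : HomEquiv ((FHom.η_inv X).comp (FHom.η_hom X)) (FHom.id _)

instance setoidHom (X Y : FObj A) : Setoid (X ⟶ᶠ Y) :=
  ⟨HomEquiv, ⟨HomEquiv.refl, HomEquiv.symm _ _, HomEquiv.trans⟩⟩

open HomEquiv

instance categoryFObj : Category.{max u v} (FObj A) where
  Hom X Y := Quotient (setoidHom X Y)
  id X := ⟦FHom.id X⟧
  comp := Quotient.map₂ FHom.comp (fun _ _ hf _ _ hg ↦ HomEquiv.comp hf hg)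
  id_comp := by
    rintro X Y ⟨f⟩
    exact Quotient.sound (id_comp f)
  comp_id := by
    rintro X Y ⟨f⟩
    exact Quotient.sound (comp_id f)
  assoc := by
    rintro W X Y Z ⟨f⟩ ⟨g⟩ ⟨h⟩
    exact Quotient.sound (assoc f g h)

instance monoidalFObj : MonoidalCategory (FObj A) where
  tensorObj X Y := FObj.tensor X Y
  tensorHom := Quotient.map₂ FHom.tensor (fun _ _ hf _ _ hg ↦ HomEquiv.tensor hf hg)
  whiskerLeft X _ _ f := Quot.map (fun f ↦ FHom.whiskerLeft X f) (fun f f' ↦ .whiskerLeft X f f') f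
  whiskerRight f Y := Quot.map (fun f ↦ FHom.whiskerRight f Y) (fun f f' ↦ .whiskerRight f f' Y) f
  tensorHom_def {W X Y Z} := by
    rintro ⟨f⟩ ⟨g⟩
    exact Quotient.sound (tensorHom_def _ _)
  id_tensorHom_id _ _ := Quot.sound id_tensorHom_id
  tensorHom_comp_tensorHom {X₁ Y₁ Z₁ X₂ Y₂ Z₂} := by
    rintro ⟨f₁⟩ ⟨f₂⟩ ⟨g₁⟩ ⟨g₂⟩
    exact Quotient.sound (tensorHom_comp_tensorHom _ _ _ _)
  whiskerLeft_id X Y := Quot.sound (HomEquiv.whiskerLeft_id X Y)
  id_whiskerRight X Y := Quot.sound (HomEquiv.id_whiskerRight X Y)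
  tensorUnit := FObj.unit
  associator X Y Z :=
    ⟨⟦FHom.α_hom X Y Z⟧, ⟦FHom.α_inv X Y Z⟧, Quotient.sound α_hom_inv, Quotient.sound α_inv_hom⟩
  associator_naturality {X₁ X₂ X₃ Y₁ Y₂ Y₃} := by
    rintro ⟨f₁⟩ ⟨f₂⟩ ⟨f₃⟩
    exact Quotient.sound (associator_naturality _ _ _)
  leftUnitor X := ⟨⟦FHom.l_hom X⟧, ⟦FHom.l_inv X⟧, Quotient.sound l_hom_inv, Quotient.sound l_inv_hom⟩
  leftUnitor_naturality {X Y} := by
    rintro ⟨f⟩
    exact Quotient.sound (l_naturality _)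
  rightUnitor X :=
    ⟨⟦FHom.ρ_hom X⟧, ⟦FHom.ρ_inv X⟧, Quotient.sound ρ_hom_inv, Quotient.sound ρ_inv_hom⟩
  rightUnitor_naturality {X Y} := by
    rintro ⟨f⟩
    exact Quotient.sound (ρ_naturality _)
  pentagon _ _ _ _ := Quotient.sound pentagon
  triangle _ _ := Quotient.sound triangle

/-- The abbreviation for `⟦f⟧`. -/
abbrev homMk {X Y : FObj A} (f : X ⟶ᶠ Y) : X ⟶ Y := ⟦f⟧

instance braidedFObj : BraidedCategory (FObj A) where
  braiding X Y := ⟨⟦FHom.β X Y⟧, ⟦FHom.β Y X⟧, Quotient.sound (β_β X Y), Quotient.sound (β_β Y X)⟩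
  braiding_naturality_right X {Y Z} := by
    rintro ⟨f⟩
    exact Quotient.sound (β_naturality_right X f)
  braiding_naturality_left {X Y} := by
    rintro ⟨f⟩ Z
    exact Quotient.sound (β_naturality_left f Z)
  hexagon_forward X Y Z := Quotient.sound (hexagon_forward X Y Z)
  hexagon_reverse X Y Z := Quotient.sound (hexagon_reverse X Y Z)

instance symmetricFObj : SymmetricCategory (FObj A) where
  symmetry X Y := Quotient.sound (β_β X Y)

end Defs

section Lemmas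

variable {A : Type u} [Category.{v} A] [MonoidalCategory A] [BraidedCategory A]

local infixr:10 " ⟶ᶠ " => FHom

@[simp]
theorem mk_comp {X Y Z : FObj A} (f : X ⟶ᶠ Y) (g : Y ⟶ᶠ Z) :
    homMk (f.comp g) = homMk f ≫ homMk g :=
  rfl

@[simp]
theorem mk_tensor {X₁ Y₁ X₂ Y₂ : FObj A} (f : X₁ ⟶ᶠ Y₁) (g : X₂ ⟶ᶠ Y₂) :
    homMk (f.tensor g) = homMk f ⊗ₘ homMk g :=
  rfl

@[simp]
theorem mk_whiskerLeft (X : FObj A) {Y₁ Y₂ : FObj A} (f : Y₁ ⟶ᶠ Y₂) :
    homMk (f.whiskerLeft X) = X ◁ homMk f :=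
  rfl

@[simp]
theorem mk_whiskerRight {X₁ X₂ : FObj A} (f : X₁ ⟶ᶠ X₂) (Y : FObj A) :
    homMk (f.whiskerRight Y) = homMk f ▷ Y :=
  rfl

@[simp]
theorem mk_id {X : FObj A} : homMk (FHom.id X) = 𝟙 X :=
  rfl

@[simp]
theorem mk_α_hom {X Y Z : FObj A} : homMk (FHom.α_hom X Y Z) = (α_ X Y Z).hom :=
  rfl

@[simp]
theorem mk_α_inv {X Y Z : FObj A} : homMk (FHom.α_inv X Y Z) = (α_ X Y Z).inv :=
  rfl

@[simp]
theorem mk_ρ_hom {X : FObj A} : homMk (FHom.ρ_hom X) = (ρ_ X).hom :=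
  rfl

@[simp]
theorem mk_ρ_inv {X : FObj A} : homMk (FHom.ρ_inv X) = (ρ_ X).inv :=
  rfl

@[simp]
theorem mk_l_hom {X : FObj A} : homMk (FHom.l_hom X) = (λ_ X).hom :=
  rfl

@[simp]
theorem mk_l_inv {X : FObj A} : homMk (FHom.l_inv X) = (λ_ X).inv :=
  rfl

@[simp]
theorem mk_β {X Y : FObj A} : homMk (FHom.β X Y) = (β_ X Y).hom :=
  rfl

theorem tensor_eq_tensor {X Y : FObj A} : X.tensor Y = X ⊗ Y :=
  rfl

theorem unit_eq_unit : FObj.unit = 𝟙_ (FObj A) :=
  rfl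

/-- The contraction isomorphism `X ⊗ X⁻¹ ≅ 𝟙`. -/
def ηIso (X : FObj A) : X ⊗ X.inv ≅ 𝟙_ (FObj A) :=
  ⟨homMk (FHom.η_hom X), homMk (FHom.η_inv X), Quotient.sound (HomEquiv.η_hom_inv X),
    Quotient.sound (HomEquiv.η_inv_hom X)⟩

/-- The unit comparison `𝟙 ≅ of 𝟙`. -/
def εIso : 𝟙_ (FObj A) ≅ FObj.of (𝟙_ A) :=
  ⟨homMk FHom.ε_hom, homMk FHom.ε_inv, Quotient.sound HomEquiv.ε_hom_inv,
    Quotient.sound HomEquiv.ε_inv_hom⟩

/-- The tensor comparison `of a ⊗ of b ≅ of (a ⊗ b)`. -/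
def μIso (a b : A) : (FObj.of a) ⊗ (FObj.of b) ≅ FObj.of (a ⊗ b) :=
  ⟨homMk (FHom.μ_hom a b), homMk (FHom.μ_inv a b), Quotient.sound (HomEquiv.μ_hom_inv a b),
    Quotient.sound (HomEquiv.μ_inv_hom a b)⟩

variable (A) in
/-- The canonical functor from `A`. -/
def ι : A ⥤ FObj A where
  obj := FObj.of
  map f := homMk (FHom.of f)
  map_id a := Quotient.sound (HomEquiv.of_id a)
  map_comp f g := Quotient.sound (HomEquiv.of_comp f g)

@[simp] theorem ι_obj (a : A) : (ι A).obj a = FObj.of a := rfl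

theorem ι_map {a b : A} (f : a ⟶ b) : (ι A).map f = homMk (FHom.of f) := rfl

instance ιLaxBraided : (ι A).LaxBraided where
  ε := εIso.hom
  μ a b := (μIso a b).hom
  μ_natural_left f c := Quotient.sound (HomEquiv.μ_natural_left f c)
  μ_natural_right c f := Quotient.sound (HomEquiv.μ_natural_right c f)
  associativity a b c := Quotient.sound (HomEquiv.μ_associativity a b c)
  left_unitality a := Quotient.sound (HomEquiv.left_unitality a)
  right_unitality a := Quotient.sound (HomEquiv.right_unitality a)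
  braided a b := Quotient.sound (HomEquiv.μ_braided a b)

theorem ι_ε : Functor.LaxMonoidal.ε (ι A) = εIso.hom := rfl

theorem ι_μ (a b : A) : Functor.LaxMonoidal.μ (ι A) a b = (μIso a b).hom := rfl

/-- Induction principle for morphisms of the free Picard groupoid. -/
theorem hom_induction {motive : {X Y : FObj A} → (X ⟶ Y) → Prop} {X Y : FObj A} (t : X ⟶ Y)
    (id : (X : FObj A) → motive (𝟙 X))
    (of : {a b : A} → (f : a ⟶ b) → motive ((ι A).map f))
    (α_hom : (X Y Z : FObj A) → motive (α_ X Y Z).hom)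
    (α_inv : (X Y Z : FObj A) → motive (α_ X Y Z).inv)
    (l_hom : (X : FObj A) → motive (λ_ X).hom)
    (l_inv : (X : FObj A) → motive (λ_ X).inv)
    (ρ_hom : (X : FObj A) → motive (ρ_ X).hom)
    (ρ_inv : (X : FObj A) → motive (ρ_ X).inv)
    (β : (X Y : FObj A) → motive (β_ X Y).hom)
    (ε_hom : motive (εIso (A := A)).hom)
    (ε_inv : motive (εIso (A := A)).inv)
    (μ_hom : (a b : A) → motive (μIso a b).hom)
    (μ_inv : (a b : A) → motive (μIso a b).inv)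
    (η_hom : (X : FObj A) → motive (ηIso X).hom)
    (η_inv : (X : FObj A) → motive (ηIso X).inv)
    (comp : {X Y Z : FObj A} → (f : X ⟶ Y) → (g : Y ⟶ Z) → motive f → motive g → motive (f ≫ g))
    (whiskerLeft : (X : FObj A) → {Y Z : FObj A} → (f : Y ⟶ Z) → motive f → motive (X ◁ f))
    (whiskerRight : {X Y : FObj A} → (f : X ⟶ Y) → (Z : FObj A) → motive f → motive (f ▷ Z)) :
    motive t := by
  induction t using Quotient.inductionOn with | _ f
  induction f with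
  | id X => exact id X
  | of f => exact of f
  | α_hom X Y Z => exact α_hom X Y Z
  | α_inv X Y Z => exact α_inv X Y Z
  | l_hom X => exact l_hom X
  | l_inv X => exact l_inv X
  | ρ_hom X => exact ρ_hom X
  | ρ_inv X => exact ρ_inv X
  | β X Y => exact β X Y
  | ε_hom => exact ε_hom
  | ε_inv => exact ε_inv
  | μ_hom a b => exact μ_hom a b
  | μ_inv a b => exact μ_inv a b
  | η_hom X => exact η_hom X
  | η_inv X => exact η_inv X
  | comp f g hf hg => exact comp _ _ hf hg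
  | whiskerLeft X f hf => exact whiskerLeft X _ hf
  | whiskerRight f X hf => exact whiskerRight _ X hf
  | @tensor W X Y Z f g hf hg =>
      have : homMk f ⊗ₘ homMk g = homMk f ▷ X ≫ Y ◁ homMk g :=
        Quotient.sound (HomEquiv.tensorHom_def f g)
      change motive (homMk f ⊗ₘ homMk g)
      rw [this]
      exact comp _ _ (whiskerRight _ _ hf) (whiskerLeft _ _ hg)

instance isGroupoidFObj [IsGroupoid A] : IsGroupoid (FObj A) where
  all_isIso {X Y} f := by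
    refine hom_induction (motive := fun {X Y} f => IsIso f) f ?_ ?_ ?_ ?_ ?_ ?_ ?_ ?_ ?_ ?_ ?_ ?_ ?_
      ?_ ?_ ?_ ?_ ?_
    · intro X; infer_instance
    · intro a b f; infer_instance
    · intro X Y Z; infer_instance
    · intro X Y Z; infer_instance
    · intro X; infer_instance
    · intro X; infer_instance
    · intro X; infer_instance
    · intro X; infer_instance
    · intro X Y; infer_instance
    · infer_instance
    · infer_instance
    · intro a b; infer_instance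
    · intro a b; infer_instance
    · intro X; infer_instance
    · intro X; infer_instance
    · intro X Y Z f g hf hg; infer_instance
    · intro X Y Z f hf; infer_instance
    · intro X Y f Z hf; infer_instance

end Lemmas


end Groth.Agent.H57.Pic
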