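import Groth.Agent.H57.PicFree

/-!
# Invertible objects give tensor equivalences; the free Picard groupoid is Picard
-/

set_option autoImplicit false

universe v u

namespace Groth.Agent.H57.Pic

open CategoryTheory MonoidalCategory

section Invertible

variable {C : Type u} [Category.{v} C] [MonoidalCategory C]

/-- If `X ⊗ Y ≅ 𝟙` and `Y ⊗ X ≅ 𝟙` then `X ⊗ -` is an equivalence. -/
def tensorLeftEquiv {X Y : C} (e : X ⊗ Y ≅ 𝟙_ C) (e' : Y ⊗ X ≅ 𝟙_ C) : C ≌ C :=
  CategoryTheory.Equivalence.mk (tensorLeft X) (tensorLeft Y)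
    (NatIso.ofComponents (fun Z => (λ_ Z).symm ≪≫ whiskerRightIso e'.symm Z ≪≫ α_ Y X Z)
      (by
        intro Z Z' f
        dsimp
        simp only [whiskerRightIso_hom, whiskerLeftIso_hom, Iso.symm_hom, Category.assoc]
        rw [leftUnitor_inv_naturality_assoc, whisker_exchange_assoc, associator_naturality_right]
        ))
    (NatIso.ofComponents (fun Z => (α_ X Y Z).symm ≪≫ whiskerRightIso e Z ≪≫ λ_ Z)
      (by
        intro Z Z' f
        dsimp
        simp only [whiskerRightIso_hom, whiskerLeftIso_hom, Iso.symm_hom, Category.assoc]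
        rw [associator_inv_naturality_right_assoc, whisker_exchange_assoc,
          leftUnitor_naturality]
        ))

/-- If `X ⊗ Y ≅ 𝟙` and `Y ⊗ X ≅ 𝟙` then `- ⊗ X` is an equivalence. -/
def tensorRightEquiv {X Y : C} (e : X ⊗ Y ≅ 𝟙_ C) (e' : Y ⊗ X ≅ 𝟙_ C) : C ≌ C :=
  CategoryTheory.Equivalence.mk (tensorRight X) (tensorRight Y)
    (NatIso.ofComponents (fun Z => (ρ_ Z).symm ≪≫ whiskerLeftIso Z e.symm ≪≫ (α_ Z X Y).symm)
      (by
        intro Z Z' f
        dsimp
        simp only [whiskerRightIso_hom, whiskerLeftIso_hom, Iso.symm_hom, Category.assoc]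
        rw [rightUnitor_inv_naturality_assoc, ← whisker_exchange_assoc,
          associator_inv_naturality_left]
        ))
    (NatIso.ofComponents (fun Z => α_ Z Y X ≪≫ whiskerLeftIso Z e' ≪≫ ρ_ Z)
      (by
        intro Z Z' f
        dsimp
        simp only [whiskerRightIso_hom, whiskerLeftIso_hom, Iso.symm_hom, Category.assoc]
        rw [associator_naturality_left_assoc, ← whisker_exchange_assoc, rightUnitor_naturality]
        ))

theorem tensorLeft_isEquivalence {X Y : C} (e : X ⊗ Y ≅ 𝟙_ C) (e' : Y ⊗ X ≅ 𝟙_ C) :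
    (tensorLeft X).IsEquivalence :=
  (tensorLeftEquiv e e').isEquivalence_functor

theorem tensorRight_isEquivalence {X Y : C} (e : X ⊗ Y ≅ 𝟙_ C) (e' : Y ⊗ X ≅ 𝟙_ C) :
    (tensorRight X).IsEquivalence :=
  (tensorRightEquiv e e').isEquivalence_functor

end Invertible

section Free

variable {A : Type u} [Category.{v} A] [MonoidalCategory A] [BraidedCategory A]

theorem picard_FObj (X : FObj A) :
    (tensorLeft X).IsEquivalence ∧ (tensorRight X).IsEquivalence :=
  ⟨tensorLeft_isEquivalence (ηIso X) ((β_ X.inv X) ≪≫ ηIso X),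
    tensorRight_isEquivalence (ηIso X) ((β_ X.inv X) ≪≫ ηIso X)⟩

end Free

end Groth.Agent.H57.Pic
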