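import Groth.Agent.H57.PicInv

/-!
# Universal property (a): lifting a symmetric lax monoidal functor to the free Picard groupoid
-/

set_option autoImplicit false

universe v u v' u'

namespace Groth.Agent.H57.Pic

open CategoryTheory MonoidalCategory Functor.LaxMonoidal

section Lift

variable {A : Type u} [Category.{v} A] [MonoidalCategory A] [BraidedCategory A]
variable {P : Type u'} [Category.{v'} P] [MonoidalCategory P] [SymmetricCategory P] [IsGroupoid P]

/-- A choice of inverse objects in a monoidal category. -/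
structure InvData (P : Type u') [Category.{v'} P] [MonoidalCategory P] where
  /-- the inverse object -/
  invObj : P → P
  /-- the contraction -/
  invIso : ∀ Y : P, Y ⊗ invObj Y ≅ 𝟙_ P

/-- Inverse data from the Picard property. -/
noncomputable def InvData.ofPicard (hP : ∀ X : P, (tensorLeft X).IsEquivalence) : InvData P where
  invObj Y := haveI := hP Y; (tensorLeft Y).objPreimage (𝟙_ P)
  invIso Y := haveI := hP Y; (tensorLeft Y).objObjPreimageIso (𝟙_ P)

variable (Φ : A ⥤ P) [Φ.LaxBraided] (D : InvData P)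

/-- The lift on objects. -/
def liftObj : FObj A → P
  | FObj.of a => Φ.obj a
  | FObj.unit => 𝟙_ P
  | FObj.tensor X Y => liftObj X ⊗ liftObj Y
  | FObj.inv X => D.invObj (liftObj X)

/-- The lift on formal morphisms. -/
noncomputable def liftHomAux : ∀ {X Y : FObj A}, FHom X Y → (liftObj Φ D X ⟶ liftObj Φ D Y)
  | _, _, FHom.id _ => 𝟙 _
  | _, _, FHom.of f => Φ.map f
  | _, _, FHom.α_hom _ _ _ => (α_ _ _ _).hom
  | _, _, FHom.α_inv _ _ _ => (α_ _ _ _).inv
  | _, _, FHom.l_hom _ => (λ_ _).hom
  | _, _, FHom.l_inv _ => (λ_ _).inv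
  | _, _, FHom.ρ_hom _ => (ρ_ _).hom
  | _, _, FHom.ρ_inv _ => (ρ_ _).inv
  | _, _, FHom.β _ _ => (β_ _ _).hom
  | _, _, FHom.ε_hom => ε Φ
  | _, _, FHom.ε_inv => inv (ε Φ)
  | _, _, FHom.μ_hom a b => μ Φ a b
  | _, _, FHom.μ_inv a b => inv (μ Φ a b)
  | _, _, FHom.η_hom X => (D.invIso (liftObj Φ D X)).hom
  | _, _, FHom.η_inv X => (D.invIso (liftObj Φ D X)).inv
  | _, _, FHom.comp f g => liftHomAux f ≫ liftHomAux g
  | _, _, FHom.whiskerLeft X p => liftObj Φ D X ◁ liftHomAux p
  | _, _, FHom.whiskerRight p X => liftHomAux p ▷ liftObj Φ D X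
  | _, _, FHom.tensor f g => liftHomAux f ⊗ₘ liftHomAux g

theorem liftHomAux_respects {X Y : FObj A} {f g : FHom X Y} (h : HomEquiv f g) :
    liftHomAux Φ D f = liftHomAux Φ D g := by
  induction h with
  | refl => rfl
  | symm _ _ _ hfg' => exact hfg'.symm
  | trans _ _ hfg hgh => exact hfg.trans hgh
  | comp _ _ hf hg => dsimp only [liftHomAux]; rw [hf, hg]
  | whiskerLeft _ _ _ _ hf => dsimp only [liftHomAux, liftObj]; rw [hf]
  | whiskerRight _ _ _ _ hf => dsimp only [liftHomAux, liftObj]; rw [hf]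
  | tensor _ _ hfg hfg' => dsimp only [liftHomAux]; rw [hfg, hfg']
  | tensorHom_def _ _ =>
      dsimp only [liftHomAux, liftObj]; rw [MonoidalCategory.tensorHom_def]
  | comp_id => dsimp only [liftHomAux]; rw [Category.comp_id]
  | id_comp => dsimp only [liftHomAux]; rw [Category.id_comp]
  | assoc => dsimp only [liftHomAux]; rw [Category.assoc]
  | id_tensorHom_id => dsimp only [liftHomAux]; rw [MonoidalCategory.id_tensorHom_id]; rfl
  | tensorHom_comp_tensorHom =>
    dsimp only [liftHomAux]; exact MonoidalCategory.tensorHom_comp_tensorHom _ _ _ _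
  | whiskerLeft_id =>
      dsimp only [liftHomAux, liftObj]
      rw [MonoidalCategory.whiskerLeft_id]
  | id_whiskerRight =>
      dsimp only [liftHomAux, liftObj]
      rw [MonoidalCategory.id_whiskerRight]
  | α_hom_inv => dsimp only [liftHomAux]; rw [Iso.hom_inv_id]
  | α_inv_hom => dsimp only [liftHomAux]; rw [Iso.inv_hom_id]
  | associator_naturality =>
      dsimp only [liftHomAux]; exact MonoidalCategory.associator_naturality _ _ _
  | ρ_hom_inv => dsimp only [liftHomAux]; rw [Iso.hom_inv_id]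
  | ρ_inv_hom => dsimp only [liftHomAux]; rw [Iso.inv_hom_id]
  | ρ_naturality =>
      dsimp only [liftHomAux, liftObj]
      rw [MonoidalCategory.rightUnitor_naturality]
  | l_hom_inv => dsimp only [liftHomAux]; rw [Iso.hom_inv_id]
  | l_inv_hom => dsimp only [liftHomAux]; rw [Iso.inv_hom_id]
  | l_naturality =>
      dsimp only [liftHomAux, liftObj]
      rw [MonoidalCategory.leftUnitor_naturality]
  | pentagon =>
      dsimp only [liftHomAux, liftObj]
      rw [MonoidalCategory.pentagon]
  | triangle =>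
      dsimp only [liftHomAux, liftObj]
      rw [MonoidalCategory.triangle]
  | β_β => dsimp only [liftHomAux, liftObj]; rw [SymmetricCategory.symmetry]
  | β_naturality_right =>
      dsimp only [liftHomAux, liftObj]; rw [BraidedCategory.braiding_naturality_right]
  | β_naturality_left =>
      dsimp only [liftHomAux, liftObj]; rw [BraidedCategory.braiding_naturality_left]
  | hexagon_forward =>
      dsimp only [liftHomAux, liftObj]; rw [BraidedCategory.hexagon_forward]
  | hexagon_reverse =>
      dsimp only [liftHomAux, liftObj]; rw [BraidedCategory.hexagon_reverse]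
  | of_id => dsimp only [liftHomAux, liftObj]; rw [Φ.map_id]
  | of_comp => dsimp only [liftHomAux, liftObj]; rw [Φ.map_comp]
  | ε_hom_inv => dsimp only [liftHomAux, liftObj]; rw [IsIso.hom_inv_id]
  | ε_inv_hom => dsimp only [liftHomAux, liftObj]; rw [IsIso.inv_hom_id]
  | μ_hom_inv => dsimp only [liftHomAux, liftObj]; rw [IsIso.hom_inv_id]
  | μ_inv_hom => dsimp only [liftHomAux, liftObj]; rw [IsIso.inv_hom_id]
  | μ_natural_left => dsimp only [liftHomAux, liftObj]; rw [μ_natural_left]
  | μ_natural_right => dsimp only [liftHomAux, liftObj]; rw [μ_natural_right]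
  | μ_associativity => dsimp only [liftHomAux, liftObj]; rw [associativity]
  | left_unitality => dsimp only [liftHomAux, liftObj]; rw [left_unitality]
  | right_unitality => dsimp only [liftHomAux, liftObj]; rw [right_unitality]
  | μ_braided => dsimp only [liftHomAux, liftObj]; rw [Functor.LaxBraided.braided]
  | η_hom_inv => dsimp only [liftHomAux, liftObj]; rw [Iso.hom_inv_id]
  | η_inv_hom => dsimp only [liftHomAux, liftObj]; rw [Iso.inv_hom_id]

/-- The lift on morphisms. -/
noncomputable def liftMap (X Y : FObj A) : (X ⟶ Y) → (liftObj Φ D X ⟶ liftObj Φ D Y) :=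
  Quotient.lift (liftHomAux Φ D) (fun _ _ h => liftHomAux_respects Φ D h)

/-- The lifted functor. -/
noncomputable def lift : FObj A ⥤ P where
  obj := liftObj Φ D
  map := liftMap Φ D _ _
  map_id _ := rfl
  map_comp := by rintro _ _ _ ⟨_⟩ ⟨_⟩; rfl

@[simp] theorem lift_obj_tensor (X Y : FObj A) :
    (lift Φ D).obj (X ⊗ Y) = (lift Φ D).obj X ⊗ (lift Φ D).obj Y := rfl

@[simp] theorem lift_obj_unit : (lift Φ D).obj (𝟙_ (FObj A)) = 𝟙_ P := rfl

theorem lift_map_mk {X Y : FObj A} (f : FHom X Y) :
    (lift Φ D).map (homMk f) = liftHomAux Φ D f := rfl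

theorem lift_map_whiskerLeft (X : FObj A) {Y Z : FObj A} (f : Y ⟶ Z) :
    (lift Φ D).map (X ◁ f) = (lift Φ D).obj X ◁ (lift Φ D).map f := by
  induction f using Quotient.inductionOn with | _ f
  rfl

theorem lift_map_whiskerRight {X Y : FObj A} (f : X ⟶ Y) (Z : FObj A) :
    (lift Φ D).map (f ▷ Z) = (lift Φ D).map f ▷ (lift Φ D).obj Z := by
  induction f using Quotient.inductionOn with | _ f
  rfl

theorem lift_map_associator (X Y Z : FObj A) :
    (lift Φ D).map (α_ X Y Z).hom = (α_ _ _ _).hom := rfl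

theorem lift_map_leftUnitor (X : FObj A) :
    (lift Φ D).map (λ_ X).hom = (λ_ _).hom := rfl

theorem lift_map_rightUnitor (X : FObj A) :
    (lift Φ D).map (ρ_ X).hom = (ρ_ _).hom := rfl

theorem lift_map_braiding (X Y : FObj A) :
    (lift Φ D).map (β_ X Y).hom = (β_ _ _).hom := rfl

noncomputable instance liftLaxBraided : (lift Φ D).LaxBraided where
  ε := 𝟙 _
  μ X Y := 𝟙 _
  μ_natural_left f Z := by
    rw [lift_map_whiskerRight]
    simp
  μ_natural_right Z f := by
    rw [lift_map_whiskerLeft]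
    simp
  associativity X Y Z := by
    rw [lift_map_associator]
    simp
    rfl
  left_unitality X := by
    rw [lift_map_leftUnitor]
    simp
    rfl
  right_unitality X := by
    rw [lift_map_rightUnitor]
    simp
    rfl
  braided X Y := by
    rw [lift_map_braiding]
    simp
    rfl

theorem lift_ε : ε (lift Φ D) = 𝟙 _ := rfl

theorem lift_μ (X Y : FObj A) : μ (lift Φ D) X Y = 𝟙 _ := rfl

/-- The lift restricts to `Φ`. -/
noncomputable def liftIso : ι A ⋙ lift Φ D ≅ Φ :=
  NatIso.ofComponents (fun a => Iso.refl _) (by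
    intro a b f
    change liftHomAux Φ D (FHom.of f) ≫ 𝟙 _ = 𝟙 _ ≫ Φ.map f
    simp [liftHomAux])

theorem liftIso_hom_app (a : A) : (liftIso Φ D).hom.app a = 𝟙 _ := rfl

instance liftIso_isMonoidal : NatTrans.IsMonoidal (liftIso Φ D).hom where
  unit := by
    rw [Functor.LaxMonoidal.comp_ε, liftIso_hom_app, lift_ε, ι_ε]
    change (𝟙 _ ≫ liftHomAux Φ D FHom.ε_hom) ≫ 𝟙 _ = _
    simp [liftHomAux]
  tensor a b := by
    rw [Functor.LaxMonoidal.comp_μ, liftIso_hom_app, liftIso_hom_app, liftIso_hom_app, lift_μ, ι_μ]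
    change (𝟙 _ ≫ liftHomAux Φ D (FHom.μ_hom a b)) ≫ 𝟙 _ = _
    simp only [liftHomAux, Category.id_comp, Category.comp_id]
    exact ((congrArg (· ≫ μ Φ a b) (MonoidalCategory.id_tensorHom_id (Φ.obj a) (Φ.obj b))).trans
      (Category.id_comp _)).symm

end Lift

end Groth.Agent.H57.Pic
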