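import Groth.Agent.H57.PicLift

/-!
# Universal property (b): monoidal natural transformations are determined on `A`
-/

set_option autoImplicit false

universe v u v' u'

namespace Groth.Agent.H57.Pic

open CategoryTheory MonoidalCategory Functor.LaxMonoidal

section General

variable {C : Type u} [Category.{v} C] [MonoidalCategory C]
variable {D : Type u'} [Category.{v'} D] [MonoidalCategory D] [IsGroupoid D]
variable (F G : C ⥤ D) [F.LaxMonoidal] [G.LaxMonoidal]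

/-- The tensor of two components. -/
noncomputable def tens {X Y : C} (a : F.obj X ⟶ G.obj X) (b : F.obj Y ⟶ G.obj Y) :
    F.obj (X ⊗ Y) ⟶ G.obj (X ⊗ Y) :=
  inv (μ F X Y) ≫ (a ⊗ₘ b) ≫ μ G X Y

/-- The unit component. -/
noncomputable def unitMap : F.obj (𝟙_ C) ⟶ G.obj (𝟙_ C) :=
  inv (ε F) ≫ ε G

variable {F G}

@[reassoc]
theorem μ_tens {X Y : C} (a : F.obj X ⟶ G.obj X) (b : F.obj Y ⟶ G.obj Y) :
    μ F X Y ≫ tens F G a b = (a ⊗ₘ b) ≫ μ G X Y := by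
  simp [tens]

@[reassoc]
theorem ε_unitMap : ε F ≫ unitMap F G = ε G := by
  simp [unitMap]

theorem eq_tens_iff {X Y : C} (a : F.obj X ⟶ G.obj X) (b : F.obj Y ⟶ G.obj Y)
    (t : F.obj (X ⊗ Y) ⟶ G.obj (X ⊗ Y)) :
    t = tens F G a b ↔ μ F X Y ≫ t = (a ⊗ₘ b) ≫ μ G X Y := by
  rw [← μ_tens, cancel_epi]

theorem eq_unitMap_iff (t : F.obj (𝟙_ C) ⟶ G.obj (𝟙_ C)) :
    t = unitMap F G ↔ ε F ≫ t = ε G := by
  rw [← ε_unitMap (F := F) (G := G), cancel_epi]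

theorem tens_assoc {X Y Z : C} (a : F.obj X ⟶ G.obj X) (b : F.obj Y ⟶ G.obj Y)
    (c : F.obj Z ⟶ G.obj Z) :
    F.map (α_ X Y Z).hom ≫ tens F G a (tens F G b c) =
      tens F G (tens F G a b) c ≫ G.map (α_ X Y Z).hom := by
  rw [← cancel_epi (μ F X Y ▷ F.obj Z ≫ μ F (X ⊗ Y) Z)]
  have h1 : (μ F X Y ▷ F.obj Z ≫ μ F (X ⊗ Y) Z) ≫ F.map (α_ X Y Z).hom ≫
      tens F G a (tens F G b c) =
      (α_ _ _ _).hom ≫ (a ⊗ₘ (b ⊗ₘ c)) ≫ G.obj X ◁ μ G Y Z ≫ μ G X (Y ⊗ Z) := by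
    rw [Category.assoc, associativity_assoc, μ_tens, ← id_tensorHom,
      tensorHom_comp_tensorHom_assoc, Category.id_comp, μ_tens, ← id_tensorHom,
      tensorHom_comp_tensorHom_assoc, Category.comp_id]
  have h2 : (μ F X Y ▷ F.obj Z ≫ μ F (X ⊗ Y) Z) ≫ tens F G (tens F G a b) c ≫
      G.map (α_ X Y Z).hom =
      ((a ⊗ₘ b) ⊗ₘ c) ≫ μ G X Y ▷ G.obj Z ≫ μ G (X ⊗ Y) Z ≫ G.map (α_ X Y Z).hom := by
    rw [Category.assoc, μ_tens_assoc, ← tensorHom_id, tensorHom_comp_tensorHom_assoc,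
      Category.id_comp, μ_tens, ← tensorHom_id, tensorHom_comp_tensorHom_assoc,
      Category.comp_id]
  rw [h1, h2, associativity, associator_naturality_assoc]

theorem tens_leftUnitor {X : C} (a : F.obj X ⟶ G.obj X) :
    F.map (λ_ X).hom ≫ a = tens F G (unitMap F G) a ≫ G.map (λ_ X).hom := by
  rw [← cancel_epi (ε F ▷ F.obj X ≫ μ F (𝟙_ C) X)]
  have h1 : (ε F ▷ F.obj X ≫ μ F (𝟙_ C) X) ≫ F.map (λ_ X).hom ≫ a = (λ_ _).hom ≫ a := by
    rw [left_unitality F X]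
    simp only [Category.assoc]
  have h2 : (ε F ▷ F.obj X ≫ μ F (𝟙_ C) X) ≫ tens F G (unitMap F G) a ≫ G.map (λ_ X).hom =
      (𝟙_ D ◁ a) ≫ (λ_ _).hom := by
    rw [Category.assoc, μ_tens_assoc, ← tensorHom_id, tensorHom_comp_tensorHom_assoc,
      Category.id_comp, ε_unitMap, left_unitality (F := G), ← tensorHom_id, ← id_tensorHom,
      tensorHom_comp_tensorHom_assoc, Category.id_comp, Category.comp_id]
  rw [h1, h2, leftUnitor_naturality]

theorem tens_rightUnitor {X : C} (a : F.obj X ⟶ G.obj X) :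
    F.map (ρ_ X).hom ≫ a = tens F G a (unitMap F G) ≫ G.map (ρ_ X).hom := by
  rw [← cancel_epi (F.obj X ◁ ε F ≫ μ F X (𝟙_ C))]
  have h1 : (F.obj X ◁ ε F ≫ μ F X (𝟙_ C)) ≫ F.map (ρ_ X).hom ≫ a = (ρ_ _).hom ≫ a := by
    rw [right_unitality F X]
    simp only [Category.assoc]
  have h2 : (F.obj X ◁ ε F ≫ μ F X (𝟙_ C)) ≫ tens F G a (unitMap F G) ≫ G.map (ρ_ X).hom =
      (a ▷ 𝟙_ D) ≫ (ρ_ _).hom := by
    rw [Category.assoc, μ_tens_assoc, ← id_tensorHom, tensorHom_comp_tensorHom_assoc,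
      Category.id_comp, ε_unitMap, right_unitality (F := G), ← tensorHom_id, ← id_tensorHom,
      tensorHom_comp_tensorHom_assoc, Category.id_comp, Category.comp_id]
  rw [h1, h2, rightUnitor_naturality]

theorem tens_whiskerLeft (X : C) {Y Y' : C} (f : Y ⟶ Y') (a : F.obj X ⟶ G.obj X)
    (b : F.obj Y ⟶ G.obj Y) (b' : F.obj Y' ⟶ G.obj Y') (h : F.map f ≫ b' = b ≫ G.map f) :
    F.map (X ◁ f) ≫ tens F G a b' = tens F G a b ≫ G.map (X ◁ f) := by
  rw [← cancel_epi (μ F X Y), ← μ_natural_right_assoc, μ_tens, μ_tens_assoc, ← μ_natural_right,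
    ← id_tensorHom, ← id_tensorHom, tensorHom_comp_tensorHom_assoc,
    tensorHom_comp_tensorHom_assoc, Category.id_comp, Category.comp_id, h]

theorem tens_whiskerRight {X X' : C} (f : X ⟶ X') (Y : C) (a : F.obj X ⟶ G.obj X)
    (a' : F.obj X' ⟶ G.obj X') (b : F.obj Y ⟶ G.obj Y) (h : F.map f ≫ a' = a ≫ G.map f) :
    F.map (f ▷ Y) ≫ tens F G a' b = tens F G a b ≫ G.map (f ▷ Y) := by
  rw [← cancel_epi (μ F X Y), ← μ_natural_left_assoc, μ_tens, μ_tens_assoc, ← μ_natural_left,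
    ← tensorHom_id, ← tensorHom_id, tensorHom_comp_tensorHom_assoc,
    tensorHom_comp_tensorHom_assoc, Category.id_comp, Category.comp_id, h]

/-- A commuting square for an isomorphism gives the commuting square for its inverse. -/
theorem sq_inv {X Y : C} (e : X ≅ Y) (t : F.obj X ⟶ G.obj X) (t' : F.obj Y ⟶ G.obj Y)
    (h : F.map e.hom ≫ t' = t ≫ G.map e.hom) : F.map e.inv ≫ t = t' ≫ G.map e.inv := by
  rw [← cancel_epi (F.map e.hom), ← cancel_mono (G.map e.hom)]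
  simp only [Category.assoc, ← Functor.map_comp, Iso.inv_hom_id, Functor.map_id, Category.comp_id]
  rw [← Functor.map_comp_assoc, Iso.hom_inv_id, Functor.map_id, Category.id_comp, h]

end General

section Braided

variable {C : Type u} [Category.{v} C] [MonoidalCategory C] [BraidedCategory C]
variable {D : Type u'} [Category.{v'} D] [MonoidalCategory D] [BraidedCategory D] [IsGroupoid D]
variable {F G : C ⥤ D} [F.LaxBraided] [G.LaxBraided]

theorem tens_braiding {X Y : C} (a : F.obj X ⟶ G.obj X) (b : F.obj Y ⟶ G.obj Y) :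
    F.map (β_ X Y).hom ≫ tens F G b a = tens F G a b ≫ G.map (β_ X Y).hom := by
  rw [← cancel_epi (μ F X Y), Functor.LaxBraided.braided_assoc, μ_tens, μ_tens_assoc,
    Functor.LaxBraided.braided, BraidedCategory.braiding_naturality_assoc]

end Braided

end Groth.Agent.H57.Pic

namespace Groth.Agent.H57.Pic

open CategoryTheory MonoidalCategory Functor.LaxMonoidal

section Cancel

variable {P : Type u'} [Category.{v'} P] [MonoidalCategory P]
variable (hP : ∀ X : P, (tensorLeft X).IsEquivalence)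

/-- Cancel a left tensor factor on morphisms. -/
noncomputable def cancelLeft (Y : P) {Z W : P} (g : Y ⊗ Z ⟶ Y ⊗ W) : Z ⟶ W :=
  haveI := hP Y
  (tensorLeft Y).preimage g

theorem whiskerLeft_cancelLeft (Y : P) {Z W : P} (g : Y ⊗ Z ⟶ Y ⊗ W) :
    Y ◁ cancelLeft hP Y g = g := by
  haveI := hP Y
  exact (tensorLeft Y).map_preimage g

include hP in
theorem whiskerLeft_injective (Y : P) {Z W : P} {t t' : Z ⟶ W} (h : Y ◁ t = Y ◁ t') : t = t' := by
  haveI := hP Y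
  exact (tensorLeft Y).map_injective h

end Cancel

section Theta

variable {A : Type u} [Category.{v} A] [MonoidalCategory A] [BraidedCategory A]
variable {P : Type u'} [Category.{v'} P] [MonoidalCategory P] [BraidedCategory P] [IsGroupoid P]
variable (hP : ∀ X : P, (tensorLeft X).IsEquivalence)
variable (Ψ Ψ' : FObj A ⥤ P) [Ψ.LaxBraided] [Ψ'.LaxBraided]
variable (τ : ι A ⋙ Ψ ⟶ ι A ⋙ Ψ')

/-- The extension of `τ` on objects. -/
noncomputable def θObj : ∀ X : FObj A, Ψ.obj X ⟶ Ψ'.obj X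
  | FObj.of a => τ.app a
  | FObj.unit => unitMap Ψ Ψ'
  | FObj.tensor X Y => tens Ψ Ψ' (θObj X) (θObj Y)
  | FObj.inv X => cancelLeft hP (Ψ'.obj X)
      (inv (θObj X ▷ Ψ.obj X.inv) ≫ μ Ψ X X.inv ≫ Ψ.map (ηIso X).hom ≫ unitMap Ψ Ψ' ≫
        inv (Ψ'.map (ηIso X).hom) ≫ inv (μ Ψ' X X.inv))

theorem θObj_of (a : A) : θObj hP Ψ Ψ' τ (FObj.of a) = τ.app a := rfl

theorem θObj_unit : θObj hP Ψ Ψ' τ (𝟙_ (FObj A)) = unitMap Ψ Ψ' := rfl

theorem θObj_tensor (X Y : FObj A) :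
    θObj hP Ψ Ψ' τ (X ⊗ Y) = tens Ψ Ψ' (θObj hP Ψ Ψ' τ X) (θObj hP Ψ Ψ' τ Y) := rfl

theorem whiskerLeft_θObj_inv (X : FObj A) :
    Ψ'.obj X ◁ θObj hP Ψ Ψ' τ X.inv =
      inv (θObj hP Ψ Ψ' τ X ▷ Ψ.obj X.inv) ≫ μ Ψ X X.inv ≫ Ψ.map (ηIso X).hom ≫ unitMap Ψ Ψ' ≫
        inv (Ψ'.map (ηIso X).hom) ≫ inv (μ Ψ' X X.inv) :=
  whiskerLeft_cancelLeft hP _ _

theorem θObj_η (X : FObj A) :
    Ψ.map (ηIso X).hom ≫ unitMap Ψ Ψ' =
      tens Ψ Ψ' (θObj hP Ψ Ψ' τ X) (θObj hP Ψ Ψ' τ X.inv) ≫ Ψ'.map (ηIso X).hom := by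
  have h : tens Ψ Ψ' (θObj hP Ψ Ψ' τ X) (θObj hP Ψ Ψ' τ X.inv) =
      Ψ.map (ηIso X).hom ≫ unitMap Ψ Ψ' ≫ inv (Ψ'.map (ηIso X).hom) := by
    symm
    rw [eq_tens_iff, tensorHom_def, Category.assoc, whiskerLeft_θObj_inv]
    simp only [Category.assoc, IsIso.hom_inv_id_assoc, IsIso.inv_hom_id, Category.comp_id]
  rw [h]
  simp only [Category.assoc, IsIso.inv_hom_id, Category.comp_id]

variable [NatTrans.IsMonoidal τ]

theorem θObj_ε :
    Ψ.map (εIso (A := A)).hom ≫ τ.app (𝟙_ A) = unitMap Ψ Ψ' ≫ Ψ'.map (εIso (A := A)).hom := by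
  have h := NatTrans.IsMonoidal.unit (τ := τ)
  rw [Functor.LaxMonoidal.comp_ε, Functor.LaxMonoidal.comp_ε, Category.assoc, ι_ε] at h
  rw [← cancel_epi (ε Ψ)]
  exact h.trans (ε_unitMap_assoc _).symm

theorem θObj_μ (a b : A) :
    Ψ.map (μIso a b).hom ≫ τ.app (a ⊗ b) =
      tens Ψ Ψ' (τ.app a) (τ.app b) ≫ Ψ'.map (μIso a b).hom := by
  have h := NatTrans.IsMonoidal.tensor (τ := τ) a b
  rw [Functor.LaxMonoidal.comp_μ, Functor.LaxMonoidal.comp_μ, Category.assoc, ι_μ] at h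
  rw [← cancel_epi (μ Ψ (FObj.of a) (FObj.of b))]
  exact h.trans (μ_tens_assoc (F := Ψ) (G := Ψ') (X := FObj.of a) (Y := FObj.of b)
    (τ.app a) (τ.app b) _).symm

theorem θObj_naturality {X Y : FObj A} (f : X ⟶ Y) :
    Ψ.map f ≫ θObj hP Ψ Ψ' τ Y = θObj hP Ψ Ψ' τ X ≫ Ψ'.map f := by
  refine hom_induction
    (motive := fun {X Y} f => Ψ.map f ≫ θObj hP Ψ Ψ' τ Y = θObj hP Ψ Ψ' τ X ≫ Ψ'.map f) f
    ?_ ?_ ?_ ?_ ?_ ?_ ?_ ?_ ?_ ?_ ?_ ?_ ?_ ?_ ?_ ?_ ?_ ?_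
  · intro X
    simp
  · intro a b f
    exact τ.naturality f
  · intro X Y Z
    exact tens_assoc _ _ _
  · intro X Y Z
    exact sq_inv (α_ X Y Z) _ _ (tens_assoc _ _ _)
  · intro X
    exact tens_leftUnitor _
  · intro X
    exact sq_inv (λ_ X) _ _ (tens_leftUnitor _)
  · intro X
    exact tens_rightUnitor _
  · intro X
    exact sq_inv (ρ_ X) _ _ (tens_rightUnitor _)
  · intro X Y
    exact tens_braiding _ _
  · exact θObj_ε Ψ Ψ' τ
  · exact sq_inv (εIso (A := A)) _ _ (θObj_ε Ψ Ψ' τ)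
  · intro a b
    exact θObj_μ Ψ Ψ' τ a b
  · intro a b
    exact sq_inv (μIso a b) _ _ (θObj_μ Ψ Ψ' τ a b)
  · intro X
    exact θObj_η hP Ψ Ψ' τ X
  · intro X
    exact sq_inv (ηIso X) _ _ (θObj_η hP Ψ Ψ' τ X)
  · intro X Y Z f g hf hg
    rw [Functor.map_comp, Category.assoc, hg, reassoc_of% hf, Functor.map_comp]
  · intro X Y Z f hf
    exact tens_whiskerLeft X f _ _ _ hf
  · intro X Y f Z hf
    exact tens_whiskerRight f Z _ _ _ hf

/-- The extension of `τ`. -/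
noncomputable def θ : Ψ ⟶ Ψ' where
  app := θObj hP Ψ Ψ' τ
  naturality _ _ f := θObj_naturality hP Ψ Ψ' τ f

instance θ_isMonoidal : NatTrans.IsMonoidal (θ hP Ψ Ψ' τ) where
  unit := ε_unitMap
  tensor X Y := μ_tens _ _

theorem whiskerLeft_θ : Functor.whiskerLeft (ι A) (θ hP Ψ Ψ' τ) = τ := by
  ext a
  rfl

omit [NatTrans.IsMonoidal τ] in
theorem θ_unique (θ' : Ψ ⟶ Ψ') [NatTrans.IsMonoidal θ'] (h : Functor.whiskerLeft (ι A) θ' = τ)
    (X : FObj A) : θ'.app X = θObj hP Ψ Ψ' τ X := by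
  induction X with
  | of a => exact congrArg (fun t => t.app a) h
  | unit => exact (eq_unitMap_iff _).mpr (NatTrans.IsMonoidal.unit (τ := θ'))
  | tensor X Y hX hY =>
      refine (eq_tens_iff _ _ _).mpr ?_
      rw [← hX, ← hY]
      exact NatTrans.IsMonoidal.tensor (τ := θ') X Y
  | inv X hX =>
      refine whiskerLeft_injective hP (Ψ'.obj X) ?_
      rw [whiskerLeft_θObj_inv]
      have h1 : θ'.app (X ⊗ X.inv) =
          Ψ.map (ηIso X).hom ≫ unitMap Ψ Ψ' ≫ inv (Ψ'.map (ηIso X).hom) := by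
        have h2 := θ'.naturality (ηIso X).hom
        have h3 : θ'.app (𝟙_ (FObj A)) = unitMap Ψ Ψ' :=
          (eq_unitMap_iff _).mpr (NatTrans.IsMonoidal.unit (τ := θ'))
        rw [h3] at h2
        rw [← Category.assoc, h2, Category.assoc, IsIso.hom_inv_id, Category.comp_id]
      have h4 := NatTrans.IsMonoidal.tensor (τ := θ') X X.inv
      rw [h1, hX, tensorHom_def, Category.assoc] at h4
      rw [← cancel_epi (θObj hP Ψ Ψ' τ X ▷ Ψ.obj X.inv), ← cancel_mono (μ Ψ' X X.inv), Category.assoc,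
        ← h4]
      simp only [Category.assoc, IsIso.hom_inv_id_assoc, IsIso.inv_hom_id, Category.comp_id]

end Theta

end Groth.Agent.H57.Pic
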