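import Mathlib

/-!
# Pulling apart a punctual ideal of the plane (helper57)

For an `(x,y)`-primary ideal `𝔞 ⊆ k[x,y]` of colength `≥ 2` we construct the flat family
`𝔞' = 𝔟[t] ∩ (h, y - t)` with `𝔟 = (𝔞 : y)` and `h ∈ 𝔞` monic in `x` of minimal degree.
-/

set_option autoImplicit false
universe u
open Polynomial

namespace Groth.Agent.H57.PullApart

variable {k : Type u} [Field k]

section coordinates

/-- `k[Y] → k[x₀,x₁]`, `Y ↦ x_j`. -/
noncomputable def psi1 (j : Fin 2) : k[X] →+* MvPolynomial (Fin 2) k :=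
  (Polynomial.aeval (MvPolynomial.X j : MvPolynomial (Fin 2) k)).toRingHom

/-- `k[Y][X] → k[x₀,x₁]`, `X ↦ x_i`, `Y ↦ x_j`. -/
noncomputable def Psi (i j : Fin 2) : k[X][X] →+* MvPolynomial (Fin 2) k :=
  Polynomial.eval₂RingHom (psi1 j) (MvPolynomial.X i)

/-- The inverse of `Psi`. -/
noncomputable def Phi (i : Fin 2) : MvPolynomial (Fin 2) k →ₐ[k] k[X][X] :=
  MvPolynomial.aeval (fun l => if l = i then (X : k[X][X]) else C (X : k[X]))

@[simp] lemma psi1_C (j : Fin 2) (c : k) : psi1 j (C c) = MvPolynomial.C c := by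
  simp [psi1]

@[simp] lemma psi1_X (j : Fin 2) : psi1 (k := k) j X = MvPolynomial.X j := by
  simp [psi1]

@[simp] lemma Psi_C (i j : Fin 2) (c : k[X]) : Psi i j (C c) = psi1 j c := by
  simp [Psi]

@[simp] lemma Psi_X (i j : Fin 2) : Psi (k := k) i j X = MvPolynomial.X i := by
  simp [Psi]

lemma fin2_cases {i j : Fin 2} (hij : i ≠ j) (l : Fin 2) : l = i ∨ l = j := by
  fin_cases i <;> fin_cases j <;> fin_cases l <;> simp_all

lemma Psi_Phi {i j : Fin 2} (hij : i ≠ j) (g : MvPolynomial (Fin 2) k) :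
    Psi i j (Phi i g) = g := by
  have h : (Psi i j).comp (Phi (k := k) i).toRingHom = RingHom.id _ := by
    apply MvPolynomial.ringHom_ext
    · intro c
      simp [Phi]
    · intro l
      rcases fin2_cases hij l with rfl | rfl
      · simp [Phi]
      · simp [Phi, hij.symm]
  exact congrArg (fun f => f g) h

lemma Phi_Psi {i j : Fin 2} (hij : i ≠ j) (P : k[X][X]) : Phi i (Psi i j P) = P := by
  have h : (Phi (k := k) i).toRingHom.comp (Psi i j) = RingHom.id _ := by
    apply Polynomial.ringHom_ext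
    · intro c
      have h2 : ((Phi (k := k) i).toRingHom.comp (Psi i j)).comp Polynomial.C =
          (RingHom.id _).comp Polynomial.C := by
        apply Polynomial.ringHom_ext
        · intro a
          simp [Phi]
        · simp [Phi, hij.symm]
      exact congrArg (fun f => f c) h2
    · simp [Phi]
  exact congrArg (fun f => f P) h

lemma Psi_surjective {i j : Fin 2} (hij : i ≠ j) : Function.Surjective (Psi (k := k) i j) :=
  fun g => ⟨Phi i g, Psi_Phi hij g⟩

lemma Psi_injective {i j : Fin 2} (hij : i ≠ j) : Function.Injective (Psi (k := k) i j) :=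
  fun P Q h => by rw [← Phi_Psi hij P, ← Phi_Psi hij Q, h]

end coordinates

section monic

variable {i j : Fin 2}

lemma natDegree_X_pow_add' {R : Type*} [Ring R] [Nontrivial R] {n : ℕ} {p : R[X]}
    (h : p.degree < (n : WithBot ℕ)) : (X ^ n + p).natDegree = n := by
  apply natDegree_eq_of_degree_eq_some
  rw [degree_add_eq_left_of_degree_lt (by rwa [degree_X_pow]), degree_X_pow]

/-- Reduce the coefficients modulo `Y`. -/
noncomputable def red0 : k[X][X] →+* k[X] := Polynomial.mapRingHom (Polynomial.evalRingHom (0 : k))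

lemma mk0_Psi (𝔠 : Ideal (MvPolynomial (Fin 2) k)) (hj : MvPolynomial.X j ∈ 𝔠) (G : k[X][X]) :
    Ideal.Quotient.mk 𝔠 (Psi i j G) =
      Polynomial.aeval (Ideal.Quotient.mk 𝔠 (MvPolynomial.X i)) (red0 G) := by
  have h : (Ideal.Quotient.mk 𝔠).comp (Psi i j) =
      (Polynomial.aeval (Ideal.Quotient.mk 𝔠 (MvPolynomial.X i))).toRingHom.comp red0 := by
    apply Polynomial.ringHom_ext
    · intro c
      have h2 : ((Ideal.Quotient.mk 𝔠).comp (Psi i j)).comp Polynomial.C =
          ((Polynomial.aeval (Ideal.Quotient.mk 𝔠 (MvPolynomial.X i))).toRingHom.comp red0).comp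
            Polynomial.C := by
        apply Polynomial.ringHom_ext
        · intro a
          simp [red0]
          rfl
        · simp [red0, Ideal.Quotient.eq_zero_iff_mem.2 hj]
      exact congrArg (fun f => f c) h2
    · simp [red0]
  exact congrArg (fun f => f G) h

lemma Psi_mem_span_of_red0_eq_zero (R : k[X][X]) (h : red0 R = 0) :
    Psi i j R ∈ Ideal.span {(MvPolynomial.X j : MvPolynomial (Fin 2) k)} := by
  have hR : R ∈ Ideal.map (Polynomial.C : k[X] →+* k[X][X]) (Ideal.span {(X : k[X])}) := by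
    rw [Ideal.mem_map_C_iff]
    intro n
    have hn : (red0 R).coeff n = 0 := by rw [h, coeff_zero]
    rw [red0, Polynomial.coe_mapRingHom, Polynomial.coeff_map, Polynomial.coe_evalRingHom,
      ← Polynomial.coeff_zero_eq_eval_zero] at hn
    rw [Ideal.mem_span_singleton]
    exact Polynomial.X_dvd_iff.2 hn
  have h2 := Ideal.mem_map_of_mem (Psi i j) hR
  rwa [Ideal.map_map, Ideal.map_span, Set.image_singleton, RingHom.comp_apply, Psi_C, psi1_X]
    at h2

theorem exists_monic (hij : i ≠ j) (𝔞 : Ideal (MvPolynomial (Fin 2) k))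
    (hne : 𝔞 ⊔ Ideal.span {(MvPolynomial.X j : MvPolynomial (Fin 2) k)} ≠ ⊤)
    (hx : ∃ N : ℕ, (MvPolynomial.X i : MvPolynomial (Fin 2) k) ^ N ∈ 𝔞)
    (hy : ∃ N : ℕ, (MvPolynomial.X j : MvPolynomial (Fin 2) k) ^ N ∈ 𝔞) :
    ∃ H : k[X][X], H.Monic ∧ 0 < H.natDegree ∧ Psi i j H ∈ 𝔞 ∧
      𝔞 ≤ Ideal.span {Psi i j H} ⊔ Ideal.span {(MvPolynomial.X j : MvPolynomial (Fin 2) k)} := by
  classical
  obtain ⟨Nx, hNx⟩ := hx
  obtain ⟨Ny, hNy⟩ := hy
  set 𝔠 : Ideal (MvPolynomial (Fin 2) k) :=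
    𝔞 ⊔ Ideal.span {(MvPolynomial.X j : MvPolynomial (Fin 2) k)} with h𝔠
  have hj𝔠 : (MvPolynomial.X j : MvPolynomial (Fin 2) k) ∈ 𝔠 :=
    Ideal.mem_sup_right (Ideal.subset_span rfl)
  haveI : Nontrivial (MvPolynomial (Fin 2) k ⧸ 𝔠) := Ideal.Quotient.nontrivial_iff.2 hne
  set x0 : MvPolynomial (Fin 2) k ⧸ 𝔠 := Ideal.Quotient.mk 𝔠 (MvPolynomial.X i) with hx0
  have hint : IsIntegral k x0 := by
    refine ⟨X ^ Nx, monic_X_pow Nx, ?_⟩
    rw [eval₂_pow, eval₂_X, hx0, ← map_pow]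
    exact Ideal.Quotient.eq_zero_iff_mem.2 (Ideal.mem_sup_left hNx)
  set d : k[X] := minpoly k x0 with hd
  have hdmonic : d.Monic := minpoly.monic hint
  have hdpos : 0 < d.natDegree := minpoly.natDegree_pos hint
  set a : ℕ := d.natDegree with ha
  have hddeg : d.degree = (a : WithBot ℕ) := Polynomial.degree_eq_natDegree hdmonic.ne_zero
  -- small degree elements of `𝔠` vanish modulo `Y`
  have key : ∀ R : k[X][X], R.degree < (a : WithBot ℕ) → Psi i j R ∈ 𝔠 → red0 R = 0 := by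
    intro R hR hmem
    have h0 : Polynomial.aeval x0 (red0 R) = 0 := by
      rw [hx0, ← mk0_Psi 𝔠 hj𝔠]
      exact Ideal.Quotient.eq_zero_iff_mem.2 hmem
    have hdvd : d ∣ red0 R := minpoly.dvd k x0 h0
    refine Polynomial.eq_zero_of_dvd_of_degree_lt hdvd ?_
    rw [hddeg]
    exact lt_of_le_of_lt (Polynomial.degree_map_le) hR
  -- the lift of `d`
  set H₀ : k[X][X] := d.map (Polynomial.C : k →+* k[X]) with hH₀
  have hH₀monic : H₀.Monic := hdmonic.map _
  have hH₀deg : H₀.natDegree = a := Polynomial.natDegree_map_eq_of_injective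
    (Polynomial.C_injective) d
  have hred0H₀ : red0 H₀ = d := by
    rw [hH₀, red0, Polynomial.coe_mapRingHom, Polynomial.map_map]
    have : (Polynomial.evalRingHom (0 : k)).comp (Polynomial.C : k →+* k[X]) = RingHom.id k := by
      ext c; simp
    rw [this, Polynomial.map_id]
  have hH₀mem : Psi i j H₀ ∈ 𝔠 := by
    rw [← Ideal.Quotient.eq_zero_iff_mem, mk0_Psi 𝔠 hj𝔠, hred0H₀]
    exact minpoly.aeval k x0
  -- the quotient `B = A/𝔞`
  set Θ : k[X][X] →+* (MvPolynomial (Fin 2) k ⧸ 𝔞) := (Ideal.Quotient.mk 𝔞).comp (Psi i j)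
    with hΘ
  set yb : MvPolynomial (Fin 2) k ⧸ 𝔞 := Ideal.Quotient.mk 𝔞 (MvPolynomial.X j) with hyb
  set xb : MvPolynomial (Fin 2) k ⧸ 𝔞 := Ideal.Quotient.mk 𝔞 (MvPolynomial.X i) with hxb
  have hΘX : Θ X = xb := by simp [hΘ, hxb]
  have hΘCX : Θ (C X) = yb := by simp [hΘ, hyb]
  have hΘsurj : Function.Surjective Θ :=
    Ideal.Quotient.mk_surjective.comp (Psi_surjective hij)
  let S : Set (MvPolynomial (Fin 2) k ⧸ 𝔞) :=
    {b | ∃ R : k[X][X], R.degree < (a : WithBot ℕ) ∧ ∃ b', b = Θ R + yb * b'}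
  have s0 : (0 : MvPolynomial (Fin 2) k ⧸ 𝔞) ∈ S :=
    ⟨0, by rw [degree_zero]; exact WithBot.bot_lt_coe a, 0, by simp⟩
  have s1 : ∀ b₁ ∈ S, ∀ b₂ ∈ S, b₁ + b₂ ∈ S := by
    rintro _ ⟨R₁, h₁, b₁', rfl⟩ _ ⟨R₂, h₂, b₂', rfl⟩
    refine ⟨R₁ + R₂, lt_of_le_of_lt (degree_add_le _ _) (max_lt h₁ h₂), b₁' + b₂', ?_⟩
    rw [map_add]; ring
  have s1' : ∀ b ∈ S, ∀ b'', b + yb * b'' ∈ S := by
    rintro _ ⟨R, h, b', rfl⟩ b''
    exact ⟨R, h, b' + b'', by ring⟩
  have sΘ : ∀ R : k[X][X], R.degree < (a : WithBot ℕ) → Θ R ∈ S :=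
    fun R h => ⟨R, h, 0, by simp⟩
  have s2 : ∀ (c : k[X]), ∀ b ∈ S, Θ (C c) * b ∈ S := by
    rintro c _ ⟨R, h, b', rfl⟩
    refine ⟨C c * R, lt_of_le_of_lt ?_ h, Θ (C c) * b', ?_⟩
    · refine (degree_mul_le _ _).trans ?_
      calc (C c).degree + R.degree ≤ 0 + R.degree := by gcongr; exact degree_C_le
        _ = R.degree := zero_add _
    · rw [map_mul]; ring
  have s3 : xb ^ a ∈ S := by
    obtain ⟨g₁, hg₁, e', he', hsum⟩ := Submodule.mem_sup.1 hH₀mem
    obtain ⟨e, rfl⟩ := Ideal.mem_span_singleton'.1 he'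
    have hΘH₀ : Θ H₀ = yb * Ideal.Quotient.mk 𝔞 e := by
      rw [hΘ, RingHom.comp_apply, ← hsum, map_add, Ideal.Quotient.eq_zero_iff_mem.2 hg₁,
        zero_add, map_mul, mul_comm]
    have hdeg : (X ^ a - H₀ : k[X][X]).degree < (a : WithBot ℕ) := by
      have h1 : (X ^ a : k[X][X]).degree = (a : WithBot ℕ) := degree_X_pow a
      have h2 : H₀.degree = (a : WithBot ℕ) := by
        rw [Polynomial.degree_eq_natDegree hH₀monic.ne_zero, hH₀deg]
      have := Polynomial.degree_sub_lt (h1.trans h2.symm) (pow_ne_zero a X_ne_zero)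
        (by rw [hH₀monic.leadingCoeff, (monic_X_pow a).leadingCoeff])
      rwa [h1] at this
    refine ⟨X ^ a - H₀, hdeg, Ideal.Quotient.mk 𝔞 e, ?_⟩
    rw [map_sub, map_pow, hΘX, hΘH₀]; ring
  have s4 : ∀ b ∈ S, xb * b ∈ S := by
    rintro _ ⟨R, h, b', rfl⟩
    set P : k[X][X] := X * R with hP
    have hPdeg : P.degree ≤ (a : WithBot ℕ) := by
      by_cases hR0 : R = 0
      · rw [hP, hR0, mul_zero, degree_zero]; exact bot_le
      · rw [hP, degree_mul, degree_X]
        rw [Polynomial.degree_eq_natDegree hR0] at h ⊢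
        have : R.natDegree < a := by exact_mod_cast h
        have h3 : (1 : WithBot ℕ) + (R.natDegree : WithBot ℕ) = ((1 + R.natDegree : ℕ) : WithBot ℕ) := by
          push_cast; rfl
        rw [h3]
        exact_mod_cast (by omega : 1 + R.natDegree ≤ a)
    have hsplit : P = C (P.coeff a) * X ^ a + P.erase a := by
      rw [Polynomial.C_mul_X_pow_eq_monomial, Polynomial.monomial_add_erase]
    have herase : (P.erase a).degree < (a : WithBot ℕ) := by
      rw [Polynomial.degree_lt_iff_coeff_zero]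
      intro m hm
      rcases eq_or_lt_of_le hm with rfl | hlt
      · exact Polynomial.erase_same _ _
      · rw [Polynomial.erase_ne P (ne_of_gt hlt)]
        exact Polynomial.coeff_eq_zero_of_degree_lt
          (lt_of_le_of_lt hPdeg (by exact_mod_cast hlt))
    have h5 : Θ P ∈ S := by
      rw [hsplit, map_add, map_mul, map_pow, hΘX]
      exact s1 _ (s2 _ _ s3) _ (sΘ _ herase)
    have : xb * (Θ R + yb * b') = Θ P + yb * (xb * b') := by
      rw [hP, map_mul, hΘX]; ring
    rw [this]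
    exact s1' _ h5 _
  have s5 : ∀ n : ℕ, xb ^ n ∈ S := by
    intro n
    induction n with
    | zero =>
      rw [pow_zero]
      have : (1 : MvPolynomial (Fin 2) k ⧸ 𝔞) = Θ 1 := by rw [map_one]
      rw [this]
      refine sΘ 1 ?_
      rw [degree_one]
      exact_mod_cast hdpos
    | succ n ih =>
      rw [pow_succ']
      exact s4 _ ih
  have s6 : ∀ G : k[X][X], Θ G ∈ S := by
    intro G
    rw [Polynomial.as_sum_range_C_mul_X_pow G, map_sum]
    refine Finset.sum_induction _ (· ∈ S) (fun b₁ b₂ h₁ h₂ => s1 b₁ h₁ b₂ h₂) s0 ?_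
    intro n _
    rw [map_mul, map_pow, hΘX]
    exact s2 _ _ (s5 n)
  have s7 : ∀ b, b ∈ S := by
    intro b
    obtain ⟨G, rfl⟩ := hΘsurj b
    exact s6 G
  have s8 : ∀ (m : ℕ) (b : MvPolynomial (Fin 2) k ⧸ 𝔞), ∃ R : k[X][X],
      R.degree < (a : WithBot ℕ) ∧ ∃ b', b = Θ R + yb ^ m * b' := by
    intro m
    induction m with
    | zero =>
      intro b
      exact ⟨0, by rw [degree_zero]; exact WithBot.bot_lt_coe a, b, by simp⟩
    | succ m ih =>
      intro b
      obtain ⟨R, hR, b', rfl⟩ := ih b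
      obtain ⟨R₁, hR₁, b'', rfl⟩ := s7 b'
      refine ⟨R + C (X ^ m) * R₁, ?_, b'', ?_⟩
      · refine lt_of_le_of_lt (degree_add_le _ _) (max_lt hR (lt_of_le_of_lt ?_ hR₁))
        refine (degree_mul_le _ _).trans ?_
        calc (C (X ^ m : k[X])).degree + R₁.degree ≤ 0 + R₁.degree := by
              gcongr; exact degree_C_le
          _ = R₁.degree := zero_add _
      · rw [map_add, map_mul, map_pow (C : k[X] →+* k[X][X]), map_pow, hΘCX]; ring
  have hyN : yb ^ Ny = 0 := by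
    rw [hyb, ← map_pow]; exact Ideal.Quotient.eq_zero_iff_mem.2 hNy
  obtain ⟨R, hR, b', hb'⟩ := s8 Ny (xb ^ a)
  rw [hyN, zero_mul, add_zero] at hb'
  -- the monic polynomial
  have hRneg : (-R).degree < (a : WithBot ℕ) := by rwa [degree_neg]
  refine ⟨X ^ a + -R, Polynomial.monic_X_pow_add hRneg, ?_, ?_, ?_⟩
  · rw [natDegree_X_pow_add' hRneg]; exact hdpos
  · rw [← Ideal.Quotient.eq_zero_iff_mem]
    have : Ideal.Quotient.mk 𝔞 (Psi i j (X ^ a + -R)) = Θ (X ^ a + -R) := rfl
    rw [this, map_add, map_neg, map_pow, hΘX, hb']; ring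
  · intro g hg
    set H : k[X][X] := X ^ a + -R with hH
    have hHmonic : H.Monic := Polynomial.monic_X_pow_add hRneg
    have hHdeg : H.degree = (a : WithBot ℕ) := by
      rw [Polynomial.degree_eq_natDegree hHmonic.ne_zero, natDegree_X_pow_add' hRneg]
    have hHmem : Psi i j H ∈ 𝔞 := by
      rw [← Ideal.Quotient.eq_zero_iff_mem]
      have : Ideal.Quotient.mk 𝔞 (Psi i j H) = Θ H := rfl
      rw [this, hH, map_add, map_neg, map_pow, hΘX, hb']; ring
    set G := Phi i g with hG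
    have hΨG : Psi i j G = g := Psi_Phi hij g
    have hdiv := Polynomial.modByMonic_add_div G H
    have hRm : Psi i j (G %ₘ H) ∈ 𝔞 := by
      have : Psi i j (G %ₘ H) = g - Psi i j H * Psi i j (G /ₘ H) := by
        rw [← hΨG, ← map_mul, ← map_sub]
        congr 1
        nth_rewrite 2 [← hdiv]
        ring
      rw [this]
      exact Ideal.sub_mem _ hg (Ideal.mul_mem_right _ _ hHmem)
    have hdegm : (G %ₘ H).degree < (a : WithBot ℕ) := by
      rw [← hHdeg]; exact Polynomial.degree_modByMonic_lt G hHmonic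
    have hzero := key _ hdegm (Ideal.mem_sup_left hRm)
    have hspan := Psi_mem_span_of_red0_eq_zero (i := i) (j := j) _ hzero
    have hg' : g = Psi i j (G %ₘ H) + Psi i j H * Psi i j (G /ₘ H) := by
      rw [← map_mul, ← map_add, hdiv, hΨG]
    rw [hg']
    exact Submodule.add_mem _ (Ideal.mem_sup_right hspan)
      (Ideal.mem_sup_left (Ideal.mul_mem_right _ _ (Ideal.subset_span rfl)))

end monic

section family

lemma mem_span_X_sub_C_of_eval_eq_zero (p : Fin 2 → k) (g : MvPolynomial (Fin 2) k)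
    (h : MvPolynomial.eval p g = 0) :
    g ∈ Ideal.span (Set.range fun l : Fin 2 =>
      (MvPolynomial.X l - MvPolynomial.C (p l) : MvPolynomial (Fin 2) k)) := by
  set I := Ideal.span (Set.range fun l : Fin 2 =>
      (MvPolynomial.X l - MvPolynomial.C (p l) : MvPolynomial (Fin 2) k)) with hI
  have key : ∀ q : MvPolynomial (Fin 2) k,
      Ideal.Quotient.mk I q = Ideal.Quotient.mk I (MvPolynomial.C (MvPolynomial.eval p q)) := by
    intro q
    induction q using MvPolynomial.induction_on with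
    | C a => simp
    | add q₁ q₂ h₁ h₂ =>
      rw [map_add, h₁, h₂, map_add (MvPolynomial.eval p), MvPolynomial.C_add, map_add]
    | mul_X q l hq =>
      have hl : Ideal.Quotient.mk I (MvPolynomial.X l) =
          Ideal.Quotient.mk I (MvPolynomial.C (p l)) := by
        rw [← sub_eq_zero, ← map_sub, Ideal.Quotient.eq_zero_iff_mem]
        exact Ideal.subset_span ⟨l, rfl⟩
      rw [map_mul, hq, hl, map_mul (MvPolynomial.eval p), MvPolynomial.eval_X, MvPolynomial.C_mul,
        map_mul]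
  rw [← Ideal.Quotient.eq_zero_iff_mem, key g, h, map_zero, map_zero]

variable (𝔞 : Ideal (MvPolynomial (Fin 2) k)) (h y : MvPolynomial (Fin 2) k)

/-- The colon ideal `(𝔞 : y)`. -/
noncomputable def colonY : Ideal (MvPolynomial (Fin 2) k) :=
  Submodule.comap (LinearMap.mulLeft (MvPolynomial (Fin 2) k) y) 𝔞

lemma mem_colonY {v : MvPolynomial (Fin 2) k} : v ∈ colonY 𝔞 y ↔ y * v ∈ 𝔞 := by
  simp [colonY]

lemma le_colonY : 𝔞 ≤ colonY 𝔞 y := fun v hv => (mem_colonY 𝔞 y).2 (Ideal.mul_mem_left _ _ hv)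

/-- The family `𝔟[t] ∩ (h, y - t)`. -/
noncomputable def fam : Ideal (MvPolynomial (Fin 2) k)[X] :=
  (colonY 𝔞 y).map (C : MvPolynomial (Fin 2) k →+* (MvPolynomial (Fin 2) k)[X]) ⊓
    Ideal.span {C h, C y - X}

variable {𝔞 h y}

lemma mem_span_pair_iff_eval (G : (MvPolynomial (Fin 2) k)[X]) :
    G ∈ Ideal.span ({C h, C y - X} : Set (MvPolynomial (Fin 2) k)[X]) ↔
      G.eval y ∈ Ideal.span {h} := by
  constructor
  · intro hG
    obtain ⟨U, V, rfl⟩ := Ideal.mem_span_pair.1 hG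
    rw [eval_add, eval_mul, eval_mul, eval_C, eval_sub, eval_C, eval_X, sub_self, mul_zero,
      add_zero]
    exact Ideal.mul_mem_left _ _ (Ideal.subset_span rfl)
  · intro hG
    obtain ⟨u, hu⟩ := Ideal.mem_span_singleton'.1 hG
    have h1 : G - C u * C h ∈ RingHom.ker (Polynomial.evalRingHom y) := by
      rw [RingHom.mem_ker, Polynomial.coe_evalRingHom, eval_sub, eval_mul, eval_C, eval_C, hu,
        sub_self]
    rw [Polynomial.ker_evalRingHom] at h1
    obtain ⟨V, hV⟩ := Ideal.mem_span_singleton'.1 h1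
    rw [Ideal.mem_span_pair]
    refine ⟨C u, -V, ?_⟩
    have : G = C u * C h + V * (X - C y) := by rw [hV]; ring
    rw [this]; ring

lemma mem_map_C_iff_map_mk (𝔟 : Ideal (MvPolynomial (Fin 2) k))
    (G : (MvPolynomial (Fin 2) k)[X]) :
    G ∈ 𝔟.map (C : MvPolynomial (Fin 2) k →+* (MvPolynomial (Fin 2) k)[X]) ↔
      G.map (Ideal.Quotient.mk 𝔟) = 0 := by
  have := Polynomial.ker_mapRingHom (Ideal.Quotient.mk 𝔟)
  rw [Ideal.mk_ker] at this
  rw [← this, RingHom.mem_ker, Polynomial.coe_mapRingHom]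

lemma eval_mem_of_mem_map_C (𝔟 : Ideal (MvPolynomial (Fin 2) k))
    {G : (MvPolynomial (Fin 2) k)[X]}
    (hG : G ∈ 𝔟.map (C : MvPolynomial (Fin 2) k →+* (MvPolynomial (Fin 2) k)[X]))
    (r : MvPolynomial (Fin 2) k) : G.eval r ∈ 𝔟 := by
  rw [mem_map_C_iff_map_mk] at hG
  rw [← Ideal.Quotient.eq_zero_iff_mem, ← Polynomial.eval₂_at_apply, ← Polynomial.eval_map, hG,
    eval_zero]

lemma mem_map_C_of_mul_sub (𝔟 : Ideal (MvPolynomial (Fin 2) k))
    {V : (MvPolynomial (Fin 2) k)[X]}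
    (hV : V * (C y - X) ∈ 𝔟.map (C : MvPolynomial (Fin 2) k →+* (MvPolynomial (Fin 2) k)[X])) :
    V ∈ 𝔟.map (C : MvPolynomial (Fin 2) k →+* (MvPolynomial (Fin 2) k)[X]) := by
  rw [mem_map_C_iff_map_mk] at hV ⊢
  rw [Polynomial.map_mul, Polynomial.map_sub, Polynomial.map_C, Polynomial.map_X] at hV
  have h1 : V.map (Ideal.Quotient.mk 𝔟) * (X - C (Ideal.Quotient.mk 𝔟 y)) = 0 := by
    have : V.map (Ideal.Quotient.mk 𝔟) * (X - C (Ideal.Quotient.mk 𝔟 y)) =
        -(V.map (Ideal.Quotient.mk 𝔟) * (C (Ideal.Quotient.mk 𝔟 y) - X)) := by ring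
    rw [this, hV, neg_zero]
  by_cases hnt : Nontrivial (MvPolynomial (Fin 2) k ⧸ 𝔟)
  · exact (Polynomial.monic_X_sub_C _).mul_left_eq_zero_iff.1 h1
  · rw [not_nontrivial_iff_subsingleton] at hnt
    exact Subsingleton.elim _ _

lemma mem_map_C_of_map_mul (𝔟 : Ideal (MvPolynomial (Fin 2) k)) (h𝔟 : 𝔟 ≠ ⊤)
    {p : k[X]} (hp : p ≠ 0) {G : (MvPolynomial (Fin 2) k)[X]}
    (hG : p.map (algebraMap k (MvPolynomial (Fin 2) k)) * G ∈
      𝔟.map (C : MvPolynomial (Fin 2) k →+* (MvPolynomial (Fin 2) k)[X])) :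
    G ∈ 𝔟.map (C : MvPolynomial (Fin 2) k →+* (MvPolynomial (Fin 2) k)[X]) := by
  haveI : Nontrivial (MvPolynomial (Fin 2) k ⧸ 𝔟) := Ideal.Quotient.nontrivial_iff.2 h𝔟
  rw [mem_map_C_iff_map_mk] at hG ⊢
  rw [Polynomial.map_mul, Polynomial.map_map] at hG
  have hlc : IsUnit (p.map ((Ideal.Quotient.mk 𝔟).comp
      (algebraMap k (MvPolynomial (Fin 2) k)))).leadingCoeff := by
    rw [Polynomial.leadingCoeff_map]
    exact (isUnit_iff_ne_zero.2 (Polynomial.leadingCoeff_ne_zero.2 hp)).map _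
  exact (Polynomial.isUnit_leadingCoeff_mul_right_eq_zero_iff hlc).1 hG

theorem map_eval_zero (hh : h ∈ 𝔞) (hle : 𝔞 ≤ Ideal.span {h} ⊔ Ideal.span {y}) :
    Ideal.map (Polynomial.evalRingHom (0 : MvPolynomial (Fin 2) k)) (fam 𝔞 h y) = 𝔞 := by
  apply le_antisymm
  · rw [Ideal.map_le_iff_le_comap]
    intro G hG
    rw [Ideal.mem_comap, Polynomial.coe_evalRingHom]
    obtain ⟨hG1, hG2⟩ := hG
    obtain ⟨U, V, rfl⟩ := Ideal.mem_span_pair.1 hG2
    have hV : V * (C y - X) ∈ (colonY 𝔞 y).map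
        (C : MvPolynomial (Fin 2) k →+* (MvPolynomial (Fin 2) k)[X]) := by
      have : V * (C y - X) = (U * C h + V * (C y - X)) - U * C h := by ring
      rw [this]
      exact Ideal.sub_mem _ hG1
        (Ideal.mul_mem_left _ _ (Ideal.mem_map_of_mem _ (le_colonY 𝔞 y hh)))
    have hV' := mem_map_C_of_mul_sub _ hV
    have hV0 := eval_mem_of_mem_map_C _ hV' 0
    rw [eval_add, eval_mul, eval_mul, eval_C, eval_sub, eval_C, eval_X, sub_zero]
    refine Ideal.add_mem _ (Ideal.mul_mem_left _ _ hh) ?_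
    rw [mul_comm]
    exact (mem_colonY 𝔞 y).1 hV0
  · intro g hg
    obtain ⟨g₁, hg₁, g₂, hg₂, hsum⟩ := Submodule.mem_sup.1 (hle hg)
    obtain ⟨u, rfl⟩ := Ideal.mem_span_singleton'.1 hg₁
    obtain ⟨v, rfl⟩ := Ideal.mem_span_singleton'.1 hg₂
    have hv : v ∈ colonY 𝔞 y := by
      rw [mem_colonY, mul_comm]
      have := Ideal.sub_mem _ hg (Ideal.mul_mem_left _ u hh)
      rw [← hsum] at this
      simpa using this
    have he : g = Polynomial.evalRingHom (0 : MvPolynomial (Fin 2) k)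
        (C u * C h + C v * (C y - X)) := by
      rw [← hsum]; simp
    rw [he]
    refine Ideal.mem_map_of_mem _ ⟨?_, ?_⟩
    · exact Ideal.add_mem _
        (Ideal.mul_mem_left _ _ (Ideal.mem_map_of_mem _ (le_colonY 𝔞 y hh)))
        (Ideal.mul_mem_right _ _ (Ideal.mem_map_of_mem _ hv))
    · exact Ideal.mem_span_pair.2 ⟨C u, C v, rfl⟩

theorem map_eval_C_le {𝔪 : Ideal (MvPolynomial (Fin 2) k)} (h𝔟m : colonY 𝔞 y ≤ 𝔪) (c : k) :
    Ideal.map (Polynomial.evalRingHom (MvPolynomial.C c : MvPolynomial (Fin 2) k)) (fam 𝔞 h y)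
      ≤ 𝔪 := by
  rw [Ideal.map_le_iff_le_comap]
  intro G hG
  exact h𝔟m (eval_mem_of_mem_map_C _ hG.1 _)

theorem exists_point [IsAlgClosed k] {i j : Fin 2} (hij : i ≠ j) {H : k[X][X]} (hH : H.Monic)
    (hHpos : 0 < H.natDegree) {c : k} (hc : c ≠ 0) :
    ∃ p : Fin 2 → k, p ≠ 0 ∧
      Ideal.map (Polynomial.evalRingHom (MvPolynomial.C c : MvPolynomial (Fin 2) k))
        (fam 𝔞 (Psi i j H) (MvPolynomial.X j)) ≤
      Ideal.span (Set.range fun l : Fin 2 =>
        (MvPolynomial.X l - MvPolynomial.C (p l) : MvPolynomial (Fin 2) k)) := by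
  classical
  have hHc : (H.map (Polynomial.evalRingHom c)).Monic := hH.map _
  have hdeg : (H.map (Polynomial.evalRingHom c)).degree ≠ 0 := by
    rw [Polynomial.degree_eq_natDegree hHc.ne_zero, hH.natDegree_map]
    exact_mod_cast hHpos.ne'
  obtain ⟨x₀, hx₀⟩ := IsAlgClosed.exists_root _ hdeg
  let p : Fin 2 → k := fun l => if l = i then x₀ else c
  have hpi : p i = x₀ := by simp [p]
  have hpj : p j = c := by simp [p, hij.symm]
  have hev : ∀ P : k[X][X], MvPolynomial.eval p (Psi i j P) =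
      (P.map (Polynomial.evalRingHom c)).eval x₀ := by
    intro P
    have h1 : (MvPolynomial.eval p).comp (Psi i j) =
        (Polynomial.evalRingHom x₀).comp (Polynomial.mapRingHom (Polynomial.evalRingHom c)) := by
      apply Polynomial.ringHom_ext
      · intro q
        have h2 : ((MvPolynomial.eval p).comp (Psi i j)).comp Polynomial.C =
            ((Polynomial.evalRingHom x₀).comp
              (Polynomial.mapRingHom (Polynomial.evalRingHom c))).comp Polynomial.C := by
          apply Polynomial.ringHom_ext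
          · intro a; simp
          · simp [hpj]
        exact congrArg (fun f => f q) h2
      · simp [hpi]
    exact congrArg (fun f => f P) h1
  refine ⟨p, ?_, ?_⟩
  · intro h0
    apply hc
    rw [← hpj, h0]; rfl
  · rw [Ideal.map_le_iff_le_comap]
    intro G hG
    rw [Ideal.mem_comap, Polynomial.coe_evalRingHom]
    apply mem_span_X_sub_C_of_eval_eq_zero
    obtain ⟨U, V, rfl⟩ := Ideal.mem_span_pair.1 hG.2
    rw [eval_add, eval_mul, eval_mul, eval_C, eval_sub, eval_C, eval_X, map_add, map_mul, map_mul,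
      map_sub, hev, MvPolynomial.eval_X, MvPolynomial.eval_C, hpj, sub_self, mul_zero, add_zero]
    have : (H.map (Polynomial.evalRingHom c)).eval x₀ = 0 := hx₀
    rw [this, mul_zero]

theorem torsion_free {i j : Fin 2} (hij : i ≠ j) {H : k[X][X]} (hH : H.Monic)
    (h𝔟 : colonY 𝔞 (MvPolynomial.X j) ≠ ⊤) {p : k[X]} (hp : p ≠ 0)
    {G : (MvPolynomial (Fin 2) k)[X]}
    (hG : p.map (algebraMap k (MvPolynomial (Fin 2) k)) * G ∈
      fam 𝔞 (Psi i j H) (MvPolynomial.X j)) :
    G ∈ fam 𝔞 (Psi i j H) (MvPolynomial.X j) := by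
  refine ⟨mem_map_C_of_map_mul _ h𝔟 hp hG.1, ?_⟩
  have h2 := (mem_span_pair_iff_eval _).1 hG.2
  change G ∈ Ideal.span {C ((Psi i j) H), C (MvPolynomial.X j) - X}
  rw [mem_span_pair_iff_eval]
  rw [eval_mul, Polynomial.eval_map] at h2
  have h3 : p.eval₂ (algebraMap k (MvPolynomial (Fin 2) k)) (MvPolynomial.X j) =
      Psi i j (C p) := by
    rw [Psi_C, psi1]
    rfl
  rw [h3] at h2
  obtain ⟨V₀, hV₀⟩ := Psi_surjective hij (G.eval (MvPolynomial.X j))
  rw [← hV₀, ← map_mul] at h2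
  obtain ⟨u, hu⟩ := Ideal.mem_span_singleton'.1 h2
  obtain ⟨U, rfl⟩ := Psi_surjective hij u
  rw [← map_mul] at hu
  have h4 : U * H = C p * V₀ := Psi_injective hij hu
  have h5 : (C p * V₀) %ₘ H = 0 := by
    rw [Polynomial.modByMonic_eq_zero_iff_dvd hH, ← h4]
    exact dvd_mul_left _ _
  rw [Polynomial.C_mul', Polynomial.smul_modByMonic, smul_eq_zero] at h5
  have h6 : V₀ %ₘ H = 0 := h5.resolve_left hp
  rw [Polynomial.modByMonic_eq_zero_iff_dvd hH] at h6
  obtain ⟨W, rfl⟩ := h6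
  rw [← hV₀, map_mul]
  exact Ideal.mul_mem_right _ _ (Ideal.subset_span rfl)

theorem flat_fam {i j : Fin 2} (hij : i ≠ j) {H : k[X][X]} (hH : H.Monic)
    (h𝔟 : colonY 𝔞 (MvPolynomial.X j) ≠ ⊤)
    {M : Type*} [CommRing M] [Algebra k[X] M] (π : (MvPolynomial (Fin 2) k)[X] →+* M)
    (hπ : Function.Surjective π)
    (hker : ∀ G, π G = 0 ↔ G ∈ fam 𝔞 (Psi i j H) (MvPolynomial.X j))
    (halg : ∀ r : k[X], algebraMap k[X] M r =
      π (r.map (algebraMap k (MvPolynomial (Fin 2) k)))) :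
    Module.Flat k[X] M := by
  rw [Module.Flat.flat_iff_torsion_eq_bot_of_isBezout, Submodule.eq_bot_iff]
  intro m hm
  rw [Submodule.mem_torsion_iff] at hm
  obtain ⟨⟨r, hr⟩, hrm⟩ := hm
  obtain ⟨G, rfl⟩ := hπ m
  have hr0 : r ≠ 0 := nonZeroDivisors.ne_zero hr
  have h1 : π (r.map (algebraMap k (MvPolynomial (Fin 2) k)) * G) = 0 := by
    rw [map_mul, ← halg, ← Algebra.smul_def]
    exact hrm
  rw [hker] at h1 ⊢
  exact torsion_free hij hH h𝔟 hr0 h1

theorem finite_fam {i j : Fin 2} (hij : i ≠ j) {H : k[X][X]} (hH : H.Monic)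
    (hHmem : Psi i j H ∈ 𝔞) {N : ℕ}
    (hyN : (MvPolynomial.X j : MvPolynomial (Fin 2) k) ^ N ∈ 𝔞)
    {M : Type*} [CommRing M] [Algebra k[X] M] (π : (MvPolynomial (Fin 2) k)[X] →+* M)
    (hπ : Function.Surjective π)
    (hker : ∀ G, π G = 0 ↔ G ∈ fam 𝔞 (Psi i j H) (MvPolynomial.X j))
    (halg : ∀ r : k[X], algebraMap k[X] M r =
      π (r.map (algebraMap k (MvPolynomial (Fin 2) k)))) :
    Module.Finite k[X] M := by
  classical
  set xb : M := π (C (MvPolynomial.X i)) with hxb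
  set yb : M := π (C (MvPolynomial.X j)) with hyb
  -- `ȳ` is integral
  have hyint : IsIntegral k[X] yb := by
    refine ⟨X ^ (N + 1) - C (X : k[X]) * X ^ N, Polynomial.monic_X_pow_sub
      (lt_of_le_of_lt (Polynomial.degree_C_mul_X_pow_le N _)
        (by exact_mod_cast Nat.lt_succ_self N)), ?_⟩
    rw [eval₂_sub, eval₂_mul, eval₂_pow, eval₂_pow, eval₂_X, eval₂_C, halg, Polynomial.map_X]
    have e : yb ^ (N + 1) - π X * yb ^ N =
        π (C (MvPolynomial.X j) ^ (N + 1) - X * C (MvPolynomial.X j) ^ N) := by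
      rw [map_sub, map_mul, map_pow, map_pow]
    rw [e, hker]
    have : (C (MvPolynomial.X j) ^ (N + 1) - X * C (MvPolynomial.X j) ^ N :
        (MvPolynomial (Fin 2) k)[X]) =
        C ((MvPolynomial.X j : MvPolynomial (Fin 2) k) ^ N) * (C (MvPolynomial.X j) - X) := by
      rw [map_pow]; ring
    rw [this]
    refine ⟨Ideal.mul_mem_right _ _ (Ideal.mem_map_of_mem _ (le_colonY 𝔞 _ hyN)), ?_⟩
    exact Ideal.mul_mem_left _ _ (Ideal.subset_span (by simp))
  -- `x̄` is integral over `k[t][ȳ]`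
  have hChmem : (C (Psi i j H) : (MvPolynomial (Fin 2) k)[X]) ∈
      fam 𝔞 (Psi i j H) (MvPolynomial.X j) :=
    ⟨Ideal.mem_map_of_mem _ (le_colonY 𝔞 _ hHmem), Ideal.subset_span (by simp)⟩
  let Sy : Subalgebra k[X] M := Algebra.adjoin k[X] {yb}
  haveI : Algebra.IsIntegral k[X] Sy := Algebra.IsIntegral.adjoin (by
    intro z hz
    rw [Set.mem_singleton_iff] at hz
    rw [hz]; exact hyint)
  have hxint : IsIntegral k[X] xb := by
    apply isIntegral_trans (A := Sy)
    let yS : Sy := ⟨yb, Algebra.subset_adjoin (Set.mem_singleton _)⟩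
    let θ' : k[X] →+* Sy := Polynomial.eval₂RingHom ((algebraMap k[X] Sy).comp C) yS
    refine ⟨H.map θ', hH.map _, ?_⟩
    rw [Polynomial.eval₂_map]
    have hcomp : (Polynomial.eval₂RingHom ((algebraMap Sy M).comp θ') xb) =
        π.comp ((C : MvPolynomial (Fin 2) k →+* _).comp (Psi i j)) := by
      apply Polynomial.ringHom_ext
      · intro c
        have h2 : (Polynomial.eval₂RingHom ((algebraMap Sy M).comp θ') xb).comp Polynomial.C =
            (π.comp ((C : MvPolynomial (Fin 2) k →+* _).comp (Psi i j))).comp Polynomial.C := by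
          apply Polynomial.ringHom_ext
          · intro a
            simp only [RingHom.comp_apply, Polynomial.coe_eval₂RingHom, eval₂_C, θ']
            change algebraMap k[X] M (C a) = _
            rw [halg, Polynomial.map_C, Psi_C, psi1_C]
            rfl
          · simp only [RingHom.comp_apply, Polynomial.coe_eval₂RingHom, eval₂_C, eval₂_X, θ']
            rw [Psi_C, psi1_X]
            rfl
        exact congrArg (fun f => f c) h2
      · simp only [RingHom.comp_apply, Polynomial.coe_eval₂RingHom, eval₂_X, Psi_X]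
        rfl
    have := congrArg (fun f => f H) hcomp
    simp only [Polynomial.coe_eval₂RingHom, RingHom.comp_apply] at this
    rw [this]
    exact (hker _).2 hChmem
  -- generation
  have hgen : Algebra.adjoin k[X] ({xb, yb} : Set M) = ⊤ := by
    rw [eq_top_iff]
    rintro m -
    obtain ⟨G, rfl⟩ := hπ m
    have hC : ∀ g : MvPolynomial (Fin 2) k, π (C g) ∈
        Algebra.adjoin k[X] ({xb, yb} : Set M) := by
      intro g
      induction g using MvPolynomial.induction_on with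
      | C a =>
        have : π (C (MvPolynomial.C a)) = algebraMap k[X] M (C a) := by
          rw [halg, Polynomial.map_C]; rfl
        rw [this]
        exact Subalgebra.algebraMap_mem _ _
      | add g₁ g₂ h₁ h₂ =>
        rw [map_add, map_add]
        exact Subalgebra.add_mem _ h₁ h₂
      | mul_X g l hg =>
        rw [map_mul, map_mul]
        refine Subalgebra.mul_mem _ hg ?_
        rcases fin2_cases hij l with rfl | rfl
        · exact Algebra.subset_adjoin (by simp [hxb])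
        · exact Algebra.subset_adjoin (by simp [hyb])
    have hX : π (X : (MvPolynomial (Fin 2) k)[X]) ∈
        Algebra.adjoin k[X] ({xb, yb} : Set M) := by
      have : π (X : (MvPolynomial (Fin 2) k)[X]) = algebraMap k[X] M X := by
        rw [halg, Polynomial.map_X]
      rw [this]
      exact Subalgebra.algebraMap_mem _ _
    induction G using Polynomial.induction_on' with
    | add p q hp hq => rw [map_add]; exact Subalgebra.add_mem _ hp hq
    | monomial n g =>
      rw [← Polynomial.C_mul_X_pow_eq_monomial, map_mul, map_pow]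
      exact Subalgebra.mul_mem _ (hC g) (Subalgebra.pow_mem _ hX n)
  have hfg := fg_adjoin_of_finite (R := k[X]) (s := ({xb, yb} : Set M)) (Set.toFinite _) (by
    intro z hz
    rcases hz with rfl | hz
    · exact hxint
    · rw [Set.mem_singleton_iff] at hz; rw [hz]; exact hyint)
  rw [hgen, Algebra.top_toSubmodule] at hfg
  exact ⟨hfg⟩

end family

end Groth.Agent.H57.PullApart
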