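import Mathlib
import Groth.Agent.H14.HensProp.UnramFlat

/-!
# A retraction of an unramified local algebra over a geometrically unibranch local domain

Let `R` be a geometrically unibranch local domain with fraction field `K`, `R → S` a local
homomorphism, essentially of finite type and formally unramified, and `σ : S → K` an `R`-algebra
map.  Then `σ` factors through a retraction `S → R`.
-/

set_option autoImplicit false
set_option linter.style.haveILetI false

namespace Groth.Agent.H57.RatSec

universe u

open IsLocalRing

/-- A flat local extension of a local domain inside its fraction field is trivial. -/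
theorem surjective_of_flat_of_le_fractionRing (R S K : Type u) [CommRing R] [IsDomain R]
    [IsLocalRing R] [Field K] [Algebra R K] [IsFractionRing R K] [CommRing S] [IsDomain S]
    [IsLocalRing S] [Algebra R S] [IsLocalHom (algebraMap R S)] [Module.Flat R S]
    (j : S →+* K) (hj : Function.Injective j) (hjc : j.comp (algebraMap R S) = algebraMap R K) :
    Function.Surjective (algebraMap R S) := by
  haveI : Module.FaithfullyFlat R S := Module.FaithfullyFlat.of_flat_of_isLocalHom
  have hinj : Function.Injective (algebraMap R S) := by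
    intro a b hab
    apply IsFractionRing.injective R K
    rw [← hjc, RingHom.comp_apply, RingHom.comp_apply, hab]
  intro s
  obtain ⟨a, b, hb, hab⟩ := IsFractionRing.div_surjective (A := R) (j s)
  have hb0 : algebraMap R K b ≠ 0 :=
    IsFractionRing.to_map_ne_zero_of_mem_nonZeroDivisors hb
  have h1 : algebraMap R S b * s = algebraMap R S a := by
    apply hj
    rw [map_mul, ← RingHom.comp_apply, ← RingHom.comp_apply, hjc, ← hab, mul_div_cancel₀ _ hb0]
  have h2 : a ∈ Ideal.span {b} := by
    rw [← Ideal.comap_map_eq_self_of_faithfullyFlat (B := S) (Ideal.span {b}), Ideal.mem_comap,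
      Ideal.map_span, Set.image_singleton, Ideal.mem_span_singleton']
    exact ⟨s, by rw [mul_comm]; exact h1⟩
  obtain ⟨c, rfl⟩ := Ideal.mem_span_singleton'.mp h2
  refine ⟨c, ?_⟩
  have hbS : algebraMap R S b ≠ 0 := by
    intro h
    apply hb0
    rw [← hjc, RingHom.comp_apply, h, map_zero]
  apply mul_left_cancel₀ hbS
  rw [h1, mul_comm c b, map_mul]

/-- The retraction. -/
theorem exists_retraction (R S K : Type u) [CommRing R] [IsDomain R] [IsLocalRing R]
    (hR : CAlg2.IsGeomUnibranch R) [Field K] [Algebra R K] [IsFractionRing R K]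
    [CommRing S] [IsLocalRing S] (φ : R →+* S) [hφ : IsLocalHom φ] (hess : φ.EssFiniteType)
    (hunr : φ.FormallyUnramified) (σ : S →+* K) (hσ : σ.comp φ = algebraMap R K) :
    ∃ ρ : S →+* R, ρ.comp φ = RingHom.id R ∧ (algebraMap R K).comp ρ = σ := by
  letI : Algebra R S := φ.toAlgebra
  haveI : Algebra.EssFiniteType R S := hess
  haveI : Algebra.FormallyUnramified R S := hunr
  haveI hP : (RingHom.ker σ).IsPrime := RingHom.ker_isPrime σ
  let P := RingHom.ker σ
  haveI : IsLocalRing (S ⧸ P) :=
    IsLocalRing.of_surjective' (Ideal.Quotient.mk P) Ideal.Quotient.mk_surjective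
  haveI : IsLocalHom (Ideal.Quotient.mk P) :=
    IsLocalHom.of_surjective _ Ideal.Quotient.mk_surjective
  haveI : IsLocalHom (algebraMap R (S ⧸ P)) := by
    have : algebraMap R (S ⧸ P) = (Ideal.Quotient.mk P).comp φ := rfl
    rw [this]
    exact RingHom.isLocalHom_comp _ _
  haveI : Algebra.FormallyUnramified R (S ⧸ P) :=
    Algebra.FormallyUnramified.of_surjective (Ideal.Quotient.mkₐ R P)
      (Ideal.Quotient.mkₐ_surjective R P)
  let j : S ⧸ P →+* K := Ideal.Quotient.lift P σ (fun a ha => ha)
  have hj : Function.Injective j := by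
    rw [injective_iff_map_eq_zero]
    intro a ha
    obtain ⟨s, rfl⟩ := Ideal.Quotient.mk_surjective a
    rw [Ideal.Quotient.lift_mk] at ha
    exact Ideal.Quotient.eq_zero_iff_mem.mpr ha
  have hjc : j.comp (algebraMap R (S ⧸ P)) = algebraMap R K := by
    ext r
    rw [← hσ]
    rfl
  have hinj : Function.Injective (algebraMap R (S ⧸ P)) := by
    intro a b hab
    apply IsFractionRing.injective R K
    rw [← hjc, RingHom.comp_apply, RingHom.comp_apply, hab]
  haveI : Module.Flat R (S ⧸ P) :=
    Groth.Agent.H14.HensProp.UnramFlat.flat_of_unramified_of_injective R (S ⧸ P) hR hinj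
  have hsurj := surjective_of_flat_of_le_fractionRing R (S ⧸ P) K j hj hjc
  let ψ : R ≃+* S ⧸ P := RingEquiv.ofBijective (algebraMap R (S ⧸ P)) ⟨hinj, hsurj⟩
  refine ⟨(ψ.symm : S ⧸ P →+* R).comp (Ideal.Quotient.mk P), ?_, ?_⟩
  · ext r
    change ψ.symm (algebraMap R (S ⧸ P) r) = r
    exact ψ.symm_apply_apply r
  · ext s
    change algebraMap R K (ψ.symm (Ideal.Quotient.mk P s)) = σ s
    have h1 : j (ψ (ψ.symm (Ideal.Quotient.mk P s))) = σ s := by
      rw [ψ.apply_symm_apply]
      rfl
    rw [← h1, ← hjc]
    rfl

end Groth.Agent.H57.RatSec
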