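import Mathlib
import Groth.Agent.H57.RatSecA

/-!
# Extending a rational section of an unramified morphism at a geometrically unibranch point:
the case of an integral base
-/

set_option autoImplicit false
set_option linter.style.haveILetI false

namespace Groth.Agent.H57.RatSec

universe u

open AlgebraicGeometry CategoryTheory IsLocalRing

/-- EGA IV 18.10.19 for an integral base. -/
theorem exists_section_of_isIntegral {X Y : Scheme.{u}} [IsIntegral Y] (f : X ⟶ Y)
    [IsSeparated f] [LocallyOfFiniteType f] [FormallyUnramified f]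
    (U : Y.Opens) (hU : (U : Set Y).Nonempty) (u : (U : Scheme.{u}) ⟶ X) (hu : u ≫ f = U.ι)
    (x : X) (hy : CAlg2.IsGeomUnibranch (Y.presheaf.stalk (f x)))
    (hx : x ∈ closure (Set.range u)) :
    ∃ (V : Y.Opens) (v : (V : Scheme.{u}) ⟶ X), f x ∈ V ∧ v ≫ f = V.ι ∧
      Y.homOfLE (inf_le_left : U ⊓ V ≤ U) ≫ u = Y.homOfLE (inf_le_right : U ⊓ V ≤ V) ≫ v := by
  -- the generic point
  set η := genericPoint Y with hη
  have hgen : IsGenericPoint η (⊤ : Set Y) := genericPoint_spec Y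
  have hηmem : ∀ W : Y.Opens, (W : Set Y).Nonempty → η ∈ W := by
    intro W hW
    obtain ⟨w, hw⟩ := hW
    exact (hgen.specializes (Set.mem_univ w)).mem_open W.2 hw
  have hηU : η ∈ U := hηmem U hU
  have hηy : η ⤳ f x := hgen.specializes (Set.mem_univ _)
  -- the generic point of the section
  let gu : Spec (Y.presheaf.stalk η) ⟶ X := U.fromSpecStalkOfMem η hηU ≫ u
  have hgu : gu ≫ f = Y.fromSpecStalk η := by
    rw [Category.assoc, hu, Scheme.Opens.fromSpecStalkOfMem_ι]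
  have hcl : U.fromSpecStalkOfMem η hηU (closedPoint (Y.presheaf.stalk η)) = ⟨η, hηU⟩ := by
    apply U.ι.injective
    rw [← Scheme.Hom.comp_apply, Scheme.Opens.fromSpecStalkOfMem_ι, Scheme.fromSpecStalk_closedPoint]
    rfl
  have hξ : gu (closedPoint (Y.presheaf.stalk η)) = u ⟨η, hηU⟩ := by
    rw [Scheme.Hom.comp_apply, hcl]
  have hξx : gu (closedPoint (Y.presheaf.stalk η)) ⤳ x := by
    rw [hξ, specializes_iff_mem_closure]
    refine closure_minimal ?_ isClosed_closure hx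
    rintro _ ⟨t, rfl⟩
    rw [← specializes_iff_mem_closure]
    apply Specializes.map _ u.continuous
    rw [← U.ι.isEmbedding.isInducing.specializes_iff]
    exact hgen.specializes (Set.mem_univ _)
  -- the induced map on local rings
  let σ : X.presheaf.stalk x ⟶ Y.presheaf.stalk η :=
    X.presheaf.stalkSpecializes hξx ≫ Scheme.stalkClosedPointTo gu
  have hσ : Spec.map σ ≫ X.fromSpecStalk x = gu := by
    rw [Spec.map_comp, Category.assoc, Scheme.SpecMap_stalkSpecializes_fromSpecStalk,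
      Scheme.Spec_stalkClosedPointTo_fromSpecStalk]
  have hσφ : f.stalkMap x ≫ σ = Y.presheaf.stalkSpecializes hηy := by
    apply Spec.map_injective
    rw [← cancel_mono (Y.fromSpecStalk (f x)), Spec.map_comp, Category.assoc,
      Scheme.SpecMap_stalkMap_fromSpecStalk, ← Category.assoc, hσ, hgu,
      Scheme.SpecMap_stalkSpecializes_fromSpecStalk]
  -- the retraction on local rings
  have hσ' : σ.hom.comp (f.stalkMap x).hom =
      algebraMap (Y.presheaf.stalk (f x)) Y.functionField := by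
    rw [← CommRingCat.hom_comp, hσφ]
    rfl
  obtain ⟨ρ, hρ1, hρ2⟩ := exists_retraction (Y.presheaf.stalk (f x)) (X.presheaf.stalk x)
    Y.functionField hy (f.stalkMap x).hom (LocallyOfFiniteType.stalkMap f x)
    (FormallyUnramified.stalkMap f x) σ.hom hσ'
  let ρ' : X.presheaf.stalk x ⟶ Y.presheaf.stalk (f x) := CommRingCat.ofHom ρ
  have hρ1' : f.stalkMap x ≫ ρ' = 𝟙 _ := by
    ext a
    exact DFunLike.congr_fun hρ1 a
  have hρ2' : ρ' ≫ Y.presheaf.stalkSpecializes hηy = σ := by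
    ext a
    exact DFunLike.congr_fun hρ2 a
  -- spread out
  let φ : Spec (Y.presheaf.stalk (f x)) ⟶ X := Spec.map ρ' ≫ X.fromSpecStalk x
  have hφ : φ ≫ f = Y.fromSpecStalk (f x) ≫ 𝟙 Y := by
    rw [Category.assoc, ← Scheme.SpecMap_stalkMap_fromSpecStalk, ← Category.assoc, ← Spec.map_comp,
      hρ1', Spec.map_id, Category.id_comp, Category.comp_id]
  obtain ⟨V, hyV, v, hv1, hv2⟩ := spread_out_of_isGermInjective' (𝟙 Y) f φ hφ
  rw [Category.comp_id] at hv2
  refine ⟨V, v, hyV, hv2, ?_⟩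
  -- agreement on `U ⊓ V`
  have hηV : η ∈ V := hηmem V ⟨f x, hyV⟩
  have hηT : η ∈ U ⊓ V := ⟨hηU, hηV⟩
  have h1 : (U ⊓ V).fromSpecStalkOfMem η hηT ≫ Y.homOfLE (inf_le_left : U ⊓ V ≤ U) =
      U.fromSpecStalkOfMem η hηU := by
    rw [← cancel_mono U.ι, Category.assoc, Scheme.homOfLE_ι, Scheme.Opens.fromSpecStalkOfMem_ι,
      Scheme.Opens.fromSpecStalkOfMem_ι]
  have h2 : (U ⊓ V).fromSpecStalkOfMem η hηT ≫ Y.homOfLE (inf_le_right : U ⊓ V ≤ V) =
      V.fromSpecStalkOfMem η hηV := by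
    rw [← cancel_mono V.ι, Category.assoc, Scheme.homOfLE_ι, Scheme.Opens.fromSpecStalkOfMem_ι,
      Scheme.Opens.fromSpecStalkOfMem_ι]
  have h3 : V.fromSpecStalkOfMem η hηV =
      Spec.map (Y.presheaf.stalkSpecializes hηy) ≫ V.fromSpecStalkOfMem (f x) hyV := by
    rw [← cancel_mono V.ι, Category.assoc, Scheme.Opens.fromSpecStalkOfMem_ι,
      Scheme.Opens.fromSpecStalkOfMem_ι, Scheme.SpecMap_stalkSpecializes_fromSpecStalk]
  have key : (U ⊓ V).fromSpecStalkOfMem η hηT ≫ (Y.homOfLE (inf_le_left : U ⊓ V ≤ U) ≫ u) =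
      (U ⊓ V).fromSpecStalkOfMem η hηT ≫ (Y.homOfLE (inf_le_right : U ⊓ V ≤ V) ≫ v) := by
    rw [← Category.assoc, h1, ← Category.assoc, h2, h3, Category.assoc, ← hv1]
    change gu = Spec.map (Y.presheaf.stalkSpecializes hηy) ≫ Spec.map ρ' ≫ X.fromSpecStalk x
    rw [← Category.assoc, ← Spec.map_comp, hρ2', hσ]
  haveI : Nonempty ((U ⊓ V : Y.Opens) : Scheme.{u}) := ⟨⟨η, hηT⟩⟩
  haveI : IsIntegral ((U ⊓ V : Y.Opens) : Scheme.{u}) := isIntegral_of_isOpenImmersion (U ⊓ V).ι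
  let t₀ : ↥((U ⊓ V : Y.Opens) : Scheme.{u}) := ⟨η, hηT⟩
  have h4 : ((U ⊓ V : Y.Opens) : Scheme.{u}).fromSpecStalk t₀ =
      Spec.map ((U ⊓ V).ι.stalkMap t₀) ≫ (U ⊓ V).fromSpecStalkOfMem η hηT := by
    change _ = Spec.map ((U ⊓ V).ι.stalkMap t₀) ≫
      (Spec.map (inv ((U ⊓ V).ι.stalkMap t₀)) ≫ ((U ⊓ V : Y.Opens) : Scheme.{u}).fromSpecStalk t₀)
    rw [← Category.assoc, ← Spec.map_comp, IsIso.inv_hom_id, Spec.map_id, Category.id_comp]
  have key' : ((U ⊓ V : Y.Opens) : Scheme.{u}).fromSpecStalk t₀ ≫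
        (Y.homOfLE (inf_le_left : U ⊓ V ≤ U) ≫ u) =
      ((U ⊓ V : Y.Opens) : Scheme.{u}).fromSpecStalk t₀ ≫
        (Y.homOfLE (inf_le_right : U ⊓ V ≤ V) ≫ v) := by
    rw [h4, Category.assoc, Category.assoc]
    exact congrArg (fun m => Spec.map ((U ⊓ V).ι.stalkMap t₀) ≫ m) key
  obtain ⟨T', ht', hT'⟩ := spread_out_unique_of_isGermInjective' _ _ key'
  haveI : IsDominant T'.ι := by
    constructor
    have : Set.range T'.ι = (T' : Set ((U ⊓ V : Y.Opens) : Scheme.{u})) := by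
      simp
    rw [DenseRange, this]
    exact T'.2.dense ⟨_, ht'⟩
  refine ext_of_isDominant_of_isSeparated f ?_ T'.ι hT'
  rw [Category.assoc, hu, Category.assoc, hv2, Scheme.homOfLE_ι, Scheme.homOfLE_ι]

end Groth.Agent.H57.RatSec
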