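import Mathlib
import Groth.Agent.H57.RatSecB
import Groth.Agent.H25.ChevOpenB
import Groth.Agent.H13.GUFlatDescent

/-!
# Extending a rational section of an unramified morphism at a geometrically unibranch point
(EGA IV 18.10.19), general reduced base with locally finitely many irreducible components
-/

set_option autoImplicit false
set_option linter.style.haveILetI false

namespace Groth.Agent.H57.RatSec

universe u

open AlgebraicGeometry CategoryTheory IsLocalRing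

/-- A point with irreducible local ring on a reduced scheme whose irreducible components are
locally finite has an integral open neighbourhood. -/
theorem exists_isIntegral_open_nhd (Y : Scheme.{u}) [IsReduced Y]
    (hcomp : LocallyFinite (fun Z : ↥(irreducibleComponents ↥Y) => (Z : Set ↥Y))) (y : Y)
    (hy : (nilradical (Y.presheaf.stalk y)).IsPrime) :
    ∃ Y₀ : Y.Opens, y ∈ Y₀ ∧ IsIntegral (Y₀ : Scheme.{u}) := by
  set Z₁ : Set Y := irreducibleComponent y with hZ₁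
  have hZ₁mem : Z₁ ∈ irreducibleComponents (Y : Type u) :=
    irreducibleComponent_mem_irreducibleComponents y
  let ι := {Z : ↥(irreducibleComponents ↥Y) // (Z : Set Y) ≠ Z₁}
  have hlf : LocallyFinite (fun Z : ι => ((Z : ↥(irreducibleComponents ↥Y)) : Set ↥Y)) :=
    hcomp.comp_injective Subtype.val_injective
  set C : Set Y := ⋃ Z : ι, ((Z : ↥(irreducibleComponents ↥Y)) : Set ↥Y) with hC
  have hCcl : IsClosed C :=
    hlf.isClosed_iUnion (fun Z => isClosed_of_mem_irreducibleComponents _ Z.1.2)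
  have hyC : y ∉ C := by
    rw [hC, Set.mem_iUnion]
    rintro ⟨Z, hyZ⟩
    exact Z.2 (Groth.Agent.H25.ChevCore.component_unique_of_nilradical_isPrime Y y hy _ Z.1.2 Z₁
      hZ₁mem hyZ mem_irreducibleComponent)
  have hsub : Cᶜ ⊆ Z₁ := by
    intro t ht
    by_contra htZ
    apply ht
    rw [hC, Set.mem_iUnion]
    refine ⟨⟨⟨irreducibleComponent t, irreducibleComponent_mem_irreducibleComponents t⟩, ?_⟩,
      mem_irreducibleComponent⟩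
    intro heq
    apply htZ
    rw [← heq]
    exact mem_irreducibleComponent
  have hirr : IsIrreducible Cᶜ :=
    ⟨⟨y, hyC⟩, hZ₁mem.1.2.open_subset hCcl.isOpen_compl hsub⟩
  let Y₀ : Y.Opens := ⟨Cᶜ, hCcl.isOpen_compl⟩
  refine ⟨Y₀, hyC, ?_⟩
  haveI : IrreducibleSpace ↥(Y₀ : Scheme.{u}) := Subtype.irreducibleSpace hirr
  haveI : IsReduced (Y₀ : Scheme.{u}) := isReduced_of_isOpenImmersion Y₀.ι
  exact isIntegral_of_irreducibleSpace_of_isReduced _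

/-- EGA IV 18.10.19. -/
theorem exists_section {X Y : Scheme.{u}} [IsReduced Y]
    (hcomp : LocallyFinite (fun Z : ↥(irreducibleComponents ↥Y) => (Z : Set ↥Y)))
    (f : X ⟶ Y) [IsSeparated f] [LocallyOfFiniteType f] [FormallyUnramified f]
    (U : Y.Opens) (hU : Dense (U : Set ↥Y)) (u : (U : Scheme.{u}) ⟶ X) (hu : u ≫ f = U.ι)
    (x : X) (hy : CAlg2.IsGeomUnibranch (Y.presheaf.stalk (f x)))
    (hx : x ∈ closure (Set.range u)) :
    ∃ (V : Y.Opens) (v : (V : Scheme.{u}) ⟶ X), f x ∈ V ∧ v ≫ f = V.ι ∧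
      Y.homOfLE (inf_le_left : U ⊓ V ≤ U) ≫ u = Y.homOfLE (inf_le_right : U ⊓ V ≤ V) ≫ v := by
  have hprime : (nilradical (Y.presheaf.stalk (f x))).IsPrime :=
    (Ideal.Quotient.isDomain_iff_prime _).mp hy.1.1
  obtain ⟨Y₀, hyY₀, hint⟩ := exists_isIntegral_open_nhd Y hcomp (f x) hprime
  -- restrict everything to `Y₀`
  let X₀ : X.Opens := f ⁻¹ᵁ Y₀
  let f₀ : (X₀ : Scheme.{u}) ⟶ (Y₀ : Scheme.{u}) := f ∣_ Y₀
  have hf₀ : f₀ ≫ Y₀.ι = X₀.ι ≫ f := morphismRestrict_ι f Y₀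
  haveI : FormallyUnramified f₀ :=
    IsZariskiLocalAtTarget.restrict (P := @FormallyUnramified) inferInstance Y₀
  let U₀ : (Y₀ : Scheme.{u}).Opens := Y₀.ι ⁻¹ᵁ U
  have hU₀ : (U₀ : Set ↥(Y₀ : Scheme.{u})).Nonempty := by
    obtain ⟨w, hwY₀, hwU⟩ := hU.inter_open_nonempty Y₀ Y₀.2 ⟨f x, hyY₀⟩
    exact ⟨⟨w, hwY₀⟩, hwU⟩
  let r : (U₀ : Scheme.{u}) ⟶ (U : Scheme.{u}) := Y₀.ι.resLE U U₀ le_rfl
  have hr : r ≫ U.ι = U₀.ι ≫ Y₀.ι := Scheme.Hom.resLE_comp_ι _ _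
  have hrange : Set.range (r ≫ u) ⊆ Set.range X₀.ι := by
    rintro _ ⟨t, rfl⟩
    rw [Scheme.Opens.range_ι]
    change f ((r ≫ u) t) ∈ Y₀
    rw [← Scheme.Hom.comp_apply, Category.assoc, hu, hr, Scheme.Hom.comp_apply]
    exact (U₀.ι t).2
  let u₀ : (U₀ : Scheme.{u}) ⟶ (X₀ : Scheme.{u}) := IsOpenImmersion.lift X₀.ι (r ≫ u) hrange
  have hu₀ι : u₀ ≫ X₀.ι = r ≫ u := IsOpenImmersion.lift_fac _ _ _
  have hu₀ : u₀ ≫ f₀ = U₀.ι := by
    rw [← cancel_mono Y₀.ι, Category.assoc, hf₀, ← Category.assoc, hu₀ι, Category.assoc, hu, hr]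
  let x₀ : ↥(X₀ : Scheme.{u}) := ⟨x, hyY₀⟩
  have hx₀ι : X₀.ι x₀ = x := rfl
  have hfx₀ : Y₀.ι (f₀ x₀) = f x := by
    rw [← Scheme.Hom.comp_apply, hf₀, Scheme.Hom.comp_apply, hx₀ι]
  have hy₀ : CAlg2.IsGeomUnibranch ((Y₀ : Scheme.{u}).presheaf.stalk (f₀ x₀)) := by
    have h1 : CAlg2.IsGeomUnibranch (Y.presheaf.stalk (Y₀.ι (f₀ x₀))) := hfx₀.symm ▸ hy
    exact Groth.Agent.H13.GUFlatDescent.isGeomUnibranch_of_ringEquiv
      (asIso (Y₀.ι.stalkMap (f₀ x₀))).commRingCatIsoToRingEquiv.symm h1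
  have hx₀ : x₀ ∈ closure (Set.range u₀) := by
    rw [mem_closure_iff]
    intro o ho hxo
    obtain ⟨o', ho', rfl⟩ := isOpen_induced_iff.mp ho
    have hopen : IsOpen (o' ∩ (X₀ : Set X)) := ho'.inter X₀.2
    obtain ⟨_, ⟨hz1, hz2⟩, ⟨t, rfl⟩⟩ := mem_closure_iff.mp hx _ hopen ⟨hxo, hyY₀⟩
    have htY₀ : U.ι t ∈ Y₀ := by
      have : f (u t) = U.ι t := by rw [← Scheme.Hom.comp_apply, hu]
      rw [← this]
      exact hz2
    let t' : ↥(U₀ : Scheme.{u}) := ⟨⟨t.1, htY₀⟩, t.2⟩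
    have hrt : r t' = t := by
      apply U.ι.injective
      rw [← Scheme.Hom.comp_apply, hr]
      rfl
    refine ⟨u₀ t', ?_, ⟨t', rfl⟩⟩
    change X₀.ι (u₀ t') ∈ o'
    rw [← Scheme.Hom.comp_apply, hu₀ι, Scheme.Hom.comp_apply, hrt]
    exact hz1
  obtain ⟨V₀, v₀, hmem, hv₀, hag⟩ :=
    exists_section_of_isIntegral f₀ U₀ hU₀ u₀ hu₀ x₀ hy₀ hx₀
  -- transport back to `Y`
  let V : Y.Opens := Y₀.ι ''ᵁ V₀
  let e : (V₀ : Scheme.{u}) ≅ (V : Scheme.{u}) := Y₀.ι.isoImage V₀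
  have he : e.hom ≫ V.ι = V₀.ι ≫ Y₀.ι := Scheme.Hom.isoImage_hom_ι _ _
  refine ⟨V, e.inv ≫ v₀ ≫ X₀.ι, ?_, ?_, ?_⟩
  · rw [← hfx₀]
    exact ⟨f₀ x₀, hmem, rfl⟩
  · rw [Category.assoc, Category.assoc, ← hf₀, ← Category.assoc v₀, hv₀, ← he, Iso.inv_hom_id_assoc]
  · have hrange' : Set.range (U ⊓ V).ι ⊆ Set.range ((U₀ ⊓ V₀).ι ≫ Y₀.ι) := by
      rintro _ ⟨t, rfl⟩
      obtain ⟨w, hwV₀, hw⟩ := t.2.2
      have hw' : Y₀.ι w = t.1 := hw
      have hwU₀ : w ∈ U₀ := by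
        change Y₀.ι w ∈ U
        rw [hw']
        exact t.2.1
      exact ⟨⟨w, hwU₀, hwV₀⟩, hw⟩
    let k : ((U ⊓ V : Y.Opens) : Scheme.{u}) ⟶ ((U₀ ⊓ V₀ : (Y₀ : Scheme.{u}).Opens) : Scheme.{u}) :=
      IsOpenImmersion.lift ((U₀ ⊓ V₀).ι ≫ Y₀.ι) (U ⊓ V).ι hrange'
    have hk : k ≫ (U₀ ⊓ V₀).ι ≫ Y₀.ι = (U ⊓ V).ι := IsOpenImmersion.lift_fac _ _ _
    have h1 : Y.homOfLE (inf_le_left : U ⊓ V ≤ U) =
        k ≫ (Y₀ : Scheme.{u}).homOfLE (inf_le_left : U₀ ⊓ V₀ ≤ U₀) ≫ r := by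
      rw [← cancel_mono U.ι, Scheme.homOfLE_ι, Category.assoc, Category.assoc, hr,
        Scheme.homOfLE_ι_assoc, hk]
    have h2 : Y.homOfLE (inf_le_right : U ⊓ V ≤ V) =
        k ≫ (Y₀ : Scheme.{u}).homOfLE (inf_le_right : U₀ ⊓ V₀ ≤ V₀) ≫ e.hom := by
      rw [← cancel_mono V.ι, Scheme.homOfLE_ι, Category.assoc, Category.assoc, he,
        Scheme.homOfLE_ι_assoc, hk]
    rw [h1, h2]
    simp only [Category.assoc, Iso.hom_inv_id_assoc]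
    rw [← hu₀ι, ← Category.assoc ((Y₀ : Scheme.{u}).homOfLE _) u₀, hag, Category.assoc]

end Groth.Agent.H57.RatSec
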