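import Mathlib
import Groth.Prelude.Def_Found
import Groth.Agent.H38.NagataIC
import Groth.Agent.H48.GeomRedPI

/-!
# Finiteness of the integral closure of `B` in the reduction of a flat, essentially finite type
`B`-algebra, when the quotients of `B` by its minimal primes are N-2 (EGA 0_IV 23.2)
-/

set_option autoImplicit false
set_option linter.style.haveILetI false
set_option linter.unusedSectionVars false
universe u

open TensorProduct

namespace Groth.Agent.H57.RedStab

/-- Going down: a minimal prime of a flat algebra contracts to a minimal prime. -/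
theorem under_mem_minimalPrimes_of_flat {R S : Type*} [CommRing R] [CommRing S] [Algebra R S]
    [Module.Flat R S] (Q : Ideal S) (hQ : Q ∈ minimalPrimes S) : Q.under R ∈ minimalPrimes R := by
  haveI hQp : Q.IsPrime := hQ.1.1
  refine ⟨⟨inferInstance, bot_le⟩, fun p hp hle => ?_⟩
  haveI : p.IsPrime := hp.1
  haveI : Q.LiesOver (Q.under R) := ⟨rfl⟩
  obtain ⟨P, hPQ, hPprime, hPover⟩ := Ideal.exists_ideal_le_liesOver_of_le (p := p) Q hle
  have hPeq : Q ≤ P := hQ.2 ⟨hPprime, bot_le⟩ hPQ
  have : P = Q := le_antisymm hPQ hPeq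
  subst this
  rw [hPover.over]

section Field

variable (C : Type u) [CommRing C] [IsNoetherianRing C]

/-- The integral closure of `C` in a field `L` essentially of finite type over it is finite, as
soon as `C ⧸ ker (C → L)` is N-2. -/
theorem finite_integralClosure_of_essFiniteType (L : Type u) [Field L] [Algebra C L]
    [Algebra.EssFiniteType C L]
    (hN : ∀ [(RingHom.ker (algebraMap C L)).IsPrime], CAlg.IsN2 (C ⧸ RingHom.ker (algebraMap C L))) :
    Module.Finite C (integralClosure C L) := by
  let φ : C →+* L := algebraMap C L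
  let q : Ideal C := RingHom.ker φ
  haveI hq : q.IsPrime := RingHom.ker_isPrime φ
  have hN2 : CAlg.IsN2 (C ⧸ q) := hN
  letI : Algebra (C ⧸ q) L := φ.kerLift.toAlgebra
  haveI : IsScalarTower C (C ⧸ q) L := IsScalarTower.of_algebraMap_eq (fun c => rfl)
  haveI : FaithfulSMul (C ⧸ q) L :=
    (faithfulSMul_iff_algebraMap_injective _ _).2 (RingHom.kerLift_injective φ)
  letI : Algebra (FractionRing (C ⧸ q)) L := FractionRing.liftAlgebra (C ⧸ q) L
  haveI : IsScalarTower (C ⧸ q) (FractionRing (C ⧸ q)) L :=
    FractionRing.isScalarTower_liftAlgebra (C ⧸ q) L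
  haveI : IsScalarTower C (FractionRing (C ⧸ q)) L := IsScalarTower.of_algebraMap_eq (fun c => by
    rw [IsScalarTower.algebraMap_apply C (C ⧸ q) L,
      IsScalarTower.algebraMap_apply (C ⧸ q) (FractionRing (C ⧸ q)) L,
      ← IsScalarTower.algebraMap_apply C (C ⧸ q) (FractionRing (C ⧸ q))])
  haveI : Algebra.EssFiniteType (FractionRing (C ⧸ q)) L :=
    Algebra.EssFiniteType.of_comp C (FractionRing (C ⧸ q)) L
  have h1 : Module.Finite (C ⧸ q) (integralClosure (C ⧸ q) L) :=
    Groth.Agent.H38.NagataIC.finite_integralClosure_of_isN2_of_essFiniteType (C ⧸ q)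
      (FractionRing (C ⧸ q)) L hN2
  exact Groth.Agent.H38.NagataIC.finite_integralClosure_of_surjective
    (A := C) (A' := C ⧸ q) (L := L) Ideal.Quotient.mk_surjective h1

/-- Let `C` be a Noetherian ring whose quotients by minimal primes are N-2, and `R` a flat
`C`-algebra essentially of finite type.  Then the integral closure of `C` in `R_red` is a finite
`C`-module. -/
theorem finite_integralClosure_red_of_flat
    (hJ : ∀ (q : Ideal C) [q.IsPrime], q ∈ minimalPrimes C → CAlg.IsN2 (C ⧸ q))
    (R : Type u) [CommRing R] [Algebra C R] [Module.Flat C R] [Algebra.EssFiniteType C R] :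
    Module.Finite C (integralClosure C (R ⧸ nilradical R)) := by
  haveI : IsNoetherianRing R := Groth.Agent.H48.GeomRedPI.isNoetherianRing_of_essFiniteType C R
  haveI : IsReduced (R ⧸ nilradical R) :=
    (Ideal.isRadical_iff_quotient_reduced _).1 (Ideal.radical_isRadical ⊥)
  haveI : Algebra.EssFiniteType C (R ⧸ nilradical R) :=
    Algebra.EssFiniteType.comp C R (R ⧸ nilradical R)
  refine Groth.Agent.H38.NagataIC.finite_integralClosure_of_minimalPrimes
    (minimalPrimes.finite_of_isNoetherianRing (R ⧸ nilradical R)) ?_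
  intro Q hQ
  haveI : Q.IsPrime := hQ.1.1
  let E := R ⧸ nilradical R
  refine ⟨FractionRing (E ⧸ Q), inferInstance, algebraMap E (FractionRing (E ⧸ Q)), ?_, ?_⟩
  · intro e he
    rw [RingHom.mem_ker, IsScalarTower.algebraMap_apply E (E ⧸ Q) (FractionRing (E ⧸ Q))] at he
    have h0 : algebraMap E (E ⧸ Q) e = 0 :=
      IsFractionRing.injective (E ⧸ Q) (FractionRing (E ⧸ Q)) (he.trans (map_zero _).symm)
    exact Ideal.Quotient.eq_zero_iff_mem.1 h0
  · have heq : ((algebraMap E (FractionRing (E ⧸ Q))).comp (algebraMap C E)).toAlgebra =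
        (inferInstance : Algebra C (FractionRing (E ⧸ Q))) := by
      rw [← IsScalarTower.algebraMap_eq C E (FractionRing (E ⧸ Q))]
      exact toAlgebra_algebraMap
    show @Module.Finite C (@integralClosure C (FractionRing (E ⧸ Q)) _ _
      ((algebraMap E (FractionRing (E ⧸ Q))).comp (algebraMap C E)).toAlgebra) _ _ _
    rw [heq]
    haveI : Algebra.EssFiniteType E (FractionRing (E ⧸ Q)) :=
      Algebra.EssFiniteType.comp E (E ⧸ Q) (FractionRing (E ⧸ Q))
    haveI : Algebra.EssFiniteType C (FractionRing (E ⧸ Q)) :=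
      Algebra.EssFiniteType.comp C E (FractionRing (E ⧸ Q))
    apply finite_integralClosure_of_essFiniteType C (FractionRing (E ⧸ Q))
    intro hker
    -- the kernel of `C → Frac (E/Q)` is the contraction of a minimal prime of `R`
    have hQ' : Q.comap (Ideal.Quotient.mk (nilradical R)) ∈ minimalPrimes R := by
      have h1 := Ideal.minimalPrimes_comap_of_surjective
        (f := Ideal.Quotient.mk (nilradical R)) Ideal.Quotient.mk_surjective hQ
      have h2 : (⊥ : Ideal E).comap (Ideal.Quotient.mk (nilradical R)) = nilradical R := by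
        rw [← RingHom.ker_eq_comap_bot, Ideal.mk_ker]
      rw [h2] at h1
      refine ⟨⟨h1.1.1, bot_le⟩, fun p hp hle => h1.2 ⟨hp.1, ?_⟩ hle⟩
      haveI := hp.1
      exact nilradical_le_prime p
    have hker_eq : RingHom.ker (algebraMap C (FractionRing (E ⧸ Q))) =
        (Q.comap (Ideal.Quotient.mk (nilradical R))).under C := by
      ext c
      rw [RingHom.mem_ker, Ideal.under_def, Ideal.mem_comap, Ideal.mem_comap,
        IsScalarTower.algebraMap_apply C E (FractionRing (E ⧸ Q)),
        IsScalarTower.algebraMap_apply E (E ⧸ Q) (FractionRing (E ⧸ Q))]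
      constructor
      · intro he
        have h0 : algebraMap E (E ⧸ Q) (algebraMap C E c) = 0 :=
          IsFractionRing.injective (E ⧸ Q) (FractionRing (E ⧸ Q)) (he.trans (map_zero _).symm)
        exact Ideal.Quotient.eq_zero_iff_mem.1 h0
      · intro hc
        have h0 : algebraMap E (E ⧸ Q) (algebraMap C E c) = 0 := by
          exact Ideal.Quotient.eq_zero_iff_mem.2 hc
        rw [h0, map_zero]
    have hmin := under_mem_minimalPrimes_of_flat (R := C)
      (Q.comap (Ideal.Quotient.mk (nilradical R))) hQ'
    have := hJ (RingHom.ker (algebraMap C (FractionRing (E ⧸ Q)))) (hker_eq ▸ hmin)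
    exact this

end Field

end Groth.Agent.H57.RedStab
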