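import Mathlib
import Groth.Prelude.Def_Found
import Groth.Agent.H57.RedStabA
import Groth.Agent.H47.N2ofN1

/-!
# Stabilisation of `(C ⊗_A B)_red` over finite subalgebras `C` of a finite field extension
(EGA 0_IV 23.2.x)
-/

set_option autoImplicit false
set_option linter.style.haveILetI false
set_option linter.unusedSectionVars false
universe u

open TensorProduct

namespace Groth.Agent.H57.RedStab

section Main

variable {A B K' : Type u} [CommRing A] [IsDomain A] [CommRing B] [Algebra A B]
  [IsNoetherianRing B] [Module.Flat A B]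
  [Field K'] [Algebra A K'] [Algebra (FractionRing A) K'] [IsScalarTower A (FractionRing A) K']
  [FiniteDimensional (FractionRing A) K']

/-- The property of a subalgebra of `K'`: finite over `A`, with fraction field `K'`. -/
def P (C : Subalgebra A K') : Prop :=
  Module.Finite A C ∧ ∀ x : K', ∃ a b : C, (b : K') ≠ 0 ∧ x * b = a

omit [IsNoetherianRing B] [Module.Flat A B] in
variable (A K') in
theorem exists_P : ∃ C : Subalgebra A K', P C := by
  obtain ⟨C, -, hfin, hfrac⟩ :=
    Groth.Agent.H47.exists_finite_subalgebra_isFractionRing A (FractionRing A) K'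
  refine ⟨C, hfin, fun x => ?_⟩
  obtain ⟨⟨a, b⟩, hab⟩ := IsLocalization.surj (nonZeroDivisors C) x
  refine ⟨a, b.1, ?_, hab⟩
  have hb : (b : C) ≠ 0 := nonZeroDivisors.ne_zero b.2
  exact fun h => hb (Subtype.ext h)

variable (B) in
/-- The `B`-algebra map `B ⊗ C → (B ⊗ K')_red`. -/
noncomputable def g (C : Subalgebra A K') :
    B ⊗[A] C →ₐ[B] (B ⊗[A] K') ⧸ nilradical (B ⊗[A] K') :=
  (Ideal.Quotient.mkₐ B (nilradical (B ⊗[A] K'))).comp
    (Algebra.TensorProduct.map (AlgHom.id B B) C.val)

omit [IsDomain A] [IsNoetherianRing B] [Module.Flat A B] [Algebra (FractionRing A) K']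
  [IsScalarTower A (FractionRing A) K'] [FiniteDimensional (FractionRing A) K'] in
theorem g_comp {C₁ C₂ : Subalgebra A K'} (hle : C₁ ≤ C₂) (x : B ⊗[A] C₁) :
    g B C₂ (Algebra.TensorProduct.map (AlgHom.id B B) (Subalgebra.inclusion hle) x) = g B C₁ x := by
  induction x using TensorProduct.induction_on with
  | zero => simp
  | tmul b c => simp [g]
  | add x y hx hy => simp only [map_add, hx, hy]

omit [IsDomain A] [IsNoetherianRing B] [Module.Flat A B] [Algebra (FractionRing A) K']
  [IsScalarTower A (FractionRing A) K'] [FiniteDimensional (FractionRing A) K'] in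
theorem g_range_mono {C₁ C₂ : Subalgebra A K'} (hle : C₁ ≤ C₂) : (g B C₁).range ≤ (g B C₂).range := by
  rintro _ ⟨x, rfl⟩
  exact ⟨_, g_comp hle x⟩

omit [IsDomain A] [IsNoetherianRing B] [Module.Flat A B] [Algebra (FractionRing A) K']
  [IsScalarTower A (FractionRing A) K'] [FiniteDimensional (FractionRing A) K'] in
theorem g_range_le_integralClosure (C : Subalgebra A K') [Module.Finite A C] :
    (g B C).range ≤ integralClosure B ((B ⊗[A] K') ⧸ nilradical (B ⊗[A] K')) := by
  rintro _ ⟨x, rfl⟩
  haveI : Algebra.IsIntegral B (B ⊗[A] C) := Algebra.IsIntegral.of_finite B _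
  exact (Algebra.IsIntegral.isIntegral x).map (g B C)

omit [IsDomain A] [IsNoetherianRing B] [Algebra (FractionRing A) K']
  [IsScalarTower A (FractionRing A) K'] [FiniteDimensional (FractionRing A) K'] in
/-- The comparison map `C ⊗ B → B ⊗ K'` is injective. -/
theorem injective_J (C : Subalgebra A K') :
    Function.Injective ((Algebra.TensorProduct.map (AlgHom.id B B) C.val).toRingHom.comp
      (Algebra.TensorProduct.comm A C B).toRingEquiv.toRingHom) := by
  rw [RingHom.coe_comp]
  refine Function.Injective.comp ?_ (Algebra.TensorProduct.comm A C B).injective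
  have h1 : Function.Injective (LinearMap.lTensor B C.val.toLinearMap) :=
    Module.Flat.lTensor_preserves_injective_linearMap (M := B) C.val.toLinearMap
      Subtype.val_injective
  have h2 : (⇑(Algebra.TensorProduct.map (AlgHom.id B B) C.val).toRingHom : _ → _) =
      ⇑(LinearMap.lTensor B C.val.toLinearMap) := by
    ext x
    induction x using TensorProduct.induction_on with
    | zero => simp
    | tmul b c => simp
    | add x y hx hy => simp only [map_add, hx, hy]
  rw [h2]; exact h1

/-- **Stabilisation.** -/
theorem exists_stable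
    (hJ : ∀ (q : Ideal B) [q.IsPrime], q ∈ minimalPrimes B → CAlg.IsN2 (B ⧸ q)) :
    ∃ Cα : Subalgebra A K', P Cα ∧ ∀ C : Subalgebra A K', P C → ∀ hle : Cα ≤ C,
      ∀ y : C ⊗[A] B, ∃ x : Cα ⊗[A] B,
        IsNilpotent (Algebra.TensorProduct.map (Subalgebra.inclusion hle) (AlgHom.id A B) x - y) := by
  classical
  -- flatness and essential finiteness of `B ⊗ K'` over `B`
  haveI : Module.Flat A (FractionRing A) := IsLocalization.flat (FractionRing A) (nonZeroDivisors A)
  haveI : Module.Flat A K' := Module.Flat.trans A (FractionRing A) K'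
  haveI : Algebra.EssFiniteType A (FractionRing A) :=
    Algebra.EssFiniteType.of_isLocalization (FractionRing A) (nonZeroDivisors A)
  haveI : Algebra.EssFiniteType A K' := Algebra.EssFiniteType.comp A (FractionRing A) K'
  let E := (B ⊗[A] K') ⧸ nilradical (B ⊗[A] K')
  haveI hfinIC : Module.Finite B (integralClosure B E) :=
    finite_integralClosure_red_of_flat B hJ (B ⊗[A] K')
  haveI : IsNoetherian B (integralClosure B E) := isNoetherian_of_isNoetherianRing_of_finite B _
  let IC : Submodule B E := Subalgebra.toSubmodule (integralClosure B E)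
  let N : Subalgebra A K' → Submodule B IC := fun C =>
    Submodule.comap IC.subtype (Subalgebra.toSubmodule (g B C).range)
  have hwf : WellFoundedGT (Submodule B IC) := inferInstance
  obtain ⟨C₀, hC₀⟩ := exists_P A K'
  obtain ⟨_, ⟨Cα, hCα, rfl⟩, hmax⟩ := hwf.wf.has_min (N '' {C | P C}) ⟨_, C₀, hC₀, rfl⟩
  refine ⟨Cα, hCα, fun C hC hle y => ?_⟩
  haveI := hC.1
  have hNle : N Cα ≤ N C := Submodule.comap_mono (g_range_mono hle)
  have hNeq : N C = N Cα := by
    by_contra hne
    exact hmax (N C) ⟨C, hC, rfl⟩ (lt_of_le_of_ne hNle (Ne.symm hne))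
  -- the image of `y` lies in the range of `g Cα`
  let y' : B ⊗[A] C := Algebra.TensorProduct.comm A C B y
  have hy1 : g B C y' ∈ (g B C).range := ⟨y', rfl⟩
  have hy2 : g B C y' ∈ integralClosure B E := g_range_le_integralClosure C hy1
  have hy3 : (⟨g B C y', hy2⟩ : IC) ∈ N C := hy1
  rw [hNeq] at hy3
  obtain ⟨x', hx'⟩ : g B C y' ∈ (g B Cα).range := hy3
  refine ⟨(Algebra.TensorProduct.comm A Cα B).symm x', ?_⟩
  set x := (Algebra.TensorProduct.comm A Cα B).symm x' with hx
  set z := Algebra.TensorProduct.map (Subalgebra.inclusion hle) (AlgHom.id A B) x - y with hz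
  let J := (Algebra.TensorProduct.map (AlgHom.id B B) C.val).toRingHom.comp
      (Algebra.TensorProduct.comm A C B).toRingEquiv.toRingHom
  have hJz : IsNilpotent (J z) := by
    have h1 : J z = Algebra.TensorProduct.map (AlgHom.id B B) Cα.val x' -
        Algebra.TensorProduct.map (AlgHom.id B B) C.val y' := by
      have h2 : ∀ w : Cα ⊗[A] B,
          J (Algebra.TensorProduct.map (Subalgebra.inclusion hle) (AlgHom.id A B) w) =
          Algebra.TensorProduct.map (AlgHom.id B B) Cα.val (Algebra.TensorProduct.comm A Cα B w) := by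
        intro w
        induction w using TensorProduct.induction_on with
        | zero => simp
        | tmul c b => simp [J]
        | add u v hu hv => simp only [map_add, hu, hv]
      rw [hz, map_sub, h2, hx, AlgEquiv.apply_symm_apply]
      rfl
    have h3 : Ideal.Quotient.mk (nilradical (B ⊗[A] K')) (J z) = 0 := by
      rw [h1, map_sub, sub_eq_zero]
      exact hx'
    exact mem_nilradical.1 (Ideal.Quotient.eq_zero_iff_mem.1 h3)
  obtain ⟨n, hn⟩ := hJz
  refine ⟨n, injective_J C ?_⟩
  rw [map_pow, map_zero]
  exact hn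

end Main

end Groth.Agent.H57.RedStab
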