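import Mathlib
import Groth.Prelude.Def_Found
import Groth.Agent.H57.RedStabB
import Groth.Agent.H37.UHBasic

/-!
# Radiciality of `Spec A' → Spec C_α` (EGA 0_IV 23.2.x (ii))
-/

set_option autoImplicit false
set_option linter.style.haveILetI false
set_option linter.unusedSectionVars false
universe u

open TensorProduct

namespace Groth.Agent.H57.RedStab

section Radicial

variable {A B K' : Type u} [CommRing A] [CommRing B] [Algebra A B]
  [Field K'] [Algebra A K']

/-- If `(Cα ⊗ B)_red → (C ⊗ B)_red` is surjective and `B` is faithfully flat, two field-valued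
points of `C` agreeing on `Cα` are equal. -/
theorem hom_ext_of_surjective_red [Module.FaithfullyFlat A B] {Cα C : Subalgebra A K'}
    (hle : Cα ≤ C)
    (hsurj : ∀ y : C ⊗[A] B, ∃ x : Cα ⊗[A] B,
      IsNilpotent (Algebra.TensorProduct.map (Subalgebra.inclusion hle) (AlgHom.id A B) x - y))
    (L : Type u) [Field L] (h₁ h₂ : C →+* L)
    (h : h₁.comp (Subalgebra.inclusion hle).toRingHom = h₂.comp (Subalgebra.inclusion hle).toRingHom) :
    h₁ = h₂ := by
  letI : Algebra A L := (h₁.comp (algebraMap A C)).toAlgebra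
  let h₁' : C →ₐ[A] L := { h₁ with commutes' := fun _ => rfl }
  have hcomm : ∀ a : A, h₂ (algebraMap A C a) = algebraMap A L a := by
    intro a
    have := congrArg (fun f => f (algebraMap A Cα a)) h
    exact this.symm
  let h₂' : C →ₐ[A] L := { h₂ with commutes' := hcomm }
  have hcomp : h₁'.comp (Subalgebra.inclusion hle) = h₂'.comp (Subalgebra.inclusion hle) := by
    ext c
    exact congrArg (fun f => f c) h
  haveI : Nontrivial (L ⊗[A] B) := inferInstance
  obtain ⟨𝔪, h𝔪⟩ := Ideal.exists_maximal (L ⊗[A] B)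
  letI := Ideal.Quotient.field 𝔪
  let G : (C →ₐ[A] L) → (C ⊗[A] B →+* (L ⊗[A] B) ⧸ 𝔪) := fun f =>
    (Ideal.Quotient.mk 𝔪).comp (Algebra.TensorProduct.map f (AlgHom.id A B)).toRingHom
  have hG : ∀ y : C ⊗[A] B, G h₁' y = G h₂' y := by
    intro y
    obtain ⟨x, hx⟩ := hsurj y
    have key : ∀ f : C →ₐ[A] L, G f y = Ideal.Quotient.mk 𝔪
        (Algebra.TensorProduct.map (f.comp (Subalgebra.inclusion hle)) (AlgHom.id A B) x) := by
      intro f
      have h0 : G f (Algebra.TensorProduct.map (Subalgebra.inclusion hle) (AlgHom.id A B) x - y) = 0 :=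
        (hx.map (G f)).eq_zero
      rw [map_sub, sub_eq_zero] at h0
      rw [← h0]
      change Ideal.Quotient.mk 𝔪 (Algebra.TensorProduct.map f (AlgHom.id A B)
        (Algebra.TensorProduct.map (Subalgebra.inclusion hle) (AlgHom.id A B) x)) = _
      congr 1
      rw [← AlgHom.comp_apply, ← Algebra.TensorProduct.map_comp, AlgHom.comp_id]
    rw [key h₁', key h₂', hcomp]
  let ι : L →+* (L ⊗[A] B) ⧸ 𝔪 :=
    (Ideal.Quotient.mk 𝔪).comp (Algebra.TensorProduct.includeLeft : L →ₐ[A] L ⊗[A] B).toRingHom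
  ext c
  apply ι.injective
  have := hG (c ⊗ₜ[A] 1)
  have e1 : h₁' c = h₁ c := rfl
  have e2 : h₂' c = h₂ c := rfl
  simpa [G, ι, e1, e2] using this

end Radicial

section Assemble

variable {A B K' : Type u} [CommRing A] [IsDomain A] [CommRing B] [Algebra A B]
  [IsNoetherianRing B] [Module.Flat A B]
  [Field K'] [Algebra A K'] [Algebra (FractionRing A) K'] [IsScalarTower A (FractionRing A) K']
  [FiniteDimensional (FractionRing A) K']

omit [IsNoetherianRing B] [Module.Flat A B] [Algebra (FractionRing A) K']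
  [IsScalarTower A (FractionRing A) K'] [FiniteDimensional (FractionRing A) K'] in
/-- radiciality from stability -/
theorem fieldInj_of_stable [Module.FaithfullyFlat A B] {Cα : Subalgebra A K'} (hPα : P Cα)
    (hstab : ∀ C : Subalgebra A K', P C → ∀ hle : Cα ≤ C, ∀ y : C ⊗[A] B, ∃ x : Cα ⊗[A] B,
      IsNilpotent (Algebra.TensorProduct.map (Subalgebra.inclusion hle) (AlgHom.id A B) x - y))
    (hint : Cα ≤ integralClosure A K') :
    Groth.Agent.H37.FieldInj (Subalgebra.inclusion hint).toRingHom := by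
  intro L _ g₁ g₂ hg
  ext ⟨x, hx⟩
  -- the subalgebra `C = Cα ⊔ A[x]`
  let C : Subalgebra A K' := Cα ⊔ Algebra.adjoin A {x}
  have hle : Cα ≤ C := le_sup_left
  have hxC : x ∈ C := (le_sup_right : Algebra.adjoin A {x} ≤ C) (Algebra.self_mem_adjoin_singleton A x)
  have hCint : C ≤ integralClosure A K' := by
    refine sup_le hint (Algebra.adjoin_le ?_)
    intro z hz
    rw [Set.mem_singleton_iff.1 hz]
    exact hx
  have hPC : P C := by
    haveI := hPα.1
    haveI : Module.Finite A (Algebra.adjoin A {x}) :=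
      Module.Finite.iff_fg.mpr (hx.fg_adjoin_singleton)
    refine ⟨Subalgebra.finite_sup _ _, fun z => ?_⟩
    obtain ⟨a, b, hb, hab⟩ := hPα.2 z
    exact ⟨Subalgebra.inclusion hle a, Subalgebra.inclusion hle b, hb, hab⟩
  have key := hom_ext_of_surjective_red hle (hstab C hPC hle) L
    (g₁.comp (Subalgebra.inclusion hCint).toRingHom) (g₂.comp (Subalgebra.inclusion hCint).toRingHom)
    (by
      ext c
      exact congrArg (fun f => f c) hg)
  exact congrArg (fun f => f ⟨x, hxC⟩) key

/-- **EGA 0_IV 23.2.x**: the full statement. -/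
theorem main
    (hJ : ∀ (q : Ideal B) [q.IsPrime], q ∈ minimalPrimes B → CAlg.IsN2 (B ⧸ q)) :
    ∃ Cα : Subalgebra A K', P Cα ∧
      (∀ C : Subalgebra A K', P C → ∀ hle : Cα ≤ C,
        (∀ x : ↥Cα ⊗[A] B, IsNilpotent (Algebra.TensorProduct.map (Subalgebra.inclusion hle) (AlgHom.id A B) x) →
          IsNilpotent x) ∧
        (∀ y : ↥C ⊗[A] B, ∃ x : ↥Cα ⊗[A] B,
          IsNilpotent (Algebra.TensorProduct.map (Subalgebra.inclusion hle) (AlgHom.id A B) x - y))) ∧
      (Module.FaithfullyFlat A B → ∀ hint : Cα ≤ integralClosure A K',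
        AlgebraicGeometry.UniversallyInjective
          (AlgebraicGeometry.Spec.map (CommRingCat.ofHom (Subalgebra.inclusion hint).toRingHom))) := by
  obtain ⟨Cα, hPα, hstab⟩ := exists_stable (A := A) (B := B) (K' := K') hJ
  refine ⟨Cα, hPα, fun C hC hle => ⟨fun x hx => ?_, hstab C hC hle⟩, fun hff hint => ?_⟩
  · have hinj : Function.Injective
        (Algebra.TensorProduct.map (Subalgebra.inclusion hle) (AlgHom.id A B)) :=
      Module.Flat.rTensor_preserves_injective_linearMap (M := B)
        (Subalgebra.inclusion hle).toLinearMap (Subalgebra.inclusion_injective hle)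
    obtain ⟨n, hn⟩ := hx
    refine ⟨n, hinj ?_⟩
    rw [map_pow, map_zero]
    exact hn
  · rw [Groth.Agent.H37.universallyInjective_SpecMap_iff]
    exact fieldInj_of_stable hPα hstab hint

end Assemble

end Groth.Agent.H57.RedStab
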