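import Mathlib
import Groth.Agent.H2.InjModMax
import Groth.Agent.H57.FlatLift
import Groth.Agent.H57.RegLift

/-!
# Descending flatness along a regular element in the Jacobson radical (helper57)

* `flat_of_flat_quotSMulTop`: `A` Noetherian `C`-algebra, `P` finite `A`-module, `x ∈ rad A` regular
  on `P`, `P/xP` flat over `C` (Noetherian) ⟹ `P` flat over `C`.
* `flat_and_isWeaklyRegular_residue`: for a weakly regular sequence in the radical with
  `P/(rs)P` flat over Artinian local `C`: `P` is flat and `rs` is weakly regular on `P/mP`.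
* `isNoetherianRing_of_isNilpotent`, `isLocalRing_of_isNilpotent`.
-/

set_option autoImplicit false
universe u
open scoped TensorProduct Pointwise
open Function (Injective Surjective Exact)
open IsLocalRing

namespace Groth.Agent.H57.RegDescend

open Groth.Agent.H57.FlatLift

section finite

variable {C : Type u} [CommRing C] {A : Type u} [CommRing A] [Algebra C A]
  {P : Type u} [AddCommGroup P] [Module A P] [Module C P] [IsScalarTower C A P]

lemma finite_tensor (N : Type u) [AddCommGroup N] [Module C N] [Module.Finite A P]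
    [Module.Finite C N] : Module.Finite A (P ⊗[C] N) :=
  Module.Finite.equiv (TensorProduct.AlgebraTensorModule.cancelBaseChange C A A P N)

end finite

section descend

variable {C : Type u} [CommRing C] [IsNoetherianRing C] {A : Type u} [CommRing A] [Algebra C A]
  [IsNoetherianRing A]
  {P : Type u} [AddCommGroup P] [Module A P] [Module C P] [IsScalarTower C A P]
  [Module.Finite A P]

theorem flat_of_flat_quotSMulTop (x : A) (hx : x ∈ Ideal.jacobson (⊥ : Ideal A))
    (hreg : IsSMulRegular P x) [Module.Flat C (QuotSMulTop x P)] : Module.Flat C P := by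
  rw [Module.Flat.iff_lTensor_injective']
  intro 𝔞
  let muA : P ⊗[C] ↥𝔞 →ₗ[A] P :=
    (TensorProduct.AlgebraTensorModule.rid C A P).toLinearMap ∘ₗ
      TensorProduct.AlgebraTensorModule.lTensor A P (Submodule.subtype 𝔞)
  have hmuA : ∀ t, muA t = mu 𝔞 P t := fun t => rfl
  haveI : Module.Finite A (P ⊗[C] ↥𝔞) := finite_tensor ↥𝔞
  haveI : IsNoetherian A (P ⊗[C] ↥𝔞) := isNoetherian_of_isNoetherianRing_of_finite A _
  let q : P →ₗ[C] QuotSMulTop x P := (Submodule.mkQ (x • (⊤ : Submodule A P))).restrictScalars C
  let u : P →ₗ[C] P := (LinearMap.lsmul A P x).restrictScalars C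
  have huq : Exact u q := by
    intro y
    simp only [q, u, LinearMap.coe_restrictScalars, Submodule.mkQ_apply,
      Submodule.Quotient.mk_eq_zero, Set.mem_range, LinearMap.lsmul_apply]
    rw [Submodule.mem_smul_pointwise_iff_exists]
    simp
  have hq : Surjective q := Submodule.mkQ_surjective _
  have hu : ∀ t : P ⊗[C] ↥𝔞, LinearMap.rTensor ↥𝔞 u t = x • t := by
    intro t
    induction t using TensorProduct.induction_on with
    | zero => simp
    | tmul p j => simp [u, TensorProduct.smul_tmul']
    | add a b ha hb => rw [map_add, ha, hb, smul_add]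
  have hle : LinearMap.ker muA ≤ Ideal.span {x} • LinearMap.ker muA := by
    intro t ht
    rw [LinearMap.mem_ker, hmuA] at ht
    have h1 : LinearMap.rTensor ↥𝔞 q t = 0 :=
      rTensor_eq_zero_of_map_mu_eq_zero q t (by rw [ht, map_zero])
    obtain ⟨t', rfl⟩ := (rTensor_exact ↥𝔞 huq hq t).1 h1
    rw [hu] at ht ⊢
    have h2 : muA t' = 0 := by
      apply hreg
      simp only [smul_zero]
      rw [← map_smul, hmuA, ht]
    exact Submodule.smul_mem_smul (Ideal.mem_span_singleton_self x) h2
  have hT : LinearMap.ker muA = ⊥ :=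
    Submodule.eq_bot_of_le_smul_of_le_jacobson_bot (Ideal.span {x}) _
      (IsNoetherian.noetherian _) hle (by rw [Ideal.span_le]; simpa using hx)
  rw [LinearMap.ker_eq_bot] at hT
  intro a b hab
  apply hT
  rw [hmuA, hmuA]
  simp only [mu, LinearMap.coe_comp, Function.comp_apply, hab]

end descend

section induct

open RingTheory.Sequence Submodule

variable {C : Type u} [CommRing C] [IsLocalRing C] [IsArtinianRing C] {A : Type u} [CommRing A]
  [Algebra C A] [IsNoetherianRing A]

theorem flat_and_isWeaklyRegular_residue (rs : List A)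
    (hrad : ∀ r ∈ rs, r ∈ Ideal.jacobson (⊥ : Ideal A)) :
    ∀ (P : Type u) [AddCommGroup P] [Module A P] [Module C P] [IsScalarTower C A P]
      [Module.Finite A P],
      IsWeaklyRegular P rs → Module.Flat C (P ⧸ (Ideal.ofList rs • (⊤ : Submodule A P))) →
      Module.Flat C P ∧ IsWeaklyRegular
        (P ⧸ ((maximalIdeal C).map (algebraMap C A) • (⊤ : Submodule A P))) rs := by
  induction rs with
  | nil =>
    intro P _ _ _ _ _ _ hflat
    refine ⟨?_, IsWeaklyRegular.nil A _⟩
    have h0 : (Ideal.ofList ([] : List A) • (⊤ : Submodule A P)) = ⊥ := by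
      rw [Ideal.ofList_nil, Submodule.bot_smul]
    exact Module.Flat.of_linearEquiv ((quotEquivOfEqBot _ h0).symm.restrictScalars C)
  | cons r rs ih =>
    intro P _ _ _ _ _ hreg hflat
    rw [isWeaklyRegular_cons_iff] at hreg ⊢
    obtain ⟨hr, hrs⟩ := hreg
    have hflat' : Module.Flat C
        (QuotSMulTop r P ⧸ (Ideal.ofList rs • (⊤ : Submodule A (QuotSMulTop r P)))) :=
      Module.Flat.of_linearEquiv
        ((quotOfListConsSMulTopEquivQuotSMulTopInner P r rs).symm.restrictScalars C)
    obtain ⟨h1, h2⟩ := ih (fun r' hr' => hrad r' (List.mem_cons_of_mem _ hr'))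
      (QuotSMulTop r P) hrs hflat'
    have hP : Module.Flat C P := flat_of_flat_quotSMulTop r (hrad r List.mem_cons_self) hr
    refine ⟨hP, ?_, ((RegLift.quotSwapEquiv _ r P).isWeaklyRegular_congr rs).2 h2⟩
    -- `r` is regular on `P / mP`
    let q : P →ₗ[C] QuotSMulTop r P := (Submodule.mkQ (r • (⊤ : Submodule A P))).restrictScalars C
    let u : P →ₗ[C] P := (LinearMap.lsmul A P r).restrictScalars C
    have huq : Exact u q := by
      intro y
      simp only [q, u, LinearMap.coe_restrictScalars, Submodule.mkQ_apply,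
        Submodule.Quotient.mk_eq_zero, Set.mem_range, LinearMap.lsmul_apply]
      rw [Submodule.mem_smul_pointwise_iff_exists]
      simp
    have hq : Surjective q := Submodule.mkQ_surjective _
    have hinj : Injective (u.lTensor (C ⧸ maximalIdeal C)) :=
      Groth.Agent.H2.lTensor_injective_of_tor1Zero u q hr huq hq
        Groth.Agent.H2.tor1Zero_of_flat_left
    have key := (Groth.Agent.H2.lTensor_quotient_injective_iff (maximalIdeal C) u).1 hinj
    rw [isSMulRegular_iff_right_eq_zero_of_smul]
    intro m hm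
    obtain ⟨m, rfl⟩ := Submodule.Quotient.mk_surjective _ m
    rw [← Submodule.Quotient.mk_smul, Submodule.Quotient.mk_eq_zero,
      Groth.Agent.H2.mem_map_smul_top_iff] at hm
    rw [Submodule.Quotient.mk_eq_zero, Groth.Agent.H2.mem_map_smul_top_iff]
    exact key m hm

end induct

section thick

variable {A : Type u} [CommRing A]

/-- A nilpotent thickening of a Noetherian ring by a finitely generated ideal is Noetherian. -/
theorem isNoetherianRing_of_isNilpotent (𝔫 : Ideal A) (hfg : 𝔫.FG) (hnil : IsNilpotent 𝔫)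
    [IsNoetherianRing (A ⧸ 𝔫)] : IsNoetherianRing A := by
  apply IsNoetherianRing.of_prime
  intro p hp
  have hle : 𝔫 ≤ p := by
    obtain ⟨n, hn⟩ := hnil
    apply hp.le_of_pow_le (n := n)
    rw [hn]
    exact bot_le
  apply Ideal.fg_of_fg_map_of_fg_inf_ker_of_surjective (f := Ideal.Quotient.mk 𝔫)
    (IsNoetherian.noetherian _) _ Ideal.Quotient.mk_surjective
  rw [Ideal.mk_ker, inf_eq_right.2 hle]
  exact hfg

/-- A nilpotent thickening of a local ring is local. -/
theorem isLocalRing_of_isNilpotent (𝔫 : Ideal A) (hnil : IsNilpotent 𝔫)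
    [IsLocalRing (A ⧸ 𝔫)] : IsLocalRing A := by
  haveI : Nontrivial A := by
    refine ⟨⟨0, 1, fun h => ?_⟩⟩
    have : (0 : A ⧸ 𝔫) = 1 := by rw [← map_zero (Ideal.Quotient.mk 𝔫), h, map_one]
    exact zero_ne_one this
  apply IsLocalRing.of_isUnit_or_isUnit_of_isUnit_add
  intro a b hab
  have h1 : IsUnit (Ideal.Quotient.mk 𝔫 a + Ideal.Quotient.mk 𝔫 b) := by
    rw [← map_add]; exact hab.map _
  rcases IsLocalRing.isUnit_or_isUnit_of_isUnit_add h1 with h | h
  · exact Or.inl (hnil.isUnit_quotient_mk_iff.1 h)
  · exact Or.inr (hnil.isUnit_quotient_mk_iff.1 h)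

end thick

end Groth.Agent.H57.RegDescend
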