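import Mathlib
import Groth.Agent.H57.ComplLocMap
import Groth.Agent.H20.ComplNoeth2

/-!
# Base change of an adic completion to algebras killed by the ideal (helper57)

If `L` is an `R`-algebra killed by `I₀`, then `L ⊗[R] T → L ⊗[R] T^` is bijective, where `T^` is the
`I₀T`-adic completion of the `R`-algebra `T`.
-/

set_option autoImplicit false
set_option linter.style.haveILetI false
universe u
open scoped TensorProduct

namespace Groth.Agent.H57.RegF

section modules

variable {R : Type*} [CommRing R] (I₀ : Ideal R) (L : Type*) [AddCommGroup L] [Module R L]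

theorem tmul_eq_zero_of_mem_smul_top (hL : ∀ a ∈ I₀, ∀ l : L, a • l = 0)
    {M : Type*} [AddCommGroup M] [Module R M] (l : L) (y : M)
    (hy : y ∈ (I₀ • ⊤ : Submodule R M)) : l ⊗ₜ[R] y = 0 := by
  refine Submodule.smul_induction_on hy (fun a ha m _ => ?_) (fun x y hx hy => ?_)
  · rw [TensorProduct.tmul_smul, TensorProduct.smul_tmul', hL a ha, TensorProduct.zero_tmul]
  · rw [TensorProduct.tmul_add, hx, hy, add_zero]

theorem lTensor_mkQ_bijective (hL : ∀ a ∈ I₀, ∀ l : L, a • l = 0)
    (M : Type*) [AddCommGroup M] [Module R M] :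
    Function.Bijective (LinearMap.lTensor L (Submodule.mkQ (I₀ • ⊤ : Submodule R M))) := by
  refine ⟨?_, LinearMap.lTensor_surjective L (Submodule.mkQ_surjective _)⟩
  rw [injective_iff_map_eq_zero]
  intro z hz
  have hex := lTensor_exact L (f := (I₀ • ⊤ : Submodule R M).subtype)
    (g := Submodule.mkQ (I₀ • ⊤ : Submodule R M))
    (LinearMap.exact_subtype_mkQ _) (Submodule.mkQ_surjective _)
  obtain ⟨w, rfl⟩ := (hex z).mp hz
  induction w using TensorProduct.induction_on with
  | zero => rw [map_zero]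
  | add x y hx hy =>
    rw [map_add] at hz ⊢
    rw [hx, hy, add_zero]
    · exact (hex _).mpr ⟨y, rfl⟩
    · exact (hex _).mpr ⟨x, rfl⟩
  | tmul l y =>
    rw [LinearMap.lTensor_tmul]
    exact tmul_eq_zero_of_mem_smul_top I₀ L hL l _ y.2

theorem lTensor_bijective_of_quotient (hL : ∀ a ∈ I₀, ∀ l : L, a • l = 0)
    {M M' : Type*} [AddCommGroup M] [Module R M] [AddCommGroup M'] [Module R M'] (f : M →ₗ[R] M')
    (hinj : ∀ m : M, f m ∈ (I₀ • ⊤ : Submodule R M') → m ∈ (I₀ • ⊤ : Submodule R M))
    (hsurj : ∀ m' : M', ∃ m : M, m' - f m ∈ (I₀ • ⊤ : Submodule R M')) :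
    Function.Bijective (LinearMap.lTensor L f) := by
  have hle : (I₀ • ⊤ : Submodule R M) ≤ (I₀ • ⊤ : Submodule R M').comap f :=
    Submodule.smul_top_le_comap_smul_top I₀ f
  let fbar : (M ⧸ (I₀ • ⊤ : Submodule R M)) →ₗ[R] (M' ⧸ (I₀ • ⊤ : Submodule R M')) :=
    Submodule.mapQ _ _ f hle
  have hfbar : Function.Bijective fbar := by
    constructor
    · rw [injective_iff_map_eq_zero]
      intro x hx
      obtain ⟨m, rfl⟩ := Submodule.Quotient.mk_surjective _ x
      rw [Submodule.mapQ_apply, Submodule.Quotient.mk_eq_zero] at hx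
      exact (Submodule.Quotient.mk_eq_zero _).mpr (hinj m hx)
    · intro y
      obtain ⟨m', rfl⟩ := Submodule.Quotient.mk_surjective _ y
      obtain ⟨m, hm⟩ := hsurj m'
      refine ⟨Submodule.Quotient.mk m, ?_⟩
      rw [Submodule.mapQ_apply, eq_comm, Submodule.Quotient.eq]
      exact hm
  let ebar := LinearEquiv.ofBijective fbar hfbar
  have hsq : (LinearMap.lTensor L (Submodule.mkQ (I₀ • ⊤ : Submodule R M'))) ∘ₗ
      (LinearMap.lTensor L f) = (LinearMap.lTensor L fbar) ∘ₗ
        (LinearMap.lTensor L (Submodule.mkQ (I₀ • ⊤ : Submodule R M))) := by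
    rw [← LinearMap.lTensor_comp, ← LinearMap.lTensor_comp]
    congr 1
  have h1 := lTensor_mkQ_bijective I₀ L hL M
  have h2 := lTensor_mkQ_bijective I₀ L hL M'
  have h3 : Function.Bijective (LinearMap.lTensor L fbar) :=
    (LinearEquiv.lTensor L ebar).bijective
  have h4 : Function.Bijective ((LinearMap.lTensor L (Submodule.mkQ (I₀ • ⊤ : Submodule R M'))) ∘
      (LinearMap.lTensor L f)) := by
    have : ((LinearMap.lTensor L (Submodule.mkQ (I₀ • ⊤ : Submodule R M'))) ∘
        (LinearMap.lTensor L f)) = (LinearMap.lTensor L fbar) ∘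
          (LinearMap.lTensor L (Submodule.mkQ (I₀ • ⊤ : Submodule R M))) := by
      funext z
      exact LinearMap.congr_fun hsq z
    rw [this]
    exact h3.comp h1
  exact (Function.Bijective.of_comp_iff' h2 _).mp h4

end modules

section rings

variable {R T : Type u} [CommRing R] [CommRing T] [Algebra R T]

/-- If `L` is killed by `I₀`, then `L ⊗[R] T → L ⊗[R] T^` is bijective (`T^` the `I₀ T`-adic
completion). -/
theorem bijective_tensor_map_adicCompletion (I₀ : Ideal R) (J : Ideal T)
    (hJ : J = I₀.map (algebraMap R T)) (hJfg : J.FG)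
    (L : Type u) [CommRing L] [Algebra R L] (hL : ∀ a ∈ I₀, algebraMap R L a = 0) :
    Function.Bijective (Algebra.TensorProduct.map (AlgHom.id L L)
      (IsScalarTower.toAlgHom R T (AdicCompletion J T))) := by
  have hL' : ∀ a ∈ I₀, ∀ l : L, a • l = 0 := by
    intro a ha l
    rw [Algebra.smul_def, hL a ha, zero_mul]
  have hT : (I₀ • ⊤ : Submodule R T) = J.restrictScalars R := by
    rw [Ideal.smul_top_eq_map, hJ]
  have hS : (I₀ • ⊤ : Submodule R (AdicCompletion J T)) =
      (J.map (algebraMap T (AdicCompletion J T))).restrictScalars R := by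
    rw [Ideal.smul_top_eq_map]
    congr 1
    rw [IsScalarTower.algebraMap_eq R T (AdicCompletion J T), ← Ideal.map_map]
    exact congrArg (Ideal.map (algebraMap T (AdicCompletion J T))) hJ.symm
  have hbij := lTensor_bijective_of_quotient I₀ L hL'
    (IsScalarTower.toAlgHom R T (AdicCompletion J T)).toLinearMap ?_ ?_
  · have hfun : ⇑(Algebra.TensorProduct.map (AlgHom.id L L)
        (IsScalarTower.toAlgHom R T (AdicCompletion J T))) =
        ⇑(LinearMap.lTensor L (IsScalarTower.toAlgHom R T (AdicCompletion J T)).toLinearMap) := by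
      funext z
      induction z using TensorProduct.induction_on with
      | zero => rw [map_zero, map_zero]
      | add x y hx hy => rw [map_add, map_add, hx, hy]
      | tmul l t => rfl
    rw [hfun]
    exact hbij
  · intro t ht
    rw [hS] at ht
    rw [hT]
    change algebraMap T (AdicCompletion J T) t ∈ J.map (algebraMap T (AdicCompletion J T)) at ht
    rw [← AdicCompletion.ker_evalOneₐ_eq_map J hJfg, RingHom.mem_ker] at ht
    change AdicCompletion.evalOneₐ J (AdicCompletion.of J T t) = 0 at ht
    rw [AdicCompletion.evalOneₐ_of, Ideal.Quotient.eq_zero_iff_mem] at ht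
    exact ht
  · intro s
    obtain ⟨t, ht⟩ := Groth.Agent.H57.CL.exists_sub_mem_map_pow J hJfg 1 s
    refine ⟨t, ?_⟩
    rw [hS]
    rw [pow_one] at ht
    exact ht

/-- The base change of a restricted power series ring to a field killed by `I₀` is a polynomial
ring, hence regular. -/
theorem isRegularRing_tensor_of_killed {R : Type u} [CommRing R] (I₀ : Ideal R) (n : ℕ)
    (J : Ideal (MvPolynomial (Fin n) R)) (hJ : J = I₀.map (algebraMap R (MvPolynomial (Fin n) R)))
    (hJfg : J.FG) (L : Type u) [Field L] [Algebra R L] (hL : ∀ a ∈ I₀, algebraMap R L a = 0) :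
    IsRegularRing (L ⊗[R] AdicCompletion J (MvPolynomial (Fin n) R)) := by
  have hbij := bijective_tensor_map_adicCompletion I₀ J hJ hJfg L hL
  let e1 : L ⊗[R] MvPolynomial (Fin n) R ≃ₐ[L] L ⊗[R] AdicCompletion J (MvPolynomial (Fin n) R) :=
    AlgEquiv.ofBijective _ hbij
  let e2 : L ⊗[R] MvPolynomial (Fin n) R ≃ₐ[L] MvPolynomial (Fin n) L :=
    MvPolynomial.algebraTensorAlgEquiv R L
  have hreg : IsRegularRing (MvPolynomial (Fin n) L) := inferInstance
  exact IsRegularRing.of_ringEquiv (e2.symm.trans e1).toRingEquiv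

end rings

end Groth.Agent.H57.RegF
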