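import Mathlib
import Groth.Agent.H57.RegFibreA
import Groth.Agent.H26.RegularFlat
import Groth.Agent.H29.RegCompl
import Groth.Agent.H14.GeomBC.RegSep
import Groth.Prelude.Def_Found

/-!
# Regularity of the generic fibre of a restricted power series ring (helper57)
-/

set_option autoImplicit false
set_option linter.style.haveILetI false
universe u
open scoped TensorProduct

namespace Groth.Agent.H57.RegF

section local_

/-- Local form of ascent of regularity along a flat map with a regular fibre. -/
theorem isRegularLocalRing_atPrime_of_flat_of_regular_fibre (R S : Type u) [CommRing R]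
    [CommRing S] [Algebra R S] [IsNoetherianRing S] [Module.Flat R S] (r : Ideal S) [r.IsPrime]
    (hR : IsRegularLocalRing (Localization.AtPrime (r.under R)))
    (h : IsRegularRing ((r.under R).Fiber S)) : IsRegularLocalRing (Localization.AtPrime r) := by
  have hr : r.IsPrime := inferInstance
  set p : Ideal R := r.under R with hp
  have hpp : p.IsPrime := inferInstance
  haveI hpreg : IsRegularLocalRing (Localization.AtPrime p) := hR
  let q0 := PrimeSpectrum.preimageEquivFiber R S ⟨p, hpp⟩ ⟨⟨r, hr⟩, rfl⟩
  have hq0 : q0.asIdeal.comap (Algebra.TensorProduct.includeRight (R := R) (A := p.ResidueField)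
      (B := S)) = r := by
    have := (PrimeSpectrum.preimageEquivFiber R S ⟨p, hpp⟩).left_inv ⟨⟨r, hr⟩, rfl⟩
    exact congrArg (fun x => x.1.asIdeal) this
  haveI := h
  have key := Groth.Agent.H26.isRegularLocalRing_localization_comap_includeRight' R S p q0.asIdeal
  have hgen : ∀ (r' : Ideal S) (hr' : r'.IsPrime),
      q0.asIdeal.comap (Algebra.TensorProduct.includeRight (R := R) (A := p.ResidueField)
        (B := S)) = r' → IsRegularLocalRing (Localization.AtPrime r') := by
    intro r' hr' e
    subst e
    exact key
  exact hgen r hr hq0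

end local_

section finiteRegular

variable {R : Type u} [CommRing R] [IsNoetherianRing R]

/-- For a finite `R`-algebra `R'` which is a regular ring, `R' ⊗[R] R{x}` is a regular ring. -/
theorem isRegularRing_tensor_of_finite_regular (I₀ : Ideal R) (n : ℕ)
    (J : Ideal (MvPolynomial (Fin n) R)) (hJ : J = I₀.map (algebraMap R (MvPolynomial (Fin n) R)))
    (R' : Type u) [CommRing R'] [Algebra R R'] [Module.Finite R R'] [IsRegularRing R'] :
    IsRegularRing (R' ⊗[R] AdicCompletion J (MvPolynomial (Fin n) R)) := by
  have hJfg : J.FG := IsNoetherian.noetherian J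
  have hNS : IsNoetherianRing (AdicCompletion J (MvPolynomial (Fin n) R)) :=
    Groth.Agent.H20.isNoetherianRing_adicCompletion J
  have hflatTS : Module.Flat (MvPolynomial (Fin n) R) (AdicCompletion J (MvPolynomial (Fin n) R)) :=
    AdicCompletion.flat_of_isNoetherian J
  have hflat : Module.Flat R (AdicCompletion J (MvPolynomial (Fin n) R)) :=
    Module.Flat.trans R (MvPolynomial (Fin n) R) _
  have hflat' : Module.Flat R' (R' ⊗[R] AdicCompletion J (MvPolynomial (Fin n) R)) := inferInstance
  have hN0 : IsNoetherianRing (AdicCompletion J (MvPolynomial (Fin n) R) ⊗[R] R') :=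
    IsNoetherianRing.of_finite (AdicCompletion J (MvPolynomial (Fin n) R)) _
  have hNT' : IsNoetherianRing (R' ⊗[R] AdicCompletion J (MvPolynomial (Fin n) R)) :=
    isNoetherianRing_of_ringEquiv _
      (Algebra.TensorProduct.comm R (AdicCompletion J (MvPolynomial (Fin n) R)) R').toRingEquiv
  apply Groth.Agent.H29.RegCompl.isRegularRing_of_maximal
  intro 𝔫 h𝔫
  have h𝔫prime : 𝔫.IsPrime := h𝔫.isPrime
  refine isRegularLocalRing_atPrime_of_flat_of_regular_fibre R' _ 𝔫 inferInstance ?_
  -- the contraction to `R'` contains `I₀ R'`
  have hint : (Algebra.TensorProduct.includeRight : AdicCompletion J (MvPolynomial (Fin n) R) →ₐ[R]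
      R' ⊗[R] AdicCompletion J (MvPolynomial (Fin n) R)).toRingHom.IsIntegral := by
    have hR'int : Algebra.IsIntegral R R' := Algebra.IsIntegral.of_finite R R'
    have h1 : (algebraMap (AdicCompletion J (MvPolynomial (Fin n) R))
        (AdicCompletion J (MvPolynomial (Fin n) R) ⊗[R] R')).IsIntegral :=
      algebraMap_isIntegral_iff.mpr inferInstance
    have h2 : ((Algebra.TensorProduct.comm R (AdicCompletion J (MvPolynomial (Fin n) R))
        R').toRingEquiv.toRingHom).IsIntegral :=
      RingHom.isIntegral_of_surjective _ (Algebra.TensorProduct.comm R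
        (AdicCompletion J (MvPolynomial (Fin n) R)) R').toRingEquiv.surjective
    have h3 := RingHom.IsIntegral.trans _ _ h1 h2
    have heq : (Algebra.TensorProduct.includeRight : AdicCompletion J (MvPolynomial (Fin n) R) →ₐ[R]
        R' ⊗[R] AdicCompletion J (MvPolynomial (Fin n) R)).toRingHom =
        ((Algebra.TensorProduct.comm R (AdicCompletion J (MvPolynomial (Fin n) R))
          R').toRingEquiv.toRingHom).comp (algebraMap (AdicCompletion J (MvPolynomial (Fin n) R))
          (AdicCompletion J (MvPolynomial (Fin n) R) ⊗[R] R')) := by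
      refine RingHom.ext fun s => ?_
      simp
    rw [heq]
    exact h3
  have hPmax : (𝔫.comap (Algebra.TensorProduct.includeRight :
      AdicCompletion J (MvPolynomial (Fin n) R) →ₐ[R]
        R' ⊗[R] AdicCompletion J (MvPolynomial (Fin n) R)).toRingHom).IsMaximal :=
    Ideal.isMaximal_comap_of_isIntegral_of_isMaximal' _ hint 𝔫
  have hcompl : IsAdicComplete (J.map (algebraMap (MvPolynomial (Fin n) R)
      (AdicCompletion J (MvPolynomial (Fin n) R)))) (AdicCompletion J (MvPolynomial (Fin n) R)) :=
    AdicCompletion.isAdicComplete_self J hJfg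
  have hle : J.map (algebraMap (MvPolynomial (Fin n) R)
      (AdicCompletion J (MvPolynomial (Fin n) R))) ≤
      𝔫.comap (Algebra.TensorProduct.includeRight :
      AdicCompletion J (MvPolynomial (Fin n) R) →ₐ[R]
        R' ⊗[R] AdicCompletion J (MvPolynomial (Fin n) R)).toRingHom := by
    refine le_trans (IsAdicComplete.le_jacobson_bot _) ?_
    exact sInf_le ⟨bot_le, hPmax⟩
  have hmem : ∀ a ∈ I₀, algebraMap R R' a ∈
      𝔫.under R' := by
    intro a ha
    have h1 : algebraMap R (AdicCompletion J (MvPolynomial (Fin n) R)) a ∈
        J.map (algebraMap (MvPolynomial (Fin n) R) (AdicCompletion J (MvPolynomial (Fin n) R))) := by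
      rw [IsScalarTower.algebraMap_apply R (MvPolynomial (Fin n) R)]
      refine Ideal.mem_map_of_mem _ ?_
      rw [hJ]
      exact Ideal.mem_map_of_mem _ ha
    have h2 := hle h1
    rw [Ideal.mem_comap] at h2
    rw [Ideal.under_def, Ideal.mem_comap]
    convert h2 using 1
    change (algebraMap R R' a) ⊗ₜ[R] (1 : AdicCompletion J (MvPolynomial (Fin n) R)) =
      (1 : R') ⊗ₜ[R] (algebraMap R (AdicCompletion J (MvPolynomial (Fin n) R)) a)
    rw [Algebra.algebraMap_eq_smul_one, Algebra.algebraMap_eq_smul_one (A := AdicCompletion J _),
      TensorProduct.smul_tmul]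
  -- the fibre
  have hL : ∀ a ∈ I₀, algebraMap R (𝔫.under R').ResidueField a = 0 := by
    intro a ha
    rw [IsScalarTower.algebraMap_apply R R' (𝔫.under R').ResidueField,
      Ideal.algebraMap_residueField_eq_zero]
    exact hmem a ha
  have hreg := isRegularRing_tensor_of_killed I₀ n J hJ hJfg (𝔫.under R').ResidueField hL
  exact IsRegularRing.of_ringEquiv (Algebra.TensorProduct.cancelBaseChange R R'
    (𝔫.under R').ResidueField (𝔫.under R').ResidueField
    (AdicCompletion J (MvPolynomial (Fin n) R))).symm.toRingEquiv

end finiteRegular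

section generic

variable {R : Type u} [CommRing R] [IsDomain R] [IsNoetherianRing R] [Ring.DimensionLEOne R]

attribute [local instance] Algebra.TensorProduct.rightAlgebra in
/-- For a one-dimensional Noetherian N-2 domain `R` and a finite extension `K'` of its fraction
field, `K' ⊗[R] R{x}` is a regular ring. -/
theorem isRegularRing_tensor_of_finiteDimensional (hN2 : CAlg.IsN2 R) (I₀ : Ideal R) (n : ℕ)
    (J : Ideal (MvPolynomial (Fin n) R)) (hJ : J = I₀.map (algebraMap R (MvPolynomial (Fin n) R)))
    (K' : Type u) [Field K'] [Algebra R K'] [Algebra (FractionRing R) K']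
    [IsScalarTower R (FractionRing R) K'] [FiniteDimensional (FractionRing R) K'] :
    IsRegularRing (K' ⊗[R] AdicCompletion J (MvPolynomial (Fin n) R)) := by
  have hfin : Module.Finite R (integralClosure R K') := hN2 K' inferInstance
  have hfrac : IsFractionRing (integralClosure R K') K' :=
    integralClosure.isFractionRing_of_finite_extension (FractionRing R) K'
  have hic : IsIntegrallyClosed (integralClosure R K') :=
    integralClosure.isIntegrallyClosedOfFiniteExtension (FractionRing R)
  have hdim : Ring.DimensionLEOne (integralClosure R K') := inferInstance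
  have hnoeth : IsNoetherianRing (integralClosure R K') :=
    IsNoetherianRing.of_finite R (integralClosure R K')
  have hded : IsDedekindDomain (integralClosure R K') := {}
  have hreg : IsRegularRing (integralClosure R K') := inferInstance
  have hT' := isRegularRing_tensor_of_finite_regular I₀ n J hJ (integralClosure R K')
  have hloc : IsLocalization (Algebra.algebraMapSubmonoid
      ((integralClosure R K') ⊗[R] AdicCompletion J (MvPolynomial (Fin n) R))
      (nonZeroDivisors (integralClosure R K')))
      (K' ⊗[integralClosure R K'] ((integralClosure R K') ⊗[R]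
        AdicCompletion J (MvPolynomial (Fin n) R))) := inferInstance
  have hreg2 : IsRegularRing (K' ⊗[integralClosure R K'] ((integralClosure R K') ⊗[R]
      AdicCompletion J (MvPolynomial (Fin n) R))) :=
    Groth.Agent.H14.GeomBC.isRegularRing_of_isLocalization (Algebra.algebraMapSubmonoid
      ((integralClosure R K') ⊗[R] AdicCompletion J (MvPolynomial (Fin n) R))
      (nonZeroDivisors (integralClosure R K'))) _
  exact IsRegularRing.of_ringEquiv (Algebra.TensorProduct.cancelBaseChange R
    (integralClosure R K') K' K' (AdicCompletion J (MvPolynomial (Fin n) R))).toRingEquiv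

end generic

end Groth.Agent.H57.RegF
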