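import Mathlib
import Groth.Agent.H57.RegFibreB
import Groth.Agent.H26.RegHomDescent
import Groth.Agent.H26.SkFlat

/-!
# `R → R{x}` is a regular homomorphism for one-dimensional N-2 domains (helper57)
-/

set_option autoImplicit false
set_option linter.style.haveILetI false
universe u
open scoped TensorProduct

namespace Groth.Agent.H57.RegF

section main

variable {R : Type u} [CommRing R] [IsDomain R] [IsNoetherianRing R] [Ring.DimensionLEOne R]

/-- `R → R{x₁,…,xₙ}` (completion along `I₀`) is a regular homomorphism when `R` is a
one-dimensional Noetherian N-2 domain all of whose nonzero primes contain `I₀`. -/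
theorem isRegularHom_restrictedPowerSeries (hN2 : CAlg.IsN2 R) (I₀ : Ideal R)
    (hprimes : ∀ P : Ideal R, P.IsPrime → ¬ I₀ ≤ P → P = ⊥) (n : ℕ)
    (J : Ideal (MvPolynomial (Fin n) R)) (hJ : J = I₀.map (algebraMap R (MvPolynomial (Fin n) R))) :
    CAlg.IsRegularHom R (AdicCompletion J (MvPolynomial (Fin n) R)) := by
  have hJfg : J.FG := IsNoetherian.noetherian J
  have hNS : IsNoetherianRing (AdicCompletion J (MvPolynomial (Fin n) R)) :=
    Groth.Agent.H20.isNoetherianRing_adicCompletion J
  have hflatTS : Module.Flat (MvPolynomial (Fin n) R) (AdicCompletion J (MvPolynomial (Fin n) R)) :=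
    AdicCompletion.flat_of_isNoetherian J
  have hflat : Module.Flat R (AdicCompletion J (MvPolynomial (Fin n) R)) :=
    Module.Flat.trans R (MvPolynomial (Fin n) R) _
  refine ⟨hflat, fun P hP => ⟨Groth.Agent.H26.SkFlat.isNoetherianRing_fiber _ P, ?_⟩⟩
  intro k' _ _ hfin
  letI algRk : Algebra R k' :=
    ((algebraMap P.ResidueField k').comp (algebraMap R P.ResidueField)).toAlgebra
  haveI tw : IsScalarTower R P.ResidueField k' := IsScalarTower.of_algebraMap_eq (fun x => rfl)
  suffices h : IsRegularRing (k' ⊗[R] AdicCompletion J (MvPolynomial (Fin n) R)) from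
    IsRegularRing.of_ringEquiv (Groth.Agent.H26.RegHomDescent.tensorFiberEquiv R
      (AdicCompletion J (MvPolynomial (Fin n) R)) k' P)
  by_cases hIP : I₀ ≤ P
  · refine isRegularRing_tensor_of_killed I₀ n J hJ hJfg k' (fun a ha => ?_)
    change algebraMap P.ResidueField k' (algebraMap R P.ResidueField a) = 0
    rw [Ideal.algebraMap_residueField_eq_zero.mpr (hIP ha), map_zero]
  · obtain rfl : P = ⊥ := hprimes P hP hIP
    letI algFk : Algebra (FractionRing R) k' :=
      ((algebraMap (⊥ : Ideal R).ResidueField k').comp
        (FractionRing.algEquiv R (⊥ : Ideal R).ResidueField).toRingEquiv.toRingHom).toAlgebra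
    haveI tw2 : IsScalarTower R (FractionRing R) k' := IsScalarTower.of_algebraMap_eq (fun x => by
      change algebraMap (⊥ : Ideal R).ResidueField k' (algebraMap R _ x) =
        algebraMap (⊥ : Ideal R).ResidueField k'
          ((FractionRing.algEquiv R (⊥ : Ideal R).ResidueField) (algebraMap R (FractionRing R) x))
      rw [AlgEquiv.commutes])
    haveI hfd : FiniteDimensional (FractionRing R) k' :=
      Module.Finite.of_equiv_equiv
        (FractionRing.algEquiv R (⊥ : Ideal R).ResidueField).symm.toRingEquiv (RingEquiv.refl k')
        (by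
          refine RingHom.ext fun x => ?_
          change algebraMap (⊥ : Ideal R).ResidueField k'
              ((FractionRing.algEquiv R (⊥ : Ideal R).ResidueField)
                ((FractionRing.algEquiv R (⊥ : Ideal R).ResidueField).symm x)) =
            algebraMap (⊥ : Ideal R).ResidueField k' x
          rw [AlgEquiv.apply_symm_apply])
    exact isRegularRing_tensor_of_finiteDimensional hN2 I₀ n J hJ k'

end main

end Groth.Agent.H57.RegF
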