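import Mathlib
import Groth.Agent.H57.RegLiftArt
import Groth.Agent.H47.PSStruct

/-!
# Regular complete local rings and infinitesimal lifting of local homomorphisms

Variant of `RegLiftArt` for test rings that are arbitrary Artinian local `k`-algebras and local
homomorphisms.
-/

set_option autoImplicit false
set_option linter.style.haveILetI false
set_option linter.unusedSectionVars false
universe u
open IsLocalRing

namespace Groth.Agent.H57.RegLiftArt2

open Groth.Agent.H57.RegLiftArt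

/-- the lifting property for local homomorphisms against square-zero extensions of Artinian local
`k`-algebras -/
def LiftPropLoc (k : Type u) [Field k] (A : Type u) [CommRing A] [Algebra k A] : Prop :=
  ∀ (R : Type u) [CommRing R] [Algebra k R] [IsArtinianRing R] [IsLocalRing R] (J : Ideal R),
    J ^ 2 = ⊥ → ∀ f : A →ₐ[k] R ⧸ J, IsLocalHom (f : A →+* R ⧸ J) →
      ∃ g : A →ₐ[k] R, (Ideal.Quotient.mkₐ k J).comp g = f

section keyL

variable {k : Type u} [Field k] {P A : Type u} [CommRing P] [IsLocalRing P] [IsNoetherianRing P]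
  [Algebra k P] [CommRing A] [Algebra k A]

theorem ker_le_pow_succ (hk : ResK k P) (π : P →ₐ[k] A) (hπ : Function.Surjective π)
    (hL : LiftPropLoc k A) (n : ℕ) (hn : 2 ≤ n)
    (hI : RingHom.ker π ≤ maximalIdeal P ^ n) : RingHom.ker π ≤ maximalIdeal P ^ (n + 1) := by
  set 𝔪 := maximalIdeal P with h𝔪
  haveI : IsLocalRing (P ⧸ 𝔪 ^ (n + 1)) := isLocalRing_quot_pow n
  haveI : Module.Finite k (P ⧸ 𝔪 ^ (n + 1)) := finite_quot_pow hk (n + 1)
  haveI : IsArtinianRing (P ⧸ 𝔪 ^ (n + 1)) := IsArtinianRing.of_finite k _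
  let mk : P →ₐ[k] P ⧸ 𝔪 ^ (n + 1) := Ideal.Quotient.mkₐ k _
  let E : ℕ → Ideal (P ⧸ 𝔪 ^ (n + 1)) := fun j => (𝔪 ^ j).map mk
  have hEanti : ∀ {a b : ℕ}, b ≤ a → E a ≤ E b := fun {a b} hab =>
    Ideal.map_mono (Ideal.pow_le_pow_right hab)
  have hEmul : ∀ a b : ℕ, E a * E b = E (a + b) := fun a b => by
    change (𝔪 ^ a).map mk * (𝔪 ^ b).map mk = (𝔪 ^ (a + b)).map mk
    rw [← Ideal.map_mul, ← pow_add]
  have hEbot : E (n + 1) = ⊥ := by
    change (𝔪 ^ (n + 1)).map (Ideal.Quotient.mk (𝔪 ^ (n + 1))) = ⊥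
    exact Ideal.map_quotient_self _
  have hEmem : ∀ {j : ℕ} {p : P}, p ∈ 𝔪 ^ j → mk p ∈ E j := fun {j p} hp =>
    Ideal.mem_map_of_mem _ hp
  let J : Ideal (P ⧸ 𝔪 ^ (n + 1)) := (RingHom.ker π).map mk
  have hJE : J ≤ E n := Ideal.map_mono hI
  have hJ2 : J ^ 2 = ⊥ := by
    rw [eq_bot_iff, ← hEbot]
    calc J ^ 2 ≤ E n ^ 2 := Ideal.pow_right_mono hJE 2
      _ = E (n + n) := by rw [pow_two, hEmul]
      _ ≤ E (n + 1) := hEanti (by omega)
  have hJtop : J ≠ ⊤ := by
    intro h
    rw [h, Ideal.top_pow] at hJ2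
    exact top_ne_bot hJ2
  haveI : Nontrivial ((P ⧸ 𝔪 ^ (n + 1)) ⧸ J) := Ideal.Quotient.nontrivial_iff.2 hJtop
  let q₂ : P →ₐ[k] (P ⧸ 𝔪 ^ (n + 1)) ⧸ J := (Ideal.Quotient.mkₐ k J).comp mk
  have hq₂surj : Function.Surjective q₂ := fun y => by
    obtain ⟨y', rfl⟩ := Ideal.Quotient.mk_surjective y
    obtain ⟨p, rfl⟩ := Ideal.Quotient.mk_surjective y'
    exact ⟨p, rfl⟩
  have hq₂ : RingHom.ker π.toRingHom ≤ RingHom.ker q₂.toRingHom := by
    intro p hp
    rw [RingHom.mem_ker]
    change Ideal.Quotient.mk J (mk p) = 0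
    rw [Ideal.Quotient.eq_zero_iff_mem]
    exact Ideal.mem_map_of_mem _ hp
  let f : A →ₐ[k] (P ⧸ 𝔪 ^ (n + 1)) ⧸ J := AlgHom.liftOfSurjective π hπ q₂ hq₂
  have hfloc : IsLocalHom (f : A →+* (P ⧸ 𝔪 ^ (n + 1)) ⧸ J) := by
    haveI : IsLocalHom (q₂ : P →+* (P ⧸ 𝔪 ^ (n + 1)) ⧸ J) :=
      IsLocalHom.of_surjective _ hq₂surj
    constructor
    intro a ha
    obtain ⟨p, rfl⟩ := hπ a
    have h1 : (f : A →+* (P ⧸ 𝔪 ^ (n + 1)) ⧸ J) (π p) = (q₂ : P →+* _) p :=
      AlgHom.liftOfSurjective_apply π hπ q₂ hq₂ p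
    rw [h1] at ha
    exact (isUnit_of_map_unit (q₂ : P →+* (P ⧸ 𝔪 ^ (n + 1)) ⧸ J) p ha).map π
  obtain ⟨g, hg⟩ := hL (P ⧸ 𝔪 ^ (n + 1)) J hJ2 f hfloc
  let h : P →ₐ[k] P ⧸ 𝔪 ^ (n + 1) := g.comp π
  have h1 : ∀ p, h p - mk p ∈ E n := by
    intro p
    apply hJE
    rw [← Ideal.Quotient.eq]
    have e1 : Ideal.Quotient.mk J (h p) = ((Ideal.Quotient.mkₐ k J).comp g) (π p) := rfl
    rw [e1, hg]
    exact AlgHom.liftOfSurjective_apply π hπ q₂ hq₂ p
  have h2 : ∀ p ∈ 𝔪, h p ∈ E 1 := by
    intro p hp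
    have : h p = (h p - mk p) + mk p := by ring
    rw [this]
    refine Ideal.add_mem _ (hEanti (by omega) (h1 p)) (hEmem ?_)
    rwa [pow_one]
  have h3 : ∀ j : ℕ, ∀ x ∈ 𝔪 ^ (j + 1), h x - mk x ∈ E (n + j) := by
    intro j
    induction j with
    | zero => intro x _; exact h1 x
    | succ j ih =>
      intro x hx
      rw [pow_succ] at hx
      refine Submodule.mul_induction_on hx (fun a ha b hb => ?_) (fun a b ha hb => ?_)
      · have e : h (a * b) - mk (a * b) = (h a - mk a) * h b + mk a * (h b - mk b) := by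
          rw [map_mul, map_mul]; ring
        rw [e]
        refine Ideal.add_mem _ ?_ ?_
        · have := Ideal.mul_mem_mul (ih a ha) (h2 b hb)
          rw [hEmul] at this
          exact this
        · have := Ideal.mul_mem_mul (hEmem ha) (h1 b)
          rw [hEmul] at this
          exact hEanti (by omega) this
      · have e : h (a + b) - mk (a + b) = (h a - mk a) + (h b - mk b) := by
          rw [map_add, map_add]; ring
        rw [e]
        exact Ideal.add_mem _ ha hb
  intro x hx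
  have hxn : x ∈ 𝔪 ^ ((n - 1) + 1) := by
    have : n - 1 + 1 = n := by omega
    rw [this]; exact hI hx
  have h4 := hEanti (show n + 1 ≤ n + (n - 1) by omega) (h3 (n - 1) x hxn)
  rw [hEbot, Ideal.mem_bot] at h4
  have h5 : h x = 0 := by
    change g (π x) = 0
    rw [(RingHom.mem_ker).1 hx, map_zero]
  rw [h5, zero_sub, neg_eq_zero] at h4
  exact Ideal.Quotient.eq_zero_iff_mem.1 h4

theorem ker_eq_bot (hk : ResK k P) (π : P →ₐ[k] A) (hπ : Function.Surjective π)
    (hL : LiftPropLoc k A) (hI : RingHom.ker π ≤ maximalIdeal P ^ 2) : RingHom.ker π = ⊥ := by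
  have hall : ∀ n : ℕ, RingHom.ker π ≤ maximalIdeal P ^ (n + 2) := by
    intro n
    induction n with
    | zero => exact hI
    | succ n ih => exact ker_le_pow_succ hk π hπ hL (n + 2) (by omega) ih
  rw [eq_bot_iff, ← Ideal.iInf_pow_eq_bot_of_isLocalRing (maximalIdeal P)
    (maximalIdeal.isMaximal P).ne_top]
  refine le_iInf fun n => ?_
  exact (hall n).trans (Ideal.pow_le_pow_right (by omega))

end keyL

section forwardMain

open MvPolynomial

variable {k : Type u} [Field k]

theorem liftPropLoc_of_regular {A : Type u} [CommRing A] [IsRegularLocalRing A]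
    [Algebra k A] (hk : ResK k A) : LiftPropLoc k A := by
  intro B' _ _ _ _ J hJ2 f hfl
  classical
  obtain ⟨d, hd, -⟩ := Lead.RLR.exists_ringKrullDim_eq A
  have hsf : (maximalIdeal A).spanFinrank = d := by
    have := Lead.RLR.ringKrullDim_eq_spanFinrank A
    rw [hd] at this
    exact_mod_cast this.symm
  obtain ⟨s, hs1, hs2⟩ := Submodule.FG.exists_span_finset_card_eq_spanFinrank
    ((isNoetherianRing_iff_ideal_fg A).1 inferInstance (maximalIdeal A))
  obtain ⟨x, hxr⟩ := Lead.RLR.exists_fin_range_eq s d (hs1.trans hsf)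
  have hx : Ideal.span (Set.range x) = maximalIdeal A := by rw [hxr]; exact hs2
  have hxm : ∀ i, x i ∈ maximalIdeal A := fun i => by
    rw [← hx]; exact Ideal.subset_span ⟨i, rfl⟩
  have hreg := Lead.RLR.isRegular_ofFn A d hd x hx
  have hqr := Groth.Agent.H19.QReg.isQuasiRegular_of_isWeaklyRegular x hreg.toIsWeaklyRegular
  obtain ⟨M, hM⟩ : ∃ M, maximalIdeal B' ^ M = ⊥ := by
    have := IsArtinianRing.isNilpotent_jacobson_bot (R := B')
    rw [IsLocalRing.jacobson_eq_maximalIdeal ⊥ bot_ne_top] at this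
    exact this
  have hJtop : J ≠ ⊤ := by
    rintro rfl
    rw [Ideal.top_pow] at hJ2
    exact top_ne_bot hJ2
  haveI : Nontrivial (B' ⧸ J) := Ideal.Quotient.nontrivial_iff.2 hJtop
  -- `f` is local
  have hfloc : ∀ a ∈ maximalIdeal A, ∀ b : B', Ideal.Quotient.mk J b = f a →
      b ∈ maximalIdeal B' := by
    intro a ha b hb
    by_contra hbm
    have hbu : IsUnit b := IsLocalRing.notMem_maximalIdeal.1 hbm
    have h1 : IsUnit ((f : A →+* B' ⧸ J) a) := by
      change IsUnit (f a)
      rw [← hb]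
      exact hbu.map (Ideal.Quotient.mk J)
    exact ha (isUnit_of_map_unit (f : A →+* B' ⧸ J) a h1)
  choose b hb using fun i => Ideal.Quotient.mk_surjective (I := J) (f (x i))
  have hbm : ∀ i, b i ∈ maximalIdeal B' := fun i => hfloc (x i) (hxm i) (b i) (hb i)
  let φ : MvPolynomial (Fin d) k →ₐ[k] B' := aeval b
  let θ : MvPolynomial (Fin d) k →ₐ[k] A := aeval x
  have hkey : ∀ F : MvPolynomial (Fin d) k, θ F ∈ maximalIdeal A ^ M → φ F = 0 := by
    intro F hF
    have h0 := homogeneousComponent_eq_zero_of_aeval_mem x hx hqr M F hF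
    have hsum : φ F = ∑ i ∈ Finset.range (F.totalDegree + 1),
        φ (homogeneousComponent i F) := by
      rw [← map_sum, sum_homogeneousComponent]
    rw [hsum]
    refine Finset.sum_eq_zero fun i _ => ?_
    by_cases hi : i < M
    · rw [h0 i hi, map_zero]
    · have h1 : φ (homogeneousComponent i F) ∈ maximalIdeal B' ^ i :=
        aeval_mem_pow b _ hbm (homogeneousComponent_isHomogeneous i F)
      have h2 := Ideal.pow_le_pow_right (not_lt.1 hi) h1
      rwa [hM, Ideal.mem_bot] at h2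
  let θM : MvPolynomial (Fin d) k →ₐ[k] A ⧸ maximalIdeal A ^ M :=
    (Ideal.Quotient.mkₐ k (maximalIdeal A ^ M)).comp θ
  have hθM : Function.Surjective θM := by
    intro q
    obtain ⟨a, rfl⟩ := Ideal.Quotient.mk_surjective q
    obtain ⟨F, hF⟩ := exists_aeval_sub_mem x hk hx M a
    refine ⟨F, ?_⟩
    change Ideal.Quotient.mk _ (θ F) = Ideal.Quotient.mk _ a
    rw [Ideal.Quotient.eq]
    have := (Ideal.neg_mem_iff _).2 hF
    rwa [neg_sub] at this
  have hker : RingHom.ker θM.toRingHom ≤ RingHom.ker φ.toRingHom := by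
    intro F hF
    rw [RingHom.mem_ker] at hF ⊢
    apply hkey
    exact Ideal.Quotient.eq_zero_iff_mem.1 hF
  let g : A →ₐ[k] B' :=
    (AlgHom.liftOfSurjective θM hθM φ hker).comp (Ideal.Quotient.mkₐ k (maximalIdeal A ^ M))
  refine ⟨g, ?_⟩
  have hfm : ∀ y ∈ maximalIdeal A ^ M, f y = 0 := by
    intro y hy
    have h1 : (maximalIdeal A).map f ≤ (maximalIdeal B').map (Ideal.Quotient.mk J) := by
      rw [Ideal.map_le_iff_le_comap]
      intro a ha
      obtain ⟨b', hb'⟩ := Ideal.Quotient.mk_surjective (I := J) (f a)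
      rw [Ideal.mem_comap, ← hb']
      exact Ideal.mem_map_of_mem _ (hfloc a ha b' hb')
    have h2 : f y ∈ (maximalIdeal A ^ M).map f := Ideal.mem_map_of_mem _ hy
    rw [Ideal.map_pow] at h2
    have h3 := Ideal.pow_right_mono h1 M h2
    rw [← Ideal.map_pow, hM, Ideal.map_bot, Ideal.mem_bot] at h3
    exact h3
  have hcomp : (Ideal.Quotient.mkₐ k J).comp φ = f.comp θ := by
    apply MvPolynomial.algHom_ext
    intro i
    change Ideal.Quotient.mk J (aeval b (X i)) = f (aeval x (X i))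
    rw [aeval_X, aeval_X, hb]
  apply AlgHom.ext
  intro a
  obtain ⟨F, hF⟩ := exists_aeval_sub_mem x hk hx M a
  have e1 : Ideal.Quotient.mkₐ k (maximalIdeal A ^ M) a = θM F := by
    change Ideal.Quotient.mk _ a = Ideal.Quotient.mk _ (θ F)
    rw [Ideal.Quotient.eq]
    exact hF
  have e2 : g a = φ F := by
    change (AlgHom.liftOfSurjective θM hθM φ hker) (Ideal.Quotient.mkₐ k _ a) = φ F
    rw [e1, AlgHom.liftOfSurjective_apply]
  change Ideal.Quotient.mkₐ k J (g a) = f a
  rw [e2]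
  have e3 : Ideal.Quotient.mkₐ k J (φ F) = f (θ F) := DFunLike.congr_fun hcomp F
  rw [e3]
  have e4 := hfm _ hF
  rw [map_sub, sub_eq_zero] at e4
  exact e4.symm

end forwardMain

section converseComplete

variable {k : Type u} [Field k]

theorem regular_of_liftPropLoc_complete {A : Type u} [CommRing A] [Algebra k A] [IsLocalRing A]
    [IsNoetherianRing A] [IsAdicComplete (maximalIdeal A) A] (hk : ResK k A)
    (hL : LiftPropLoc k A) : IsRegularLocalRing A := by
  classical
  let κ := IsLocalRing.ResidueField A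
  let d := Module.finrank κ (IsLocalRing.CotangentSpace A)
  let v : Module.Basis (Fin d) κ (IsLocalRing.CotangentSpace A) := Module.finBasis κ _
  have hsurjc := Ideal.toCotangent_surjective (IsLocalRing.maximalIdeal A)
  choose c hc using fun i => hsurjc (v i)
  obtain ⟨ψ, hψX⟩ := Groth.Agent.H47.exists_evalHom_complete (k := k)
    (IsLocalRing.maximalIdeal A) d (fun i => (c i : A)) (fun i => (c i).2)
  have hψ : ∀ i : Fin d, ψ (MvPowerSeries.X i) ∈ IsLocalRing.maximalIdeal A := by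
    intro i
    rw [hψX]
    exact (c i).2
  have hfun : (fun i : Fin d => (IsLocalRing.maximalIdeal A).toCotangent
      ⟨ψ (MvPowerSeries.X i), hψ i⟩) = fun i => v i := by
    funext i
    rw [← hc i]
    congr 1
    exact Subtype.ext (hψX i)
  have hR : Function.Surjective ((IsLocalRing.residue A).comp (algebraMap k A)) := by
    intro y
    obtain ⟨a, rfl⟩ := IsLocalRing.residue_surjective y
    obtain ⟨c', hc'⟩ := hk a
    refine ⟨c', ?_⟩
    rw [← IsLocalRing.residue_eq_zero_iff, map_sub, sub_eq_zero] at hc'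
    exact hc'.symm
  have hsurj : Function.Surjective ψ :=
    Groth.Agent.H61.CLK.ps_surjective ψ hψ hR (by rw [hfun]; exact v.span_eq)
  have hker2 := Groth.Agent.H61.CLK.ps_ker_le_sq ψ hψ hR
    (by rw [hfun]; exact v.linearIndependent)
  have hkP : ResK k (MvPowerSeries (Fin d) k) := by
    intro p
    refine ⟨MvPowerSeries.constantCoeff p, ?_⟩
    rw [IsLocalRing.mem_maximalIdeal, mem_nonunits_iff, MvPowerSeries.isUnit_iff_constantCoeff]
    rw [map_sub]
    have : MvPowerSeries.constantCoeff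
        (algebraMap k (MvPowerSeries (Fin d) k) (MvPowerSeries.constantCoeff p)) =
        MvPowerSeries.constantCoeff p := by
      rw [MvPowerSeries.algebraMap_apply]
      simp
    rw [this, sub_self]
    exact not_isUnit_zero
  have hbot := ker_eq_bot hkP ψ hsurj hL hker2
  have hinj : Function.Injective ψ := (RingHom.injective_iff_ker_eq_bot _).2 hbot
  exact (Groth.Agent.S11741.result k A hR d ψ hψ
    (by rw [hfun]; exact v.linearIndependent) (by rw [hfun]; exact v.span_eq)).2 ⟨hinj, hsurj⟩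

end converseComplete

end Groth.Agent.H57.RegLiftArt2
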