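import Mathlib
import Groth.Agent.H44.ComplLocRig
import Groth.Agent.H57.RigFlat

/-!
# Naive rig-flatness implies rig-flatness over a Jacobson reduction (helper57)
-/

set_option autoImplicit false
set_option linter.style.haveILetI false
universe u
open scoped TensorProduct

namespace Groth.Agent.H57.RigFlat

open Groth.Agent.H44

section

variable {A : Type u} [CommRing A] [IsNoetherianRing A] (I : Ideal A) [IsAdicComplete I A]
  {B : Type u} [CommRing B] [Algebra A B] [IsNoetherianRing B]
  [IsAdicComplete (I.map (algebraMap A B)) B]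

local notation "Af" f => Localization.Away f
local notation "Ahat" f => AdicCompletion (Ideal.map (algebraMap A (Localization.Away f)) I)
  (Localization.Away f)
local notation "Bf" f => Localization.Away (algebraMap A B f)
local notation "Bhat" f => AdicCompletion (Ideal.map (algebraMap B (Localization.Away
  (algebraMap A B f))) (Ideal.map (algebraMap A B) I)) (Localization.Away (algebraMap A B f))

/-- The completed localization `B_{f}` is of finite type over `B` modulo the ideal of definition. -/
theorem finiteType_quotient_completedLocalization (K : Ideal B) (g : B) :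
    Algebra.FiniteType B
      (AdicCompletion (K.map (algebraMap B (Localization.Away g))) (Localization.Away g) ⧸
        K.map (algebraMap B
          (AdicCompletion (K.map (algebraMap B (Localization.Away g))) (Localization.Away g)))) := by
  set Bg := Localization.Away g
  set J := K.map (algebraMap B Bg)
  set T := AdicCompletion J Bg
  have hJfg : J.FG := Ideal.FG.map (IsNoetherian.noetherian K) _
  have hmap : K.map (algebraMap B T) = J.map (algebraMap Bg T) := by
    rw [Ideal.map_map]
    rfl
  let φ : Bg →ₐ[B] T ⧸ K.map (algebraMap B T) :=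
    (Ideal.Quotient.mkₐ B (K.map (algebraMap B T))).comp (IsScalarTower.toAlgHom B Bg T)
  refine Algebra.FiniteType.of_surjective φ ?_
  intro y
  obtain ⟨t, rfl⟩ := Ideal.Quotient.mk_surjective y
  obtain ⟨r, hr⟩ := Ideal.Quotient.mk_surjective (AdicCompletion.evalₐ J 1 t)
  refine ⟨r, ?_⟩
  change Ideal.Quotient.mk _ (algebraMap Bg T r) = Ideal.Quotient.mk _ t
  rw [Ideal.Quotient.eq, hmap]
  have hker := Groth.Agent.H20.ker_evalₐ_eq_map J hJfg 1
  have hJ1 : (J ^ 1).map (algebraMap Bg T) = J.map (algebraMap Bg T) := by rw [pow_one]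
  rw [← hJ1, ← hker, RingHom.mem_ker, map_sub, sub_eq_zero]
  exact (AdicCompletion.evalₐ_of _ 1 r).trans hr

/-- A rig-closed prime of `B'` contracts to a rig-closed prime of `B` when `B → B'` is adic,
topologically of finite type, and `B ⧸ K` is Jacobson. -/
theorem isRigClosed_comap_of_isJacobsonRing {B B' : Type u} [CommRing B] [IsNoetherianRing B]
    (K : Ideal B) [IsAdicComplete K B] [CommRing B'] [Algebra B B'] [IsNoetherianRing B']
    [IsAdicComplete (K.map (algebraMap B B')) B']
    (hft : Algebra.FiniteType B (B' ⧸ K.map (algebraMap B B'))) (hJ : IsJacobsonRing (B ⧸ K))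
    (q' : PrimeSpectrum B') (hq' : IsRigClosed (K.map (algebraMap B B')) q') :
    IsRigClosed K (PrimeSpectrum.comap (algebraMap B B') q') ∧
      Module.Finite B (B' ⧸ q'.asIdeal) := by
  have ha : ∀ m : Ideal B', m.IsMaximal → q'.asIdeal ≤ m → Module.Finite B (B' ⧸ m) :=
    fun m hm _ => finite_quotient_maximal_of_isJacobsonRing K hft hJ m hm
  have hc : Module.Finite B (B' ⧸ q'.asIdeal) :=
    finite_quotient_of_finite_quotient_sup K q' (finite_quotient_sup K q' hq' ha)
  exact ⟨isRigClosed_comap_of_finite K q' hq' hc, hc⟩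

/-- **Naive rig-flatness implies rig-flatness** when `A ⧸ I` is a Jacobson ring. -/
theorem flat_completedLocalization_of_isJacobsonRing
    (hft : Algebra.FiniteType A (B ⧸ I.map (algebraMap A B))) (hJ : IsJacobsonRing (A ⧸ I))
    (hnaive : ∀ q : PrimeSpectrum B, IsRigClosed (I.map (algebraMap A B)) q →
      (algebraMap A (Localization.AtPrime q.asIdeal)).Flat)
    (f : A) (ψ : (Ahat f) →+* (Bhat f))
    (hψ : ψ.comp (algebraMap (Af f) (Ahat f)) =
      (algebraMap (Bf f) (Bhat f)).comp (Localization.awayMap (algebraMap A B) f))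
    (q' : PrimeSpectrum (Bhat f))
    (hq' : IsRigClosed (((I.map (algebraMap A B)).map (algebraMap B (Bf f))).map
      (algebraMap (Bf f) (Bhat f))) q') :
    ((algebraMap (Bhat f) (Localization.AtPrime q'.asIdeal)).comp ψ).Flat := by
  -- algebra structures
  let _ : Algebra (Ahat f) (Bhat f) := ψ.toAlgebra
  have hψalg : algebraMap (Ahat f) (Bhat f) = ψ := rfl
  have htowerB : IsScalarTower A B (Bhat f) := IsScalarTower.of_algebraMap_eq fun a => by
    change algebraMap (Bf f) (Bhat f) (algebraMap A (Bf f) a) =
      algebraMap (Bf f) (Bhat f) (algebraMap B (Bf f) (algebraMap A B a))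
    rw [IsScalarTower.algebraMap_apply A B (Bf f)]
  have htower : IsScalarTower A (Ahat f) (Bhat f) := IsScalarTower.of_algebraMap_eq fun a => by
    have h1 : algebraMap (Ahat f) (Bhat f) (algebraMap A (Ahat f) a) =
        (ψ.comp (algebraMap (Af f) (Ahat f))) (algebraMap A (Af f) a) := rfl
    rw [h1, hψ, RingHom.comp_apply, Localization.awayMap, IsLocalization.Away.map,
      IsLocalization.map_eq]
    exact IsScalarTower.algebraMap_apply A B (Bhat f) a
  have hJBfg : (Ideal.map (algebraMap B (Bf f)) (Ideal.map (algebraMap A B) I)).FG :=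
    Ideal.FG.map (IsNoetherian.noetherian _) _
  have hIB' : (I.map (algebraMap A B)).map (algebraMap B (Bhat f)) =
      ((I.map (algebraMap A B)).map (algebraMap B (Bf f))).map (algebraMap (Bf f) (Bhat f)) :=
    (Ideal.map_map (I := I.map (algebraMap A B)) (algebraMap B (Bf f))
      (algebraMap (Bf f) (Bhat f))).symm
  have hcomplB' : IsAdicComplete ((I.map (algebraMap A B)).map (algebraMap B (Bhat f))) (Bhat f) := by
    rw [hIB']
    exact AdicCompletion.isAdicComplete_self _ hJBfg
  have hq'K : IsRigClosed ((I.map (algebraMap A B)).map (algebraMap B (Bhat f))) q' := by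
    rw [hIB']; exact hq'
  -- `B ⧸ IB` is Jacobson
  have hftq : Algebra.FiniteType (A ⧸ I) (B ⧸ I.map (algebraMap A B)) :=
    Algebra.FiniteType.of_restrictScalars_finiteType A _ _
  have hJB : IsJacobsonRing (B ⧸ I.map (algebraMap A B)) := isJacobsonRing_of_finiteType (A := A ⧸ I)
  have hftB' : Algebra.FiniteType B ((Bhat f) ⧸ (I.map (algebraMap A B)).map (algebraMap B (Bhat f))) :=
    finiteType_quotient_completedLocalization (I.map (algebraMap A B)) (algebraMap A B f)
  -- rig-closedness of the contractions
  obtain ⟨hq, -⟩ := isRigClosed_comap_of_isJacobsonRing (I.map (algebraMap A B)) hftB' hJB q' hq'K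
  obtain ⟨hp, -⟩ := isRigClosed_comap_of_isJacobsonRing I hft hJ
    (PrimeSpectrum.comap (algebraMap B (Bhat f)) q') hq
  set q : PrimeSpectrum B := PrimeSpectrum.comap (algebraMap B (Bhat f)) q' with hqdef
  set p : PrimeSpectrum A := PrimeSpectrum.comap (algebraMap A B) q with hpdef
  -- `f` is a unit modulo `p`
  obtain ⟨M', hM', hq'M'⟩ := Ideal.exists_le_maximal q'.asIdeal q'.2.ne_top
  have hmB : (M'.comap (algebraMap B (Bhat f))).IsMaximal :=
    isMaximal_comap_of_isRigClosed_comap (I.map (algebraMap A B)) q' hq M' hM' hq'M'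
  have hqmB : q.asIdeal ≤ M'.comap (algebraMap B (Bhat f)) := Ideal.comap_mono hq'M'
  have hmA : ((M'.comap (algebraMap B (Bhat f))).comap (algebraMap A B)).IsMaximal :=
    isMaximal_comap_of_isRigClosed_comap I q hp _ hmB hqmB
  have hpmA : p.asIdeal ≤ (M'.comap (algebraMap B (Bhat f))).comap (algebraMap A B) :=
    Ideal.comap_mono hqmB
  have hfunitB : IsUnit (algebraMap B (Bhat f) (algebraMap A B f)) := by
    have h1 : algebraMap B (Bhat f) (algebraMap A B f) =
        algebraMap (Bf f) (Bhat f) (algebraMap B (Bf f) (algebraMap A B f)) := rfl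
    rw [h1]
    exact (IsLocalization.Away.algebraMap_isUnit (algebraMap A B f)).map _
  have hfmA : f ∉ (M'.comap (algebraMap B (Bhat f))).comap (algebraMap A B) := by
    intro hmem
    rw [Ideal.mem_comap, Ideal.mem_comap] at hmem
    exact hM'.ne_top (Ideal.eq_top_of_isUnit_mem _ hmem hfunitB)
  have hunit : IsUnit (Ideal.Quotient.mk p.asIdeal f) :=
    hp.isUnit_mk_of_notMem I p _ hpmA f hfmA
  obtain ⟨v, hv⟩ := hunit.exists_right_inv
  obtain ⟨u, rfl⟩ := Ideal.Quotient.mk_surjective v
  have hu : f * u - 1 ∈ p.asIdeal := by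
    rw [← Ideal.Quotient.eq, map_mul, hv, map_one]
  have hbij := quotientMap_completedLocalization_bijective I p.asIdeal f u hu
  -- the contraction to `A_{f}` is generated by `p`
  have hcomap : (q'.asIdeal.comap (algebraMap (Ahat f) (Bhat f))).comap (algebraMap A (Ahat f)) =
      p.asIdeal := by
    rw [Ideal.comap_comap, ← IsScalarTower.algebraMap_eq, IsScalarTower.algebraMap_eq A B (Bhat f),
      ← Ideal.comap_comap]
    rfl
  have h3 : q'.asIdeal.comap (algebraMap (Ahat f) (Bhat f)) =
      ((q'.asIdeal.comap (algebraMap (Ahat f) (Bhat f))).comap (algebraMap A (Ahat f))).map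
        (algebraMap A (Ahat f)) := by
    rw [hcomap]
    have hle : p.asIdeal.map (algebraMap A (Ahat f)) ≤
        q'.asIdeal.comap (algebraMap (Ahat f) (Bhat f)) := by
      rw [Ideal.map_le_iff_le_comap, hcomap]
    refine le_antisymm (fun x hx => ?_) hle
    obtain ⟨y, hy⟩ := hbij.2 (Ideal.Quotient.mk _ x)
    obtain ⟨a, rfl⟩ := Ideal.Quotient.mk_surjective y
    rw [Ideal.quotientMap_mk, Ideal.Quotient.eq] at hy
    have ha' : algebraMap A (Ahat f) a ∈ q'.asIdeal.comap (algebraMap (Ahat f) (Bhat f)) := by
      have := Ideal.add_mem _ (hle hy) hx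
      rwa [sub_add_cancel] at this
    have ha : a ∈ p.asIdeal := by
      rw [← hcomap]
      exact ha'
    have := Ideal.sub_mem _ (Ideal.mem_map_of_mem (algebraMap A (Ahat f)) ha) hy
    rwa [sub_sub_cancel] at this
  -- flatness
  have hflBf : Module.Flat (Bf f) (Bhat f) := AdicCompletion.flat_of_isNoetherian _
  have hflB : Module.Flat B (Bhat f) := Module.Flat.trans B (Bf f) (Bhat f)
  have hflat : Module.Flat A (Localization.AtPrime (q'.asIdeal.comap (algebraMap B (Bhat f)))) :=
    RingHom.flat_algebraMap_iff.1 (hnaive q hq)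
  have hmain : Module.Flat (Ahat f) (Localization.AtPrime q'.asIdeal) :=
    flat_atPrime_of_flat_atPrime_comap (A := A) (B := B) (A' := Ahat f) (B' := Bhat f)
      q'.asIdeal hflat h3
  have h2 : algebraMap (Ahat f) (Localization.AtPrime q'.asIdeal) =
      (algebraMap (Bhat f) (Localization.AtPrime q'.asIdeal)).comp ψ := by
    rw [IsScalarTower.algebraMap_eq (Ahat f) (Bhat f) (Localization.AtPrime q'.asIdeal), hψalg]
  rw [← h2]
  exact RingHom.flat_algebraMap_iff.2 hmain

end

end Groth.Agent.H57.RigFlat
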