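import Mathlib
import Groth.Agent.H44.ComplLocRig

/-!
# Rig-closed primes of a completion vs. primes of the uncompleted algebra (helper57)

`A` Noetherian `I`-adically complete, `P` a Noetherian `A`-algebra of finite type,
`T = AdicCompletion (IP) P`. For a rig-closed prime `q` of `T` with rig-closed contraction to `A`
and `q' = q ∩ P` we show `P/q'^m ≅ T/q^m` in the form needed for the comparison of the local rings
`P_{q'} → T_q` modulo powers of the maximal ideals.
-/

set_option autoImplicit false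
set_option linter.style.haveILetI false
universe u

namespace Groth.Agent.H57.RigPoly

open Groth.Agent.H44

section basic

variable {P : Type u} [CommRing P] [IsNoetherianRing P] (K : Ideal P)

local notation "T" => AdicCompletion K P

theorem exists_sub_mem_map_pow (k : ℕ) (t : T) :
    ∃ r : P, t - algebraMap P T r ∈ (K ^ k).map (algebraMap P T) := by
  have hKfg : K.FG := IsNoetherian.noetherian K
  obtain ⟨r, hr⟩ := Ideal.Quotient.mk_surjective (AdicCompletion.evalₐ K k t)
  refine ⟨r, ?_⟩
  rw [← Groth.Agent.H20.ker_evalₐ_eq_map K hKfg k, RingHom.mem_ker, map_sub, sub_eq_zero]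
  exact ((AdicCompletion.evalₐ_of _ k r).trans hr).symm

theorem mem_sup_pow_of_algebraMap_mem (J : Ideal P) (k : ℕ) (r : P)
    (h : algebraMap P T r ∈ J.map (algebraMap P T) ⊔ (K ^ k).map (algebraMap P T)) :
    r ∈ J ⊔ K ^ k := by
  have hKfg : K.FG := IsNoetherian.noetherian K
  have h2 := Ideal.mem_map_of_mem (AdicCompletion.evalₐ K k : T →+* P ⧸ K ^ k) h
  have h3 : ((K ^ k).map (algebraMap P T)).map
      (AdicCompletion.evalₐ K k : T →+* P ⧸ K ^ k) = ⊥ := by
    rw [Ideal.map_eq_bot_iff_le_ker, Groth.Agent.H20.ker_evalₐ_eq_map K hKfg k]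
  have h4 : ((AdicCompletion.evalₐ K k : T →+* P ⧸ K ^ k).comp (algebraMap P T)) =
      Ideal.Quotient.mk (K ^ k) := by
    ext r
    exact AdicCompletion.evalₐ_of _ k r
  have h5 : (AdicCompletion.evalₐ K k : T →+* P ⧸ K ^ k) (algebraMap P T r) =
      Ideal.Quotient.mk (K ^ k) r := AdicCompletion.evalₐ_of _ k _
  rw [Ideal.map_sup, h3, sup_bot_eq, Ideal.map_map, h4, h5, Ideal.mem_quotient_iff_mem_sup] at h2
  exact h2

end basic

section main

variable {A : Type u} [CommRing A] [IsNoetherianRing A] (I : Ideal A) [IsAdicComplete I A]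
  {P : Type u} [CommRing P] [Algebra A P] [IsNoetherianRing P] [Algebra.FiniteType A P]

local notation "K" => Ideal.map (algebraMap A P) I
local notation "T" => AdicCompletion (Ideal.map (algebraMap A P) I) P

omit [IsNoetherianRing A] [IsAdicComplete I A] [IsNoetherianRing P] [Algebra.FiniteType A P] in
theorem map_eq : I.map (algebraMap A T) = Ideal.map (algebraMap P T) K := by
  rw [Ideal.map_map]
  rfl

omit [IsNoetherianRing A] [IsAdicComplete I A] [Algebra.FiniteType A P] in
theorem isAdicComplete_completion : IsAdicComplete (I.map (algebraMap A T)) T := by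
  rw [map_eq]
  exact AdicCompletion.isAdicComplete_self _ (IsNoetherian.noetherian _)

omit [IsNoetherianRing A] [IsAdicComplete I A] in
theorem finiteType_quotient : Algebra.FiniteType A (T ⧸ I.map (algebraMap A T)) := by
  let φ : P →ₐ[A] T ⧸ I.map (algebraMap A T) :=
    (Ideal.Quotient.mkₐ A (I.map (algebraMap A T))).comp (IsScalarTower.toAlgHom A P T)
  refine Algebra.FiniteType.of_surjective φ ?_
  intro y
  obtain ⟨t, rfl⟩ := Ideal.Quotient.mk_surjective y
  obtain ⟨r, hr⟩ := exists_sub_mem_map_pow K 1 t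
  refine ⟨r, ?_⟩
  change Ideal.Quotient.mk _ (algebraMap P T r) = Ideal.Quotient.mk _ t
  rw [Ideal.Quotient.eq, map_eq, ← neg_sub]
  rw [pow_one] at hr
  exact (Ideal.neg_mem_iff _).mpr hr

theorem finite_quotient (q : PrimeSpectrum T) (hq : IsRigClosed (I.map (algebraMap A T)) q)
    (hp : IsRigClosed I (PrimeSpectrum.comap (algebraMap A T) q)) :
    Module.Finite A (T ⧸ q.asIdeal) := by
  have := isAdicComplete_completion I (P := P)
  have hft := finiteType_quotient I (P := P)
  have ha : ∀ m : Ideal T, m.IsMaximal → q.asIdeal ≤ m → Module.Finite A (T ⧸ m) :=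
    fun m hm hqm => finite_quotient_maximal_of_isRigClosed_comap I q hft hp m hm hqm
  exact Groth.Agent.H44.finite_quotient_of_finite_quotient_sup I q (finite_quotient_sup I q hq ha)

/-- `P → T ⧸ q` is surjective. -/
theorem exists_sub_mem (q : PrimeSpectrum T) (hq : IsRigClosed (I.map (algebraMap A T)) q)
    (hp : IsRigClosed I (PrimeSpectrum.comap (algebraMap A T) q)) (t : T) :
    ∃ r : P, t - algebraMap P T r ∈ q.asIdeal := by
  have hfin : Module.Finite A (T ⧸ q.asIdeal) := finite_quotient I q hq hp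
  let f : P →ₗ[A] T ⧸ q.asIdeal :=
    (Ideal.Quotient.mkₐ A q.asIdeal).toLinearMap ∘ₗ (IsScalarTower.toAlgHom A P T).toLinearMap
  have hle : (⊤ : Submodule A (T ⧸ q.asIdeal)) ≤ LinearMap.range f := by
    refine Submodule.le_of_le_smul_of_le_jacobson_bot Module.Finite.fg_top
      (IsAdicComplete.le_jacobson_bot I) ?_
    intro y _
    obtain ⟨t, rfl⟩ := Ideal.Quotient.mk_surjective y
    obtain ⟨r, hr⟩ := exists_sub_mem_map_pow K 1 t
    rw [pow_one, ← map_eq] at hr
    have h1 : Ideal.Quotient.mk q.asIdeal t =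
        f r + Ideal.Quotient.mk q.asIdeal (t - algebraMap P T r) := by
      change _ = Ideal.Quotient.mk q.asIdeal (algebraMap P T r) + _
      rw [← map_add, add_sub_cancel]
    rw [h1]
    refine Submodule.add_mem_sup (LinearMap.mem_range_self f r) ?_
    have hz' : t - algebraMap P T r ∈ (I • ⊤ : Submodule A T) := by
      rw [Ideal.smul_top_eq_map]
      exact hr
    have h4 : (Ideal.Quotient.mkₐ A q.asIdeal).toLinearMap (t - algebraMap P T r) ∈
        Submodule.map (Ideal.Quotient.mkₐ A q.asIdeal).toLinearMap (I • ⊤ : Submodule A T) :=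
      Submodule.mem_map_of_mem hz'
    rw [Submodule.map_smul''] at h4
    exact Submodule.smul_mono le_rfl le_top h4
  obtain ⟨r, hr⟩ := hle (Submodule.mem_top (x := Ideal.Quotient.mk q.asIdeal t))
  refine ⟨r, ?_⟩
  rw [← Ideal.Quotient.eq]
  exact hr.symm

/-- `q` is generated by its contraction to `P`. -/
theorem map_comap_eq (q : PrimeSpectrum T) (hq : IsRigClosed (I.map (algebraMap A T)) q)
    (hp : IsRigClosed I (PrimeSpectrum.comap (algebraMap A T) q)) :
    (q.asIdeal.comap (algebraMap P T)).map (algebraMap P T) = q.asIdeal := by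
  refine le_antisymm Ideal.map_comap_le (fun t ht => ?_)
  set q' := q.asIdeal.comap (algebraMap P T) with hq'
  set J := q'.map (algebraMap P T) with hJ
  have hcomplT : IsAdicComplete (Ideal.map (algebraMap P T) K) T :=
    AdicCompletion.isAdicComplete_self _ (IsNoetherian.noetherian _)
  have hH : IsHausdorff (Ideal.map (algebraMap P T) K) (T ⧸ J) :=
    (isAdicComplete_quotient_module (Ideal.map (algebraMap P T) K) J).toIsHausdorff
  rw [← Ideal.Quotient.eq_zero_iff_mem]
  refine IsHausdorff.haus hH _ (fun k => ?_)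
  rw [SModEq.zero]
  obtain ⟨r, hr⟩ := exists_sub_mem_map_pow K k t
  -- `ψ : P → T ⧸ q` is surjective with kernel `q'`
  let ψ : P →+* T ⧸ q.asIdeal := (Ideal.Quotient.mk q.asIdeal).comp (algebraMap P T)
  have hψ : Function.Surjective ψ := by
    intro y
    obtain ⟨y, rfl⟩ := Ideal.Quotient.mk_surjective y
    obtain ⟨r, hr⟩ := exists_sub_mem I q hq hp y
    refine ⟨r, ?_⟩
    change Ideal.Quotient.mk q.asIdeal (algebraMap P T r) = Ideal.Quotient.mk q.asIdeal y
    rw [Ideal.Quotient.eq, ← neg_sub]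
    exact (Ideal.neg_mem_iff _).mpr hr
  have hkerψ : Ideal.comap ψ ⊥ = q' := by
    rw [← RingHom.ker_eq_comap_bot]
    ext x
    rw [RingHom.mem_ker]
    change Ideal.Quotient.mk q.asIdeal (algebraMap P T x) = 0 ↔ _
    rw [Ideal.Quotient.eq_zero_iff_mem]
    rfl
  have h1 : ψ r ∈ (K ^ k).map ψ := by
    have h2 : Ideal.Quotient.mk q.asIdeal (algebraMap P T r) =
        Ideal.Quotient.mk q.asIdeal (algebraMap P T r - t) := by
      rw [Ideal.Quotient.eq, sub_sub_cancel]
      exact ht
    have h3 : (K ^ k).map ψ = ((K ^ k).map (algebraMap P T)).map (Ideal.Quotient.mk q.asIdeal) := by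
      rw [Ideal.map_map]
    change Ideal.Quotient.mk q.asIdeal (algebraMap P T r) ∈ _
    rw [h2, h3]
    apply Ideal.mem_map_of_mem
    rw [← neg_sub]
    exact (Ideal.neg_mem_iff _).mpr hr
  have h4 : r ∈ K ^ k ⊔ q' := by
    have := Ideal.mem_comap.mpr h1
    rwa [Ideal.comap_map_of_surjective ψ hψ, hkerψ] at this
  obtain ⟨a, ha, b, hb, hab⟩ := Submodule.mem_sup.mp h4
  have hc : algebraMap P T a + (t - algebraMap P T r) ∈
      (Ideal.map (algebraMap P T) K) ^ k := by
    rw [← Ideal.map_pow]
    exact Ideal.add_mem _ (Ideal.mem_map_of_mem _ ha) hr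
  have hmk : Ideal.Quotient.mk J t =
      (algebraMap P T a + (t - algebraMap P T r)) • Ideal.Quotient.mk J (1 : T) := by
    have h5 : (algebraMap P T a + (t - algebraMap P T r)) • Ideal.Quotient.mk J (1 : T) =
        Ideal.Quotient.mk J (algebraMap P T a + (t - algebraMap P T r)) := by
      rw [Algebra.smul_def, map_one, mul_one]
      rfl
    rw [h5, Ideal.Quotient.eq, ← hab, map_add]
    have : t - (algebraMap P T a + (t - (algebraMap P T a + algebraMap P T b))) =
        algebraMap P T b := by ring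
    rw [this]
    exact Ideal.mem_map_of_mem _ hb
  rw [hmk]
  exact Submodule.smul_mem_smul hc Submodule.mem_top

/-- `P → T ⧸ q ^ m` is surjective. -/
theorem exists_sub_mem_pow (q : PrimeSpectrum T) (hq : IsRigClosed (I.map (algebraMap A T)) q)
    (hp : IsRigClosed I (PrimeSpectrum.comap (algebraMap A T) q)) (m : ℕ) (t : T) :
    ∃ r : P, t - algebraMap P T r ∈ q.asIdeal ^ m := by
  induction m generalizing t with
  | zero => exact ⟨0, by simp⟩
  | succ m ih =>
    obtain ⟨r, hr⟩ := ih t
    have hE := map_comap_eq I q hq hp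
    set q' := q.asIdeal.comap (algebraMap P T) with hq'
    have hpow : q.asIdeal ^ m = (q' ^ m).map (algebraMap P T) := by
      rw [Ideal.map_pow, hE]
    have key : ∀ v ∈ Submodule.span T (algebraMap P T '' ((q' ^ m : Ideal P) : Set P)),
        ∃ r' : P, v - algebraMap P T r' ∈ q.asIdeal ^ (m + 1) := by
      intro v hv
      induction hv using Submodule.span_induction with
      | mem v hv =>
        obtain ⟨c, _, rfl⟩ := hv
        exact ⟨c, by simp⟩
      | zero => exact ⟨0, by simp⟩
      | add v w _ _ ihv ihw =>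
        obtain ⟨r₁, h₁⟩ := ihv
        obtain ⟨r₂, h₂⟩ := ihw
        refine ⟨r₁ + r₂, ?_⟩
        have : v + w - algebraMap P T (r₁ + r₂) =
            (v - algebraMap P T r₁) + (w - algebraMap P T r₂) := by
          rw [map_add]; ring
        rw [this]
        exact Ideal.add_mem _ h₁ h₂
      | smul s u hu ihu =>
        obtain ⟨ρ, hρ⟩ := ihu
        obtain ⟨σ, hσ⟩ := exists_sub_mem I q hq hp s
        have hum : u ∈ q.asIdeal ^ m := by
          rw [hpow]
          exact hu
        refine ⟨σ * ρ, ?_⟩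
        have : s • u - algebraMap P T (σ * ρ) =
            (s - algebraMap P T σ) * u + algebraMap P T σ * (u - algebraMap P T ρ) := by
          rw [map_mul, smul_eq_mul]; ring
        rw [this]
        refine Ideal.add_mem _ ?_ (Ideal.mul_mem_left _ _ hρ)
        rw [pow_succ']
        exact Ideal.mul_mem_mul hσ hum
    have hv : t - algebraMap P T r ∈
        Submodule.span T (algebraMap P T '' ((q' ^ m : Ideal P) : Set P)) := by
      rw [hpow] at hr
      exact hr
    obtain ⟨r', hr'⟩ := key _ hv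
    refine ⟨r + r', ?_⟩
    have : t - algebraMap P T (r + r') = t - algebraMap P T r - algebraMap P T r' := by
      rw [map_add]; ring
    rw [this]
    exact hr'

/-- The contraction of `q ^ m` to `P` is `q' ^ m` up to an element outside `q'`. -/
theorem exists_notMem_mul_mem_pow (q : PrimeSpectrum T)
    (hq : IsRigClosed (I.map (algebraMap A T)) q)
    (hp : IsRigClosed I (PrimeSpectrum.comap (algebraMap A T) q)) (m : ℕ) (ρ : P)
    (h : algebraMap P T ρ ∈ q.asIdeal ^ m) :
    ∃ u : P, u ∉ q.asIdeal.comap (algebraMap P T) ∧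
      u * ρ ∈ (q.asIdeal.comap (algebraMap P T)) ^ m := by
  have hE := map_comap_eq I q hq hp
  set q' := q.asIdeal.comap (algebraMap P T) with hq'
  have hpow : q.asIdeal ^ m = (q' ^ m).map (algebraMap P T) := by
    rw [Ideal.map_pow, hE]
  rw [hpow] at h
  have hmem : ∀ k : ℕ, ρ ∈ q' ^ m ⊔ K ^ k := fun k =>
    mem_sup_pow_of_algebraMap_mem K (q' ^ m) k ρ (Ideal.mem_sup_left h)
  -- Krull intersection in `P ⧸ q' ^ m`
  set Kbar := Ideal.map (Ideal.Quotient.mk (q' ^ m)) K with hKbar
  have hinf : Ideal.Quotient.mk (q' ^ m) ρ ∈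
      (⨅ i : ℕ, Kbar ^ i • ⊤ : Submodule (P ⧸ q' ^ m) (P ⧸ q' ^ m)) := by
    rw [Submodule.mem_iInf]
    intro k
    obtain ⟨a, ha, b, hb, hab⟩ := Submodule.mem_sup.mp (hmem k)
    have h1 : Ideal.Quotient.mk (q' ^ m) ρ = Ideal.Quotient.mk (q' ^ m) b := by
      rw [← hab, map_add, Ideal.Quotient.eq_zero_iff_mem.mpr ha, zero_add]
    rw [h1, smul_eq_mul, Ideal.mul_top, hKbar, ← Ideal.map_pow]
    exact Ideal.mem_map_of_mem _ hb
  obtain ⟨⟨i, hi⟩, hiρ⟩ := (Kbar.mem_iInf_smul_pow_eq_bot_iff _).mp hinf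
  obtain ⟨i₀, hi₀, rfl⟩ := (Ideal.mem_map_iff_of_surjective _ Ideal.Quotient.mk_surjective).mp hi
  refine ⟨1 - i₀, ?_, ?_⟩
  · intro hu
    have hu' : algebraMap P T (1 - i₀) ∈ q.asIdeal := hu
    have hjac : algebraMap P T i₀ ∈ Ideal.jacobson (⊥ : Ideal T) := by
      have := isAdicComplete_completion I (P := P)
      apply IsAdicComplete.le_jacobson_bot (I.map (algebraMap A T))
      rw [map_eq]
      exact Ideal.mem_map_of_mem _ hi₀
    have hunit : IsUnit (algebraMap P T (1 - i₀)) := by
      apply Ideal.isUnit_of_sub_one_mem_jacobson_bot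
      rw [map_sub, map_one, sub_sub_cancel_left]
      exact (Ideal.neg_mem_iff _).mpr hjac
    exact q.2.ne_top (Ideal.eq_top_of_isUnit_mem _ hu' hunit)
  · rw [← Ideal.Quotient.eq_zero_iff_mem, map_mul, map_sub, map_one, sub_mul, one_mul, sub_eq_zero]
    exact hiρ.symm

/-- **Comparison of `P_{q'}` and `T_q` modulo powers of the maximal ideals.** -/
theorem localRingHom_pow (q : PrimeSpectrum T) (hq : IsRigClosed (I.map (algebraMap A T)) q)
    (hp : IsRigClosed I (PrimeSpectrum.comap (algebraMap A T) q)) (m : ℕ) (hm : 1 ≤ m) :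
    (∀ x : Localization.AtPrime (q.asIdeal.comap (algebraMap P T)),
      Localization.localRingHom (q.asIdeal.comap (algebraMap P T)) q.asIdeal (algebraMap P T) rfl x ∈
        IsLocalRing.maximalIdeal (Localization.AtPrime q.asIdeal) ^ m →
      x ∈ IsLocalRing.maximalIdeal (Localization.AtPrime (q.asIdeal.comap (algebraMap P T))) ^ m) ∧
    (∀ y : Localization.AtPrime q.asIdeal,
      ∃ x : Localization.AtPrime (q.asIdeal.comap (algebraMap P T)),
        y - Localization.localRingHom (q.asIdeal.comap (algebraMap P T)) q.asIdeal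
          (algebraMap P T) rfl x ∈ IsLocalRing.maximalIdeal (Localization.AtPrime q.asIdeal) ^ m) := by
  have hqprime : q.asIdeal.IsPrime := q.2
  set q' := q.asIdeal.comap (algebraMap P T) with hq'
  have hmaxL : IsLocalRing.maximalIdeal (Localization.AtPrime q.asIdeal) ^ m =
      (q.asIdeal ^ m).map (algebraMap T (Localization.AtPrime q.asIdeal)) := by
    rw [Ideal.map_pow, Localization.AtPrime.map_eq_maximalIdeal]
  have hmaxL' : IsLocalRing.maximalIdeal (Localization.AtPrime q') ^ m =
      (q' ^ m).map (algebraMap P (Localization.AtPrime q')) := by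
    rw [Ideal.map_pow, Localization.AtPrime.map_eq_maximalIdeal]
  have hpowle : q.asIdeal ^ m ≤ q.asIdeal := Ideal.pow_le_self (by omega)
  -- approximating elements outside `q`
  have happrox : ∀ s : T, s ∉ q.asIdeal → ∃ σ : P, σ ∉ q' ∧ s - algebraMap P T σ ∈ q.asIdeal ^ m := by
    intro s hs
    obtain ⟨σ, hσ⟩ := exists_sub_mem_pow I q hq hp m s
    refine ⟨σ, fun h => hs ?_, hσ⟩
    have h1 : algebraMap P T σ ∈ q.asIdeal := h
    have := Ideal.add_mem _ (hpowle hσ) h1
    rwa [sub_add_cancel] at this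
  constructor
  · intro x hx
    obtain ⟨⟨τ, σ⟩, rfl⟩ := IsLocalization.mk'_surjective q'.primeCompl x
    simp only at hx ⊢
    rw [Localization.localRingHom_mk', hmaxL,
      IsLocalization.mk'_mem_map_algebraMap_iff q.asIdeal.primeCompl] at hx
    obtain ⟨s, hs, hsτ⟩ := hx
    obtain ⟨σ', hσ', hsσ'⟩ := happrox s hs
    have h1 : algebraMap P T (σ' * τ) ∈ q.asIdeal ^ m := by
      have : algebraMap P T (σ' * τ) =
          s * algebraMap P T τ - (s - algebraMap P T σ') * algebraMap P T τ := by
        rw [map_mul]; ring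
      rw [this]
      exact Ideal.sub_mem _ hsτ (Ideal.mul_mem_right _ _ hsσ')
    obtain ⟨u, hu, huρ⟩ := exists_notMem_mul_mem_pow I q hq hp m (σ' * τ) h1
    rw [hmaxL', IsLocalization.mk'_mem_map_algebraMap_iff q'.primeCompl]
    refine ⟨u * σ', ?_, ?_⟩
    · exact q'.primeCompl.mul_mem hu hσ'
    · rw [mul_assoc]
      exact huρ
  · intro y
    obtain ⟨⟨t, s⟩, rfl⟩ := IsLocalization.mk'_surjective q.asIdeal.primeCompl y
    simp only
    obtain ⟨τ, hτ⟩ := exists_sub_mem_pow I q hq hp m t
    obtain ⟨σ, hσ, hsσ⟩ := happrox s s.2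
    refine ⟨IsLocalization.mk' _ τ (⟨σ, hσ⟩ : q'.primeCompl), ?_⟩
    rw [Localization.localRingHom_mk', ← IsLocalization.mk'_sub, hmaxL,
      IsLocalization.mk'_mem_map_algebraMap_iff q.asIdeal.primeCompl]
    refine ⟨1, q.asIdeal.primeCompl.one_mem, ?_⟩
    rw [one_mul]
    have : t * (algebraMap P T σ) - algebraMap P T τ * (s : T) =
        (t - algebraMap P T τ) * algebraMap P T σ - algebraMap P T τ * ((s : T) - algebraMap P T σ) := by
      ring
    change t * (algebraMap P T σ) - algebraMap P T τ * (s : T) ∈ q.asIdeal ^ m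
    rw [this]
    exact Ideal.sub_mem _ (Ideal.mul_mem_right _ _ hτ) (Ideal.mul_mem_left _ _ hsσ)

end main

end Groth.Agent.H57.RigPoly
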