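import Mathlib
import Groth.Agent.H57.CPushoutFT

/-!
# Abstract lemmas for the semi-locality of the integral closure of a Noetherian local domain
-/

set_option autoImplicit false
set_option linter.style.haveILetI false
set_option linter.unusedSectionVars false
universe u

open TensorProduct

namespace Groth.Agent.H57.SemiLocalIC

/-- A finite module over the `I`-adic completion which is killed by `I` is finite over the
original ring. -/
theorem finite_of_finite_cpl_of_smul_eq_zero {A : Type u} [CommRing A] (I : Ideal A) (hI : I.FG)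
    (N : Type u) [AddCommGroup N] [Module A N] [Module (AdicCompletion I A) N]
    [IsScalarTower A (AdicCompletion I A) N] [Module.Finite (AdicCompletion I A) N]
    (h : ∀ a ∈ I, ∀ n : N, a • n = 0) : Module.Finite A N := by
  classical
  obtain ⟨S, hS⟩ := (Module.Finite.fg_top : (⊤ : Submodule (AdicCompletion I A) N).FG)
  refine ⟨⟨S, ?_⟩⟩
  -- elements of `I Â` kill `N`
  have hann : I.map (algebraMap A (AdicCompletion I A)) ≤
      Module.annihilator (AdicCompletion I A) N := by
    rw [Ideal.map_le_iff_le_comap]
    intro a ha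
    rw [Ideal.mem_comap, Module.mem_annihilator]
    intro n
    rw [algebraMap_smul]
    exact h a ha n
  have hsmul : ∀ (t : AdicCompletion I A) (x : N), x ∈ Submodule.span A (S : Set N) →
      t • x ∈ Submodule.span A (S : Set N) := by
    intro t x hx
    obtain ⟨r, hr⟩ := Groth.Agent.H57.CL.exists_sub_mem_map I hI t
    have h0 : (t - algebraMap A (AdicCompletion I A) r) • x = 0 :=
      Module.mem_annihilator.1 (hann hr) x
    have h1 : t • x = r • x := by
      rw [sub_smul, sub_eq_zero, algebraMap_smul] at h0
      exact h0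
    rw [h1]
    exact Submodule.smul_mem _ r hx
  rw [eq_top_iff]
  intro x _
  have hx : x ∈ Submodule.span (AdicCompletion I A) (S : Set N) := by rw [hS]; trivial
  induction hx using Submodule.span_induction with
  | mem y hy => exact Submodule.subset_span hy
  | zero => exact Submodule.zero_mem _
  | add y z _ _ hy hz => exact Submodule.add_mem _ (hy trivial) (hz trivial)
  | smul t y _ hy => exact hsmul t y (hy trivial)

/-- Compactness argument: if every maximal ideal of every finitely generated subalgebra of the
integral algebra `A'` lies under a prime of `B`, and `B` is semi-local, then every maximal ideal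
of `A'` is the preimage of a maximal ideal of `B`. -/
theorem exists_maximal_comap_eq {A A' B : Type u} [CommRing A] [CommRing A'] [Algebra A A']
    [Algebra.IsIntegral A A'] [CommRing B] (φ : A' →+* B)
    (hfin : {M : Ideal B | M.IsMaximal}.Finite)
    (H : ∀ (C : Subalgebra A A'), C.FG → ∀ n : Ideal C, n.IsMaximal →
      ∃ P : Ideal B, P.IsPrime ∧ ∀ c : C, c ∈ n → φ (c : A') ∈ P)
    (m' : Ideal A') (hm' : m'.IsMaximal) : ∃ M : Ideal B, M.IsMaximal ∧ M.comap φ = m' := by
  classical
  by_contra hcon
  push_neg at hcon
  have hx : ∀ M : Ideal B, M.IsMaximal → ∃ x : A', ¬ (x ∈ M.comap φ ↔ x ∈ m') := by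
    intro M hM
    by_contra h
    push_neg at h
    exact hcon M hM (Ideal.ext h)
  choose! x hx using hx
  let C : Subalgebra A A' := Algebra.adjoin A (x '' {M : Ideal B | M.IsMaximal})
  have hCfg : C.FG := by
    refine ⟨(hfin.image x).toFinset, ?_⟩
    simp [C]
  haveI : Algebra.IsIntegral C A' := Algebra.IsIntegral.tower_top (R := A)
  let n : Ideal C := m'.comap (algebraMap C A')
  haveI : m'.IsMaximal := hm'
  have hn : n.IsMaximal := Ideal.isMaximal_comap_of_isIntegral_of_isMaximal m'
  obtain ⟨P, hP, hPn⟩ := H C hCfg n hn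
  obtain ⟨M, hM, hPM⟩ := Ideal.exists_le_maximal P hP.ne_top
  have hle : n ≤ M.comap (φ.comp (algebraMap C A')) := by
    intro c hc
    rw [Ideal.mem_comap]
    exact hPM (hPn c hc)
  have hne : M.comap (φ.comp (algebraMap C A')) ≠ ⊤ := by
    haveI := hM.isPrime
    exact (Ideal.comap_isPrime _ M).ne_top
  have heq : n = M.comap (φ.comp (algebraMap C A')) := hn.eq_of_le hne hle
  have hxC : x M ∈ C := Algebra.subset_adjoin ⟨M, hM, rfl⟩
  apply hx M hM
  have := congrArg (fun J : Ideal C => (⟨x M, hxC⟩ : C) ∈ J) heq
  simp only [n, Ideal.mem_comap] at this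
  rw [Ideal.mem_comap]
  exact (Iff.of_eq this).symm


/-- Lying over for an integral ring homomorphism (ring hom version). -/
theorem exists_prime_comap_eq_of_isIntegral {R S : Type u} [CommRing R] [CommRing S] (f : R →+* S)
    (hf : f.IsIntegral) (P : Ideal R) [P.IsPrime] (hker : RingHom.ker f ≤ P) :
    ∃ Q : Ideal S, Q.IsPrime ∧ Q.comap f = P := by
  letI := f.toAlgebra
  haveI : Algebra.IsIntegral R S := ⟨hf⟩
  obtain ⟨Q, -, hQ, hQP⟩ := Ideal.exists_ideal_over_prime_of_isIntegral P (⊥ : Ideal S)
    (by
      intro z hz
      exact hker hz)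
  exact ⟨Q, hQ, hQP⟩

end Groth.Agent.H57.SemiLocalIC
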