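import Mathlib
import Groth.Agent.H57.SemiLocalICA
import Groth.Agent.H13.LocalNagata

/-!
# The integral closure of a Noetherian local ring in an algebra essentially of finite type is
semi-local with finite residue fields (EGA 0_IV 23.2.?, Nagata 33.10)
-/

set_option autoImplicit false
set_option linter.style.haveILetI false
set_option linter.unusedSectionVars false
universe u

open TensorProduct IsLocalRing

namespace Groth.Agent.H57.SemiLocalIC

variable (A K' : Type u) [CommRing A] [IsLocalRing A] [IsNoetherianRing A]
  [CommRing K'] [Algebra A K']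

/-- `Â ⊗_A K'`. -/
abbrev T : Type u := AdicCompletion (maximalIdeal A) A ⊗[A] K'

/-- `(Â ⊗_A K')_red`. -/
abbrev Tred : Type u := T A K' ⧸ nilradical (T A K')

/-- the canonical map `K' → (Â ⊗_A K')_red`. -/
noncomputable def g : K' →ₐ[A] Tred A K' :=
  (Ideal.Quotient.mkₐ A (nilradical (T A K'))).comp Algebra.TensorProduct.includeRight

/-- the integral closure of `Â` in `(Â ⊗_A K')_red`. -/
noncomputable abbrev B : Subalgebra (AdicCompletion (maximalIdeal A) A) (Tred A K') :=
  integralClosure (AdicCompletion (maximalIdeal A) A) (Tred A K')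

theorem g_mem_B (x : integralClosure A K') : g A K' (x : K') ∈ B A K' := by
  have h1 : IsIntegral A (g A K' (x : K')) := x.2.map (g A K')
  exact h1.tower_top

/-- the map from the integral closure of `A` in `K'` to `B`. -/
noncomputable def φ : integralClosure A K' →+* B A K' :=
  RingHom.codRestrict (((g A K' : K' →+* Tred A K')).comp (algebraMap (integralClosure A K') K'))
    (B A K') (fun x => g_mem_B A K' x)

theorem φ_coe (x : integralClosure A K') : ((φ A K' x : B A K') : Tred A K') = g A K' (x : K') := rfl

instance : IsReduced (Tred A K') :=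
  (Ideal.isRadical_iff_quotient_reduced _).1 (Ideal.radical_isRadical (0 : Ideal (T A K')))

theorem finite_B [Algebra.EssFiniteType A K'] :
    Module.Finite (AdicCompletion (maximalIdeal A) A) (B A K') := by
  haveI := Groth.Agent.H72.FormalEquidim.isLocalRing_compl A
  haveI := Groth.Agent.H72.FormalEquidim.isNoetherianRing_compl A
  haveI := Groth.Agent.H72.FormalEquidim.isLocalHom_compl A
  haveI : IsAdicComplete (maximalIdeal (AdicCompletion (maximalIdeal A) A))
      (AdicCompletion (maximalIdeal A) A) :=
    AdicCompletion.isAdicComplete_of_fg (maximalIdeal A).fg_of_isNoetherianRing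
  have hC : CAlg.IsNagata (AdicCompletion (maximalIdeal A) A) :=
    Groth.Agent.H13.CompleteNagata.isNagata_of_complete_local _
  haveI : Algebra.EssFiniteType (AdicCompletion (maximalIdeal A) A) (T A K') := inferInstance
  haveI : Algebra.FiniteType (T A K') (Tred A K') :=
    Algebra.FiniteType.of_surjective (Algebra.ofId (T A K') (Tred A K'))
      Ideal.Quotient.mk_surjective
  haveI : Algebra.EssFiniteType (T A K') (Tred A K') := inferInstance
  haveI : Algebra.EssFiniteType (AdicCompletion (maximalIdeal A) A) (Tred A K') :=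
    Algebra.EssFiniteType.comp _ (T A K') _
  exact Groth.Agent.H13.NagataDescent.finite_integralClosure_of_reduced _ hC (Tred A K')


set_option backward.isDefEq.respectTransparency false in
/-- every maximal ideal of a finitely generated subalgebra of the integral closure lies under a
prime of `B`. -/
theorem exists_prime_over (C : Subalgebra A (integralClosure A K')) (hC : C.FG) (n : Ideal C)
    (hn : n.IsMaximal) :
    ∃ P : Ideal (B A K'), P.IsPrime ∧ ∀ c : C, c ∈ n → φ A K' (c : integralClosure A K') ∈ P := by
  classical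
  haveI := Groth.Agent.H72.FormalEquidim.isLocalRing_compl A
  haveI := Groth.Agent.H72.FormalEquidim.isNoetherianRing_compl A
  haveI := Groth.Agent.H72.FormalEquidim.isLocalHom_compl A
  haveI : Module.FaithfullyFlat A (AdicCompletion (maximalIdeal A) A) :=
    Module.FaithfullyFlat.of_flat_of_isLocalHom
  -- `C` is a finite `A`-module
  haveI : Algebra.IsIntegral A C :=
    Algebra.IsIntegral.of_injective C.val Subtype.val_injective
  haveI : Algebra.FiniteType A C := (Subalgebra.fg_iff_finiteType C).1 hC
  haveI : Module.Finite A C := Algebra.IsIntegral.finite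
  -- the inclusion of `C` in `K'`
  let j : C →ₐ[A] K' := (integralClosure A K').val.comp C.val
  have hj : Function.Injective j := fun a b hab => Subtype.ext (Subtype.ext hab)
  let ι : AdicCompletion (maximalIdeal A) A ⊗[A] C →ₐ[AdicCompletion (maximalIdeal A) A] T A K' :=
    Algebra.TensorProduct.map (AlgHom.id _ _) j
  have hι : Function.Injective ι := by
    have h1 : Function.Injective
        (LinearMap.lTensor (AdicCompletion (maximalIdeal A) A) j.toLinearMap) :=
      Module.Flat.lTensor_preserves_injective_linearMap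
        (M := AdicCompletion (maximalIdeal A) A) j.toLinearMap hj
    have h2 : (⇑ι : _ → _) = ⇑(LinearMap.lTensor (AdicCompletion (maximalIdeal A) A)
        j.toLinearMap) := by
      ext x
      induction x using TensorProduct.induction_on with
      | zero => simp
      | tmul c b => simp [ι]
      | add x y hx hy => simp only [map_add, hx, hy]
    rw [h2]; exact h1
  let ψ : AdicCompletion (maximalIdeal A) A ⊗[A] C →ₐ[AdicCompletion (maximalIdeal A) A]
      Tred A K' :=
    (Ideal.Quotient.mkₐ (AdicCompletion (maximalIdeal A) A) (nilradical (T A K'))).comp ι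
  have hψB : ∀ z, ψ z ∈ B A K' := by
    intro z
    have h1 : IsIntegral (AdicCompletion (maximalIdeal A) A) z :=
      Algebra.IsIntegral.isIntegral z
    exact h1.map ψ
  let ψB : AdicCompletion (maximalIdeal A) A ⊗[A] C →ₐ[AdicCompletion (maximalIdeal A) A]
      B A K' := ψ.codRestrict (B A K') hψB
  have hker : ∀ z, ψB z = 0 → IsNilpotent z := by
    intro z hz
    have h1 : ψ z = 0 := congrArg Subtype.val hz
    have h2 : ι z ∈ nilradical (T A K') := Ideal.Quotient.eq_zero_iff_mem.1 h1
    obtain ⟨k, hk⟩ := h2
    refine ⟨k, hι ?_⟩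
    rw [map_pow, hk, map_zero]
  have hint : RingHom.IsIntegral (R := AdicCompletion (maximalIdeal A) A ⊗[A] C)
      (A := ↥(B A K')) ψB.toRingHom := by
    refine RingHom.IsIntegral.tower_top (R := AdicCompletion (maximalIdeal A) A)
      (S := AdicCompletion (maximalIdeal A) A ⊗[A] C) (T := ↥(B A K'))
      (algebraMap (AdicCompletion (maximalIdeal A) A)
      (AdicCompletion (maximalIdeal A) A ⊗[A] C)) ψB.toRingHom ?_
    have h1 : ψB.toRingHom.comp (algebraMap (AdicCompletion (maximalIdeal A) A)
        (AdicCompletion (maximalIdeal A) A ⊗[A] C)) =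
        algebraMap (AdicCompletion (maximalIdeal A) A) (B A K') := ψB.comp_algebraMap
    rw [h1]
    exact algebraMap_isIntegral_iff.2 inferInstance
  -- the ideal `n̂`
  let π : AdicCompletion (maximalIdeal A) A ⊗[A] C →ₐ[AdicCompletion (maximalIdeal A) A]
      AdicCompletion (maximalIdeal A) A ⊗[A] (C ⧸ n) :=
    Algebra.TensorProduct.map (AlgHom.id _ _) (Ideal.Quotient.mkₐ A n)
  haveI : Nontrivial (C ⧸ n) := Ideal.Quotient.nontrivial_iff.2 hn.ne_top
  haveI : Nontrivial (AdicCompletion (maximalIdeal A) A ⊗[A] (C ⧸ n)) := inferInstance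
  have hπ : RingHom.ker π.toRingHom ≠ ⊤ := RingHom.ker_ne_top _
  obtain ⟨Phat, hPmax, hPle⟩ := Ideal.exists_le_maximal _ hπ
  haveI := hPmax.isPrime
  have hkerle : RingHom.ker (R := AdicCompletion (maximalIdeal A) A ⊗[A] C)
      (S := ↥(B A K')) ψB.toRingHom ≤ Phat := by
    intro z hz
    obtain ⟨k, hk⟩ := hker z hz
    refine Ideal.IsPrime.mem_of_pow_mem hPmax.isPrime k ?_
    rw [hk]; exact Phat.zero_mem
  obtain ⟨Q, hQprime, hQ⟩ := exists_prime_comap_eq_of_isIntegral
    (R := AdicCompletion (maximalIdeal A) A ⊗[A] C) (S := ↥(B A K')) ψB.toRingHom hint Phat hkerle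
  refine ⟨Q, hQprime, fun c hc => ?_⟩
  have h1 : ((1 : AdicCompletion (maximalIdeal A) A) ⊗ₜ[A] c) ∈ Phat := by
    apply hPle
    rw [RingHom.mem_ker]
    show π (1 ⊗ₜ[A] c) = 0
    simp only [π, Algebra.TensorProduct.map_tmul, Ideal.Quotient.mkₐ_eq_mk]
    rw [Ideal.Quotient.eq_zero_iff_mem.2 hc, TensorProduct.tmul_zero]
  rw [← hQ, Ideal.mem_comap] at h1
  have h2 : ψB.toRingHom
      ((1 : AdicCompletion (maximalIdeal A) A) ⊗ₜ[A] c) = φ A K' (c : integralClosure A K') := by
    apply Subtype.ext
    show ψ (1 ⊗ₜ[A] c) = g A K' ((c : integralClosure A K') : K')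
    simp [ψ, ι, g, j]
  rwa [h2] at h1

end Groth.Agent.H57.SemiLocalIC
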