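import Mathlib
import Groth.Agent.H57.SemiLocalICB

/-!
# Main theorem: semi-locality of integral closures over Noetherian local rings
-/

set_option autoImplicit false
set_option linter.style.haveILetI false
set_option linter.unusedSectionVars false
universe u

open TensorProduct IsLocalRing

namespace Groth.Agent.H57.SemiLocalIC

variable (A K' : Type u) [CommRing A] [IsLocalRing A] [IsNoetherianRing A]
  [CommRing K'] [Algebra A K'] [Algebra.EssFiniteType A K']

theorem finite_maximal_B : {M : Ideal (B A K') | M.IsMaximal}.Finite := by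
  haveI := Groth.Agent.H72.FormalEquidim.isLocalRing_compl A
  haveI := finite_B A K'
  refine (Algebra.QuasiFinite.finite_primesOver (S := B A K')
    (maximalIdeal (AdicCompletion (maximalIdeal A) A))).subset ?_
  intro n (hn : n.IsMaximal)
  have : (n.comap (algebraMap (AdicCompletion (maximalIdeal A) A) (B A K'))).IsMaximal :=
    Ideal.isMaximal_comap_of_isIntegral_of_isMaximal n
  exact ⟨hn.isPrime, ⟨(IsLocalRing.eq_maximalIdeal this).symm⟩⟩

theorem exists_maximal_B (m' : Ideal (integralClosure A K')) (hm' : m'.IsMaximal) :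
    ∃ M : Ideal (B A K'), M.IsMaximal ∧ M.comap (φ A K') = m' :=
  exists_maximal_comap_eq (A := A) (A' := ↥(integralClosure A K')) (B := ↥(B A K')) (φ A K')
    (finite_maximal_B A K') (fun C hC n hn => exists_prime_over A K' C hC n hn) m' hm'

theorem finite_maximal : {m : Ideal (integralClosure A K') | m.IsMaximal}.Finite := by
  refine ((finite_maximal_B A K').image (fun M => M.comap (φ A K'))).subset ?_
  intro m' (hm' : m'.IsMaximal)
  obtain ⟨M, hM, hMm⟩ := exists_maximal_B A K' m' hm'
  exact ⟨M, hM, hMm⟩


theorem φ_algebraMap (a : A) :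
    φ A K' (algebraMap A (integralClosure A K') a) = algebraMap A (B A K') a := by
  apply Subtype.ext
  show g A K' (algebraMap A K' a) = algebraMap A (Tred A K') a
  exact (g A K').commutes a

/-- `φ` as an `A`-algebra homomorphism. -/
noncomputable def φₐ : integralClosure A K' →ₐ[A] B A K' :=
  { φ A K' with commutes' := φ_algebraMap A K' }

omit [Algebra.EssFiniteType A K'] in
/-- generic form of the residue field statement -/
theorem finite_quotient_generic (A' Bt : Type u) [CommRing A'] [Algebra A A'] [CommRing Bt]
    [Algebra (AdicCompletion (maximalIdeal A) A) Bt] [Algebra A Bt]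
    [IsScalarTower A (AdicCompletion (maximalIdeal A) A) Bt]
    [Module.Finite (AdicCompletion (maximalIdeal A) A) Bt] (f : A' →ₐ[A] Bt)
    (M : Ideal Bt) (hM : M.IsMaximal) : Module.Finite A (A' ⧸ M.comap f) := by
  haveI := Groth.Agent.H72.FormalEquidim.isLocalRing_compl A
  haveI := Groth.Agent.H72.FormalEquidim.isLocalHom_compl A
  haveI : Module.Finite (AdicCompletion (maximalIdeal A) A) (Bt ⧸ M) :=
    Module.Finite.quotient _ _
  have hcomap : M.comap (algebraMap (AdicCompletion (maximalIdeal A) A) Bt) =
      maximalIdeal (AdicCompletion (maximalIdeal A) A) := by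
    haveI := hM
    haveI : Algebra.IsIntegral (AdicCompletion (maximalIdeal A) A) Bt :=
      Algebra.IsIntegral.of_finite _ _
    have : (M.comap (algebraMap (AdicCompletion (maximalIdeal A) A) Bt)).IsMaximal :=
      Ideal.isMaximal_comap_of_isIntegral_of_isMaximal M
    exact IsLocalRing.eq_maximalIdeal this
  have hkill : ∀ a ∈ maximalIdeal A, ∀ y : Bt ⧸ M, a • y = 0 := by
    intro a ha y
    obtain ⟨b, rfl⟩ := Ideal.Quotient.mk_surjective y
    have h1 : algebraMap A (AdicCompletion (maximalIdeal A) A) a ∈
        maximalIdeal (AdicCompletion (maximalIdeal A) A) := by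
      rw [IsLocalRing.mem_maximalIdeal, mem_nonunits_iff]
      intro hu
      exact (IsLocalRing.mem_maximalIdeal _).1 ha (isUnit_of_map_unit _ a hu)
    rw [← hcomap, Ideal.mem_comap] at h1
    rw [← IsScalarTower.algebraMap_apply A (AdicCompletion (maximalIdeal A) A) Bt] at h1
    have h2 : a • (Ideal.Quotient.mk M b) = Ideal.Quotient.mk M (a • b) := rfl
    rw [h2, Ideal.Quotient.eq_zero_iff_mem, Algebra.smul_def]
    exact M.mul_mem_right _ h1
  haveI : Module.Finite A (Bt ⧸ M) :=
    finite_of_finite_cpl_of_smul_eq_zero (maximalIdeal A)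
      (maximalIdeal A).fg_of_isNoetherianRing (Bt ⧸ M) hkill
  let q : (A' ⧸ M.comap f) →ₐ[A] (Bt ⧸ M) := Ideal.quotientMapₐ M f le_rfl
  have hq : Function.Injective q :=
    Ideal.quotientMap_injective' (f := (f : A' →+* Bt)) (H := le_rfl) le_rfl
  exact Module.Finite.of_injective q.toLinearMap hq

theorem finite_quotient (m' : Ideal (integralClosure A K')) (hm' : m'.IsMaximal) :
    Module.Finite A (integralClosure A K' ⧸ m') := by
  obtain ⟨M, hM, hMm⟩ := exists_maximal_B A K' m' hm'
  haveI := finite_B A K'
  have h := finite_quotient_generic A (↥(integralClosure A K')) (↥(B A K')) (φₐ A K') M hM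
  have hMm' : Ideal.comap (φₐ A K') M = m' := hMm
  rw [hMm'] at h
  exact h

end Groth.Agent.H57.SemiLocalIC
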