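import Mathlib
import Groth.Agent.H57.MonadAux

set_option autoImplicit false

namespace Groth.Agent.H57

universe u
open CategoryTheory Abelian

/-- Over a Noetherian local ring, a finite module `M` of projective dimension `< 2` with
`Ext¹(M, A) = 0` is free. -/
lemma free_of_ext_one_eq_zero (A : Type u) [CommRing A] [IsNoetherianRing A] [IsLocalRing A]
    (M : ModuleCat.{u} A) [Module.Finite A M] (hpd : HasProjectiveDimensionLT M 2)
    (L : ModuleCat.{u} A) (e : L ≅ ModuleCat.of A A)
    (hext : Subsingleton (Ext M L 1)) : Module.Free A M := by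
  classical
  obtain ⟨r, p, hp⟩ := Module.Finite.exists_fin' A M
  let S' : ShortComplex (ModuleCat.{u} A) :=
    ShortComplex.mk (ModuleCat.ofHom (LinearMap.ker p).subtype) (ModuleCat.ofHom p) (by
      ext x
      exact x.2)
  have hS' : S'.ShortExact :=
    ShortComplex.ShortExact.mk'
      ((ShortComplex.ShortExact.moduleCat_exact_iff_function_exact S').2
        (LinearMap.exact_subtype_ker_map p))
      ((ModuleCat.mono_iff_injective _).2 Subtype.val_injective)
      ((ModuleCat.epi_iff_surjective _).2 hp)
  have hF : Projective S'.X₂ := ModuleCat.projective_of_free (Pi.basisFun A (Fin r))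
  have hK : HasProjectiveDimensionLT S'.X₁ 1 :=
    hS'.hasProjectiveDimensionLT_X₁ 1 inferInstance hpd
  have hKproj : Projective (ModuleCat.of A (LinearMap.ker p)) :=
    projective_iff_hasProjectiveDimensionLT_one.2 hK
  have hKproj' : Module.Projective A (LinearMap.ker p) :=
    (IsProjective.iff_projective _).2 hKproj
  have hKfree : Module.Free A (LinearMap.ker p) := Module.free_of_flat_of_isLocalRing
  let b := Module.Free.chooseBasis A (LinearMap.ker p)
  have hex : ∀ i, ∃ l : S'.X₂ ⟶ L, S'.f ≫ l = ModuleCat.ofHom (b.coord i) ≫ e.inv :=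
    fun i => exists_extension hS' hext _
  choose lam hlam using hex
  let ℓ : Module.Free.ChooseBasisIndex A (LinearMap.ker p) → ((Fin r → A) →ₗ[A] A) :=
    fun i => (lam i ≫ e.hom).hom
  have hℓ : ∀ i (y : LinearMap.ker p), ℓ i (y : Fin r → A) = b.coord i y := by
    intro i y
    have h1 : S'.f ≫ lam i ≫ e.hom = ModuleCat.ofHom (b.coord i) := by
      rw [← Category.assoc, hlam, Category.assoc, Iso.inv_hom_id, Category.comp_id]
    have h2 := congrArg (fun f => f.hom y) h1
    exact h2
  let ρ : (Fin r → A) →ₗ[A] LinearMap.ker p := ∑ i, (ℓ i).smulRight (b i)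
  have hρ : ρ ∘ₗ (LinearMap.ker p).subtype = LinearMap.id := by
    ext1 y
    simp only [ρ, LinearMap.comp_apply, Submodule.subtype_apply, LinearMap.sum_apply,
      LinearMap.smulRight_apply, LinearMap.id_apply, hℓ]
    exact b.sum_repr y
  have htfae := Function.Exact.split_tfae (LinearMap.exact_subtype_ker_map p)
    Subtype.val_injective hp
  have h10 : (∃ l, l ∘ₗ (LinearMap.ker p).subtype = LinearMap.id) → ∃ l, p ∘ₗ l = LinearMap.id :=
    (htfae.out 1 0).1
  obtain ⟨l, hl⟩ := h10 ⟨ρ, hρ⟩
  have hMproj : Module.Projective A M := Module.Projective.of_split l p hl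
  exact Module.free_of_flat_of_isLocalRing

end Groth.Agent.H57
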