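import Mathlib
import Groth.Prelude.Def_EGA4b
import Groth.Prelude.Def_Found
import Groth.Agent.H72.CMFormalFibres
import Groth.Agent.H26.SkTensor
import Groth.Agent.H26.SkFieldExt
import Groth.Agent.H26.SkFibreComp

/-!
# `(S_n)` formal fibres pass to essentially finite type local algebras (EGA IV 7.4.4 for `(S_n)`)
-/

set_option autoImplicit false
set_option linter.unusedSectionVars false
set_option linter.unusedVariables false
set_option linter.style.haveILetI false
universe u

open IsLocalRing TensorProduct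

namespace Groth.Agent.H57.SnFormalFibres

/-- Cohen–Macaulay formal fibres satisfy `(S_n)`. -/
theorem hasSnFormalFibres_of_hasCMFormalFibres (n : ℕ) (C : Type u) [CommRing C] [IsLocalRing C]
    (h : EGA4.HasCMFormalFibres C) : EGA4.HasSnFormalFibres n C :=
  fun p _ => Groth.Agent.H26.SkTensor.hasSk_of_isCohenMacaulayRing n _ (h p)

/-- `(S_n)` formal fibres descend along a flat local homomorphism with `(S_n)` fibres. -/
theorem hasSnFormalFibres_of_flat (n : ℕ) (B C : Type u) [CommRing B] [CommRing C] [IsLocalRing B]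
    [IsLocalRing C] [IsNoetherianRing B] [IsNoetherianRing C] [Algebra B C]
    [IsLocalHom (algebraMap B C)] [Module.Flat B C]
    (hfib : ∀ (p : Ideal B) [p.IsPrime], LocCoh.HasSk n (p.Fiber C) (p.Fiber C))
    (hC : EGA4.HasSnFormalFibres n C) : EGA4.HasSnFormalFibres n B := by
  intro p hp
  letI := Groth.Agent.H26.ComplFlatMap.complAlgebra B C
  haveI := Groth.Agent.H26.ComplFlatMap.isScalarTower B C
  haveI := Groth.Agent.H26.ComplFlatMap.faithfullyFlat_complHom B C
  haveI : IsNoetherianRing (EGA4.Cpl C) := Groth.Agent.H20.isNoetherianRing_adicCompletion _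
  haveI : IsNoetherianRing (EGA4.Cpl B) := Groth.Agent.H20.isNoetherianRing_adicCompletion _
  haveI : IsScalarTower B C (EGA4.Cpl C) := IsScalarTower.of_algebraMap_eq (fun _ => rfl)
  haveI : Module.Flat C (EGA4.Cpl C) := AdicCompletion.flat_of_isNoetherian (maximalIdeal C)
  have h1 : ∀ (p : Ideal B) [p.IsPrime], LocCoh.HasSk n (p.Fiber (EGA4.Cpl C)) (p.Fiber (EGA4.Cpl C)) :=
    fun p _ => Groth.Agent.H26.SkFibreComp.fibres_comp n B C (EGA4.Cpl C) hfib
      (fun q _ => hC q) p
  exact Groth.Agent.H26.SkFibreComp.fibres_descent n B (EGA4.Cpl B) (EGA4.Cpl C) h1 p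

/-- The fibres of a localization map satisfy `(S_n)`. -/
theorem hasSk_fiber_of_isLocalization (n : ℕ) {S S' : Type u} [CommRing S] [CommRing S']
    [Algebra S S'] (M : Submonoid S) [IsLocalization M S'] (q : Ideal S) [q.IsPrime] :
    LocCoh.HasSk n (q.Fiber S') (q.Fiber S') :=
  Groth.Agent.H26.SkTensor.hasSk_of_isCohenMacaulayRing n _
    (Groth.Agent.H72.CMFormalFibres.isCohenMacaulayRing_fiber_of_isLocalization M q)

/-- A localization of an `(S_n)` Noetherian ring is `(S_n)`. -/
theorem hasSk_of_isLocalization (n : ℕ) {S S' : Type u} [CommRing S] [CommRing S']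
    [Algebra S S'] (M : Submonoid S) [IsLocalization M S'] [IsNoetherianRing S]
    (h : LocCoh.HasSk n S S) : LocCoh.HasSk n S' S' := by
  haveI : IsNoetherianRing S' := IsLocalization.isNoetherianRing M S' inferInstance
  haveI : Module.Flat S S' := IsLocalization.flat S' M
  exact Groth.Agent.H26.SkFlat.hasSk_of_flat_of_fibres n h
    (fun q _ => hasSk_fiber_of_isLocalization n M q)

set_option backward.isDefEq.respectTransparency false in
/-- Base change: if `A → B` has `(S_n)` fibres and `A'` is essentially of finite type over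
`A`, then `A' → A' ⊗_A B` has `(S_n)` fibres. -/
theorem hasSk_fiber_baseChange (n : ℕ) (A B A' : Type u) [CommRing A] [CommRing B]
    [CommRing A'] [Algebra A B] [Algebra A A'] [Algebra.EssFiniteType A A'] [IsNoetherianRing B]
    (h : ∀ (p : Ideal A) [p.IsPrime], LocCoh.HasSk n (p.Fiber B) (p.Fiber B))
    (p' : Ideal A') [p'.IsPrime] : LocCoh.HasSk n (p'.Fiber (A' ⊗[A] B)) (p'.Fiber (A' ⊗[A] B)) := by
  have key : ∀ (K : Type u) [Field K] [Algebra p'.ResidueField K],
      Module.Finite p'.ResidueField K →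
      LocCoh.HasSk n (K ⊗[p'.ResidueField] (p'.Fiber (A' ⊗[A] B)))
        (K ⊗[p'.ResidueField] (p'.Fiber (A' ⊗[A] B))) := by
    intro K _ _ hfin
    letI : Algebra A' K := ((algebraMap p'.ResidueField K).comp
      (algebraMap A' p'.ResidueField)).toAlgebra
    haveI : IsScalarTower A' p'.ResidueField K := IsScalarTower.of_algebraMap_eq (fun _ => rfl)
    letI : Algebra A K := ((algebraMap A' K).comp (algebraMap A A')).toAlgebra
    haveI : IsScalarTower A A' K := IsScalarTower.of_algebraMap_eq (fun _ => rfl)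
    have e1 := (Algebra.TensorProduct.cancelBaseChange A' p'.ResidueField K K
      (A' ⊗[A] B)).toRingEquiv
    have e2 := (Algebra.TensorProduct.cancelBaseChange A A' K K B).toRingEquiv
    letI := Groth.Agent.H26.RegHomBaseChange.algRes A A' p' K
    haveI := Groth.Agent.H26.RegHomBaseChange.isScalarTower_algRes A A' p' K
    haveI := Groth.Agent.H26.RegHomBaseChange.essFiniteType_algRes A A' p' K
    haveI hNf : IsNoetherianRing ((p'.comap (algebraMap A A')).Fiber B) :=
      Groth.Agent.H26.SkFlat.isNoetherianRing_fiber B _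
    set κ := (p'.comap (algebraMap A A')).ResidueField with hκ
    set F := (p'.comap (algebraMap A A')).Fiber B with hF
    haveI hessF : Algebra.EssFiniteType F (F ⊗[κ] K) := inferInstance
    haveI hNt : IsNoetherianRing (F ⊗[κ] K) := Algebra.EssFiniteType.isNoetherianRing F (F ⊗[κ] K)
    have h1 : LocCoh.HasSk n (F ⊗[κ] K) (F ⊗[κ] K) :=
      Groth.Agent.H26.SkTensor.hasSk_field_tensor n κ F K (Or.inl inferInstance)
        (h (p'.comap (algebraMap A A')))
    have h1' := Groth.Agent.H26.SkFibreComp.hasSk_of_ringEquiv n (X := F ⊗[κ] K) (Y := K ⊗[κ] F)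
      (Algebra.TensorProduct.comm κ F K).toRingEquiv h1
    haveI := h1'.1
    have h2 := Groth.Agent.H26.SkFibreComp.hasSk_of_ringEquiv n (X := K ⊗[κ] F) (Y := K ⊗[A] B)
        (Groth.Agent.H26.RegHomDescent.tensorFiberEquiv A B K (p'.comap (algebraMap A A'))).symm
        h1'.2
    haveI := h2.1
    exact (Groth.Agent.H26.SkFibreComp.hasSk_of_ringEquiv n (X := K ⊗[A] B)
      (Y := K ⊗[p'.ResidueField] (p'.Fiber (A' ⊗[A] B))) (e1.trans e2).symm h2.2).2
  have h1 := key p'.ResidueField inferInstance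
  haveI : IsNoetherianRing (p'.ResidueField ⊗[p'.ResidueField] (p'.Fiber (A' ⊗[A] B))) := by
    haveI : IsNoetherianRing (A' ⊗[A] B) := by
      haveI : Algebra.EssFiniteType B (B ⊗[A] A') := inferInstance
      haveI : IsNoetherianRing (B ⊗[A] A') := Algebra.EssFiniteType.isNoetherianRing B _
      exact isNoetherianRing_of_ringEquiv _ (Algebra.TensorProduct.comm A B A').toRingEquiv
    haveI : IsNoetherianRing (p'.Fiber (A' ⊗[A] B)) :=
      Groth.Agent.H26.SkFlat.isNoetherianRing_fiber _ _
    exact isNoetherianRing_of_ringEquiv _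
      (Algebra.TensorProduct.lid p'.ResidueField (p'.Fiber (A' ⊗[A] B))).toRingEquiv.symm
  exact (Groth.Agent.H26.SkFibreComp.hasSk_of_ringEquiv n
    (Algebra.TensorProduct.lid p'.ResidueField (p'.Fiber (A' ⊗[A] B))).toRingEquiv h1).2

/-- **EGA IV 7.4.4 for `(S_n)`.** -/
theorem hasSnFormalFibres_of_essFiniteType (n : ℕ) (A : Type u) [CommRing A] [IsNoetherianRing A]
    [IsLocalRing A] (hA : EGA4.HasSnFormalFibres n A) (B : Type u) [CommRing B] [IsNoetherianRing B]
    [IsLocalRing B] [Algebra A B] [Algebra.EssFiniteType A B] : EGA4.HasSnFormalFibres n B := by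
  have hRN : IsNoetherianRing (EGA4.Cpl A) := Groth.Agent.H20.isNoetherianRing_adicCompletion _
  have hRc : IsAdicComplete (maximalIdeal (EGA4.Cpl A)) (EGA4.Cpl A) :=
    AdicCompletion.isAdicComplete_of_fg (maximalIdeal A).fg_of_isNoetherianRing
  have hff : Module.FaithfullyFlat A (EGA4.Cpl A) := Module.FaithfullyFlat.of_flat_of_isLocalHom
  have hffB : Module.FaithfullyFlat B (B ⊗[A] EGA4.Cpl A) := inferInstance
  obtain ⟨𝔫', h𝔫', hover⟩ := Ideal.exists_isPrime_liesOver_of_faithfullyFlat
    (B := B ⊗[A] EGA4.Cpl A) (maximalIdeal B)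
  let algR : Algebra (EGA4.Cpl A) (B ⊗[A] EGA4.Cpl A) := Algebra.TensorProduct.rightAlgebra
  have hess1 : Algebra.EssFiniteType (EGA4.Cpl A) (EGA4.Cpl A ⊗[A] B) := inferInstance
  have hess2 : Algebra.EssFiniteType (EGA4.Cpl A) (B ⊗[A] EGA4.Cpl A) :=
    (Algebra.EssFiniteType.iff_of_algEquiv
      (Algebra.TensorProduct.commRight A (EGA4.Cpl A) B)).mp hess1
  have hNB' : IsNoetherianRing (B ⊗[A] EGA4.Cpl A) :=
    Algebra.EssFiniteType.isNoetherianRing (EGA4.Cpl A) _
  have hNC : IsNoetherianRing (Localization.AtPrime 𝔫') :=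
    IsLocalization.isNoetherianRing 𝔫'.primeCompl _ hNB'
  have hessC : Algebra.EssFiniteType (EGA4.Cpl A) (Localization.AtPrime 𝔫') :=
    Algebra.EssFiniteType.comp (EGA4.Cpl A) (B ⊗[A] EGA4.Cpl A) (Localization.AtPrime 𝔫')
  have hC : EGA4.HasSnFormalFibres n (Localization.AtPrime 𝔫') :=
    hasSnFormalFibres_of_hasCMFormalFibres n _
      (Groth.Agent.H72.CMFormalFibres.hasCMFormalFibres_of_essFiniteType_of_isAdicComplete
        (EGA4.Cpl A) (Localization.AtPrime 𝔫'))
  have hflatB' : Module.Flat B (B ⊗[A] EGA4.Cpl A) := inferInstance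
  have hflatC : Module.Flat (B ⊗[A] EGA4.Cpl A) (Localization.AtPrime 𝔫') :=
    IsLocalization.flat _ 𝔫'.primeCompl
  have hflat : Module.Flat B (Localization.AtPrime 𝔫') :=
    Module.Flat.trans B (B ⊗[A] EGA4.Cpl A) _
  have hle : (maximalIdeal B).map (algebraMap B (Localization.AtPrime 𝔫')) ≤
      maximalIdeal (Localization.AtPrime 𝔫') := by
    rw [Ideal.map_le_iff_le_comap]
    intro x hx
    rw [Ideal.mem_comap, IsScalarTower.algebraMap_apply B (B ⊗[A] EGA4.Cpl A)
      (Localization.AtPrime 𝔫'), IsLocalization.AtPrime.to_map_mem_maximal_iff _ 𝔫']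
    have h1 : maximalIdeal B = 𝔫'.under B := hover.over
    rw [h1] at hx
    exact hx
  have hloc : IsLocalHom (algebraMap B (Localization.AtPrime 𝔫')) :=
    ((IsLocalRing.local_hom_TFAE (algebraMap B (Localization.AtPrime 𝔫'))).out 2 0).mp hle
  have hfib : ∀ (p : Ideal B) [p.IsPrime],
      LocCoh.HasSk n (p.Fiber (Localization.AtPrime 𝔫')) (p.Fiber (Localization.AtPrime 𝔫')) := by
    intro p hp
    exact Groth.Agent.H26.SkFibreComp.fibres_comp n B (B ⊗[A] EGA4.Cpl A) (Localization.AtPrime 𝔫')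
      (fun p' _ => hasSk_fiber_baseChange n A (EGA4.Cpl A) B (fun q _ => hA q) p')
      (fun q _ => hasSk_fiber_of_isLocalization n 𝔫'.primeCompl q) p
  exact hasSnFormalFibres_of_flat n B (Localization.AtPrime 𝔫') hfib hC

end Groth.Agent.H57.SnFormalFibres
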