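import Mathlib
import Groth.Agent.H24.FlatMono
import Groth.Agent.H51.FlatValLift

/-!
# Geometric reducedness passes to the maps of local rings
-/

set_option autoImplicit false
set_option linter.style.haveILetI false
set_option linter.unusedSectionVars false
universe u
open CategoryTheory CategoryTheory.Limits AlgebraicGeometry

namespace Groth.Agent.H57.StalkGeomRed

/-- A pullback square stays a pullback square after composing both legs with a monomorphism. -/
theorem isPullback_comp_mono {C : Type*} [Category C] {P X Y W Z : C} {fst : P ⟶ X} {snd : P ⟶ Y}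
    {f : X ⟶ W} {g : Y ⟶ W} (h : IsPullback fst snd f g) (i : W ⟶ Z) [Mono i] :
    IsPullback fst snd (f ≫ i) (g ≫ i) := by
  refine IsPullback.mk' (by rw [← Category.assoc, h.w, Category.assoc])
    (fun T φ φ' h1 h2 => h.hom_ext h1 h2) (fun T a b hab => ?_)
  have : a ≫ f = b ≫ g := by
    rw [← cancel_mono i]
    simpa using hab
  exact ⟨h.lift a b this, h.lift_fst _ _ _, h.lift_snd _ _ _⟩

/-- The source of a flat monomorphism into a reduced scheme is reduced. -/
theorem isReduced_of_flat_mono {Z P : Scheme.{u}} (j : Z ⟶ P) [Mono j] [Flat j] [IsReduced P] :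
    IsReduced Z := by
  haveI : ∀ z : Z, _root_.IsReduced (Z.presheaf.stalk z) := by
    intro z
    haveI := Groth.Agent.H24.isIso_stalkMap_of_flat_of_mono j z
    let e := (asIso (j.stalkMap z)).commRingCatIsoToRingEquiv
    exact isReduced_of_injective e.symm.toRingHom e.symm.injective
  exact isReduced_of_isReduced_stalk Z

/-- If `f` is geometrically reduced, so is `Spec 𝒪_{X,x} ⟶ Spec 𝒪_{Y,f x}`. -/
theorem geometricallyReduced_SpecMap_stalkMap {X Y : Scheme.{u}} (f : X ⟶ Y)
    [GeometricallyReduced f] (x : X) : GeometricallyReduced (Spec.map (f.stalkMap x)) := by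
  constructor
  intro K _ y Z fst snd h
  haveI : Flat (X.fromSpecStalk x) := Groth.Agent.H51.flat_fromSpecStalk X x
  have hsq : Spec.map (f.stalkMap x) ≫ Y.fromSpecStalk (f x) = X.fromSpecStalk x ≫ f :=
    Scheme.SpecMap_stalkMap_fromSpecStalk f
  -- the fibre of `f` over the composite point, which is reduced
  have hP : IsReduced (pullback f (y ≫ Y.fromSpecStalk (f x))) :=
    pullback_of_geometrically (GeometricallyReduced.geometrically_isReduced (f := f)) K _
  have hw : (fst ≫ X.fromSpecStalk x) ≫ f = snd ≫ y ≫ Y.fromSpecStalk (f x) := by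
    rw [Category.assoc, ← hsq, ← Category.assoc, h.w, Category.assoc]
  let j : Z ⟶ pullback f (y ≫ Y.fromSpecStalk (f x)) :=
    pullback.lift (fst ≫ X.fromSpecStalk x) snd hw
  have hj1 : j ≫ pullback.fst f (y ≫ Y.fromSpecStalk (f x)) = fst ≫ X.fromSpecStalk x :=
    pullback.lift_fst _ _ _
  have hj2 : j ≫ pullback.snd f (y ≫ Y.fromSpecStalk (f x)) = snd := pullback.lift_snd _ _ _
  -- `j` is a base change of `Spec 𝒪_{X,x} ⟶ X`
  have hbig : IsPullback fst snd (Spec.map (f.stalkMap x) ≫ Y.fromSpecStalk (f x))
      (y ≫ Y.fromSpecStalk (f x)) := isPullback_comp_mono h _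
  have hjpb : IsPullback j fst (pullback.fst f (y ≫ Y.fromSpecStalk (f x)))
      (X.fromSpecStalk x) := by
    refine IsPullback.of_right ?_ hj1 (IsPullback.of_hasPullback f (y ≫ Y.fromSpecStalk (f x))).flip
    rw [hj2, ← hsq]
    exact hbig.flip
  haveI : Flat j := MorphismProperty.of_isPullback hjpb.flip inferInstance
  haveI : Mono j := by
    constructor
    intro T a b hab
    apply h.hom_ext
    · rw [← cancel_mono (X.fromSpecStalk x), Category.assoc, Category.assoc, ← hj1,
        ← Category.assoc, hab, Category.assoc]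
    · rw [← hj2, ← Category.assoc, hab, Category.assoc]
  exact isReduced_of_flat_mono j

end Groth.Agent.H57.StalkGeomRed
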