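import Mathlib
import Groth.Prelude.Def_EGA4b
import Groth.Prelude.Def_Found
import Groth.Agent.H57.SnFormalFibres
import Groth.Agent.H29.SkAt
import Groth.Agent.H29.SkEmbedded
import Groth.Agent.H14.SkDescent
import Groth.Agent.H14.DimFormula
import Groth.Agent.H26.ComplQuot
import Groth.Agent.H72.FormalEFT
import Groth.Agent.H72.FormalEquidim3
import Groth.Agent.H99.ReducedCrit
import Groth.Agent.S2645

/-!
# Strictly formally catenary local rings (EGA IV 7.2)

A Noetherian local ring is strictly formally catenary iff it is formally catenary and its formal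
fibres satisfy `(S_1)`; the property passes to essentially finite type local algebras.
-/

set_option autoImplicit false
set_option linter.unusedSectionVars false
set_option linter.unusedVariables false
set_option linter.style.haveILetI false
universe u

open IsLocalRing TensorProduct

namespace Groth.Agent.H57.StrictFC

section Strict

variable {R : Type u} [CommRing R] [IsNoetherianRing R]

/-- In a strictly equidimensional Noetherian local ring every associated prime is minimal. -/
theorem mem_minimalPrimes_of_mem_associatedPrimes [IsLocalRing R]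
    (h : EGA4.IsStrictlyEquidim R) (q : Ideal R) (hq : q ∈ associatedPrimes R R) :
    q ∈ minimalPrimes R := by
  haveI hqp : q.IsPrime := hq.isPrime
  obtain ⟨q₀, hq₀, hle⟩ := Ideal.exists_minimalPrimes_le (bot_le : (⊥ : Ideal R) ≤ q)
  by_cases heq : q₀ = q
  · rw [← heq]; exact hq₀
  exfalso
  haveI hq₀p : q₀.IsPrime := hq₀.1.1
  have hlt : (⟨q₀, hq₀p⟩ : PrimeSpectrum R) < ⟨q, hqp⟩ := lt_of_le_of_ne hle
    (fun h => heq (congrArg PrimeSpectrum.asIdeal h))
  have h1 := Order.coheight_add_one_le hlt
  have h2 := Groth.Agent.H14.DimFormula.coheight_eq_ringKrullDim_quotient (⟨q, hqp⟩ : PrimeSpectrum R)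
  have h3 := Groth.Agent.H14.DimFormula.coheight_eq_ringKrullDim_quotient (⟨q₀, hq₀p⟩ : PrimeSpectrum R)
  have h4 : ringKrullDim (R ⧸ q) = ringKrullDim R := h q hq
  have h5 : ringKrullDim (R ⧸ q₀) ≤ ringKrullDim R := ringKrullDim_quotient_le q₀
  have h6 : ((Order.coheight (⟨q, hqp⟩ : PrimeSpectrum R) + 1 : ℕ∞) : WithBot ℕ∞) ≤
      ((Order.coheight (⟨q₀, hq₀p⟩ : PrimeSpectrum R) : ℕ∞) : WithBot ℕ∞) := by
    exact_mod_cast h1
  rw [h3] at h6
  push_cast at h6
  rw [h2, h4] at h6
  have h7 : ringKrullDim R + 1 ≤ ringKrullDim R := h6.trans h5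
  have hne_top : ringKrullDim R ≠ ⊤ := ringKrullDim_ne_top
  have hne_bot : ringKrullDim R ≠ ⊥ := ringKrullDim_ne_bot
  revert h7
  generalize ringKrullDim R = d at hne_top hne_bot
  induction d with
  | bot => exact absurd rfl hne_bot
  | coe d =>
    induction d with
    | top => exact absurd rfl hne_top
    | coe n =>
      intro h7
      have : ((n + 1 : ℕ) : WithBot ℕ∞) ≤ ((n : ℕ) : WithBot ℕ∞) := by exact_mod_cast h7
      have h8 : (n + 1 : ℕ) ≤ n := by exact_mod_cast this
      omega

/-- A Noetherian ring all of whose associated primes are minimal satisfies `(S_1)`. -/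
theorem hasSk_one_of_forall_mem_minimalPrimes
    (h : ∀ q ∈ associatedPrimes R R, q ∈ minimalPrimes R) : LocCoh.HasSk 1 R R := by
  intro p hp
  by_cases hd : LocCoh.depth (Localization.AtPrime p) (LocalizedModule p.primeCompl R) = 0
  · have hass := Groth.Agent.H29.SkAt.mem_associatedPrimes_of_depth_eq_zero R R p hd
    have hmin := h p hass
    have h0 : p.height = 0 := Ideal.height_eq_zero_iff.mpr hmin
    have hdim : Module.supportDim (Localization.AtPrime p) (LocalizedModule p.primeCompl R) = 0 := by
      rw [Module.supportDim_eq_of_equiv (Groth.Agent.H14.localizedModuleSelfEquiv p),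
        Module.supportDim_self_eq_ringKrullDim,
        IsLocalization.AtPrime.ringKrullDim_eq_height p, h0]
      rfl
    rw [hdim, hd]
    simp
  · have h1 : (1 : ℕ∞) ≤ LocCoh.depth (Localization.AtPrime p) (LocalizedModule p.primeCompl R) :=
      Order.one_le_iff_ne_zero.mpr hd
    refine (min_le_left _ _).trans ?_
    exact_mod_cast h1

/-- A strictly equidimensional Noetherian local ring satisfies `(S_1)`. -/
theorem hasSk_one_of_isStrictlyEquidim [IsLocalRing R] (h : EGA4.IsStrictlyEquidim R) :
    LocCoh.HasSk 1 R R :=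
  hasSk_one_of_forall_mem_minimalPrimes (mem_minimalPrimes_of_mem_associatedPrimes h)

/-- An equidimensional Noetherian ring with `(S_1)` is strictly equidimensional. -/
theorem isStrictlyEquidim_of_isEquidim_of_hasSk_one (he : EGA4.IsEquidim R)
    (h1 : LocCoh.HasSk 1 R R) : EGA4.IsStrictlyEquidim R := by
  intro p hp
  haveI hpp : p.IsPrime := hp.isPrime
  obtain ⟨p₀, hp₀, hle⟩ := Ideal.exists_minimalPrimes_le (bot_le : (⊥ : Ideal R) ≤ p)
  have hp₀ass : p₀ ∈ associatedPrimes R R := by
    apply Module.associatedPrimes.minimalPrimes_annihilator_subset_associatedPrimes R R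
    rw [Module.annihilator_eq_bot.mpr inferInstance]
    exact hp₀
  have heq : p₀ = p := Groth.Agent.H29.SkEmbedded.eq_of_le_of_hasSk_one R h1 p₀ p hp₀ass hp hle
  rw [← heq]
  exact he p₀ hp₀

end Strict

section Fibre

/-- If `S ⧸ pS` satisfies `(S_n)` then so does the fibre `κ(p) ⊗ S`. -/
theorem hasSk_fiber_of_hasSk_quotient (n : ℕ) (R S : Type u) [CommRing R] [CommRing S]
    [Algebra R S] [IsNoetherianRing S] (p : Ideal R) [p.IsPrime]
    (h : LocCoh.HasSk n (S ⧸ p.map (algebraMap R S)) (S ⧸ p.map (algebraMap R S))) :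
    LocCoh.HasSk n (p.Fiber S) (p.Fiber S) := by
  have h1 : LocCoh.HasSk n
      (Localization (Algebra.algebraMapSubmonoid S p.primeCompl) ⧸
        (p.map (algebraMap R S)).map
          (algebraMap S (Localization (Algebra.algebraMapSubmonoid S p.primeCompl))))
      (Localization (Algebra.algebraMapSubmonoid S p.primeCompl) ⧸
        (p.map (algebraMap R S)).map
          (algebraMap S (Localization (Algebra.algebraMapSubmonoid S p.primeCompl)))) :=
    Groth.Agent.H57.SnFormalFibres.hasSk_of_isLocalization n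
      (Algebra.algebraMapSubmonoid (S ⧸ p.map (algebraMap R S))
        (Algebra.algebraMapSubmonoid S p.primeCompl)) h
  haveI : IsNoetherianRing (Localization (Algebra.algebraMapSubmonoid S p.primeCompl) ⧸
        (p.map (algebraMap R S)).map
          (algebraMap S (Localization (Algebra.algebraMapSubmonoid S p.primeCompl)))) :=
    inferInstance
  letI : Algebra S (p.Fiber S) := Algebra.TensorProduct.rightAlgebra
  exact (Groth.Agent.H26.SkFibreComp.hasSk_of_ringEquiv n
    (Ideal.Fiber.algEquivAux₁ (S := S) p).symm.toRingEquiv h1).2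

end Fibre

section Main

variable (A : Type u) [CommRing A] [IsNoetherianRing A] [IsLocalRing A]

/-- A strictly formally catenary local ring is formally catenary. -/
theorem isFormallyCatenary_of_isFormallyStrictlyCatenary
    (hA : EGA4.IsFormallyStrictlyCatenary A) : EGA4.IsFormallyCatenary A := by
  intro p hp
  haveI : IsNoetherianRing (AdicCompletion (maximalIdeal (A ⧸ p)) (A ⧸ p)) :=
    Groth.Agent.H20.isNoetherianRing_adicCompletion _
  exact Groth.Agent.H72.FormalEquidim.isEquidim_of_isStrictlyEquidim (hA p)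

/-- The formal fibres of a strictly formally catenary local ring satisfy `(S_1)`. -/
theorem hasSnFormalFibres_one_of_isFormallyStrictlyCatenary
    (hA : EGA4.IsFormallyStrictlyCatenary A) : EGA4.HasSnFormalFibres 1 A := by
  intro p hp
  haveI : IsNoetherianRing (AdicCompletion (maximalIdeal (A ⧸ p)) (A ⧸ p)) :=
    Groth.Agent.H20.isNoetherianRing_adicCompletion _
  haveI : IsNoetherianRing (EGA4.Cpl A) := Groth.Agent.H20.isNoetherianRing_adicCompletion _
  have h1 : LocCoh.HasSk 1 (AdicCompletion (maximalIdeal (A ⧸ p)) (A ⧸ p))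
      (AdicCompletion (maximalIdeal (A ⧸ p)) (A ⧸ p)) :=
    hasSk_one_of_isStrictlyEquidim (hA p)
  obtain ⟨e, -⟩ := Groth.Agent.H26.ComplQuot.exists_adicCompletion_quotient_equiv A p
  have h2 := (Groth.Agent.H26.SkFibreComp.hasSk_of_ringEquiv 1 e h1).2
  exact hasSk_fiber_of_hasSk_quotient 1 A (EGA4.Cpl A) p h2

/-- **EGA IV 7.2**: strict formal catenarity passes to essentially finite type local algebras. -/
theorem isFormallyStrictlyCatenary_of_essFiniteType
    (hA : EGA4.IsFormallyStrictlyCatenary A) (B : Type u) [CommRing B] [IsNoetherianRing B]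
    [IsLocalRing B] [Algebra A B] [Algebra.EssFiniteType A B] :
    EGA4.IsFormallyStrictlyCatenary B := by
  have hfc := isFormallyCatenary_of_isFormallyStrictlyCatenary A hA
  have hS1 := hasSnFormalFibres_one_of_isFormallyStrictlyCatenary A hA
  intro q hq
  haveI : Algebra.EssFiniteType A (B ⧸ q) := Algebra.EssFiniteType.comp A B (B ⧸ q)
  haveI : IsNoetherianRing (AdicCompletion (maximalIdeal (B ⧸ q)) (B ⧸ q)) :=
    Groth.Agent.H20.isNoetherianRing_adicCompletion _
  have h1 : EGA4.HasSnFormalFibres 1 (B ⧸ q) :=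
    Groth.Agent.H57.SnFormalFibres.hasSnFormalFibres_of_essFiniteType 1 A hS1 (B ⧸ q)
  have h2 : LocCoh.HasSk 1 (B ⧸ q) (B ⧸ q) :=
    Groth.Agent.H99.ReducedCrit.hasSk_one_of_isReduced (B ⧸ q)
  have h3 : LocCoh.HasSk 1 (EGA4.Cpl (B ⧸ q)) (EGA4.Cpl (B ⧸ q)) :=
    (Groth.Agent.S2645.result 1 (B ⧸ q) h1).mp h2
  have h4 : EGA4.IsFormallyEquidim (B ⧸ q) :=
    Groth.Agent.H72.FormalEFT.isFormallyEquidim_of_essFiniteType_of_isDomain A hfc (B ⧸ q)
  exact isStrictlyEquidim_of_isEquidim_of_hasSk_one h4 h3

end Main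

end Groth.Agent.H57.StrictFC
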