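import Mathlib
import Groth.Prelude.Def_CAlg2
import Groth.Agent.S2785
import Groth.Agent.H57.StalkGeomRed
import Groth.Agent.H57.LocNoethTop

/-!
# Connectedness of complements: globalization from local rings
-/

set_option autoImplicit false
set_option linter.style.haveILetI false
set_option linter.unusedSectionVars false
universe u
open CategoryTheory AlgebraicGeometry

namespace Groth.Agent.H57.Unibranch

/-- Globalization: if `X` is connected and locally Noetherian, `T` is closed, and for every point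
`x` the complement of `T` in `Spec 𝒪_{X,x}` is connected, then the complement of `T` is
connected. -/
theorem isConnected_compl_of_local {X : Scheme.{u}} [IsLocallyNoetherian X] [ConnectedSpace X]
    (T : Set X) (hT : IsClosed T)
    (hloc : ∀ x : X, _root_.IsConnected ((X.fromSpecStalk x) ⁻¹' Tᶜ)) : _root_.IsConnected Tᶜ := by
  obtain ⟨x₀⟩ : Nonempty X := inferInstance
  have hspec : ∀ (x : X) (q : Spec (X.presheaf.stalk x)), X.fromSpecStalk x q ⤳ x := by
    intro x q
    have : X.fromSpecStalk x q ∈ Set.range (X.fromSpecStalk x) := ⟨q, rfl⟩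
    rwa [Scheme.range_fromSpecStalk] at this
  refine ⟨?_, ?_⟩
  · obtain ⟨q, hq⟩ := (hloc x₀).nonempty
    exact ⟨_, hq⟩
  · intro u v hu hv hsub hsu hsv
    by_contra hcon
    rw [Set.not_nonempty_iff_eq_empty] at hcon
    have hcov : ∀ x : X, x ∈ closure (Tᶜ ∩ u) ∪ closure (Tᶜ ∩ v) := by
      intro x
      obtain ⟨q, hq⟩ := (hloc x).nonempty
      rcases hsub hq with h | h
      · left; exact (hspec x q).mem_closed isClosed_closure (subset_closure ⟨hq, h⟩)
      · right; exact (hspec x q).mem_closed isClosed_closure (subset_closure ⟨hq, h⟩)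
    have hpre : _root_.IsPreconnected (Set.univ : Set X) := isPreconnected_univ
    rw [isPreconnected_closed_iff] at hpre
    obtain ⟨x, -, hx1, hx2⟩ := hpre (closure (Tᶜ ∩ u)) (closure (Tᶜ ∩ v)) isClosed_closure
      isClosed_closure (fun x _ => hcov x)
      (by obtain ⟨z, hz⟩ := hsu; exact ⟨z, Set.mem_univ _, subset_closure hz⟩)
      (by obtain ⟨z, hz⟩ := hsv; exact ⟨z, Set.mem_univ _, subset_closure hz⟩)
    obtain ⟨x₁, hx₁, hs₁⟩ := Groth.Agent.H57.LocNoethTop.exists_specializes_of_mem_closure X x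
      (Tᶜ ∩ u) (hT.isOpen_compl.inter hu) hx1
    obtain ⟨x₂, hx₂, hs₂⟩ := Groth.Agent.H57.LocNoethTop.exists_specializes_of_mem_closure X x
      (Tᶜ ∩ v) (hT.isOpen_compl.inter hv) hx2
    obtain ⟨q₁, rfl⟩ : x₁ ∈ Set.range (X.fromSpecStalk x) := by
      rw [Scheme.range_fromSpecStalk]; exact hs₁
    obtain ⟨q₂, rfl⟩ : x₂ ∈ Set.range (X.fromSpecStalk x) := by
      rw [Scheme.range_fromSpecStalk]; exact hs₂
    obtain ⟨q, hqT, hqu, hqv⟩ := (hloc x).isPreconnected ((X.fromSpecStalk x) ⁻¹' u)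
      ((X.fromSpecStalk x) ⁻¹' v) (hu.preimage (X.fromSpecStalk x).continuous)
      (hv.preimage (X.fromSpecStalk x).continuous)
      (fun z hz => hsub hz) ⟨q₁, hx₁.1, hx₁.2⟩ ⟨q₂, hx₂.1, hx₂.2⟩
    have : X.fromSpecStalk x q ∈ Tᶜ ∩ (u ∩ v) := ⟨hqT, hqu, hqv⟩
    rw [hcon] at this
    exact this

/-- Local step over a geometrically unibranch base: the complement of `T` in `Spec 𝒪_{X,x}` is
connected. -/
theorem isConnected_preimage_compl_fromSpecStalk {X Y : Scheme.{u}} [IsLocallyNoetherian X]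
    [IsLocallyNoetherian Y] (hY : ∀ y : Y, CAlg2.IsGeomUnibranch (Y.presheaf.stalk y))
    (f : X ⟶ Y) [Flat f] [GeometricallyReduced f]
    (T : Set X) (hT : IsClosed T) (hT' : interior (closure (f '' T)) = ∅) (x : X) :
    _root_.IsConnected ((X.fromSpecStalk x) ⁻¹' Tᶜ) := by
  letI : Algebra (Y.presheaf.stalk (f x)) (X.presheaf.stalk x) := (f.stalkMap x).hom.toAlgebra
  haveI : IsLocalHom (algebraMap (Y.presheaf.stalk (f x)) (X.presheaf.stalk x)) :=
    f.toLRSHom.prop x
  haveI : Module.Flat (Y.presheaf.stalk (f x)) (X.presheaf.stalk x) := Flat.stalkMap f x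
  haveI : GeometricallyReduced (Spec.map (CommRingCat.ofHom
      (algebraMap (Y.presheaf.stalk (f x)) (X.presheaf.stalk x)))) :=
    Groth.Agent.H57.StalkGeomRed.geometricallyReduced_SpecMap_stalkMap f x
  have hA := hY (f x)
  have hp : (nilradical (Y.presheaf.stalk (f x))).IsPrime :=
    (Ideal.Quotient.isDomain_iff_prime _).mp hA.1.1
  let η₀ : PrimeSpectrum (Y.presheaf.stalk (f x)) := ⟨nilradical (Y.presheaf.stalk (f x)), hp⟩
  have hspec : ∀ p : PrimeSpectrum (Y.presheaf.stalk (f x)), η₀ ⤳ p := by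
    intro p
    rw [← PrimeSpectrum.le_iff_specializes]
    exact nilradical_le_prime p.asIdeal
  have hsq : Spec.map (f.stalkMap x) ≫ Y.fromSpecStalk (f x) = X.fromSpecStalk x ≫ f :=
    Scheme.SpecMap_stalkMap_fromSpecStalk f
  refine Groth.Agent.S2785.result (Y.presheaf.stalk (f x)) (X.presheaf.stalk x) hA
    ((X.fromSpecStalk x) ⁻¹' T) (hT.preimage (X.fromSpecStalk x).continuous) ?_
  rw [Set.eq_empty_iff_forall_notMem]
  intro p hp
  have hη₀ : η₀ ∈ interior (closure (PrimeSpectrum.comap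
      (algebraMap (Y.presheaf.stalk (f x)) (X.presheaf.stalk x)) '' ((X.fromSpecStalk x) ⁻¹' T))) :=
    (hspec p).mem_open isOpen_interior hp
  have h1 := interior_subset hη₀
  have h2 : closure (PrimeSpectrum.comap
      (algebraMap (Y.presheaf.stalk (f x)) (X.presheaf.stalk x)) '' ((X.fromSpecStalk x) ⁻¹' T)) ⊆
      (Y.fromSpecStalk (f x)) ⁻¹' closure (f '' T) := by
    apply closure_minimal _ (isClosed_closure.preimage (Y.fromSpecStalk (f x)).continuous)
    rintro _ ⟨q, hq, rfl⟩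
    apply subset_closure
    refine ⟨X.fromSpecStalk x q, hq, ?_⟩
    have := congrArg (fun g : Spec (X.presheaf.stalk x) ⟶ Y => g q) hsq
    exact this.symm
  have h3 : Y.fromSpecStalk (f x) η₀ ∈ closure (f '' T) := h2 h1
  have hmax : ∀ ξ : Y, ξ ⤳ Y.fromSpecStalk (f x) η₀ → ξ = Y.fromSpecStalk (f x) η₀ := by
    intro ξ hξ
    have hη : Y.fromSpecStalk (f x) η₀ ⤳ f x := by
      have : Y.fromSpecStalk (f x) η₀ ∈ Set.range (Y.fromSpecStalk (f x)) := ⟨η₀, rfl⟩
      rwa [Scheme.range_fromSpecStalk] at this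
    obtain ⟨ξ₀, rfl⟩ : ξ ∈ Set.range (Y.fromSpecStalk (f x)) := by
      rw [Scheme.range_fromSpecStalk]; exact hξ.trans hη
    have h4 : ξ₀ ⤳ η₀ := (Y.fromSpecStalk (f x)).isEmbedding.isInducing.specializes_iff.mp hξ
    have h5 : ξ₀ = η₀ := by
      have e1 : ξ₀.asIdeal ≤ η₀.asIdeal := (PrimeSpectrum.le_iff_specializes ξ₀ η₀).mpr h4
      have e2 : η₀.asIdeal ≤ ξ₀.asIdeal := nilradical_le_prime ξ₀.asIdeal
      exact PrimeSpectrum.ext (le_antisymm e1 e2)
    rw [h5]
  have h4 := Groth.Agent.H57.LocNoethTop.mem_interior_closure_of_maximal Y _ hmax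
  have h5 : interior (closure {Y.fromSpecStalk (f x) η₀}) ⊆ interior (closure (f '' T)) :=
    interior_mono (closure_minimal (Set.singleton_subset_iff.mpr h3) isClosed_closure)
  rw [hT'] at h5
  exact h5 h4

end Groth.Agent.H57.Unibranch
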