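import Mathlib
import Groth.Prelude.Def_CAlg2
import Groth.Agent.H57.KrullRegular
import Groth.Agent.H57.DepthTwoConn
import Groth.Agent.H57.KrullTrickD
import Groth.Agent.H57.FormalConnB

/-!
# Connectedness of the complement of a closed subset of the closed fibre, over a geometrically
unibranch local domain of dimension at least two (ring level)
-/

set_option autoImplicit false
set_option linter.style.haveILetI false
set_option linter.unusedSectionVars false
universe u
open scoped TensorProduct Pointwise
open IsLocalRing RingTheory.Sequence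

namespace Groth.Agent.H57.Unibranch

open Groth.Agent.H57.KrullTrick

section

variable (A : Type u) [CommRing A] [IsDomain A] [IsLocalRing A]
  (K : Type u) [Field K] [Algebra A K] [IsFractionRing A K]
  (B : Type u) [CommRing B] [IsLocalRing B] [Algebra A B] [IsLocalHom (algebraMap A B)]
  [Module.Flat A B]

/-- `B ⊗_A A'` has only trivial idempotents, `A'` the normalization of the geometrically unibranch
local domain `A`. -/
theorem idempotent_trivial_tensor_integralClosure (hA : CAlg2.IsGeomUnibranch A)
    (e : B ⊗[A] integralClosure A K) (he : IsIdempotentElem e) : e = 0 ∨ e = 1 := by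
  obtain ⟨D, hD, hx⟩ := exists_fg_and_mem_baseChange e
  haveI : Algebra.FiniteType A D := (Subalgebra.fg_iff_finiteType D).mp hD
  haveI : Algebra.IsIntegral A D :=
    Algebra.IsIntegral.of_injective D.val Subtype.val_injective
  haveI : Module.Finite A D := Algebra.IsIntegral.finite
  let f : D →ₐ[A] K := (integralClosure A K).val.comp D.val
  have hf : Function.Injective f := Subtype.val_injective.comp Subtype.val_injective
  obtain ⟨h1, h2, h3⟩ := finite_birational_of_isDomain A hA K D f hf
  haveI := h1
  haveI := h2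
  haveI := h3
  haveI : IsLocalRing (D ⊗[A] B) := isLocalRing_tensor_of_isPurelyInseparable A B D
  haveI : IsLocalRing (B ⊗[A] D) :=
    (Algebra.TensorProduct.comm A B D).symm.toRingEquiv.isLocalRing
  have h_inj : Function.Injective (Algebra.TensorProduct.map (AlgHom.id B B) D.val) :=
    Module.Flat.lTensor_preserves_injective_linearMap _ Subtype.val_injective
  obtain ⟨e', rfl⟩ := hx
  have he' : IsIdempotentElem e' := by
    apply h_inj
    rw [map_mul]
    exact he.eq
  rcases Groth.Agent.H57.FormalConn.idempotent_trivial_of_isLocalRing e' he' with h0 | h1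
  · left; rw [h0]; exact map_zero _
  · right; rw [h1]; exact map_one _

end

/-- Transfer of "length two regularity" along a flat algebra. -/
theorem regular_pair_of_flat {R S : Type*} [CommRing R] [CommRing S] [Algebra R S]
    [Module.Flat R S] (r s : R) (hr : IsSMulRegular R r)
    (h : ∀ x y : R, s * x = r * y → ∃ z, x = r * z) :
    ∀ x y : S, algebraMap R S s * x = algebraMap R S r * y → ∃ z, x = algebraMap R S r * z := by
  have hreg2 : IsSMulRegular (QuotSMulTop r R) s := by
    rw [isSMulRegular_quotient_iff_mem_of_smul_mem]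
    intro x hx
    obtain ⟨y, -, hy⟩ := (Submodule.mem_smul_pointwise_iff_exists _ _ _).mp hx
    obtain ⟨z, hz⟩ := h x y (by simpa [smul_eq_mul] using hy.symm)
    rw [hz]
    exact (Submodule.mem_smul_pointwise_iff_exists _ _ _).mpr ⟨z, Submodule.mem_top, rfl⟩
  have hw : IsWeaklyRegular R [r, s] :=
    (isWeaklyRegular_cons_iff R r [s]).mpr ⟨hr,
      (isWeaklyRegular_cons_iff _ s []).mpr ⟨hreg2, IsWeaklyRegular.nil _ _⟩⟩
  have hS := hw.of_flat (S := S)
  simp only [List.map_cons, List.map_nil] at hS
  obtain ⟨-, h2⟩ := (isWeaklyRegular_cons_iff S _ _).mp hS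
  obtain ⟨h3, -⟩ := (isWeaklyRegular_cons_iff _ _ _).mp h2
  rw [isSMulRegular_quotient_iff_mem_of_smul_mem] at h3
  intro x y hxy
  have hx : algebraMap R S s • x ∈ algebraMap R S r • (⊤ : Submodule S S) := by
    rw [smul_eq_mul, hxy]
    exact (Submodule.mem_smul_pointwise_iff_exists _ _ _).mpr ⟨y, Submodule.mem_top, rfl⟩
  obtain ⟨z, -, hz⟩ := (Submodule.mem_smul_pointwise_iff_exists _ _ _).mp (h3 x hx)
  exact ⟨z, hz.symm⟩

section aux

variable (A : Type u) [CommRing A] (A' : Type u) [CommRing A'] [IsDomain A'] [Algebra A A']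
  (B : Type u) [CommRing B] [Algebra A B] [Module.Flat A B]

/-- `D(a) ∪ D(b)` is preconnected in `Spec (A' ⊗_A B)`. -/
theorem isPreconnected_aux1 (a' b' : A') (ha'0 : a' ≠ 0) (hb'0 : b' ≠ 0)
    (hreg : ∀ (n m : ℕ) (x y : A'), b' ^ m * x = a' ^ n * y → ∃ z : A', x = a' ^ n * z)
    (hidem : ∀ e : A' ⊗[A] B, IsIdempotentElem e → e = 0 ∨ e = 1) :
    IsPreconnected ((PrimeSpectrum.basicOpen (algebraMap A' (A' ⊗[A] B) a') :
      Set (PrimeSpectrum (A' ⊗[A] B))) ∪ PrimeSpectrum.basicOpen (algebraMap A' (A' ⊗[A] B) b')) := by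
  haveI : Module.Flat A' (A' ⊗[A] B) := inferInstance
  have hnzd : ∀ c : A', c ≠ 0 → algebraMap A' (A' ⊗[A] B) c ∈ nonZeroDivisors (A' ⊗[A] B) := by
    intro c hc
    rw [mem_nonZeroDivisors_iff_right]
    intro z hz
    apply Groth.Agent.H57.FormalConn.mul_left_cancel_of_flat hc (B := A' ⊗[A] B)
    rw [mul_zero, mul_comm]; exact hz
  have hregS : ∀ (n m : ℕ) (x y : A' ⊗[A] B),
      algebraMap A' (A' ⊗[A] B) b' ^ m * x = algebraMap A' (A' ⊗[A] B) a' ^ n * y →
      ∃ z, x = algebraMap A' (A' ⊗[A] B) a' ^ n * z := by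
    intro n m x y hxy
    have := regular_pair_of_flat (R := A') (S := A' ⊗[A] B) (a' ^ n) (b' ^ m)
      (IsLeftRegular.isSMulRegular (IsRegular.of_ne_zero (pow_ne_zero n ha'0)).left)
      (fun x y h => hreg n m x y h) x y (by rw [map_pow, map_pow]; exact hxy)
    rw [map_pow] at this
    exact this
  exact Groth.Agent.H57.DepthTwoConn.isPreconnected_basicOpen_union _ _
    (hnzd _ ha'0) (hnzd _ hb'0) hregS hidem

/-- Pushing the preconnected set down to `Spec B`. -/
theorem isPreconnected_aux2 [Algebra.IsIntegral A A']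
    (hinj : Function.Injective (algebraMap A A')) (a b : A)
    (hpre : IsPreconnected ((PrimeSpectrum.basicOpen
      (algebraMap A' (A' ⊗[A] B) (algebraMap A A' a)) : Set (PrimeSpectrum (A' ⊗[A] B))) ∪
        PrimeSpectrum.basicOpen (algebraMap A' (A' ⊗[A] B) (algebraMap A A' b)))) :
    IsPreconnected ((PrimeSpectrum.basicOpen (algebraMap A B a) : Set (PrimeSpectrum B)) ∪
        PrimeSpectrum.basicOpen (algebraMap A B b)) := by
  let ρ : B →+* A' ⊗[A] B := (Algebra.TensorProduct.includeRight : B →ₐ[A] A' ⊗[A] B).toRingHom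
  have hρ : ∀ c : A, ρ (algebraMap A B c) = algebraMap A' (A' ⊗[A] B) (algebraMap A A' c) := by
    intro c
    have h1 := (Algebra.TensorProduct.includeRight : B →ₐ[A] A' ⊗[A] B).commutes c
    rw [IsScalarTower.algebraMap_apply A A' (A' ⊗[A] B)] at h1
    exact h1
  have hρinj : Function.Injective ρ := Algebra.TensorProduct.includeRight_injective hinj
  have hρint : ρ.IsIntegral := by
    have h1 : (algebraMap B (B ⊗[A] A')).IsIntegral :=
      algebraMap_isIntegral_iff.mpr inferInstance
    have h2 : ρ = (Algebra.TensorProduct.comm A B A').toAlgHom.toRingHom.comp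
        (algebraMap B (B ⊗[A] A')) := by
      ext x
      simp [ρ, Algebra.TensorProduct.algebraMap_apply]
    rw [h2]
    exact RingHom.IsIntegral.trans _ _ h1
      (RingHom.isIntegral_of_surjective _ (Algebra.TensorProduct.comm A B A').surjective)
  have hsurj : Function.Surjective (PrimeSpectrum.comap ρ) :=
    RingHom.IsIntegral.comap_surjective hρint hρinj
  have hpreimage : PrimeSpectrum.comap ρ ⁻¹'
      ((PrimeSpectrum.basicOpen (algebraMap A B a) : Set (PrimeSpectrum B)) ∪
        PrimeSpectrum.basicOpen (algebraMap A B b)) =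
      (PrimeSpectrum.basicOpen (algebraMap A' (A' ⊗[A] B) (algebraMap A A' a)) :
          Set (PrimeSpectrum (A' ⊗[A] B))) ∪
        PrimeSpectrum.basicOpen (algebraMap A' (A' ⊗[A] B) (algebraMap A A' b)) := by
    ext p
    simp only [Set.mem_preimage, Set.mem_union, SetLike.mem_coe, PrimeSpectrum.mem_basicOpen,
      ← hρ]
    rfl
  rw [← Set.image_preimage_eq ((PrimeSpectrum.basicOpen (algebraMap A B a) :
    Set (PrimeSpectrum B)) ∪ PrimeSpectrum.basicOpen (algebraMap A B b)) hsurj, hpreimage]
  exact hpre.image _ (PrimeSpectrum.continuous_comap ρ).continuousOn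

end aux

/-- Topological step: from `D(a) ∪ D(b)` to the complement of a subset of the closed fibre. -/
theorem isConnected_compl_aux3 (A : Type u) [CommRing A] [IsDomain A] [IsLocalRing A]
    (B : Type u) [CommRing B] [IsLocalRing B] [Algebra A B] [Module.Flat A B]
    (a b : A) (ham : a ∈ maximalIdeal A) (hbm : b ∈ maximalIdeal A) (ha0 : a ≠ 0)
    (hpreB : IsPreconnected ((PrimeSpectrum.basicOpen (algebraMap A B a) :
      Set (PrimeSpectrum B)) ∪ PrimeSpectrum.basicOpen (algebraMap A B b)))
    (T : Set (PrimeSpectrum B))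
    (hT : ∀ q ∈ T, q.asIdeal.comap (algebraMap A B) = maximalIdeal A) :
    IsConnected Tᶜ := by
  have hgen : GeneralizingMap (PrimeSpectrum.comap (algebraMap A B)) :=
    Algebra.HasGoingDown.iff_generalizingMap_primeSpectrumComap.mp inferInstance
  let η : PrimeSpectrum A := ⟨⊥, Ideal.isPrime_bot⟩
  have hη : ∀ p : PrimeSpectrum A, η ⤳ p := fun p =>
    (PrimeSpectrum.le_iff_specializes _ _).mp (bot_le : (⊥ : Ideal A) ≤ p.asIdeal)
  have hgenpt : ∀ q : PrimeSpectrum B, ∃ q' ∈
      ((PrimeSpectrum.basicOpen (algebraMap A B a) : Set (PrimeSpectrum B)) ∪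
        PrimeSpectrum.basicOpen (algebraMap A B b)), q' ⤳ q := by
    intro q
    obtain ⟨q', hs, heq⟩ := hgen (hη (PrimeSpectrum.comap (algebraMap A B) q))
    refine ⟨q', Or.inl ?_, hs⟩
    show algebraMap A B a ∉ q'.asIdeal
    intro hmem
    have h1 : a ∈ (PrimeSpectrum.comap (algebraMap A B) q').asIdeal := hmem
    rw [heq] at h1
    exact ha0 ((Ideal.mem_bot).mp h1)
  have hsub : ((PrimeSpectrum.basicOpen (algebraMap A B a) : Set (PrimeSpectrum B)) ∪
        PrimeSpectrum.basicOpen (algebraMap A B b)) ⊆ Tᶜ := by
    intro q hq hqT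
    have hc := hT q hqT
    rcases hq with hq | hq
    · apply hq
      show algebraMap A B a ∈ q.asIdeal
      have : a ∈ q.asIdeal.comap (algebraMap A B) := by rw [hc]; exact ham
      exact this
    · apply hq
      show algebraMap A B b ∈ q.asIdeal
      have : b ∈ q.asIdeal.comap (algebraMap A B) := by rw [hc]; exact hbm
      exact this
  have hcl : Tᶜ ⊆ closure ((PrimeSpectrum.basicOpen (algebraMap A B a) :
      Set (PrimeSpectrum B)) ∪ PrimeSpectrum.basicOpen (algebraMap A B b)) := by
    intro q _
    obtain ⟨q', hq', hs⟩ := hgenpt q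
    exact hs.mem_closed isClosed_closure (subset_closure hq')
  refine ⟨?_, hpreB.subset_closure hsub hcl⟩
  obtain ⟨q', hq', -⟩ := hgenpt (closedPoint B)
  exact ⟨q', hsub hq'⟩

/-- Ring-level form: over a geometrically unibranch Noetherian local domain of dimension at least
two, the complement of any subset of the closed fibre of a flat local algebra is connected. -/
theorem isConnected_compl_of_fibre (A : Type u) [CommRing A] [IsDomain A] [IsNoetherianRing A]
    [IsLocalRing A] (hA : CAlg2.IsGeomUnibranch A) (hdim : 2 ≤ ringKrullDim A)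
    (B : Type u) [CommRing B] [IsLocalRing B] [Algebra A B] [IsLocalHom (algebraMap A B)]
    [Module.Flat A B]
    (T : Set (PrimeSpectrum B))
    (hT : ∀ q ∈ T, q.asIdeal.comap (algebraMap A B) = maximalIdeal A) :
    IsConnected Tᶜ := by
  obtain ⟨a, b, ham, hbm, ha0, hb0, hreg⟩ := exists_regular_pair A hA hdim (FractionRing A)
  have hinjA' : Function.Injective (algebraMap A (integralClosure A (FractionRing A))) := by
    intro x y hxy
    apply IsFractionRing.injective A (FractionRing A)
    exact congrArg Subtype.val hxy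
  have ha'0 : algebraMap A (integralClosure A (FractionRing A)) a ≠ 0 := by
    rwa [Ne, map_eq_zero_iff _ hinjA']
  have hb'0 : algebraMap A (integralClosure A (FractionRing A)) b ≠ 0 := by
    rwa [Ne, map_eq_zero_iff _ hinjA']
  have hidemS : ∀ e : integralClosure A (FractionRing A) ⊗[A] B,
      IsIdempotentElem e → e = 0 ∨ e = 1 := by
    intro e he
    have := idempotent_trivial_tensor_integralClosure A (FractionRing A) B hA
      (Algebra.TensorProduct.comm A (integralClosure A (FractionRing A)) B e)
      (he.map (Algebra.TensorProduct.comm A (integralClosure A (FractionRing A)) B))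
    rcases this with h | h
    · left
      exact (Algebra.TensorProduct.comm A (integralClosure A (FractionRing A)) B).injective
        (h.trans (map_zero _).symm)
    · right
      exact (Algebra.TensorProduct.comm A (integralClosure A (FractionRing A)) B).injective
        (h.trans (map_one _).symm)
  have h1 := isPreconnected_aux1 A (integralClosure A (FractionRing A)) B _ _ ha'0 hb'0 hreg hidemS
  have h2 := isPreconnected_aux2 A (integralClosure A (FractionRing A)) B hinjA' a b h1
  exact isConnected_compl_aux3 A B a b ham hbm ha0 h2 T hT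

end Groth.Agent.H57.Unibranch
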