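import Mathlib
import Groth.Prelude.Def_CAlg2
import Groth.Agent.H57.UnibranchF
import Groth.Agent.H57.UnibranchD
import Groth.Agent.H51.FlatValLift

/-!
# Connectedness of the complement of a closed subset of the closed fibre: scheme level
-/

set_option autoImplicit false
set_option linter.style.haveILetI false
set_option linter.unusedSectionVars false
universe u
open CategoryTheory AlgebraicGeometry

namespace Groth.Agent.H57.Unibranch

/-- Local step. -/
theorem isConnected_preimage_compl_fromSpecStalk_of_fibre (A : Type u) [CommRing A]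
    [IsNoetherianRing A] [IsLocalRing A] [IsDomain A] (hA : CAlg2.IsGeomUnibranch A)
    (hdim : 2 ≤ ringKrullDim A) {X : Scheme.{u}} (f : X ⟶ Spec (CommRingCat.of A)) [Flat f]
    (T : Set X) (hTy : ∀ x ∈ T, f x = IsLocalRing.closedPoint A) (x : X) :
    _root_.IsConnected ((X.fromSpecStalk x) ⁻¹' Tᶜ) := by
  haveI : Flat (X.fromSpecStalk x) := Groth.Agent.H51.flat_fromSpecStalk X x
  obtain ⟨φ, hφ⟩ := Spec.map_surjective (X.fromSpecStalk x ≫ f)
  have hφflat : φ.hom.Flat := by
    rw [← Flat.SpecMap_iff, hφ]
    infer_instance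
  have hbase : ∀ q : Spec (X.presheaf.stalk x),
      PrimeSpectrum.comap φ.hom q = f (X.fromSpecStalk x q) := by
    intro q
    have := congrArg (fun g : Spec (X.presheaf.stalk x) ⟶ Spec (CommRingCat.of A) => g q) hφ
    exact this
  by_cases hx : f x = IsLocalRing.closedPoint A
  · letI : Algebra A (X.presheaf.stalk x) := φ.hom.toAlgebra
    haveI : Module.Flat A (X.presheaf.stalk x) := hφflat
    haveI : IsLocalHom (algebraMap A (X.presheaf.stalk x)) := by
      refine ((IsLocalRing.local_hom_TFAE (algebraMap A (X.presheaf.stalk x))).out 0 4 rfl rfl).mpr ?_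
      have h1 := hbase (IsLocalRing.closedPoint (X.presheaf.stalk x))
      rw [Scheme.fromSpecStalk_closedPoint, hx] at h1
      exact congrArg PrimeSpectrum.asIdeal h1
    refine isConnected_compl_of_fibre A hA hdim (X.presheaf.stalk x)
      ((X.fromSpecStalk x) ⁻¹' T) ?_
    intro q hq
    have h1 := hbase q
    rw [hTy _ hq] at h1
    exact congrArg PrimeSpectrum.asIdeal h1
  · have hempty : (X.fromSpecStalk x) ⁻¹' Tᶜ = Set.univ := by
      rw [Set.eq_univ_iff_forall]
      intro q hq
      apply hx
      have hspec : X.fromSpecStalk x q ⤳ x := by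
        have : X.fromSpecStalk x q ∈ Set.range (X.fromSpecStalk x) := ⟨q, rfl⟩
        rwa [Scheme.range_fromSpecStalk] at this
      have h2 : f (X.fromSpecStalk x q) ⤳ f x := hspec.map f.continuous
      rw [hTy _ hq] at h2
      have h3 : f x ∈ closure {IsLocalRing.closedPoint A} := specializes_iff_mem_closure.mp h2
      rw [(IsLocalRing.isClosed_singleton_closedPoint A).closure_eq] at h3
      exact h3
    rw [hempty]
    have hc : ConnectedSpace (PrimeSpectrum (X.presheaf.stalk x)) :=
      Groth.Agent.H57.FormalConn.connectedSpace_of_idempotents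
        (fun e he => Groth.Agent.H57.FormalConn.idempotent_trivial_of_isLocalRing e he)
    exact @isConnected_univ _ _ hc

end Groth.Agent.H57.Unibranch
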